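import Cfsg.Statements.S0031
import Mathlib
import Cfsg.Agent.Helper1.Basic2

set_option autoImplicit false
open Cfsg

open Pointwise

namespace Cfsg.Agent.S0031

/-- A fixed-point-free automorphism of a finite group maps some Sylow p-subgroup to itself. -/
theorem result {G : Type*} [Group G] [Finite G] (φ : G ≃* G)
    (hφ : MonoidHom.FixedPointFree (φ : G →* G)) (p : ℕ) [Fact p.Prime] :
    ∃ P : Sylow p G, (P : Subgroup G).map (φ : G →* G) = P := by
  obtain ⟨P⟩ : Nonempty (Sylow p G) := inferInstance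
  have hcard : Nat.card ((P : Subgroup G).map (φ : G →* G)) = p ^ (Nat.card G).factorization p := by
    rw [Subgroup.card_map_of_injective φ.injective]
    exact P.card_eq_multiplicity
  obtain ⟨g, hg⟩ := MulAction.exists_smul_eq G P (Sylow.ofCard _ hcard)
  have hg' : MulAut.conj g • (P : Subgroup G) = (P : Subgroup G).map (φ : G →* G) := by
    rw [← Sylow.coe_subgroup_smul, hg, Sylow.coe_ofCard]
  obtain ⟨y, hy⟩ := hφ.commutatorMap_surjective g⁻¹
  have h1 : y / (φ : G →* G) y = g⁻¹ := hy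
  have h2 : g = (φ : G →* G) y * y⁻¹ := by
    calc g = (g⁻¹)⁻¹ := (inv_inv g).symm
      _ = (y / (φ : G →* G) y)⁻¹ := by rw [h1]
      _ = (φ : G →* G) y * y⁻¹ := by rw [div_eq_mul_inv, mul_inv_rev, inv_inv]
  have hx : (φ : G →* G) y⁻¹ * g = y⁻¹ := by
    rw [map_inv, h2]
    group
  refine ⟨y⁻¹ • P, ?_⟩
  rw [Sylow.coe_subgroup_smul, Cfsg.Agent.Helper1.map_conj_smul, ← hg',
    Cfsg.Agent.Helper1.conj_smul_smul, hx]

end Cfsg.Agent.S0031
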