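import Cfsg.Statements.S0032
import Mathlib
import Cfsg.Agent.Helper1.Basic2

set_option autoImplicit false
open Cfsg

namespace Cfsg.Agent.S0032

/-- If an automorphism of a finite group fixes only the identity and maps a normal subgroup N into itself, then the only cosets of N it fixes are those in N: a fixed coset xN forces x ∈ N. -/
theorem result {G : Type*} [Group G] [Finite G] (φ : G ≃* G)
    (hφ : MonoidHom.FixedPointFree (φ : G →* G)) (N : Subgroup G) [N.Normal] (hN : ∀ n ∈ N, φ n ∈ N)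
    (x : G) (hx : (φ x)⁻¹ * x ∈ N) : x ∈ N := by
  have hinj : Function.Injective (fun n : N =>
      (⟨(φ (n : G))⁻¹ * (n : G), N.mul_mem (N.inv_mem (hN n n.2)) n.2⟩ : N)) := by
    intro a b hab
    have h1 : ((φ : G →* G) (a : G))⁻¹ * (a : G) = ((φ : G →* G) (b : G))⁻¹ * (b : G) :=
      congrArg Subtype.val hab
    exact Subtype.ext (Cfsg.Agent.Helper1.fpf_eq _ hφ h1)
  obtain ⟨n, hn⟩ := Finite.surjective_of_injective hinj ⟨(φ x)⁻¹ * x, hx⟩
  have h1 : ((φ : G →* G) (n : G))⁻¹ * (n : G) = ((φ : G →* G) x)⁻¹ * x := congrArg Subtype.val hn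
  have h2 := Cfsg.Agent.Helper1.fpf_eq _ hφ h1
  rw [← h2]
  exact n.2

end Cfsg.Agent.S0032
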