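import Cfsg.Statements.S0039
import Mathlib
import Cfsg.Agent.Helper1.Basic

set_option autoImplicit false
open Cfsg

open Pointwise

namespace Cfsg.Agent.S0039

/-- In a finite group that is a semidirect product of a normal subgroup K by a nontrivial subgroup H, H is a Frobenius complement exactly when each nonidentity element of H acts without nonidentity fixed points on K by conjugation. -/
theorem result {G : Type*} [Group G] [Finite G] (K H : Subgroup G) [K.Normal]
    (hc : Subgroup.IsComplement' K H) (hK : K ≠ ⊥) (hH : H ≠ ⊥) :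
    Cfsg.IsFrobeniusComplement H ↔ ∀ h ∈ H, h ≠ 1 → K ⊓ Subgroup.centralizer {h} = ⊥ := by
  obtain ⟨hdisj, hprod⟩ := Cfsg.Agent.Helper1.isComplement'_iff_elem.mp hc
  constructor
  · rintro ⟨_, _, hF⟩ h hh hh1
    rw [eq_bot_iff]
    intro k hk
    obtain ⟨hkK, hkC⟩ := Subgroup.mem_inf.mp hk
    rw [Subgroup.mem_bot]
    by_contra hk1
    have hkH : k ∉ H := fun hkH => hk1 (hdisj k hkK hkH)
    have h2 := hF k hkH
    have hcomm : h * k = k * h := Subgroup.mem_centralizer_iff.mp hkC h (Set.mem_singleton h)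
    have h3 : h ∈ H ⊓ MulAut.conj k • H := by
      refine Subgroup.mem_inf.mpr ⟨hh, ?_⟩
      rw [Cfsg.Agent.Helper1.mem_conj_smul]
      have h4 : k⁻¹ * h * k = h := by
        rw [mul_assoc, hcomm, ← mul_assoc, inv_mul_cancel, one_mul]
      rw [h4]
      exact hh
    rw [h2] at h3
    exact hh1 (Subgroup.mem_bot.mp h3)
  · intro hfpf
    refine ⟨hH, ?_, ?_⟩
    · intro htop
      apply hK
      rw [eq_bot_iff]
      intro k hk
      rw [Subgroup.mem_bot]
      exact hdisj k hk (by rw [htop]; exact Subgroup.mem_top k)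
    · intro g hg
      rw [eq_bot_iff]
      intro x hx
      obtain ⟨hxH, hxg⟩ := Subgroup.mem_inf.mp hx
      rw [Subgroup.mem_bot]
      by_contra hx1
      obtain ⟨k, hk, h', hh', rfl⟩ := hprod g
      have hk1 : k ≠ 1 := by
        rintro rfl
        apply hg
        rw [one_mul]
        exact hh'
      have hxg' : x ∈ MulAut.conj (k * h') • H := hxg
      rw [Cfsg.Agent.Helper1.mem_conj_smul] at hxg'
      have h1 : k⁻¹ * x * k ∈ H := by
        have h0 := H.mul_mem (H.mul_mem hh' hxg') (H.inv_mem hh')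
        have e : k⁻¹ * x * k = h' * ((k * h')⁻¹ * x * (k * h')) * h'⁻¹ := by group
        rw [e]
        exact h0
      have h2 : x⁻¹ * (k⁻¹ * x * k) ∈ H := H.mul_mem (H.inv_mem hxH) h1
      have h3 : x⁻¹ * (k⁻¹ * x * k) ∈ K := by
        have h4 : x⁻¹ * k⁻¹ * x⁻¹⁻¹ ∈ K := ‹K.Normal›.conj_mem _ (K.inv_mem hk) _
        have h0 := K.mul_mem h4 hk
        have e : x⁻¹ * (k⁻¹ * x * k) = x⁻¹ * k⁻¹ * x⁻¹⁻¹ * k := by group
        rw [e]
        exact h0
      have h5 := hdisj _ h3 h2
      have h6 : x = k⁻¹ * x * k := inv_mul_eq_one.mp h5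
      have hcomm : x * k = k * x := by
        calc x * k = k * (k⁻¹ * x * k) := by group
          _ = k * x := by rw [← h6]
      have h7 : k ∈ K ⊓ Subgroup.centralizer {x} := by
        refine Subgroup.mem_inf.mpr ⟨hk, ?_⟩
        rw [Subgroup.mem_centralizer_iff]
        intro y hy
        rw [Set.mem_singleton_iff] at hy
        rw [hy]
        exact hcomm
      rw [hfpf x hxH hx1] at h7
      exact hk1 (Subgroup.mem_bot.mp h7)

end Cfsg.Agent.S0039
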