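import Cfsg.Statements.S3383
import Mathlib

set_option autoImplicit false
open Cfsg

namespace Cfsg.Agent.S3383

open scoped Pointwise

/-- Let H be a Frobenius complement in a finite group L and K the Frobenius kernel (as a subgroup). Then K is characteristic in L, and every normal subgroup of L either contains K or is contained in K. -/
theorem result {L : Type*} [Group L] [Finite L]
    (H : Subgroup L) (hH : Cfsg.IsFrobeniusComplement H)
    (K : Subgroup L) (hK : (K : Set L) = Cfsg.frobeniusKernel H) :
    K.Characteristic ∧ ∀ N : Subgroup L, N.Normal → K ≤ N ∨ N ≤ K := by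
  classical
  obtain ⟨-, -, hfrob⟩ := hH
  have hmemK : ∀ x : L, x ∈ K ↔ (x = 1 ∨ ∀ g : L, x ∉ MulAut.conj g • H) := by
    intro x
    rw [← SetLike.mem_coe, hK]
    rfl
  have hconj : ∀ (g x : L), x ∈ MulAut.conj g • H ↔ g⁻¹ * x * g ∈ H := by
    intro g x
    rw [Subgroup.mem_pointwise_smul_iff_inv_smul_mem]
    simp [MulAut.smul_def, mul_assoc]
  -- K is normal
  have hKn : K.Normal := by
    constructor
    intro x hx a
    rw [hmemK] at hx ⊢
    rcases hx with rfl | hx
    · left; group
    · right
      intro g hg
      apply hx (a⁻¹ * g)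
      rw [hconj] at hg ⊢
      have : (a⁻¹ * g)⁻¹ * x * (a⁻¹ * g) = g⁻¹ * (a * x * a⁻¹) * g := by group
      rw [this]
      exact hg
  -- elements of K commuting with a nontrivial element of H are trivial
  have hfree : ∀ k ∈ K, ∀ y ∈ H, y ≠ 1 → k * y = y * k → k = 1 := by
    intro k hk y hy hy1 hcomm
    by_cases hkH : k ∈ H
    · rw [hmemK] at hk
      rcases hk with rfl | hk
      · rfl
      · exfalso
        apply hk 1
        rw [hconj]
        simpa using hkH
    · exfalso
      apply hy1
      have h1 := hfrob k hkH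
      have h2 : y ∈ H ⊓ (MulAut.conj k • H) := by
        rw [Subgroup.mem_inf, hconj]
        refine ⟨hy, ?_⟩
        have : k⁻¹ * y * k = y := by
          rw [mul_assoc, ← hcomm]; group
        rw [this]
        exact hy
      rw [h1] at h2
      exact h2
  have hpart2 : ∀ N : Subgroup L, N.Normal → K ≤ N ∨ N ≤ K := by
    intro N hN
    by_cases hNK : N ≤ K
    · exact Or.inr hNK
    · left
      rw [SetLike.not_le_iff_exists] at hNK
      obtain ⟨n, hnN, hnK⟩ := hNK
      rw [hmemK] at hnK
      push Not at hnK
      obtain ⟨hn1, g, hg⟩ := hnK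
      rw [hconj] at hg
      set y := g⁻¹ * n * g with hy
      have hyN : y ∈ N := by
        have := hN.conj_mem n hnN g⁻¹
        simpa using this
      have hy1 : y ≠ 1 := by
        intro h1
        apply hn1
        have : n = g * y * g⁻¹ := by rw [hy]; group
        rw [this, h1]
        group
      -- the commutator map
      have hmem : ∀ k : K, (k : L) * y * (k : L)⁻¹ * y⁻¹ ∈ K ⊓ N := by
        intro k
        constructor
        · have h1 := hKn.conj_mem _ (K.inv_mem k.2) y
          have h2 := K.mul_mem k.2 h1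
          have : (k : L) * y * (k : L)⁻¹ * y⁻¹ = (k : L) * (y * (k : L)⁻¹ * y⁻¹) := by group
          rw [this]
          exact h2
        · exact N.mul_mem (hN.conj_mem y hyN k) (N.inv_mem hyN)
      let F : K → ↥(K ⊓ N) := fun k => ⟨(k : L) * y * (k : L)⁻¹ * y⁻¹, hmem k⟩
      have hFinj : Function.Injective F := by
        intro k k' hkk
        have h1 : (k : L) * y * (k : L)⁻¹ * y⁻¹ = (k' : L) * y * (k' : L)⁻¹ * y⁻¹ :=
          congrArg Subtype.val hkk
        have h2 : (k : L) * y * (k : L)⁻¹ = (k' : L) * y * (k' : L)⁻¹ := by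
          have := congrArg (· * y) h1
          simpa using this
        have h3 : ((k' : L)⁻¹ * (k : L)) * y = y * ((k' : L)⁻¹ * (k : L)) := by
          calc ((k' : L)⁻¹ * (k : L)) * y = (k' : L)⁻¹ * ((k : L) * y * (k : L)⁻¹) * k := by group
            _ = (k' : L)⁻¹ * ((k' : L) * y * (k' : L)⁻¹) * k := by rw [h2]
            _ = y * ((k' : L)⁻¹ * (k : L)) := by group
        have h4 := hfree _ (K.mul_mem (K.inv_mem k'.2) k.2) y hg hy1 h3
        apply Subtype.ext
        have : (k : L) = (k' : L) * ((k' : L)⁻¹ * (k : L)) := by group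
        rw [this, h4, mul_one]
      have hcard : Nat.card K ≤ Nat.card ↥(K ⊓ N) := Nat.card_le_card_of_injective F hFinj
      have heq : K ⊓ N = K := Subgroup.eq_of_le_of_card_ge inf_le_left hcard
      rw [← heq]
      exact inf_le_right
  refine ⟨?_, hpart2⟩
  rw [Subgroup.characteristic_iff_map_le]
  intro ϕ
  have hmapn : (K.map ϕ.toMonoidHom).Normal := hKn.map _ ϕ.surjective
  have hcard : Nat.card (K.map ϕ.toMonoidHom) = Nat.card K :=
    Subgroup.card_map_of_injective ϕ.injective
  rcases hpart2 _ hmapn with h | h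
  · exact (Subgroup.eq_of_le_of_card_ge h hcard.le).symm.le
  · exact h

end Cfsg.Agent.S3383
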