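import Cfsg.Statements.S3836
import Mathlib
import Cfsg.Agent.Helper9.Fitting
import Cfsg.Agent.Helper9.Layer

set_option autoImplicit false
open Cfsg
open scoped commutatorElement

namespace Cfsg.Agent.S3836

/-- Let G be a finite group that is p-stable in the normalizer form: for every p-subgroup Q and every x ∈ N_G(Q) with [Q, x, x] = 1, the image of x in N_G(Q)/C_G(Q) lies in O_p(N_G(Q)/C_G(Q)). Then every subgroup of G is p-stable in the same sense. -/
theorem result {G : Type*} [Group G] [Finite G] {p : ℕ} [Fact p.Prime] (hst : Cfsg.IsNormalizerPStable p G) (H : Subgroup G) : Cfsg.IsNormalizerPStable p ↥H := by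
  intro P hP g hg hquad
  obtain ⟨P', hP'⟩ : ∃ P' : Subgroup G, P' = P.map H.subtype := ⟨_, rfl⟩
  have hP'p : IsPGroup p P' := by rw [hP']; exact hP.map _
  have hmemP' : ∀ q : H, q ∈ P → (q : G) ∈ P' := by
    intro q hq
    rw [hP']; exact Subgroup.mem_map_of_mem H.subtype hq
  have hnorm : ∀ x : H, x ∈ Subgroup.normalizer (P : Set H) →
      (x : G) ∈ Subgroup.normalizer (P' : Set G) := by
    intro x hx
    rw [hP', Subgroup.mem_normalizer_iff]
    intro y
    constructor
    · rintro ⟨q, hq, rfl⟩
      exact ⟨x * q * x⁻¹, (Subgroup.mem_normalizer_iff.mp hx q).mp hq, rfl⟩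
    · rintro ⟨q, hq, hqe⟩
      refine ⟨x⁻¹ * q * x, ?_, ?_⟩
      · refine (Subgroup.mem_normalizer_iff.mp hx (x⁻¹ * q * x)).mpr ?_
        have e : x * (x⁻¹ * q * x) * x⁻¹ = q := by group
        rw [e]; exact hq
      · have e : H.subtype (x⁻¹ * q * x) = (x : G)⁻¹ * H.subtype q * (x : G) := rfl
        rw [e, hqe]
        group
  have hquad' : ⁅⁅P', Subgroup.zpowers (g : G)⁆, Subgroup.zpowers (g : G)⁆ = ⊥ := by
    have := congrArg (Subgroup.map H.subtype) hquad
    rw [Subgroup.map_commutator, Subgroup.map_commutator, MonoidHom.map_zpowers,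
      Subgroup.map_bot] at this
    rw [hP']; exact this
  have key := hst P' hP'p (g : G) (hnorm g hg) hquad'
  let ι : ↥(Subgroup.normalizer (P : Set H)) →* ↥(Subgroup.normalizer (P' : Set G)) :=
    { toFun := fun x => ⟨(x.1 : G), hnorm x.1 x.2⟩
      map_one' := rfl
      map_mul' := fun x y => rfl }
  let φ : ↥(Subgroup.normalizer (P : Set H)) →* (↥(Subgroup.normalizer (P' : Set G)) ⧸
      (Subgroup.centralizer (P' : Set G)).subgroupOf (Subgroup.normalizer (P' : Set G))) :=
    (QuotientGroup.mk' ((Subgroup.centralizer (P' : Set G)).subgroupOf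
      (Subgroup.normalizer (P' : Set G)))).comp ι
  have hker : ∀ z : ↥(Subgroup.normalizer (P : Set H)), φ z = 1 →
      z ∈ (Subgroup.centralizer (P : Set H)).subgroupOf (Subgroup.normalizer (P : Set H)) := by
    intro z hz
    have h2 : ι z ∈ (Subgroup.centralizer (P' : Set G)).subgroupOf
        (Subgroup.normalizer (P' : Set G)) := by
      rw [← QuotientGroup.ker_mk' ((Subgroup.centralizer (P' : Set G)).subgroupOf
        (Subgroup.normalizer (P' : Set G))), MonoidHom.mem_ker]
      exact hz
    rw [Subgroup.mem_subgroupOf, Subgroup.mem_centralizer_iff] at h2 ⊢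
    intro q hq
    have := h2 (q : G) (hmemP' q hq)
    apply Subtype.ext
    exact this
  obtain ⟨T, hT⟩ : ∃ T : Subgroup ↥(Subgroup.normalizer (P : Set H)),
      T = (Cfsg.pCore p (↥(Subgroup.normalizer (P' : Set G)) ⧸
        (Subgroup.centralizer (P' : Set G)).subgroupOf
          (Subgroup.normalizer (P' : Set G)))).comap φ := ⟨_, rfl⟩
  have hTn : T.Normal := by
    rw [hT]
    have : (Cfsg.pCore p (↥(Subgroup.normalizer (P' : Set G)) ⧸
        (Subgroup.centralizer (P' : Set G)).subgroupOf
          (Subgroup.normalizer (P' : Set G)))).Normal := inferInstance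
    exact this.comap φ
  have hgT : (⟨g, hg⟩ : ↥(Subgroup.normalizer (P : Set H))) ∈ T := by
    rw [hT, Subgroup.mem_comap]
    exact key
  have hT'n : (T.map (QuotientGroup.mk' ((Subgroup.centralizer (P : Set H)).subgroupOf
      (Subgroup.normalizer (P : Set H))))).Normal :=
    hTn.map _ (QuotientGroup.mk'_surjective _)
  have hT'p : IsPGroup p ↥(T.map (QuotientGroup.mk' ((Subgroup.centralizer (P : Set H)).subgroupOf
      (Subgroup.normalizer (P : Set H))))) := by
    rintro ⟨y, hy⟩
    obtain ⟨x, hx, rfl⟩ := hy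
    have hx' : φ x ∈ Cfsg.pCore p (↥(Subgroup.normalizer (P' : Set G)) ⧸
        (Subgroup.centralizer (P' : Set G)).subgroupOf
          (Subgroup.normalizer (P' : Set G))) := by
      have : x ∈ T := hx
      rw [hT, Subgroup.mem_comap] at this
      exact this
    obtain ⟨k, hk⟩ := (Cfsg.Agent.Helper9.pCore_isPGroup p) ⟨φ x, hx'⟩
    refine ⟨k, ?_⟩
    apply Subtype.ext
    rw [Subgroup.coe_pow]
    have h1 : φ (x ^ p ^ k) = 1 := by
      rw [map_pow]
      have := congrArg Subtype.val hk
      rw [Subgroup.coe_pow] at this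
      exact this
    have h2 := hker _ h1
    rw [← QuotientGroup.ker_mk' ((Subgroup.centralizer (P : Set H)).subgroupOf
      (Subgroup.normalizer (P : Set H))), MonoidHom.mem_ker, map_pow] at h2
    exact h2
  exact Cfsg.Agent.Helper9.le_pCore hT'n hT'p (Subgroup.mem_map_of_mem _ hgT)

end Cfsg.Agent.S3836
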