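import Mathlib
import Cfsg.Statements.S4419
import Cfsg.Agent.S0071
import Cfsg.Agent.Helper9.Fitting
import Cfsg.Agent.Helper17.PCore
import Cfsg.Agent.Helper1.Burnside

set_option autoImplicit false
open Cfsg

namespace Cfsg.Agent.S4419

/-- An automorphism of prime order `r` acting without fixed points on an invariant set:
the set has cardinality divisible by `r`. -/
theorem cnt {Q : Type*} [Group Q] [Finite Q] (β : MulAut Q) (r : ℕ) [Fact r.Prime]
    (hβ : β ^ r = 1) (T : Q → Prop) (hT : ∀ y, T (β y) ↔ T y)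
    (hfix : ∀ y, T y → β y ≠ y) : r ∣ Nat.card {y : Q // T y} := by
  classical
  haveI : Fintype Q := Fintype.ofFinite _
  have hinv : ∀ y : Q, T ((MulAut.toPerm Q β : Equiv.Perm Q) y) ↔ T y := hT
  have hf : (MulAut.toPerm Q β : Equiv.Perm Q) ^ r = 1 := by
    rw [← map_pow, hβ, map_one]
  have hσ : (Equiv.Perm.subtypePerm (p := T) (MulAut.toPerm Q β : Equiv.Perm Q) hinv) ^ r ^ 1
      = 1 := by
    rw [pow_one, Equiv.Perm.subtypePerm_pow]
    refine Equiv.ext (fun a => Subtype.ext ?_)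
    have h9 : ((MulAut.toPerm Q β : Equiv.Perm Q) ^ r) (a : Q) = (1 : Equiv.Perm Q) (a : Q) := by
      rw [hf]
    exact h9
  have hmod := Equiv.Perm.card_compl_support_modEq hσ
  have hcompl : (Equiv.Perm.subtypePerm (p := T) (MulAut.toPerm Q β : Equiv.Perm Q)
      hinv).supportᶜ = ∅ := by
    apply Finset.eq_empty_of_forall_notMem
    intro a ha
    simp only [Finset.mem_compl, Equiv.Perm.mem_support, ne_eq, not_not] at ha
    have h1 : β (a : Q) = a := congrArg (fun z : {y : Q // T y} => (z : Q)) ha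
    exact hfix a.1 a.2 h1
  rw [hcompl, Finset.card_empty, ← Nat.card_eq_fintype_card] at hmod
  exact (Nat.modEq_zero_iff_dvd.mp hmod.symm)

/-- The subgroup of elements fixed by `β` modulo the normal subgroup `N`. -/
def fixMod {Q : Type*} [Group Q] (β : MulAut Q) (N : Subgroup Q) [hN : N.Normal] : Subgroup Q where
  carrier := {x | x⁻¹ * β x ∈ N}
  one_mem' := by
    show (1 : Q)⁻¹ * β 1 ∈ N
    rw [map_one, inv_one, one_mul]; exact N.one_mem
  mul_mem' := by
    intro a b ha hb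
    show (a * b)⁻¹ * β (a * b) ∈ N
    have ha' : a⁻¹ * β a ∈ N := ha
    have hb' : b⁻¹ * β b ∈ N := hb
    have h1 : (a * b)⁻¹ * β (a * b) = b⁻¹ * (a⁻¹ * β a) * b⁻¹⁻¹ * (b⁻¹ * β b) := by
      rw [map_mul]; group
    rw [h1]
    exact N.mul_mem (hN.conj_mem _ ha' _) hb'
  inv_mem' := by
    intro a ha
    show (a⁻¹)⁻¹ * β a⁻¹ ∈ N
    have ha' : a⁻¹ * β a ∈ N := ha
    have h1 : (a⁻¹)⁻¹ * β a⁻¹ = a * (a⁻¹ * β a)⁻¹ * a⁻¹ := by
      rw [map_inv]; group
    rw [h1]
    exact hN.conj_mem _ (N.inv_mem ha') _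

/-- A nontrivial automorphism of prime order `r ≠ p` of a two-generated finite `p`-group:
`r ∣ p ^ 2 - 1`. -/
theorem core {Q : Type*} [Group Q] [Finite Q] (p : ℕ) [Fact p.Prime] (hQ : IsPGroup p Q)
    (c d : Q) (hgen : Subgroup.closure ({c, d} : Set Q) = ⊤)
    (β : MulAut Q) (r : ℕ) [Fact r.Prime] (hrp : r ≠ p) (hβr : β ^ r = 1) (hβ1 : β ≠ 1) :
    r ∣ p ^ 2 - 1 := by
  classical
  have hp : p.Prime := Fact.out
  have hr : r.Prime := Fact.out
  -- the Frattini subgroup is `β`-stable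
  have hΦ : ∀ x : Q, β x ∈ frattini Q ↔ x ∈ frattini Q := by
    intro x
    have h1 : (frattini Q).comap β.toMonoidHom = frattini Q :=
      Subgroup.characteristic_iff_comap_eq.mp inferInstance β
    constructor
    · intro h
      have h2 : x ∈ (frattini Q).comap β.toMonoidHom := h
      rw [h1] at h2; exact h2
    · intro h
      have h2 : x ∈ (frattini Q).comap β.toMonoidHom := by rw [h1]; exact h
      exact h2
  obtain ⟨F, hmemF⟩ : ∃ F : Subgroup Q, ∀ x : Q, x ∈ F ↔ x⁻¹ * β x ∈ frattini Q :=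
    ⟨fixMod β (frattini Q), fun x => Iff.rfl⟩
  have hFst : ∀ x : Q, β x ∈ F ↔ x ∈ F := by
    intro x
    rw [hmemF, hmemF]
    have h1 : (β x)⁻¹ * β (β x) = β (x⁻¹ * β x) := by rw [map_mul, map_inv]
    rw [h1]
    exact hΦ _
  have hΦF : frattini Q ≤ F := by
    intro x hx
    rw [hmemF]
    exact (frattini Q).mul_mem ((frattini Q).inv_mem hx) ((hΦ x).mpr hx)
  -- `F ≠ ⊤`
  have hFtop : F ≠ ⊤ := by
    intro hF
    apply hβ1
    obtain ⟨C, hC⟩ : ∃ C : Subgroup Q, ∀ x : Q, x ∈ C ↔ β x = x :=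
      ⟨{ carrier := {x | β x = x}
         one_mem' := map_one β
         mul_mem' := by
           intro a b ha hb
           show β (a * b) = a * b
           rw [map_mul, show β a = a from ha, show β b = b from hb]
         inv_mem' := by
           intro a ha
           show β a⁻¹ = a⁻¹
           rw [map_inv, show β a = a from ha] }, fun x => Iff.rfl⟩
    have hsup : C ⊔ frattini Q = ⊤ := by
      rw [eq_top_iff]
      intro x _
      by_contra hx
      have hxF : x⁻¹ * β x ∈ frattini Q := by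
        have h0 : x ∈ F := by rw [hF]; exact Subgroup.mem_top x
        exact (hmemF x).mp h0
      have hcos : ∀ y : Q, x⁻¹ * β y ∈ frattini Q ↔ x⁻¹ * y ∈ frattini Q := by
        intro y
        have h1 : x⁻¹ * β y = (x⁻¹ * β x) * β (x⁻¹ * y) := by
          rw [map_mul, map_inv]; group
        rw [h1]
        constructor
        · intro h
          have h2 : β (x⁻¹ * y) ∈ frattini Q := by
            have h3 := (frattini Q).mul_mem ((frattini Q).inv_mem hxF) h
            rw [inv_mul_cancel_left] at h3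
            exact h3
          exact (hΦ _).mp h2
        · intro h
          exact (frattini Q).mul_mem hxF ((hΦ _).mpr h)
      have hnofix : ∀ y : Q, x⁻¹ * y ∈ frattini Q → β y ≠ y := by
        intro y hy hfix
        apply hx
        have h1 : x = y * (x⁻¹ * y)⁻¹ := by group
        rw [h1]
        exact Subgroup.mul_mem_sup ((hC y).mpr hfix) ((frattini Q).inv_mem hy)
      have hdvd := cnt β r hβr (fun y => x⁻¹ * y ∈ frattini Q) hcos hnofix
      have hcard : Nat.card {y : Q // x⁻¹ * y ∈ frattini Q} = Nat.card ↥(frattini Q) := by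
        apply Nat.card_congr
        exact
          { toFun := fun y => ⟨x⁻¹ * y.1, y.2⟩
            invFun := fun z => ⟨x * z.1, by
                show x⁻¹ * (x * z.1) ∈ frattini Q
                rw [inv_mul_cancel_left]; exact z.2⟩
            left_inv := by
              intro y; apply Subtype.ext
              show x * (x⁻¹ * y.1) = y.1
              rw [mul_inv_cancel_left]
            right_inv := by
              intro z; apply Subtype.ext
              show x⁻¹ * (x * z.1) = z.1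
              rw [inv_mul_cancel_left] }
      rw [hcard] at hdvd
      obtain ⟨j, hj⟩ := (IsPGroup.iff_card (p := p)).mp (hQ.to_subgroup (frattini Q))
      rw [hj] at hdvd
      exact hrp ((Nat.prime_dvd_prime_iff_eq hr hp).mp (hr.dvd_of_dvd_pow hdvd))
    have hCtop : C = ⊤ := frattini_nongenerating hsup
    apply MulEquiv.ext
    intro x
    have h0 : x ∈ C := by rw [hCtop]; exact Subgroup.mem_top x
    show β x = x
    exact (hC x).mp h0
  -- count outside `F`
  have hout : r ∣ Nat.card {x : Q // x ∉ F} := by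
    have h := cnt β r hβr (fun x => x ∉ F) (fun y => not_congr (hFst y))
      (by
        intro y hy hfix
        apply hy
        rw [hmemF, hfix, inv_mul_cancel]
        exact (frattini Q).one_mem)
    exact h
  -- index facts
  obtain ⟨k, hk⟩ := (IsPGroup.iff_card (p := p)).mp hQ
  have hΦidx : (frattini Q).index ∣ p ^ k := by
    rw [← hk]; exact Subgroup.index_dvd_card _
  obtain ⟨n, -, hn⟩ := (Nat.dvd_prime_pow hp).mp hΦidx
  have hn2 : n ≤ 2 := by
    have hb := Cfsg.Agent.Helper1.burnside_lower p n hQ hn ({c, d} : Finset Q)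
    have hT : Subgroup.closure ((({c, d} : Finset Q)) : Set Q) = ⊤ := by
      rw [Finset.coe_insert, Finset.coe_singleton]; exact hgen
    rw [hT, top_sup_eq, Subgroup.index_top, one_mul] at hb
    have h2 : p ^ ({c, d} : Finset Q).card ≤ p ^ 2 :=
      Nat.pow_le_pow_right hp.pos Finset.card_le_two
    exact (Nat.pow_le_pow_iff_right hp.one_lt).mp (le_trans hb h2)
  have hFidx : F.index ∣ p ^ n := by
    have h := Subgroup.index_dvd_of_le hΦF
    rw [hn] at h
    exact h
  obtain ⟨j, hjn, hj⟩ := (Nat.dvd_prime_pow hp).mp hFidx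
  have hj1 : 1 ≤ j := by
    rcases Nat.eq_zero_or_pos j with h0 | h0
    · exfalso
      rw [h0, pow_zero] at hj
      exact hFtop (Subgroup.index_eq_one.mp hj)
    · exact h0
  obtain ⟨i, hi⟩ := (IsPGroup.iff_card (p := p)).mp (hQ.to_subgroup F)
  have hsum : Nat.card ↥F + Nat.card {x : Q // x ∉ F} = Nat.card Q := by
    rw [← Nat.card_sum]
    exact Nat.card_congr (Equiv.sumCompl (fun x => x ∈ F))
  have hmul : F.index * Nat.card ↥F = Nat.card Q := Subgroup.index_mul_card F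
  rw [hj] at hmul
  have hX : Nat.card {x : Q // x ∉ F} = (p ^ j - 1) * Nat.card ↥F := by
    have h2 : (p ^ j - 1) * Nat.card ↥F = p ^ j * Nat.card ↥F - Nat.card ↥F := by
      rw [Nat.sub_mul, one_mul]
    rw [h2, hmul]
    omega
  rw [hX] at hout
  have hrj : r ∣ p ^ j - 1 := by
    rcases (Nat.Prime.dvd_mul hr).mp hout with h | h
    · exact h
    · rw [hi] at h
      exact absurd ((Nat.prime_dvd_prime_iff_eq hr hp).mp (hr.dvd_of_dvd_pow h)) hrp
  have hj' : j = 1 ∨ j = 2 := by omega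
  rcases hj' with rfl | rfl
  · have h1 : p - 1 ∣ p ^ 2 - 1 := by
      have h3 := Nat.sub_dvd_pow_sub_pow p 1 2
      simpa using h3
    rw [pow_one] at hrj
    exact dvd_trans hrj h1
  · exact hrj

/-- Every prime `r ≠ p` dividing the order of an automorphism of a two-generated finite
`p`-group divides `p ^ 2 - 1`. -/
theorem aut_prime_dvd {Q : Type*} [Group Q] [Finite Q] (p : ℕ) [Fact p.Prime]
    (hQ : IsPGroup p Q) (c d : Q) (hgen : Subgroup.closure ({c, d} : Set Q) = ⊤)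
    (α : MulAut Q) (r : ℕ) (hr : r.Prime) (hrp : r ≠ p) (hrα : r ∣ orderOf α) :
    r ∣ p ^ 2 - 1 := by
  haveI : Fact r.Prime := ⟨hr⟩
  have hpos : 0 < orderOf α := orderOf_pos α
  have hord : orderOf (α ^ (orderOf α / r)) = r := orderOf_pow_orderOf_div hpos.ne' hrα
  apply core p hQ c d hgen (α ^ (orderOf α / r)) r hrp
  · have h2 := pow_orderOf_eq_one (α ^ (orderOf α / r))
    rw [hord] at h2
    exact h2
  · intro h
    rw [h, orderOf_one] at hord
    exact hr.one_lt.ne hord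

/-- Subgroups of a metacyclic group are two-generated. -/
theorem two_gen {R : Type*} [Group R] (hR : Cfsg.IsMetacyclic R) (Q' : Subgroup R) :
    ∃ c ∈ Q', ∃ d ∈ Q', ∀ q ∈ Q', ∃ i j : ℤ, q = d ^ j * c ^ i := by
  obtain ⟨N, hN, hcN, hcRN⟩ := hR
  haveI := hN
  haveI := hcN
  haveI := hcRN
  obtain ⟨c0, hc0⟩ := IsCyclic.exists_generator (α := ↥(Q'.subgroupOf N))
  obtain ⟨d0, hd0⟩ := IsCyclic.exists_generator (α := ↥(Q'.map (QuotientGroup.mk' N)))
  have hcQ : ((c0 : ↥N) : R) ∈ Q' := Subgroup.mem_subgroupOf.mp c0.2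
  obtain ⟨d, hdQ, hd⟩ := Subgroup.mem_map.mp d0.2
  refine ⟨((c0 : ↥N) : R), hcQ, d, hdQ, ?_⟩
  intro q hq
  have hqm : QuotientGroup.mk' N q ∈ Q'.map (QuotientGroup.mk' N) :=
    Subgroup.mem_map_of_mem _ hq
  obtain ⟨j, hj⟩ := Subgroup.mem_zpowers_iff.mp (hd0 ⟨_, hqm⟩)
  have hj' : (QuotientGroup.mk' N d) ^ j = QuotientGroup.mk' N q := by
    have h1 := congrArg (fun z : ↥(Q'.map (QuotientGroup.mk' N)) => (z : R ⧸ N)) hj
    simp only [Subgroup.coe_zpow] at h1
    rw [hd]; exact h1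
  have hmem : (d ^ j)⁻¹ * q ∈ N := by
    rw [← map_zpow] at hj'
    exact QuotientGroup.eq.mp hj'
  have hmemQ : (d ^ j)⁻¹ * q ∈ Q' := Q'.mul_mem (Q'.inv_mem (Q'.zpow_mem hdQ j)) hq
  have hsub : (⟨(d ^ j)⁻¹ * q, hmem⟩ : ↥N) ∈ Q'.subgroupOf N :=
    Subgroup.mem_subgroupOf.mpr hmemQ
  obtain ⟨i, hi⟩ := Subgroup.mem_zpowers_iff.mp (hc0 ⟨_, hsub⟩)
  have hi' : ((c0 : ↥N) : R) ^ i = (d ^ j)⁻¹ * q := by
    have h1 := congrArg (fun z : ↥(Q'.subgroupOf N) => ((z : ↥N) : R)) hi
    simp only [Subgroup.coe_zpow] at h1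
    exact h1
  refine ⟨i, j, ?_⟩
  rw [hi', mul_inv_cancel_left]

theorem two_gen_sub {G : Type*} [Group G] (S : Subgroup G) (hS : Cfsg.IsMetacyclic ↥S)
    (Q : Subgroup G) (hQS : Q ≤ S) :
    ∃ c d : ↥Q, Subgroup.closure ({c, d} : Set ↥Q) = ⊤ := by
  obtain ⟨c, hc, d, hd, h⟩ := two_gen hS (Q.subgroupOf S)
  refine ⟨⟨(c : G), Subgroup.mem_subgroupOf.mp hc⟩, ⟨(d : G), Subgroup.mem_subgroupOf.mp hd⟩, ?_⟩
  rw [eq_top_iff]
  intro x _
  obtain ⟨i, j, hij⟩ := h ⟨(x : G), hQS x.2⟩ (Subgroup.mem_subgroupOf.mpr x.2)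
  have hx : x = (⟨(d : G), Subgroup.mem_subgroupOf.mp hd⟩ : ↥Q) ^ j *
      (⟨(c : G), Subgroup.mem_subgroupOf.mp hc⟩ : ↥Q) ^ i := by
    apply Subtype.ext
    have h1 := congrArg (fun z : ↥S => (z : G)) hij
    simp only [Subgroup.coe_mul, Subgroup.coe_zpow] at h1 ⊢
    exact h1
  rw [hx]
  apply Subgroup.mul_mem
  · exact Subgroup.zpow_mem _ (Subgroup.subset_closure (by simp)) j
  · exact Subgroup.zpow_mem _ (Subgroup.subset_closure (by simp)) i

theorem triv_of_mem {G : Type*} [Group G] [Finite G] {p : ℕ} [Fact p.Prime] {Q K : Subgroup G}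
    (hQ : IsPGroup p ↥Q) (hK : (Nat.card ↥K).Coprime p) {x : G} (hxQ : x ∈ Q) (hxK : x ∈ K) :
    x = 1 := by
  obtain ⟨k, hk⟩ := hQ ⟨x, hxQ⟩
  have hk' : x ^ p ^ k = 1 := by
    have h0 := congrArg (fun z : ↥Q => (z : G)) hk
    simpa using h0
  have h1 : orderOf x ∣ p ^ k := orderOf_dvd_of_pow_eq_one hk'
  have h2 : orderOf x ∣ Nat.card ↥K := by
    have h0 := orderOf_dvd_natCard (⟨x, hxK⟩ : ↥K)
    rw [Subgroup.orderOf_mk] at h0
    exact h0
  have h3 : Nat.Coprime (Nat.card ↥K) (p ^ k) := Nat.Coprime.pow_right k hK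
  have h4 : orderOf x = 1 := Nat.eq_one_of_dvd_coprimes h3 h2 h1
  exact orderOf_eq_one_iff.mp h4

/-- Let p be a prime and G a finite group whose Sylow p-subgroups are metacyclic (a cyclic normal subgroup with cyclic quotient). Then G has a normal p-complement if and only if the order of G/O_{p′,p}(G) is coprime to p² − 1. -/
theorem result {G : Type*} [Group G] [Finite G] (p : ℕ) [Fact p.Prime] (S : Sylow p G) (hS : Cfsg.IsMetacyclic ↥(S : Subgroup G)) : Cfsg.HasNormalPComplement p G ↔ Nat.Coprime (Nat.card (G ⧸ Cfsg.pPrimePCore p G)) (p ^ 2 - 1) := by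
  have hp : p.Prime := Fact.out
  constructor
  · rintro ⟨P', N, hN, hc⟩
    haveI := hN
    have hK : Cfsg.pPrimeCore p G = N :=
      Cfsg.Agent.Helper17.pPrimeCore_eq_of_normal_complement P' N hc
    have hidx : (Cfsg.pPrimeCore p G).index = Nat.card ↥(P' : Subgroup G) := by
      rw [hK]; exact hc.symm.index_eq_card
    obtain ⟨k, hk⟩ := (IsPGroup.iff_card (p := p)).mp P'.2
    have hpg : IsPGroup p (G ⧸ Cfsg.pPrimeCore p G) := by
      apply IsPGroup.of_card (n := k)
      rw [← Subgroup.index_eq_card, hidx, hk]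
    have h1 : Cfsg.pCore p (G ⧸ Cfsg.pPrimeCore p G) = ⊤ :=
      top_le_iff.mp (Cfsg.Agent.Helper9.le_pCore inferInstance (hpg.to_subgroup ⊤))
    have hW : Cfsg.pPrimePCore p G = ⊤ := by
      show (Cfsg.pCore p (G ⧸ Cfsg.pPrimeCore p G)).comap
        (QuotientGroup.mk' (Cfsg.pPrimeCore p G)) = ⊤
      rw [h1, Subgroup.comap_top]
    rw [← Subgroup.index_eq_card, hW, Subgroup.index_top]
    exact Nat.coprime_one_left _
  · intro hcop
    refine ⟨S, (Cfsg.Agent.S0071.result S).mpr ?_⟩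
    intro Q hQS g hg hgp
    by_contra hgC
    have hQp : IsPGroup p ↥Q := S.2.to_le hQS
    obtain ⟨c, d, hgen⟩ := two_gen_sub (S : Subgroup G) hS Q hQS
    have hα1 : Q.normalizerMonoidHom ⟨g, hg⟩ ≠ 1 := by
      intro h1
      have h3 : (⟨g, hg⟩ : ↥(Subgroup.normalizer (Q : Set G))) ∈ (Q.normalizerMonoidHom).ker :=
        MonoidHom.mem_ker.mpr h1
      rw [Subgroup.normalizerMonoidHom_ker, Subgroup.mem_subgroupOf] at h3
      exact hgC h3
    have hord1 : orderOf (Q.normalizerMonoidHom ⟨g, hg⟩) ≠ 1 := by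
      intro h; exact hα1 (orderOf_eq_one_iff.mp h)
    obtain ⟨r, hr, hrα⟩ := Nat.exists_prime_and_dvd hord1
    have hαg : orderOf (Q.normalizerMonoidHom ⟨g, hg⟩) ∣ orderOf g := by
      have h1 := orderOf_map_dvd Q.normalizerMonoidHom
        (⟨g, hg⟩ : ↥(Subgroup.normalizer (Q : Set G)))
      rw [Subgroup.orderOf_mk] at h1
      exact h1
    have hrp : r ≠ p := by
      intro h
      rw [h] at hrα
      exact (Nat.Prime.coprime_iff_not_dvd hp).mp hgp.symm (dvd_trans hrα hαg)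
    have hr2 : r ∣ p ^ 2 - 1 := aut_prime_dvd p hQp c d hgen _ r hr hrp hrα
    haveI hWn : (Cfsg.pPrimePCore p G).Normal := by
      show ((Cfsg.pCore p (G ⧸ Cfsg.pPrimeCore p G)).comap
        (QuotientGroup.mk' (Cfsg.pPrimeCore p G))).Normal
      exact (Cfsg.pCore_normal p (G ⧸ Cfsg.pPrimeCore p G)).comap _
    have hgW : g ^ (Cfsg.pPrimePCore p G).index ∈ Cfsg.pPrimePCore p G :=
      Subgroup.pow_index_mem _ g
    have hgO : QuotientGroup.mk' (Cfsg.pPrimeCore p G) (g ^ (Cfsg.pPrimePCore p G).index) ∈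
        Cfsg.pCore p (G ⧸ Cfsg.pPrimeCore p G) := hgW
    obtain ⟨k, hk⟩ :=
      (Cfsg.Agent.Helper9.pCore_isPGroup (G := G ⧸ Cfsg.pPrimeCore p G) p) ⟨_, hgO⟩
    have hgK : (g ^ (Cfsg.pPrimePCore p G).index) ^ p ^ k ∈ Cfsg.pPrimeCore p G := by
      have h1 := congrArg (fun z : ↥(Cfsg.pCore p (G ⧸ Cfsg.pPrimeCore p G)) =>
        (z : G ⧸ Cfsg.pPrimeCore p G)) hk
      simp only [Subgroup.coe_pow, Subgroup.coe_one] at h1
      rw [← map_pow] at h1
      have h2 : ((((g ^ (Cfsg.pPrimePCore p G).index) ^ p ^ k : G)) :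
          G ⧸ Cfsg.pPrimeCore p G) = 1 := h1
      exact (QuotientGroup.eq_one_iff _).mp h2
    have hcent : ∀ q ∈ Q, (g ^ (Cfsg.pPrimePCore p G).index) ^ p ^ k * q =
        q * (g ^ (Cfsg.pPrimePCore p G).index) ^ p ^ k := by
      intro q hq
      obtain ⟨z, hz⟩ : ∃ z : G, z = (g ^ (Cfsg.pPrimePCore p G).index) ^ p ^ k := ⟨_, rfl⟩
      rw [← hz]
      rw [← hz] at hgK
      have hzN : z ∈ Subgroup.normalizer (Q : Set G) := by
        rw [hz]
        exact Subgroup.pow_mem _ (Subgroup.pow_mem _ hg _) _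
      have h1 : z * q * z⁻¹ ∈ Q := (Subgroup.mem_normalizer_iff.mp hzN q).mp hq
      have h2 : z * q * z⁻¹ * q⁻¹ ∈ Q := Q.mul_mem h1 (Q.inv_mem hq)
      have h3 : z * q * z⁻¹ * q⁻¹ ∈ Cfsg.pPrimeCore p G := by
        have h4 : q * z⁻¹ * q⁻¹ ∈ Cfsg.pPrimeCore p G :=
          (Cfsg.pPrimeCore_normal p G).conj_mem _ ((Cfsg.pPrimeCore p G).inv_mem hgK) q
        have h5 : z * q * z⁻¹ * q⁻¹ = z * (q * z⁻¹ * q⁻¹) := by group
        rw [h5]
        exact (Cfsg.pPrimeCore p G).mul_mem hgK h4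
      have h6 : z * q * z⁻¹ * q⁻¹ = 1 :=
        triv_of_mem hQp (Cfsg.Agent.Helper9.pPrimeCore_coprime p) h2 h3
      have h7 : z * q = (z * q * z⁻¹ * q⁻¹) * (q * z) := by group
      rw [h7, h6, one_mul]
    have hαpow : (Q.normalizerMonoidHom ⟨g, hg⟩) ^ ((Cfsg.pPrimePCore p G).index * p ^ k) = 1 := by
      rw [← map_pow]
      have h3 : (⟨g, hg⟩ : ↥(Subgroup.normalizer (Q : Set G))) ^
          ((Cfsg.pPrimePCore p G).index * p ^ k) ∈ (Q.normalizerMonoidHom).ker := by
        rw [Subgroup.normalizerMonoidHom_ker, Subgroup.mem_subgroupOf,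
          Subgroup.mem_centralizer_iff]
        intro q hq
        have h4 := hcent q hq
        simp only [Subgroup.coe_pow]
        rw [pow_mul]
        exact h4.symm
      exact MonoidHom.mem_ker.mp h3
    have hdvd : orderOf (Q.normalizerMonoidHom ⟨g, hg⟩) ∣
        (Cfsg.pPrimePCore p G).index * p ^ k := orderOf_dvd_of_pow_eq_one hαpow
    have hrm : r ∣ (Cfsg.pPrimePCore p G).index := by
      rcases (Nat.Prime.dvd_mul hr).mp (dvd_trans hrα hdvd) with h | h
      · exact h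
      · exact absurd ((Nat.prime_dvd_prime_iff_eq hr hp).mp (hr.dvd_of_dvd_pow h)) hrp
    rw [← Subgroup.index_eq_card] at hcop
    have h1 : r = 1 := Nat.eq_one_of_dvd_coprimes hcop hrm hr2
    exact hr.one_lt.ne' h1

end Cfsg.Agent.S4419
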