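import Mathlib
import Cfsg.Statements.S0640
import Cfsg.Agent.Helper24.Critical
import Cfsg.Agent.Helper1.Basic2
import Cfsg.Agent.S4419

set_option autoImplicit false
open Cfsg

namespace Cfsg.Agent.S0640

open scoped commutatorElement

theorem pow_mul_comm_of_central {G : Type*} [Group G] (x y c : G) (hc : y * x = c * x * y)
    (hcy : c * y = y * c) (n : ℕ) : y ^ n * x = c ^ n * x * y ^ n := by
  induction n with
  | zero => simp
  | succ n ih =>
    have hcyn : c * y ^ n = y ^ n * c := ((show Commute c y from hcy).pow_right n).eq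
    calc y ^ (n + 1) * x = y ^ n * (y * x) := by rw [pow_succ, mul_assoc]
      _ = y ^ n * (c * x * y) := by rw [hc]
      _ = (y ^ n * c) * x * y := by simp only [mul_assoc]
      _ = (c * y ^ n) * x * y := by rw [hcyn]
      _ = c * (y ^ n * x) * y := by simp only [mul_assoc]
      _ = c * (c ^ n * x * y ^ n) * y := by rw [ih]
      _ = c ^ (n + 1) * x * y ^ (n + 1) := by
        rw [pow_succ' c n, pow_succ y n]; simp only [mul_assoc]

theorem mul_pow_class_two {G : Type*} [Group G] (x y c : G) (hc : y * x = c * x * y)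
    (hcx : c * x = x * c) (hcy : c * y = y * c) (n : ℕ) :
    (x * y) ^ n = x ^ n * y ^ n * c ^ (∑ i ∈ Finset.range n, i) := by
  induction n with
  | zero => simp
  | succ n ih =>
    have h1 : Commute c x := hcx
    have h2 : Commute c y := hcy
    rw [Finset.sum_range_succ, pow_succ (x * y) n, ih]
    generalize (∑ i ∈ Finset.range n, i) = S
    have e1 : c ^ S * x = x * c ^ S := (h1.pow_left S).eq
    have e2 : y ^ n * x = c ^ n * x * y ^ n := pow_mul_comm_of_central x y c hc hcy n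
    have e3 : c ^ n * x = x * c ^ n := (h1.pow_left n).eq
    have e4 : c ^ n * y ^ n = y ^ n * c ^ n := ((h2.pow_left n).pow_right n).eq
    have e5 : c ^ S * y = y * c ^ S := (h2.pow_left S).eq
    have e6 : c ^ n * y = y * c ^ n := (h2.pow_left n).eq
    calc x ^ n * y ^ n * c ^ S * (x * y)
        = x ^ n * y ^ n * (c ^ S * x) * y := by simp only [mul_assoc]
      _ = x ^ n * (y ^ n * x) * c ^ S * y := by rw [e1]; simp only [mul_assoc]
      _ = x ^ n * (c ^ n * x) * y ^ n * c ^ S * y := by rw [e2]; simp only [mul_assoc]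
      _ = x ^ n * x * (c ^ n * y ^ n) * c ^ S * y := by rw [e3]; simp only [mul_assoc]
      _ = x ^ n * x * y ^ n * c ^ n * (c ^ S * y) := by rw [e4]; simp only [mul_assoc]
      _ = x ^ n * x * y ^ n * (c ^ n * y) * c ^ S := by rw [e5]; simp only [mul_assoc]
      _ = x ^ (n + 1) * y ^ (n + 1) * c ^ (S + n) := by
        rw [e6, pow_succ x n, pow_succ y n, add_comm S n, pow_add]
        simp only [mul_assoc]

theorem mul_pow_p {G : Type*} [Group G] (p : ℕ) (hp : p.Prime) (hp2 : p ≠ 2) (x y c : G)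
    (hc : y * x = c * x * y) (hcx : c * x = x * c) (hcy : c * y = y * c)
    (hyp : y ^ p * x = x * y ^ p) : (x * y) ^ p = x ^ p * y ^ p := by
  have hcp : c ^ p = 1 := by
    have h1 := pow_mul_comm_of_central x y c hc hcy p
    rw [hyp, mul_assoc] at h1
    have h2 : c ^ p * (x * y ^ p) = 1 * (x * y ^ p) := by rw [one_mul]; exact h1.symm
    exact mul_right_cancel h2
  rw [mul_pow_class_two x y c hc hcx hcy p]
  have h2 := Finset.sum_range_id_mul_two p
  have hdvd : p ∣ ∑ i ∈ Finset.range p, i := by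
    have h3 : p ∣ (∑ i ∈ Finset.range p, i) * 2 := by rw [h2]; exact dvd_mul_right _ _
    have hcop : Nat.Coprime p 2 := (Nat.coprime_primes hp Nat.prime_two).mpr hp2
    exact hcop.dvd_of_dvd_mul_right h3
  obtain ⟨k, hk⟩ := hdvd
  rw [hk, pow_mul, hcp, one_pow, mul_one]

theorem aut_stab {R : Type*} [Group R] {p q : ℕ} (hcop : Nat.Coprime q p) (α : MulAut R)
    (hαq : α ^ q = 1) (x t : R) (hx : α x = x * t) (ht : α t = t) (j : ℕ)
    (htp : t ^ (p ^ j) = 1) : t = 1 := by
  have hk : ∀ k : ℕ, (α ^ k) x = x * t ^ k := by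
    intro k
    induction k with
    | zero => simp
    | succ k ih =>
      rw [pow_succ' α k, MulAut.mul_apply, ih, map_mul, map_pow, hx, ht, pow_succ' t k, mul_assoc]
  have h1 := hk q
  rw [hαq, MulAut.one_apply] at h1
  have h2 : t ^ q = 1 := by
    have h : x * 1 = x * t ^ q := by rw [mul_one]; exact h1
    exact (mul_left_cancel h).symm
  have h3 : orderOf t ∣ q := orderOf_dvd_of_pow_eq_one h2
  have h4 : orderOf t ∣ p ^ j := orderOf_dvd_of_pow_eq_one htp
  have h5 : Nat.Coprime q (p ^ j) := Nat.Coprime.pow_right j hcop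
  have h6 : orderOf t ∣ 1 := by
    have h := Nat.dvd_gcd h3 h4
    rwa [h5.gcd_eq_one] at h
  exact orderOf_eq_one_iff.mp (Nat.dvd_one.mp h6)

/-- The elements of order dividing `p` in `H`, when `p`-th powers are multiplicative. -/
def omegaSub {R : Type*} [Group R] (H : Subgroup R) (p : ℕ)
    (hmul : ∀ a ∈ H, ∀ b ∈ H, (a * b) ^ p = a ^ p * b ^ p) : Subgroup R where
  carrier := {x | x ∈ H ∧ x ^ p = 1}
  mul_mem' := by
    intro a b ha hb
    exact ⟨H.mul_mem ha.1 hb.1, by rw [hmul a ha.1 b hb.1, ha.2, hb.2, one_mul]⟩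
  one_mem' := ⟨H.one_mem, one_pow p⟩
  inv_mem' := by
    intro a ha
    exact ⟨H.inv_mem ha.1, by rw [inv_pow, ha.2, inv_one]⟩

/-- Restriction of automorphisms to a subgroup stable under all of them. -/
def restrictAut {R : Type*} [Group R] (E : Subgroup R)
    (hE : ∀ φ : MulAut R, ∀ x ∈ E, φ x ∈ E) : MulAut R →* MulAut ↥E where
  toFun φ :=
    { toFun := fun x => ⟨φ x.1, hE φ x.1 x.2⟩
      invFun := fun x => ⟨φ.symm x.1, hE φ.symm x.1 x.2⟩
      left_inv := fun x => Subtype.ext (φ.symm_apply_apply x.1)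
      right_inv := fun x => Subtype.ext (φ.apply_symm_apply x.1)
      map_mul' := fun x y => Subtype.ext (map_mul φ x.1 y.1) }
  map_one' := by
    ext x
    rfl
  map_mul' := by
    intro φ ψ
    ext x
    rfl

theorem card_mul_le_of_lt {R : Type*} [Group R] [Finite R] {p : ℕ} [Fact p.Prime]
    (hR : IsPGroup p R) (A B : Subgroup R) (hAB : A ≤ B) (x : R) (hxB : x ∈ B) (hxA : x ∉ A) :
    p * Nat.card A ≤ Nat.card B := by
  have hp : p.Prime := Fact.out
  obtain ⟨a, ha⟩ := (hR.to_subgroup A).exists_card_eq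
  obtain ⟨b, hb⟩ := (hR.to_subgroup B).exists_card_eq
  have hdvd : Nat.card A ∣ Nat.card B := Subgroup.card_dvd_of_le hAB
  rw [ha, hb] at hdvd
  rw [ha, hb]
  have hab : a ≤ b := (Nat.pow_dvd_pow_iff_le_right hp.one_lt).mp hdvd
  rcases Nat.lt_or_ge a b with h | h
  · calc p * p ^ a = p ^ (a + 1) := by rw [pow_succ, mul_comm]
      _ ≤ p ^ b := Nat.pow_le_pow_right hp.pos h
  · exfalso
    have hcard : Nat.card B ≤ Nat.card A := by
      rw [ha, hb]
      exact Nat.pow_le_pow_right hp.pos h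
    have hAeq : A = B := Subgroup.eq_of_le_of_card_ge hAB hcard
    exact hxA (hAeq ▸ hxB)

theorem exists_cen {R : Type*} [Group R] (B : Subgroup R) :
    ∃ Z : Subgroup R, ∀ g, g ∈ Z ↔ g ∈ B ∧ ∀ h ∈ B, h * g = g * h :=
  ⟨B ⊓ Subgroup.centralizer (B : Set R), fun g => Iff.rfl⟩

theorem exists_cen_elt {R : Type*} [Group R] (B : Subgroup R) (x : R) :
    ∃ C : Subgroup R, ∀ g, g ∈ C ↔ g ∈ B ∧ x * g = g * x :=
  ⟨B ⊓ Subgroup.centralizer ({x} : Set R), fun g => by
    rw [Subgroup.mem_inf, Subgroup.mem_centralizer_iff]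
    constructor
    · intro h
      exact ⟨h.1, h.2 x (Set.mem_singleton x)⟩
    · intro h
      refine ⟨h.1, ?_⟩
      intro k hk
      rw [Set.mem_singleton_iff.mp hk]
      exact h.2⟩

theorem two_gen_of_rank {R : Type*} [Group R] [Finite R] {p : ℕ} [Fact p.Prime]
    (hR : IsPGroup p R) (E : Subgroup R) (hexp : ∀ a ∈ E, a ^ p = 1)
    (hrk : ∀ A : Subgroup R, A ≤ E → (∀ a ∈ A, ∀ b ∈ A, a * b = b * a) → Nat.card A ≤ p ^ 2)
    (hcl : ∀ a ∈ E, ∀ b ∈ E, ∀ h ∈ E, h * (a * b * a⁻¹ * b⁻¹) = (a * b * a⁻¹ * b⁻¹) * h) :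
    ∃ x ∈ E, ∃ y ∈ E, Subgroup.closure ({x, y} : Set R) = E := by
  have hp : p.Prime := Fact.out
  by_cases hab : ∀ a ∈ E, ∀ b ∈ E, a * b = b * a
  · -- abelian case
    have hEcard : Nat.card E ≤ p ^ 2 := hrk E le_rfl hab
    by_cases hbot : E = ⊥
    · refine ⟨1, E.one_mem, 1, E.one_mem, ?_⟩
      rw [hbot, Set.pair_eq_singleton, Subgroup.closure_singleton_one]
    · obtain ⟨x, hxE, hx1⟩ : ∃ x ∈ E, x ≠ 1 := by
        by_contra hcon
        apply hbot
        rw [eq_bot_iff]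
        intro g hg
        by_contra hg1
        exact hcon ⟨g, hg, fun h => hg1 (Subgroup.mem_bot.mpr h)⟩
      have hxord : orderOf x = p := orderOf_eq_prime (hexp x hxE) hx1
      have hzx : Subgroup.zpowers x ≤ E := (Subgroup.zpowers_le).mpr hxE
      have hzcard : Nat.card (Subgroup.zpowers x) = p := by rw [Nat.card_zpowers, hxord]
      by_cases hzE : Subgroup.zpowers x = E
      · refine ⟨x, hxE, x, hxE, ?_⟩
        rw [Set.pair_eq_singleton, ← Subgroup.zpowers_eq_closure]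
        exact hzE
      · obtain ⟨y, hyE, hyz⟩ : ∃ y ∈ E, y ∉ Subgroup.zpowers x := by
          by_contra hcon
          apply hzE
          apply le_antisymm hzx
          intro g hg
          by_contra hgz
          exact hcon ⟨g, hg, hgz⟩
        refine ⟨x, hxE, y, hyE, ?_⟩
        have hDE : Subgroup.closure ({x, y} : Set R) ≤ E := by
          rw [Subgroup.closure_le]
          intro g hg
          rcases hg with rfl | rfl
          · exact hxE
          · exact hyE
        have hzD : Subgroup.zpowers x ≤ Subgroup.closure ({x, y} : Set R) := by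
          rw [Subgroup.zpowers_le]
          exact Subgroup.subset_closure (Set.mem_insert _ _)
        have hyD : y ∈ Subgroup.closure ({x, y} : Set R) :=
          Subgroup.subset_closure (Set.mem_insert_of_mem _ rfl)
        have h1 := card_mul_le_of_lt hR _ _ hzD y hyD hyz
        rw [hzcard] at h1
        apply Subgroup.eq_of_le_of_card_ge hDE
        calc Nat.card E ≤ p ^ 2 := hEcard
          _ = p * p := sq p
          _ ≤ _ := h1
  · -- nonabelian case
    obtain ⟨x, hxE, y, hyE, hxy⟩ : ∃ x ∈ E, ∃ y ∈ E, y * x ≠ x * y := by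
      by_contra hcon
      apply hab
      intro a ha b hb
      by_contra h
      exact hcon ⟨b, hb, a, ha, h⟩
    refine ⟨x, hxE, y, hyE, ?_⟩
    obtain ⟨c, hcdef⟩ : ∃ c : R, c = y * x * y⁻¹ * x⁻¹ := ⟨_, rfl⟩
    have hcE : c ∈ E := by
      rw [hcdef]
      exact E.mul_mem (E.mul_mem (E.mul_mem hyE hxE) (E.inv_mem hyE)) (E.inv_mem hxE)
    have hccen : ∀ h ∈ E, h * c = c * h := by
      intro h hh
      rw [hcdef]
      exact hcl y hyE x hxE h hh
    have hc1 : c ≠ 1 := by
      intro h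
      rw [hcdef, mul_inv_eq_one, mul_inv_eq_iff_eq_mul] at h
      exact hxy h
    have hyx : y * x = c * x * y := by
      rw [hcdef]; group
    have hcp : c ^ p = 1 := hexp c hcE
    obtain ⟨Z, hZmem⟩ := exists_cen E
    obtain ⟨C, hCmem⟩ := exists_cen_elt E x
    obtain ⟨ZC, hZCmem⟩ := exists_cen C
    have hZE : Z ≤ E := fun g hg => ((hZmem g).mp hg).1
    have hCE : C ≤ E := fun g hg => ((hCmem g).mp hg).1
    have hZCC : ZC ≤ C := fun g hg => ((hZCmem g).mp hg).1
    have hZCab : ∀ a ∈ ZC, ∀ b ∈ ZC, a * b = b * a := fun a ha b hb =>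
      (((hZCmem a).mp ha).2 b (hZCC hb)).symm
    have hcZ : c ∈ Z := (hZmem c).mpr ⟨hcE, hccen⟩
    have hZC : Z ≤ C := fun g hg => (hCmem g).mpr ⟨hZE hg, ((hZmem g).mp hg).2 x hxE⟩
    have hxC : x ∈ C := (hCmem x).mpr ⟨hxE, rfl⟩
    have hZZC : Z ≤ ZC := fun g hg =>
      (hZCmem g).mpr ⟨hZC hg, fun h hh => ((hZmem g).mp hg).2 h (hCE hh)⟩
    have hxZC : x ∈ ZC := (hZCmem x).mpr ⟨hxC, fun h hh => (((hCmem h).mp hh).2).symm⟩
    have hxZ : x ∉ Z := fun hx => hxy (((hZmem x).mp hx).2 y hyE)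
    have hcbot : c ∉ (⊥ : Subgroup R) := fun h => hc1 (Subgroup.mem_bot.mp h)
    have k1 : p * Nat.card (⊥ : Subgroup R) ≤ Nat.card Z :=
      card_mul_le_of_lt hR ⊥ Z bot_le c hcZ hcbot
    rw [Subgroup.card_bot, mul_one] at k1
    have k2 : p * Nat.card Z ≤ Nat.card ZC := card_mul_le_of_lt hR Z ZC hZZC x hxZC hxZ
    have k3 : Nat.card ZC ≤ p ^ 2 := hrk ZC (hZCC.trans hCE) hZCab
    have hZcard : Nat.card Z = p := by
      have h : p * Nat.card Z ≤ p * p := by rw [← sq]; exact k2.trans k3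
      exact le_antisymm (Nat.le_of_mul_le_mul_left h hp.pos) k1
    have hcord : orderOf c = p := orderOf_eq_prime hcp hc1
    have hzc : Subgroup.zpowers c = Z := by
      apply Subgroup.eq_of_le_of_card_ge ((Subgroup.zpowers_le).mpr hcZ)
      exact le_of_eq (by rw [Nat.card_zpowers, hcord, hZcard])
    have hCab : ∀ a ∈ C, ∀ b ∈ C, a * b = b * a := by
      by_contra hcon
      obtain ⟨y1, hy1, y2, hy2, h12⟩ : ∃ y1 ∈ C, ∃ y2 ∈ C, y1 * y2 ≠ y2 * y1 := by
        by_contra hcon2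
        apply hcon
        intro a ha b hb
        by_contra h
        exact hcon2 ⟨a, ha, b, hb, h⟩
      obtain ⟨C', hC'mem⟩ := exists_cen_elt C y1
      obtain ⟨ZC', hZC'mem⟩ := exists_cen C'
      have hC'C : C' ≤ C := fun g hg => ((hC'mem g).mp hg).1
      have hZC'C' : ZC' ≤ C' := fun g hg => ((hZC'mem g).mp hg).1
      have hZC'ab : ∀ a ∈ ZC', ∀ b ∈ ZC', a * b = b * a := fun a ha b hb =>
        (((hZC'mem a).mp ha).2 b (hZC'C' hb)).symm
      have hsub : ZC ≤ ZC' := by
        intro g hg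
        have hg' := (hZCmem g).mp hg
        exact (hZC'mem g).mpr ⟨(hC'mem g).mpr ⟨hg'.1, hg'.2 y1 hy1⟩,
          fun h hh => hg'.2 h (hC'C hh)⟩
      have hy1ZC' : y1 ∈ ZC' :=
        (hZC'mem y1).mpr ⟨(hC'mem y1).mpr ⟨hy1, rfl⟩, fun h hh => (((hC'mem h).mp hh).2).symm⟩
      have hy1ZC : y1 ∉ ZC := fun h => h12 (((hZCmem y1).mp h).2 y2 hy2).symm
      have k4 : p * Nat.card ZC ≤ Nat.card ZC' :=
        card_mul_le_of_lt hR ZC ZC' hsub y1 hy1ZC' hy1ZC
      have k5 : Nat.card ZC' ≤ p ^ 2 := hrk ZC' ((hZC'C'.trans hC'C).trans hCE) hZC'ab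
      have k6 : p * (p * Nat.card Z) ≤ p ^ 2 := (Nat.mul_le_mul_left p k2).trans (k4.trans k5)
      rw [hZcard, sq] at k6
      have k7 : p * (p * p) ≤ 1 * (p * p) := by rw [one_mul]; exact k6
      have k8 := Nat.le_of_mul_le_mul_right k7 (Nat.mul_pos hp.pos hp.pos)
      have k9 := hp.two_le
      omega
    have k7 : Nat.card C ≤ p ^ 2 := hrk C hCE hCab
    have hDE : Subgroup.closure ({x, y} : Set R) ≤ E := by
      rw [Subgroup.closure_le]
      intro g hg
      rcases hg with rfl | rfl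
      · exact hxE
      · exact hyE
    have hxD : x ∈ Subgroup.closure ({x, y} : Set R) :=
      Subgroup.subset_closure (Set.mem_insert _ _)
    have hyD : y ∈ Subgroup.closure ({x, y} : Set R) :=
      Subgroup.subset_closure (Set.mem_insert_of_mem _ rfl)
    have hcD : c ∈ Subgroup.closure ({x, y} : Set R) := by
      rw [hcdef]
      exact Subgroup.mul_mem _ (Subgroup.mul_mem _ (Subgroup.mul_mem _ hyD hxD)
        (Subgroup.inv_mem _ hyD)) (Subgroup.inv_mem _ hxD)
    have hCD : C ≤ Subgroup.closure ({x, y} : Set R) := by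
      have hZD0 : Z ≤ Subgroup.closure ({x, y} : Set R) ⊓ C := by
        rw [← hzc, Subgroup.zpowers_le]
        exact Subgroup.mem_inf.mpr ⟨hcD, hZC hcZ⟩
      have k8 := card_mul_le_of_lt hR Z (Subgroup.closure ({x, y} : Set R) ⊓ C) hZD0 x
        (Subgroup.mem_inf.mpr ⟨hxD, hxC⟩) hxZ
      rw [hZcard] at k8
      have hDC : Subgroup.closure ({x, y} : Set R) ⊓ C = C := by
        apply Subgroup.eq_of_le_of_card_ge inf_le_right
        calc Nat.card C ≤ p ^ 2 := k7
          _ = p * p := sq p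
          _ ≤ _ := k8
      intro g hg
      have hg2 : g ∈ Subgroup.closure ({x, y} : Set R) ⊓ C := by rw [hDC]; exact hg
      exact (Subgroup.mem_inf.mp hg2).1
    apply le_antisymm hDE
    intro g hgE
    obtain ⟨w, hwdef⟩ : ∃ w : R, w = g * x * g⁻¹ * x⁻¹ := ⟨_, rfl⟩
    have hwE : w ∈ E := by
      rw [hwdef]
      exact E.mul_mem (E.mul_mem (E.mul_mem hgE hxE) (E.inv_mem hgE)) (E.inv_mem hxE)
    have hwcen : ∀ h ∈ E, h * w = w * h := by
      intro h hh
      rw [hwdef]
      exact hcl g hgE x hxE h hh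
    have hwZ : w ∈ Z := (hZmem w).mpr ⟨hwE, hwcen⟩
    have hwz : w ∈ Subgroup.zpowers c := by rw [hzc]; exact hwZ
    obtain ⟨n, hn⟩ := (Submonoid.mem_powers_iff w c).mp (mem_powers_iff_mem_zpowers.mpr hwz)
    have hgx : g * x = w * x * g := by rw [hwdef]; group
    obtain ⟨m, hm⟩ : ∃ m : ℕ, m = n * (p - 1) := ⟨_, rfl⟩
    have hwc : w * c ^ m = 1 := by
      rw [← hn, ← pow_add, hm]
      have h1 : p - 1 + 1 = p := Nat.sub_add_cancel hp.pos
      have h2 : n + n * (p - 1) = p * n := by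
        calc n + n * (p - 1) = n * (p - 1 + 1) := by ring
          _ = p * n := by rw [h1, mul_comm]
      rw [h2, pow_mul, hcp, one_pow]
    have hkey : y ^ m * g ∈ C := by
      refine (hCmem _).mpr ⟨E.mul_mem (E.pow_mem hyE m) hgE, ?_⟩
      have e1 : y ^ m * x = c ^ m * x * y ^ m :=
        pow_mul_comm_of_central x y c hyx (hccen y hyE).symm m
      have e2 : y ^ m * w = w * y ^ m := hwcen _ (E.pow_mem hyE m)
      symm
      calc y ^ m * g * x = y ^ m * (g * x) := mul_assoc _ _ _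
        _ = y ^ m * (w * x * g) := by rw [hgx]
        _ = (y ^ m * w) * x * g := by simp only [mul_assoc]
        _ = w * (y ^ m * x) * g := by rw [e2]; simp only [mul_assoc]
        _ = (w * c ^ m) * x * y ^ m * g := by rw [e1]; simp only [mul_assoc]
        _ = x * (y ^ m * g) := by rw [hwc, one_mul, mul_assoc]
    have h1 : y ^ m * g ∈ Subgroup.closure ({x, y} : Set R) := hCD hkey
    have h2 : y ^ m ∈ Subgroup.closure ({x, y} : Set R) := Subgroup.pow_mem _ hyD m
    have h3 := Subgroup.mul_mem _ (Subgroup.inv_mem _ h2) h1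
    rwa [inv_mul_cancel_left] at h3

theorem main_dvd {R : Type*} [Group R] [Finite R] {p : ℕ} [Fact p.Prime] (hp2 : p ≠ 2)
    (hR : IsPGroup p R) (hrk : Cfsg.PRankLE p 2 R) (q : ℕ) [Fact q.Prime] (hqp : q ≠ p)
    (hdvd : q ∣ Nat.card (MulAut R)) : q ∣ p ^ 2 - 1 := by
  classical
  have hp : p.Prime := Fact.out
  have hq : q.Prime := Fact.out
  have hcop : Nat.Coprime q p := (Nat.coprime_primes hq hp).mpr hqp
  obtain ⟨α, hα⟩ := exists_prime_orderOf_dvd_card' q hdvd
  have hαq : α ^ q = 1 := by rw [← hα]; exact pow_orderOf_eq_one α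
  have hα1 : α ≠ 1 := by
    intro h
    rw [h, orderOf_one] at hα
    exact hq.one_lt.ne hα
  obtain ⟨H, hHch, hΦ, hHR, hCH⟩ := Cfsg.Agent.Helper24.exists_critical_subgroup hR
  haveI := hHch
  have hHnormal : H.Normal := inferInstance
  have hHfix : ∀ φ : MulAut R, ∀ x ∈ H, φ x ∈ H := by
    intro φ x hx
    have h1 := (Subgroup.characteristic_iff_le_comap.mp hHch) φ
    exact h1 hx
  have hcomm : ∀ a ∈ H, ∀ b : R,
      a * b * a⁻¹ * b⁻¹ ∈ H ⊓ Subgroup.centralizer (H : Set R) := by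
    intro a ha b
    have h1 : ⁅a, b⁆ ∈ ⁅H, (⊤ : Subgroup R)⁆ :=
      Subgroup.commutator_mem_commutator ha (Subgroup.mem_top b)
    rw [commutatorElement_def] at h1
    exact hHR h1
  have hcen : ∀ a ∈ H, ∀ b : R, ∀ h ∈ H,
      h * (a * b * a⁻¹ * b⁻¹) = (a * b * a⁻¹ * b⁻¹) * h := by
    intro a ha b h hh
    exact (Subgroup.mem_centralizer_iff.mp (Subgroup.mem_inf.mp (hcomm a ha b)).2) h hh
  have hpowc : ∀ y ∈ H, ∀ h ∈ H, h * y ^ p = y ^ p * h := by
    intro y hy h hh
    have h1 : (⟨y, hy⟩ : H) ^ p ∈ frattini H := by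
      rw [Cfsg.Agent.Helper1.mem_frattini_iff]
      intro M hM
      exact (Cfsg.Agent.Helper1.coatom_pgroup p (hR.to_subgroup H) M hM).2.2 _
    have h2 : y ^ p ∈ (frattini H).map H.subtype := by
      refine Subgroup.mem_map.mpr ⟨_, h1, ?_⟩
      simp
    exact (Subgroup.mem_centralizer_iff.mp (hΦ h2)) h hh
  have hmulpow : ∀ a ∈ H, ∀ b ∈ H, (a * b) ^ p = a ^ p * b ^ p := by
    intro a ha b hb
    obtain ⟨c, hcdef⟩ : ∃ c : R, c = b * a * b⁻¹ * a⁻¹ := ⟨_, rfl⟩
    have hc : b * a = c * a * b := by rw [hcdef]; group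
    have hcc : ∀ h ∈ H, h * c = c * h := by
      intro h hh
      rw [hcdef]
      exact hcen b hb a h hh
    exact mul_pow_p p hp hp2 a b c hc (hcc a ha).symm (hcc b hb).symm (hpowc b hb a ha).symm
  -- α acts nontrivially on H
  have hαH : ∃ x ∈ H, α x ≠ x := by
    by_contra hcon
    have hfix : ∀ x ∈ H, α x = x := by
      intro x hx
      by_contra h
      exact hcon ⟨x, hx, h⟩
    apply hα1
    ext g
    rw [MulAut.one_apply]
    obtain ⟨t, htdef⟩ : ∃ t : R, t = g⁻¹ * α g := ⟨_, rfl⟩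
    have hgt : α g = g * t := by rw [htdef, mul_inv_cancel_left]
    have htC : t ∈ Subgroup.centralizer (H : Set R) := by
      rw [Subgroup.mem_centralizer_iff]
      intro h hh
      have h1 : g * h * g⁻¹ ∈ H := hHnormal.conj_mem h hh g
      have h2 := hfix _ h1
      rw [map_mul, map_mul, map_inv, hgt, hfix h hh] at h2
      have h3 : g * (t * h) = g * (h * t) := by
        calc g * (t * h) = g * t * h * (g * t)⁻¹ * (g * t) := by group
          _ = g * h * g⁻¹ * (g * t) := by rw [h2]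
          _ = g * (h * t) := by group
      exact (mul_left_cancel h3).symm
    have htH : t ∈ H := hCH htC
    obtain ⟨j, hj⟩ := hR t
    have ht1 : t = 1 := aut_stab hcop α hαq g t hgt (hfix t htH) j hj
    rw [hgt, ht1, mul_one]
  obtain ⟨E, hEmem⟩ : ∃ E : Subgroup R, ∀ x, x ∈ E ↔ x ∈ H ∧ x ^ p = 1 :=
    ⟨omegaSub H p hmulpow, fun x => Iff.rfl⟩
  have hEH : E ≤ H := fun x hx => ((hEmem x).mp hx).1
  have hEexp : ∀ a ∈ E, a ^ p = 1 := fun a ha => ((hEmem a).mp ha).2
  have hEfix : ∀ φ : MulAut R, ∀ x ∈ E, φ x ∈ E := by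
    intro φ x hx
    have hx' := (hEmem x).mp hx
    refine (hEmem _).mpr ⟨hHfix φ x hx'.1, ?_⟩
    rw [← map_pow, hx'.2, map_one]
  -- α acts nontrivially on E
  have hαE : ∃ x ∈ E, α x ≠ x := by
    by_contra hcon
    have hfix : ∀ x ∈ E, α x = x := by
      intro x hx
      by_contra h
      exact hcon ⟨x, hx, h⟩
    have hall : ∀ j : ℕ, ∀ x ∈ H, x ^ (p ^ j) = 1 → α x = x := by
      intro j
      induction j with
      | zero =>
        intro x _ hx
        rw [pow_zero, pow_one] at hx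
        rw [hx, map_one]
      | succ j ih =>
        intro x hxH hx
        have hxp : α (x ^ p) = x ^ p := by
          apply ih (x ^ p) (H.pow_mem hxH p)
          rw [← pow_mul, ← pow_succ']
          exact hx
        obtain ⟨t, htdef⟩ : ∃ t : R, t = x⁻¹ * α x := ⟨_, rfl⟩
        have hxt : α x = x * t := by rw [htdef, mul_inv_cancel_left]
        have htH : t ∈ H := by
          rw [htdef]
          exact H.mul_mem (H.inv_mem hxH) (hHfix α x hxH)
        have htp : t ^ p = 1 := by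
          rw [htdef, hmulpow _ (H.inv_mem hxH) _ (hHfix α x hxH), inv_pow, ← map_pow, hxp,
            inv_mul_cancel]
        have htE : t ∈ E := (hEmem t).mpr ⟨htH, htp⟩
        have ht1 : t = 1 :=
          aut_stab hcop α hαq x t hxt (hfix t htE) 1 (by rw [pow_one]; exact htp)
        rw [hxt, ht1, mul_one]
    obtain ⟨x, hxH, hx⟩ := hαH
    obtain ⟨j, hj⟩ := hR x
    exact hx (hall j x hxH hj)
  have hrkE : ∀ A : Subgroup R, A ≤ E → (∀ a ∈ A, ∀ b ∈ A, a * b = b * a) →
      Nat.card A ≤ p ^ 2 := by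
    intro A hAE hAab
    apply hrk A
    · exact ⟨⟨fun a b => Subtype.ext (hAab a.1 a.2 b.1 b.2)⟩⟩
    · intro a ha
      exact hEexp a (hAE ha)
  obtain ⟨x, hxE, y, hyE, hgen⟩ := two_gen_of_rank hR E hEexp hrkE
    (fun a ha b _ h hh => hcen a (hEH ha) b h (hEH hh))
  have hgen' : Subgroup.closure ({⟨x, hxE⟩, ⟨y, hyE⟩} : Set ↥E) = ⊤ := by
    apply Subgroup.map_injective E.subtype_injective
    rw [MonoidHom.map_closure, Set.image_pair, ← MonoidHom.range_eq_map, Subgroup.range_subtype]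
    exact hgen
  have hβq : (restrictAut E hEfix α) ^ q = 1 := by rw [← map_pow, hαq, map_one]
  have hβ1 : restrictAut E hEfix α ≠ 1 := by
    intro h
    obtain ⟨z, hzE, hz⟩ := hαE
    have h1 : (restrictAut E hEfix α) ⟨z, hzE⟩ = (1 : MulAut ↥E) ⟨z, hzE⟩ := by rw [h]
    apply hz
    exact congrArg Subtype.val h1
  exact Cfsg.Agent.S4419.core p (hR.to_subgroup E) ⟨x, hxE⟩ ⟨y, hyE⟩ hgen'
    (restrictAut E hEfix α) q hqp hβq hβ1

theorem lt_of_dvd_sq_sub_one (p q : ℕ) (hp : p.Prime) (hp2 : p ≠ 2) (hq : q.Prime)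
    (h : q ∣ p ^ 2 - 1) : q < p := by
  obtain ⟨k, rfl⟩ : ∃ k, p = k + 1 := ⟨p - 1, by have := hp.one_lt; omega⟩
  have e : (k + 1) ^ 2 - 1 = k * (k + 2) := by
    have e1 : (k + 1) ^ 2 = k * (k + 2) + 1 := by ring
    rw [e1, Nat.add_sub_cancel]
  rw [e] at h
  have hk2 := hp.two_le
  rcases (Nat.Prime.dvd_mul hq).mp h with h1 | h1
  · have hk : 0 < k := by omega
    have h2 := Nat.le_of_dvd hk h1
    omega
  · rcases hp.eq_two_or_odd with h2 | h2
    · exact absurd h2 hp2
    · obtain ⟨m, hm⟩ : ∃ m, k + 2 = 2 * m := ⟨(k + 2) / 2, by omega⟩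
      rw [hm] at h1
      rcases (Nat.Prime.dvd_mul hq).mp h1 with h3 | h3
      · have hq2 : q = 2 := (Nat.prime_dvd_prime_iff_eq hq Nat.prime_two).mp h3
        omega
      · have hm0 : 0 < m := by omega
        have h4 := Nat.le_of_dvd hm0 h3
        omega

/-- For odd p, a prime q ≠ p dividing the order of the automorphism group of a p-group of rank at most 2 divides p² - 1 and is less than p. -/
theorem result {R : Type*} [Group R] [Finite R] {p : ℕ} [Fact p.Prime] (hp : p ≠ 2) (hR : IsPGroup p R) (hrk : Cfsg.PRankLE p 2 R) (q : ℕ) (hq : q.Prime) (hqp : q ≠ p) (hdvd : q ∣ Nat.card (MulAut R)) : q ∣ p ^ 2 - 1 ∧ q < p := by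
  haveI : Fact q.Prime := ⟨hq⟩
  have h1 : q ∣ p ^ 2 - 1 := main_dvd hp hR hrk q hqp hdvd
  exact ⟨h1, lt_of_dvd_sq_sub_one p q Fact.out hp hq h1⟩

end Cfsg.Agent.S0640
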