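import Cfsg.Statements.S1443
-- import your own Cfsg.Agent.* helpers here
import Cfsg.Agent.Helper24.CoprimeAut
import Cfsg.Agent.Helper17.AxB

set_option autoImplicit false
open Cfsg

namespace Cfsg.Agent.S1443

open Cfsg.Agent.Helper24 Cfsg.Agent

/-- Let G be a finite group, p an odd prime, H a p-subgroup, E an elementary abelian subgroup of H, and A a subgroup of order coprime to p normalizing H. If A centralizes every element of order p in H ∩ C_G(E), then A centralizes H. -/
theorem result {G : Type*} [Group G] [Finite G] (p : ℕ) [Fact p.Prime] (hp : p ≠ 2) (H E A : Subgroup G) (hH : IsPGroup p H) (hE : E ≤ H) (hEe : Cfsg.IsElementaryAbelian p E)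
    (hA : (A ≤ Subgroup.normalizer (H : Set G))) (hcop : (Nat.card A).Coprime p)
    (hfix : ∀ x ∈ (H ⊓ Subgroup.centralizer (E : Set G)), orderOf x = p → A ≤ Subgroup.centralizer ({x} : Set G)) :
    A ≤ Subgroup.centralizer (H : Set G) := by
  classical
  have hpp : p.Prime := Fact.out
  obtain ⟨hEc, hEp⟩ := hEe
  have hEcomm : ∀ a ∈ E, ∀ b ∈ E, a * b = b * a := by
    intro a ha b hb
    have := hEc.is_comm.comm ⟨a, ha⟩ ⟨b, hb⟩
    exact congrArg Subtype.val this
  intro a ha
  have hacop : (orderOf a).Coprime p := by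
    have h1 : orderOf a ∣ Nat.card A := by
      have := orderOf_dvd_natCard (⟨a, ha⟩ : A)
      rwa [Subgroup.orderOf_mk] at this
    exact Nat.Coprime.coprime_dvd_left h1 hcop
  have hfix' : ∀ x ∈ H ⊓ Subgroup.centralizer (E : Set G), x ^ p = 1 → a * x = x * a := by
    intro x hx hxp
    by_cases hx1 : x = 1
    · rw [hx1]
      simp
    · have hord : orderOf x = p := orderOf_eq_prime hxp hx1
      have h1 := hfix x hx hord ha
      rw [Subgroup.mem_centralizer_iff] at h1
      exact (h1 x (Set.mem_singleton x)).symm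
  have haE : ∀ b ∈ E, b * a = a * b := by
    intro b hb
    have hbK : b ∈ H ⊓ Subgroup.centralizer (E : Set G) := by
      refine Subgroup.mem_inf.mpr ⟨hE hb, ?_⟩
      rw [Subgroup.mem_centralizer_iff]
      intro e he
      exact hEcomm e he b hb
    exact (hfix' b hbK (hEp b hb)).symm
  have haH : ∀ x ∈ H, a * x * a⁻¹ ∈ H := by
    intro x hx
    exact (Subgroup.mem_normalizer_iff.mp (hA ha) x).mp hx
  obtain ⟨K, hKdef⟩ : ∃ K : Subgroup G, K = H ⊓ Subgroup.centralizer (E : Set G) := ⟨_, rfl⟩
  have haK : ∀ x ∈ K, (MulAut.conj a) x ∈ K := by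
    intro x hx
    rw [hKdef] at hx ⊢
    obtain ⟨hxH, hxC⟩ := Subgroup.mem_inf.mp hx
    refine Subgroup.mem_inf.mpr ⟨by rw [MulAut.conj_apply]; exact haH x hxH, ?_⟩
    rw [Subgroup.mem_centralizer_iff] at hxC ⊢
    intro e he
    rw [MulAut.conj_apply]
    have c1 : Commute e a := haE e he
    have c2 : Commute e x := hxC e he
    exact ((c1.mul_right c2).mul_right c1.inv_right).eq
  obtain ⟨β, hβ, hβord⟩ := exists_restrict_aut (MulAut.conj a) K haK
  have hβcop : (orderOf β).Coprime p := by
    have h1 : orderOf (MulAut.conj a) ∣ orderOf a := by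
      apply orderOf_dvd_of_pow_eq_one
      rw [← map_pow, pow_orderOf_eq_one, map_one]
    exact Nat.Coprime.coprime_dvd_left (hβord.trans h1) hacop
  have hKp : IsPGroup p K := hH.to_le (hKdef ▸ inf_le_left)
  have hβ1 : β = 1 := by
    apply coprime_aut_trivial_of_fixes_omega p hp (Nat.card K) K rfl hKp β hβcop
    intro x hx
    apply Subtype.ext
    rw [hβ, MulAut.conj_apply]
    have hx' : (x : G) ^ p = 1 := by
      have := congrArg Subtype.val hx
      simpa using this
    have h1 := hfix' (x : G) (hKdef ▸ x.2) hx'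
    rw [h1]
    group
  have hmain := Helper17.commute_of_axb (p := p) H E hH (hH.to_le hE)
    (hE.trans Subgroup.le_normalizer) a hacop haH haE ?_
  · rw [Subgroup.mem_centralizer_iff]
    intro x hx
    exact hmain x hx
  · intro y hy hyE
    have hyK : y ∈ K := by
      rw [hKdef]
      refine Subgroup.mem_inf.mpr ⟨hy, ?_⟩
      rw [Subgroup.mem_centralizer_iff]
      intro b hb
      exact hyE b hb
    have h1 : ((β ⟨y, hyK⟩ : K) : G) = y := by
      rw [hβ1]
      rfl
    rw [hβ, MulAut.conj_apply] at h1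
    calc y * a = a * y * a⁻¹ * a := by rw [h1]
      _ = a * y := by group

end Cfsg.Agent.S1443
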