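import Cfsg.Statements.S1462
import Mathlib
import Cfsg.Agent.Helper20.PLength
import Cfsg.Agent.Helper20.PLengthOne
import Cfsg.Agent.Helper4.ElemAb
import Cfsg.Agent.Helper9.Fitting
import Cfsg.Agent.Helper1.ThTrans
import Cfsg.Agent.S1443
import Cfsg.Agent.S0634

set_option autoImplicit false
open Cfsg
open Cfsg.Agent.Helper20.PLen

namespace Cfsg.Agent.S1462

theorem isPSolvable_of_pLengthLE {G : Type*} [Group G] [Finite G] (p : ℕ) [Fact p.Prime] (k : ℕ)
    (h : PLengthLE p k G) : IsPSolvable p G := by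
  refine ⟨2 * k + 1, fun i => (upperPSeries p G i.1).1, ?_, ?_, ?_, ?_, ?_⟩
  · show (upperPSeries p G ((0 : Fin (2 * k + 1 + 1)) : ℕ)).1 = ⊥
    rw [Fin.val_zero]
    rfl
  · show (upperPSeries p G ((Fin.last (2 * k + 1)) : ℕ)).1 = ⊤
    rw [Fin.val_last]
    exact h
  · intro i j hij
    exact upper_mono p (show i.1 ≤ j.1 from hij)
  · intro i
    exact upperPSeries_normal p G i.1
  · intro i
    have h1 := upper_relIndex (G := G) p i.1
    by_cases he : Even i.1
    · exact Or.inr ((stepOK_even he).mp h1)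
    · exact Or.inl ((stepOK_odd he).mp h1)

theorem core_aux {G : Type*} [Group G] [Finite G] (p : ℕ) [Fact p.Prime] (hp : p ≠ 2)
    (K U : Subgroup G) [hKn : K.Normal] [hUn : U.Normal] (hKc : (Nat.card K).Coprime p)
    (e : ℕ) (he : K.relIndex U = p ^ e) (hUi : U.index.Coprime p)
    (hHH : Subgroup.centralizer ((U.map (QuotientGroup.mk' K) : Subgroup (G ⧸ K)) : Set (G ⧸ K))
      ≤ U.map (QuotientGroup.mk' K))
    (E L : Subgroup G) (hE : Cfsg.IsElementaryAbelian p E)
    (hEmax : ∀ B : Subgroup G, Cfsg.IsElementaryAbelian p B → E ≤ B → B = E)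
    (hL : (Nat.card L).Coprime p) (hEL : E ≤ Subgroup.normalizer (L : Set G)) : L ≤ K := by
  classical
  have hpp : p.Prime := Fact.out
  have hpU : ∀ Q : Subgroup G, IsPGroup p Q → Q ≤ U := fun Q hQ =>
    isPGroup_le_of_normal_of_coprime_index U hUi Q hQ
  have hEp : IsPGroup p E := Cfsg.Agent.Helper4.isPGroup_of_isElementaryAbelian hE
  obtain ⟨S, hES⟩ := hEp.exists_le_sylow
  have hKS : K ⊓ (S : Subgroup G) = ⊥ := by
    apply Subgroup.inf_eq_bot_of_coprime
    obtain ⟨j, hj⟩ := S.2.exists_card_eq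
    rw [hj]
    exact Nat.Coprime.pow_right j hKc
  obtain ⟨π, hπ⟩ : ∃ π : G →* G ⧸ K, π = QuotientGroup.mk' K := ⟨_, rfl⟩
  have hπs : Function.Surjective π := by rw [hπ]; exact QuotientGroup.mk'_surjective K
  have hker : ∀ x : G, π x = 1 → x ∈ K := by
    intro x hx
    have h : x ∈ (QuotientGroup.mk' K).ker := by
      rw [MonoidHom.mem_ker, ← hπ]; exact hx
    rwa [QuotientGroup.ker_mk'] at h
  rw [← hπ] at hHH
  have hPb_card : Nat.card (U.map π) = p ^ e := by
    rw [hπ, card_map_mk_eq_relIndex, he]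
  have hPbp : IsPGroup p (U.map π) := IsPGroup.of_card hPb_card
  have hLbc : (Nat.card (L.map π)).Coprime p := by
    rw [hπ, card_map_mk_eq_relIndex]
    exact Nat.Coprime.coprime_dvd_left (Subgroup.relIndex_dvd_card K L) hL
  have hLP : L.map π ⊓ U.map π = ⊥ := by
    apply Subgroup.inf_eq_bot_of_coprime
    rw [hPb_card]
    exact Nat.Coprime.pow_right e hLbc
  have hEU : E ≤ U := hpU E hEp
  have hPn : (U.map π).Normal := Subgroup.Normal.map hUn π hπs
  have hPS : U.map π ≤ (S : Subgroup G).map π := by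
    have h1 := Cfsg.Agent.Helper1.normal_pgroup_le_sylow (U.map π) hPbp (Sylow.mapSurjective hπs S)
    rw [Sylow.coe_mapSurjective] at h1
    exact h1
  have hEbdd : Cfsg.IsElementaryAbelian p (E.map π) :=
    Cfsg.Agent.Helper4.isElementaryAbelian_map π hE
  have hkey : ∀ y ∈ U.map π, y ^ p = 1 → (∀ b ∈ E.map π, b * y = y * b) → y ∈ E.map π := by
    intro y hy hyp hyc
    obtain ⟨s, hsS, rfl⟩ := hPS hy
    have hsp : s ^ p = 1 := by
      have h1 : s ^ p ∈ K ⊓ (S : Subgroup G) := by
        refine Subgroup.mem_inf.mpr ⟨hker _ (by rw [map_pow]; exact hyp), Subgroup.pow_mem _ hsS p⟩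
      rw [hKS, Subgroup.mem_bot] at h1
      exact h1
    have hsc : ∀ b ∈ E, b * s = s * b := by
      intro b hb
      have h0 := hyc (π b) (Subgroup.mem_map_of_mem π hb)
      have h1 : b * s * b⁻¹ * s⁻¹ ∈ K ⊓ (S : Subgroup G) := by
        refine Subgroup.mem_inf.mpr ⟨hker _ ?_, ?_⟩
        · rw [map_mul, map_mul, map_mul, map_inv, map_inv, h0]
          group
        · exact Subgroup.mul_mem _ (Subgroup.mul_mem _ (Subgroup.mul_mem _ (hES hb) hsS)
            (Subgroup.inv_mem _ (hES hb))) (Subgroup.inv_mem _ hsS)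
      rw [hKS, Subgroup.mem_bot] at h1
      calc b * s = (b * s * b⁻¹ * s⁻¹) * (s * b) := by group
        _ = s * b := by rw [h1, one_mul]
    have hB : Cfsg.IsElementaryAbelian p (E ⊔ Subgroup.zpowers s) := by
      apply Cfsg.Agent.Helper4.isElementaryAbelian_sup hE
        (Cfsg.Agent.Helper4.isElementaryAbelian_zpowers s hsp)
      rw [Subgroup.zpowers_le, Subgroup.mem_centralizer_iff]
      intro b hb
      exact hsc b hb
    have hBE := hEmax _ hB le_sup_left
    have hsE : s ∈ E := by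
      rw [← hBE]
      exact (le_sup_right : Subgroup.zpowers s ≤ E ⊔ Subgroup.zpowers s) (Subgroup.mem_zpowers s)
    exact Subgroup.mem_map_of_mem π hsE
  have hcomm : ∀ l ∈ L, ∀ b ∈ E, π b * π l = π l * π b := by
    intro l hl b hb
    have h1 : π (l * b * l⁻¹ * b⁻¹) ∈ L.map π ⊓ U.map π := by
      refine Subgroup.mem_inf.mpr ⟨Subgroup.mem_map_of_mem π ?_, Subgroup.mem_map_of_mem π ?_⟩
      · have h2 : b * l⁻¹ * b⁻¹ ∈ L :=
          (Subgroup.mem_normalizer_iff.mp (hEL hb) l⁻¹).mp (Subgroup.inv_mem _ hl)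
        have h3 : l * b * l⁻¹ * b⁻¹ = l * (b * l⁻¹ * b⁻¹) := by group
        rw [h3]
        exact Subgroup.mul_mem _ hl h2
      · exact Subgroup.mul_mem _ (hUn.conj_mem b (hEU hb) l) (Subgroup.inv_mem _ (hEU hb))
    rw [hLP, Subgroup.mem_bot, map_mul, map_mul, map_mul, map_inv, map_inv] at h1
    calc π b * π l = (π l * π b * (π l)⁻¹ * (π b)⁻¹)⁻¹ * (π l * π b) := by group
      _ = π l * π b := by rw [h1, inv_one, one_mul]
  have hLbN : L.map π ≤ Subgroup.normalizer ((U.map π : Subgroup (G ⧸ K)) : Set (G ⧸ K)) := by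
    intro x _
    rw [Subgroup.mem_normalizer_iff]
    intro h
    constructor
    · intro hh
      exact hPn.conj_mem h hh x
    · intro hh
      have h1 := hPn.conj_mem _ hh x⁻¹
      have h2 : x⁻¹ * (x * h * x⁻¹) * x⁻¹⁻¹ = h := by group
      rw [h2] at h1
      exact h1
  have hcent : L.map π ≤ Subgroup.centralizer ((U.map π : Subgroup (G ⧸ K)) : Set (G ⧸ K)) := by
    apply Cfsg.Agent.S1443.result p hp (U.map π) (E.map π) (L.map π) hPbp (Subgroup.map_mono hEU)
      hEbdd hLbN hLbc
    intro x hx hxo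
    obtain ⟨hxP, hxC⟩ := Subgroup.mem_inf.mp hx
    rw [Subgroup.mem_centralizer_iff] at hxC
    have hxE : x ∈ E.map π :=
      hkey x hxP (by rw [← hxo]; exact pow_orderOf_eq_one x) (fun b hb => hxC b hb)
    obtain ⟨b, hb, rfl⟩ := hxE
    rintro _ ⟨l, hl, rfl⟩
    rw [Subgroup.mem_centralizer_iff]
    intro z hz
    rw [Set.mem_singleton_iff] at hz
    rw [hz]
    exact hcomm l hl b hb
  have hLb : L.map π = ⊥ := by
    rw [← le_bot_iff, ← hLP]
    exact le_inf le_rfl (hcent.trans hHH)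
  intro l hl
  apply hker
  have h1 : π l ∈ L.map π := Subgroup.mem_map_of_mem π hl
  rw [hLb, Subgroup.mem_bot] at h1
  exact h1

/-- Let G be a finite solvable group, p an odd prime with G = O_{p',p,p'}(G), E an elementary abelian p-subgroup contained in no larger elementary abelian p-subgroup of G, and L a subgroup of order coprime to p normalized by E. Then L ≤ O_{p'}(G). -/
theorem result {G : Type*} [Group G] [Finite G] [Group.IsSolvable G] (p : ℕ) [Fact p.Prime] (hp : p ≠ 2) (hpl : Cfsg.PLengthLE p 1 G) (E L : Subgroup G) (hE : Cfsg.IsElementaryAbelian p E)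
    (hEmax : ∀ B : Subgroup G, Cfsg.IsElementaryAbelian p B → E ≤ B → B = E) (hL : (Nat.card L).Coprime p) (hEL : E ≤ Subgroup.normalizer (L : Set G)) :
    L ≤ Cfsg.pPrimeCore p G := by
  classical
  have hsol : IsPSolvable p G := isPSolvable_of_pLengthLE p 1 hpl
  have hKc : (Nat.card ↥(upperPSeries p G 1).1).Coprime p := by
    have h1 := upper_relIndex (G := G) p 0
    rw [stepOK_even Even.zero, upper_zero, Subgroup.relIndex_bot_left] at h1
    exact h1
  obtain ⟨e, he⟩ : ∃ e, (upperPSeries p G 1).1.relIndex (upperPSeries p G 2).1 = p ^ e := by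
    have h1 := upper_relIndex (G := G) p 1
    rw [stepOK_odd Nat.not_even_one] at h1
    exact h1
  have hUi : (upperPSeries p G 2).1.index.Coprime p := by
    have h1 := upper_relIndex (G := G) p 2
    rw [stepOK_even even_two] at h1
    have h3 : (upperPSeries p G (2 + 1)).1 = ⊤ := hpl
    rw [h3, Subgroup.relIndex_top_right] at h1
    exact h1
  have hHH := Cfsg.Agent.S0634.result hsol 0
  have hLK := core_aux p hp (upperPSeries p G 1).1 (upperPSeries p G 2).1 hKc e he hUi hHH E L hE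
    hEmax hL hEL
  exact hLK.trans (Cfsg.Agent.Helper9.le_pPrimeCore inferInstance hKc)

end Cfsg.Agent.S1462
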