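import Mathlib
import Cfsg.Statements.S1473
import Cfsg.Agent.Helper1.Coprime
import Cfsg.Agent.Helper1.SZ
import Cfsg.Agent.Helper12.Syl

set_option autoImplicit false
open Cfsg

namespace Cfsg.Agent.S1473

universe u

theorem nilpotent_of_le {G : Type*} [Group G] {K L : Subgroup G} (hle : K ≤ L)
    (hL : Group.IsNilpotent L) : Group.IsNilpotent K := by
  have h1 : Group.IsNilpotent (K.subgroupOf L) := inferInstance
  exact Group.nilpotent_of_mulEquiv (Subgroup.subgroupOfEquivOfLe hle)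

theorem nilpotent_map {G G' : Type*} [Group G] [Group G'] (f : G →* G') (K : Subgroup G)
    (hK : Group.IsNilpotent K) : Group.IsNilpotent (K.map f) :=
  Group.nilpotent_of_surjective (f.subgroupMap K) (f.subgroupMap_surjective K)

theorem cn_of_mulEquiv {G G' : Type*} [Group G] [Group G'] (e : G ≃* G') (h : IsCNGroup G) :
    IsCNGroup G' := by
  intro g' hg'
  have hne : e.symm g' ≠ 1 := by
    intro h0
    apply hg'
    have := congrArg e h0
    simpa using this
  have h1 := h (e.symm g') hne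
  have h2 := nilpotent_map e.toMonoidHom _ h1
  refine nilpotent_of_le ?_ h2
  intro c hc
  rw [Subgroup.mem_centralizer_singleton_iff] at hc
  refine ⟨e.symm c, ?_, by simp⟩
  show e.symm c ∈ Subgroup.centralizer {e.symm g'}
  rw [Subgroup.mem_centralizer_singleton_iff, ← map_mul, ← map_mul, hc]

theorem central_comm_pow {N : Type*} [Group N] (a b c : N) (hc : ∀ g : N, g * c = c * g)
    (h : a * b * a⁻¹ = c * b) : c ^ orderOf a = 1 := by
  have hcn : ∀ (n : ℕ) (g : N), g * c ^ n = c ^ n * g := fun n g =>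
    (Commute.pow_right (show Commute g c from hc g) n).eq
  have e1 : ∀ n : ℕ, a ^ n * b * (a ^ n)⁻¹ = c ^ n * b := by
    intro n
    induction n with
    | zero => simp
    | succ n ihn =>
      have s1 : a ^ (n + 1) * b * (a ^ (n + 1))⁻¹ = a * (a ^ n * b * (a ^ n)⁻¹) * a⁻¹ := by
        rw [pow_succ']; group
      rw [s1, ihn]
      have s2 : a * (c ^ n * b) * a⁻¹ = (a * c ^ n) * b * a⁻¹ := by group
      rw [s2, hcn n a]
      have s3 : c ^ n * a * b * a⁻¹ = c ^ n * (a * b * a⁻¹) := by group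
      rw [s3, h, pow_succ, mul_assoc]
  have h2 := e1 (orderOf a)
  rw [pow_orderOf_eq_one, one_mul, inv_one, mul_one] at h2
  have h3 : c ^ orderOf a * b = 1 * b := by rw [one_mul]; exact h2.symm
  exact mul_right_cancel h3

theorem comm_of_coprime {N : Type*} [Group N] [Group.IsNilpotent N] :
    ∀ a b : N, (orderOf a).Coprime (orderOf b) → a * b = b * a := by
  refine Group.nilpotent_center_quotient_ind
    (P := fun (N : Type _) [Group N] [Group.IsNilpotent N] =>
      ∀ a b : N, (orderOf a).Coprime (orderOf b) → a * b = b * a) N ?_ ?_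
  · intro N _ _ a b _
    exact Subsingleton.elim _ _
  · intro N _ _ ih a b hab
    have h1 : (orderOf (QuotientGroup.mk' (Subgroup.center N) a)).Coprime
        (orderOf (QuotientGroup.mk' (Subgroup.center N) b)) :=
      Nat.Coprime.coprime_dvd_left (orderOf_map_dvd _ a)
        (Nat.Coprime.coprime_dvd_right (orderOf_map_dvd _ b) hab)
    have h2 := ih _ _ h1
    obtain ⟨c, hc⟩ : ∃ c : N, c = a * b * a⁻¹ * b⁻¹ := ⟨_, rfl⟩
    have hcz : c ∈ Subgroup.center N := by
      apply (QuotientGroup.eq_one_iff c).1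
      have e : ((c : N) : N ⧸ Subgroup.center N) =
          QuotientGroup.mk' (Subgroup.center N) a * QuotientGroup.mk' (Subgroup.center N) b *
          (QuotientGroup.mk' (Subgroup.center N) a)⁻¹ *
          (QuotientGroup.mk' (Subgroup.center N) b)⁻¹ := by
        rw [hc]; rfl
      rw [e, h2]; group
    have hcc : ∀ g : N, g * c = c * g := fun g => Subgroup.mem_center_iff.1 hcz g
    have hcc' : ∀ g : N, g * c⁻¹ = c⁻¹ * g := fun g =>
      Subgroup.mem_center_iff.1 (Subgroup.inv_mem _ hcz) g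
    have h3 : c ^ orderOf a = 1 := central_comm_pow a b c hcc (by rw [hc]; group)
    have h4 : c⁻¹ ^ orderOf b = 1 := central_comm_pow b a c⁻¹ hcc' (by rw [hc]; group)
    rw [inv_pow, inv_eq_one] at h4
    have h5 := pow_gcd_eq_one.2 ⟨h3, h4⟩
    rw [Nat.Coprime.gcd_eq_one hab, pow_one] at h5
    calc a * b = (a * b * a⁻¹ * b⁻¹) * (b * a) := by group
      _ = b * a := by rw [← hc, h5, one_mul]

theorem isPGroup_range {G M : Type*} [Group G] [Group M] {p : ℕ} (φ : G →* M)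
    (h : ∀ d : G, ∃ a : ℕ, φ d ^ p ^ a = 1) : IsPGroup p φ.range := by
  rintro ⟨q, ⟨d, rfl⟩⟩
  obtain ⟨a, ha⟩ := h d
  refine ⟨a, ?_⟩
  apply Subtype.ext
  show φ d ^ p ^ a = 1
  exact ha

theorem exists_fixed {G : Type*} [Group G] [Finite G] {p : ℕ} (hp : p.Prime)
    (H : Subgroup G) [H.Normal] (hH : IsPGroup p H) (hH0 : H ≠ ⊥) (D : Subgroup G)
    (hD : ∀ d ∈ D, ∃ a : ℕ, ∀ h ∈ H, d ^ p ^ a * h = h * d ^ p ^ a) :
    ∃ z ∈ H, z ≠ 1 ∧ ∀ d ∈ D, d * z = z * d := by
  have := Fact.mk hp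
  have hφp : IsPGroup p ((MulAut.conjNormal (H := H)).comp D.subtype).range := by
    apply isPGroup_range
    intro d
    obtain ⟨a, ha⟩ := hD d d.2
    refine ⟨a, ?_⟩
    rw [← map_pow]
    refine MulEquiv.ext (fun h => Subtype.ext ?_)
    show ((MulAut.conjNormal (H := H) ((d : G) ^ p ^ a)) h : G) = (h : G)
    rw [MulAut.conjNormal_apply, ha h h.2]; group
  have hpcard : p ∣ Nat.card ↥H := by
    obtain ⟨n, hn⟩ := IsPGroup.exists_card_eq hH
    rw [hn]
    have hn0 : n ≠ 0 := by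
      rintro rfl
      rw [pow_zero] at hn
      exact hH0 (Subgroup.card_eq_one.1 hn)
    exact dvd_pow_self p hn0
  have h1fix : (1 : ↥H) ∈ MulAction.fixedPoints
      ↥((MulAut.conjNormal (H := H)).comp D.subtype).range ↥H := by
    intro q
    show (q : MulAut ↥H) 1 = 1
    exact map_one _
  obtain ⟨b, hb, hb1⟩ := hφp.exists_fixed_point_of_prime_dvd_card_of_fixed_point ↥H hpcard h1fix
  refine ⟨(b : G), b.2, ?_, ?_⟩
  · intro hb0
    exact hb1 (Subtype.ext hb0.symm)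
  · intro d hd
    have h2 := hb ⟨((MulAut.conjNormal (H := H)).comp D.subtype) ⟨d, hd⟩, ⟨⟨d, hd⟩, rfl⟩⟩
    have h3 : ((MulAut.conjNormal (H := H) d) b : G) = (b : G) := congrArg Subtype.val h2
    rw [MulAut.conjNormal_apply] at h3
    calc d * (b : G) = (d * (b : G) * d⁻¹) * d := by group
      _ = (b : G) * d := by rw [h3]

theorem case_ne {G : Type u} [Group G] [Finite G] (hCN : IsCNGroup G) {p : ℕ} (hp : p.Prime)
    (H : Subgroup G) [H.Normal] (hH : IsPGroup p H) (x₀ : G) (q : ℕ) (hq : q.Prime)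
    (hqp : q ≠ p) (hyb : orderOf (x₀ : G ⧸ H) = q) :
    Group.IsNilpotent (Subgroup.centralizer ({(x₀ : G ⧸ H)} : Set (G ⧸ H))) := by
  have := Fact.mk hp
  have := Fact.mk hq
  obtain ⟨m, hm⟩ := IsPGroup.exists_card_eq hH
  obtain ⟨x, hx⟩ : ∃ x : G, x = x₀ ^ p ^ m := ⟨_, rfl⟩
  have hx₀q : x₀ ^ q ∈ H := by
    apply (QuotientGroup.eq_one_iff _).1
    rw [QuotientGroup.mk_pow, ← hyb]
    exact pow_orderOf_eq_one _
  have hxq : x ^ q = 1 := by
    have h1 : (⟨x₀ ^ q, hx₀q⟩ : ↥H) ^ Nat.card ↥H = 1 := pow_card_eq_one'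
    have h2 : (x₀ ^ q) ^ p ^ m = 1 := by
      rw [← hm]; exact congrArg Subtype.val h1
    rw [hx, ← pow_mul, mul_comm, pow_mul]; exact h2
  have hcopq : q.Coprime (p ^ m) := Nat.Coprime.pow_right m ((Nat.coprime_primes hq hp).2 hqp)
  have hxb : orderOf ((x : G) : G ⧸ H) = q := by
    rw [hx, QuotientGroup.mk_pow, Nat.Coprime.orderOf_pow (by rw [hyb]; exact hcopq)]
    exact hyb
  have hx1 : x ≠ 1 := by
    intro h1
    rw [h1, QuotientGroup.mk_one, orderOf_one] at hxb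
    exact hq.one_lt.ne' hxb.symm
  have hndvd : ¬ q ∣ Nat.card ↥H := by
    rw [hm]
    intro hd
    exact hqp ((Nat.prime_dvd_prime_iff_eq hq hp).1 (hq.dvd_of_dvd_pow hd))
  have hA : IsPGroup q (Subgroup.zpowers x) :=
    Helper12.isPGroup_zpowers_of_pow_eq_one (k := 1) (by rw [pow_one]; exact hxq)
  have hle : Subgroup.centralizer ({(x₀ : G ⧸ H)} : Set (G ⧸ H)) ≤
      (Subgroup.centralizer ({x} : Set G)).map (QuotientGroup.mk' H) := by
    intro gb hgb
    obtain ⟨g, rfl⟩ := QuotientGroup.mk_surjective gb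
    rw [Subgroup.mem_centralizer_singleton_iff] at hgb
    have hcomm : Commute (g : G ⧸ H) ((x : G) : G ⧸ H) := by
      rw [hx, QuotientGroup.mk_pow]
      exact Commute.pow_right hgb _
    have hmemA : ∀ a ∈ Subgroup.zpowers x, g⁻¹ * a * g * a⁻¹ ∈ H := by
      intro a ha
      obtain ⟨i, rfl⟩ := Subgroup.mem_zpowers_iff.1 ha
      apply (QuotientGroup.eq_one_iff _).1
      have hc2 : Commute (g : G ⧸ H) (((x : G) : G ⧸ H) ^ i) := Commute.zpow_right hcomm i
      have e : ((g⁻¹ * x ^ i * g * (x ^ i)⁻¹ : G) : G ⧸ H) =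
          (g : G ⧸ H)⁻¹ * ((x : G) : G ⧸ H) ^ i * (g : G ⧸ H) *
            (((x : G) : G ⧸ H) ^ i)⁻¹ := by
        simp
      rw [e]
      calc (g : G ⧸ H)⁻¹ * ((x : G) : G ⧸ H) ^ i * (g : G ⧸ H) * (((x : G) : G ⧸ H) ^ i)⁻¹
          = (g : G ⧸ H)⁻¹ * (((x : G) : G ⧸ H) ^ i * (g : G ⧸ H)) *
            (((x : G) : G ⧸ H) ^ i)⁻¹ := by group
        _ = (g : G ⧸ H)⁻¹ * ((g : G ⧸ H) * ((x : G) : G ⧸ H) ^ i) *
            (((x : G) : G ⧸ H) ^ i)⁻¹ := by rw [hc2.eq]
        _ = 1 := by group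
    have hmemH : ∀ a ∈ Subgroup.zpowers x, ∀ h ∈ H, g⁻¹ * a * g * h * a⁻¹ ∈ H := by
      intro a ha h hh
      have h1 := hmemA a ha
      have h2 : a * h * a⁻¹ ∈ H := ‹H.Normal›.conj_mem h hh a
      have e : g⁻¹ * a * g * h * a⁻¹ = (g⁻¹ * a * g * a⁻¹) * (a * h * a⁻¹) := by group
      rw [e]; exact H.mul_mem h1 h2
    let act : MulAction ↥(Subgroup.zpowers x) ↥H :=
      { smul := fun a h => ⟨g⁻¹ * (a : G) * g * (h : G) * (a : G)⁻¹, hmemH a a.2 h h.2⟩
        one_smul := fun h => by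
          apply Subtype.ext
          show g⁻¹ * (1 : G) * g * (h : G) * (1 : G)⁻¹ = (h : G)
          group
        mul_smul := fun a b h => by
          apply Subtype.ext
          show g⁻¹ * ((a : G) * (b : G)) * g * (h : G) * ((a : G) * (b : G))⁻¹ =
            g⁻¹ * (a : G) * g * (g⁻¹ * (b : G) * g * (h : G) * (b : G)⁻¹) * (a : G)⁻¹
          group }
    obtain ⟨h, hh⟩ := hA.nonempty_fixed_point_of_prime_not_dvd_card ↥H hndvd
    have hfix := hh ⟨x, Subgroup.mem_zpowers x⟩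
    have hfix' : g⁻¹ * x * g * (h : G) * x⁻¹ = (h : G) := congrArg Subtype.val hfix
    refine ⟨g * (h : G), ?_, ?_⟩
    · show g * (h : G) ∈ Subgroup.centralizer ({x} : Set G)
      rw [Subgroup.mem_centralizer_singleton_iff]
      calc g * (h : G) * x = g * (g⁻¹ * x * g * (h : G) * x⁻¹) * x := by rw [hfix']
        _ = x * (g * (h : G)) := by group
    · show ((g * (h : G) : G) : G ⧸ H) = (g : G ⧸ H)
      rw [QuotientGroup.mk_mul, (QuotientGroup.eq_one_iff (h : G)).2 h.2, mul_one]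
  exact nilpotent_of_le hle (nilpotent_map (QuotientGroup.mk' H) _ (hCN x hx1))

theorem case_eq {G : Type u} [Group G] [Finite G] (hCN : IsCNGroup G) {p : ℕ} (hp : p.Prime)
    (H : Subgroup G) [H.Normal] (hH : IsPGroup p H) (hH0 : H ≠ ⊥) (x : G)
    (hyb : orderOf (x : G ⧸ H) = p) :
    Group.IsNilpotent (Subgroup.centralizer ({(x : G ⧸ H)} : Set (G ⧸ H))) := by
  have := Fact.mk hp
  obtain ⟨m, hm⟩ := IsPGroup.exists_card_eq hH
  have hxH : x ∉ H := by
    intro hx
    have h1 : ((x : G) : G ⧸ H) = 1 := (QuotientGroup.eq_one_iff x).2 hx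
    rw [h1, orderOf_one] at hyb
    exact hp.one_lt.ne' hyb.symm
  have hxp : x ^ p ∈ H := by
    apply (QuotientGroup.eq_one_iff _).1
    rw [QuotientGroup.mk_pow, ← hyb]
    exact pow_orderOf_eq_one _
  have hxpow : x ^ p ^ (m + 1) = 1 := by
    have h1 : (⟨x ^ p, hxp⟩ : ↥H) ^ Nat.card ↥H = 1 := pow_card_eq_one'
    have h2 : (x ^ p) ^ p ^ m = 1 := by
      rw [← hm]; exact congrArg Subtype.val h1
    rw [pow_succ, mul_comm, pow_mul]; exact h2
  obtain ⟨D, hD⟩ : ∃ D : Subgroup G, D = (Subgroup.centralizer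
      ({(x : G ⧸ H)} : Set (G ⧸ H))).comap (QuotientGroup.mk' H) := ⟨_, rfl⟩
  have hDmem : ∀ d : G, d ∈ D ↔ (d : G ⧸ H) * (x : G ⧸ H) = (x : G ⧸ H) * (d : G ⧸ H) := by
    intro d
    rw [hD, Subgroup.mem_comap, Subgroup.mem_centralizer_singleton_iff]
    rfl
  obtain ⟨K, hK⟩ : ∃ K : Subgroup G, K = H ⊔ Subgroup.zpowers x := ⟨_, rfl⟩
  have hKp : IsPGroup p K := by
    rw [hK]
    exact IsPGroup.to_sup_of_normal_left hH (Helper12.isPGroup_zpowers_of_pow_eq_one hxpow)
  have hHK : H ≤ K := by rw [hK]; exact le_sup_left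
  have hxK : x ∈ K := by rw [hK]; exact Subgroup.mem_sup_right (Subgroup.mem_zpowers x)
  obtain ⟨z, hzH, hz1, hzK⟩ := exists_fixed hp H hH hH0 K (by
    intro d hd
    obtain ⟨a, ha⟩ := hKp ⟨d, hd⟩
    refine ⟨a, fun h _ => ?_⟩
    have ha' : d ^ p ^ a = 1 := congrArg Subtype.val ha
    rw [ha', one_mul, mul_one])
  have hA' : ∀ g ∈ D, (orderOf g).Coprime p → ∀ h ∈ H, g * h = h * g := by
    intro g hg hgcop h hh
    have hgnorm : g ∈ Subgroup.normalizer (K : Set G) := by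
      apply Subgroup.mem_normalizer_fintype
      intro k hk
      have hk' : k ∈ H ⊔ Subgroup.zpowers x := by rw [← hK]; exact hk
      have h1 : (H ⊔ Subgroup.zpowers x).map (MulAut.conj g).toMonoidHom ≤ K := by
        rw [Subgroup.map_sup]
        apply sup_le
        · rintro _ ⟨a, ha, rfl⟩
          exact hHK (‹H.Normal›.conj_mem a ha g)
        · rw [MonoidHom.map_zpowers, Subgroup.zpowers_le]
          show g * x * g⁻¹ ∈ K
          have h2 : g * x * g⁻¹ * x⁻¹ ∈ H := by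
            apply (QuotientGroup.eq_one_iff _).1
            have e : ((g * x * g⁻¹ * x⁻¹ : G) : G ⧸ H) =
                (g : G ⧸ H) * (x : G ⧸ H) * (g : G ⧸ H)⁻¹ * (x : G ⧸ H)⁻¹ := rfl
            rw [e, (hDmem g).1 hg]; group
          have e2 : g * x * g⁻¹ = (g * x * g⁻¹ * x⁻¹) * x := by group
          rw [e2]; exact K.mul_mem (hHK h2) hxK
      exact h1 ⟨k, hk', rfl⟩
    obtain ⟨j, hj⟩ := IsPGroup.exists_card_eq hKp
    have hKsolv : Group.IsSolvable ↥K := by
      have := hKp.isNilpotent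
      infer_instance
    obtain ⟨d, hdH, hd⟩ := Helper1.coprime_coset_fixed (Subgroup.zpowers g) K H
      (Subgroup.zpowers_le.2 hgnorm)
      (by rw [Subgroup.normalizer_eq_top]; exact le_top)
      hHK
      (by rw [Nat.card_zpowers, hj]; exact Nat.Coprime.pow_right j hgcop)
      (Or.inr hKsolv) x hxK
      (by
        intro a ha
        have haD : a ∈ D := (Subgroup.zpowers_le.2 hg) ha
        apply (QuotientGroup.eq_one_iff _).1
        have e : ((x⁻¹ * a * x * a⁻¹ : G) : G ⧸ H) =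
            (x : G ⧸ H)⁻¹ * ((a : G ⧸ H) * (x : G ⧸ H)) * (a : G ⧸ H)⁻¹ := by
          simp [mul_assoc]
        rw [e, (hDmem a).1 haD]; group)
    have hgy : g * (x * d) = (x * d) * g := by
      rw [Subgroup.mem_centralizer_iff] at hd
      exact hd g (Subgroup.mem_zpowers g)
    have hy1 : x * d ≠ 1 := by
      intro h1
      apply hxH
      have h2 : x = d⁻¹ := eq_inv_of_mul_eq_one_left h1
      rw [h2]; exact H.inv_mem hdH
    have hyK : x * d ∈ K := K.mul_mem hxK (hHK hdH)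
    have hzy : (x * d) * z = z * (x * d) := hzK _ hyK
    obtain ⟨k, hk⟩ := (IsPGroup.iff_orderOf.1 hH) ⟨z, hzH⟩
    rw [Subgroup.orderOf_mk] at hk
    have hN1 : Group.IsNilpotent ↥(Subgroup.centralizer ({x * d} : Set G)) := hCN (x * d) hy1
    have hgN1 : g ∈ Subgroup.centralizer ({x * d} : Set G) :=
      Subgroup.mem_centralizer_singleton_iff.2 hgy
    have hzN1 : z ∈ Subgroup.centralizer ({x * d} : Set G) :=
      Subgroup.mem_centralizer_singleton_iff.2 hzy.symm
    have hgz : g * z = z * g := by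
      have h1 := comm_of_coprime (N := ↥(Subgroup.centralizer ({x * d} : Set G)))
        ⟨g, hgN1⟩ ⟨z, hzN1⟩
        (by rw [Subgroup.orderOf_mk, Subgroup.orderOf_mk, hk]; exact Nat.Coprime.pow_right k hgcop)
      exact congrArg Subtype.val h1
    have hN2 : Group.IsNilpotent ↥(Subgroup.centralizer ({z} : Set G)) := hCN z hz1
    have hgN2 : g ∈ Subgroup.centralizer ({z} : Set G) :=
      Subgroup.mem_centralizer_singleton_iff.2 hgz
    have hhN2 : h ∈ Subgroup.centralizer ({z} : Set G) :=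
      Subgroup.mem_centralizer_singleton_iff.2 (hzK h (hHK hh))
    obtain ⟨k', hk'⟩ := (IsPGroup.iff_orderOf.1 hH) ⟨h, hh⟩
    rw [Subgroup.orderOf_mk] at hk'
    have h2 := comm_of_coprime (N := ↥(Subgroup.centralizer ({z} : Set G)))
      ⟨g, hgN2⟩ ⟨h, hhN2⟩
      (by rw [Subgroup.orderOf_mk, Subgroup.orderOf_mk, hk']; exact Nat.Coprime.pow_right k' hgcop)
    exact congrArg Subtype.val h2
  have hDpow : ∀ d ∈ D, ∃ a : ℕ, ∀ h ∈ H, d ^ p ^ a * h = h * d ^ p ^ a := by
    intro d hd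
    obtain ⟨e, m', hm', hn⟩ := Nat.exists_eq_pow_mul_and_not_dvd (orderOf_pos d).ne' p hp.ne_one
    have hord : orderOf (d ^ p ^ e) = m' := by
      rw [orderOf_pow_of_dvd (pow_pos hp.pos e).ne' ⟨m', hn⟩, hn]
      exact Nat.mul_div_cancel_left m' (pow_pos hp.pos e)
    refine ⟨e, hA' (d ^ p ^ e) (D.pow_mem hd _) ?_⟩
    rw [hord]; exact ((Nat.Prime.coprime_iff_not_dvd hp).2 hm').symm
  obtain ⟨z₀, hz₀H, hz₀1, hz₀D⟩ := exists_fixed hp H hH hH0 D hDpow
  have hDle : D ≤ Subgroup.centralizer ({z₀} : Set G) := by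
    intro d hd
    rw [Subgroup.mem_centralizer_singleton_iff]
    exact hz₀D d hd
  have hDnil : Group.IsNilpotent ↥D := nilpotent_of_le hDle (hCN z₀ hz₀1)
  have hmap : Subgroup.centralizer ({(x : G ⧸ H)} : Set (G ⧸ H)) =
      D.map (QuotientGroup.mk' H) := by
    rw [hD, Subgroup.map_comap_eq_self_of_surjective (QuotientGroup.mk'_surjective H)]
  rw [hmap]
  exact nilpotent_map _ _ hDnil

theorem cn_quot_pgroup {G : Type u} [Group G] [Finite G] (hCN : IsCNGroup G) {p : ℕ}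
    (hp : p.Prime) (H : Subgroup G) [H.Normal] (hH : IsPGroup p H) (hH0 : H ≠ ⊥) :
    IsCNGroup (G ⧸ H) := by
  intro xb hxb
  have hord1 : orderOf xb ≠ 1 := by rw [Ne, orderOf_eq_one_iff]; exact hxb
  obtain ⟨q, hq, hqd⟩ := Nat.exists_prime_and_dvd hord1
  have hyb : orderOf (xb ^ (orderOf xb / q)) = q :=
    orderOf_pow_orderOf_div (orderOf_pos xb).ne' hqd
  have hle : Subgroup.centralizer ({xb} : Set (G ⧸ H)) ≤
      Subgroup.centralizer ({xb ^ (orderOf xb / q)} : Set (G ⧸ H)) := by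
    intro c hc
    rw [Subgroup.mem_centralizer_singleton_iff] at hc ⊢
    exact (Commute.pow_right hc _)
  refine nilpotent_of_le hle ?_
  obtain ⟨x, hx⟩ := QuotientGroup.mk_surjective (xb ^ (orderOf xb / q))
  rw [← hx] at hyb ⊢
  by_cases hqp : q = p
  · rw [hqp] at hyb
    exact case_eq hCN hp H hH hH0 x hyb
  · exact case_ne hCN hp H hH x q hq hqp hyb

theorem exists_normal_pgroup {G : Type*} [Group G] [Finite G] (H : Subgroup G) [H.Normal]
    (hsolv : Group.IsSolvable H) (hH0 : H ≠ ⊥) :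
    ∃ (p : ℕ) (N : Subgroup G), p.Prime ∧ N.Normal ∧ IsPGroup p N ∧ N ≠ ⊥ ∧ N ≤ H := by
  have hstep : ∀ n : ℕ, derivedSeries ↥H n = ⊥ →
      ∃ m : ℕ, derivedSeries ↥H m ≠ ⊥ ∧ derivedSeries ↥H (m + 1) = ⊥ := by
    intro n
    induction n with
    | zero =>
      intro h0
      exfalso
      rw [derivedSeries_zero] at h0
      apply hH0
      rw [eq_bot_iff]
      intro a ha
      have h1 : (⟨a, ha⟩ : ↥H) ∈ (⊤ : Subgroup ↥H) := Subgroup.mem_top _
      rw [h0, Subgroup.mem_bot] at h1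
      exact Subgroup.mem_bot.2 (congrArg Subtype.val h1)
    | succ n ih =>
      intro hn
      by_cases h : derivedSeries ↥H n = ⊥
      · exact ih h
      · exact ⟨n, h, hn⟩
  obtain ⟨n, hn⟩ := hsolv.solvable
  obtain ⟨m, hm1, hm2⟩ := hstep n hn
  obtain ⟨A, hA⟩ : ∃ A : Subgroup ↥H, A = derivedSeries ↥H m := ⟨_, rfl⟩
  have hAchar : A.Characteristic := by rw [hA]; infer_instance
  rw [derivedSeries_succ, ← hA, Subgroup.commutator_eq_bot_iff_le_centralizer] at hm2
  rw [← hA] at hm1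
  have hAcomm : ∀ a ∈ A, ∀ b ∈ A, a * b = b * a := by
    intro a ha b hb
    have h1 := hm2 hb
    rw [Subgroup.mem_centralizer_iff] at h1
    exact h1 a ha
  obtain ⟨A₁, hA₁⟩ : ∃ A₁ : Subgroup G, A₁ = A.map H.subtype := ⟨_, rfl⟩
  have hA₁n : A₁.Normal := by rw [hA₁]; exact ConjAct.normal_of_characteristic_of_normal
  have hA₁H : A₁ ≤ H := by rw [hA₁]; exact Subgroup.map_subtype_le A
  have hA₁0 : A₁ ≠ ⊥ := by
    rw [hA₁, Ne, Subgroup.map_eq_bot_iff_of_injective _ H.subtype_injective]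
    exact hm1
  have hA₁comm : ∀ a ∈ A₁, ∀ b ∈ A₁, a * b = b * a := by
    rw [hA₁]
    rintro _ ⟨a, ha, rfl⟩ _ ⟨b, hb, rfl⟩
    exact congrArg Subtype.val (hAcomm a ha b hb)
  have hcard1 : Nat.card ↥A₁ ≠ 1 := by
    intro h1
    exact hA₁0 (Subgroup.card_eq_one.1 h1)
  obtain ⟨p, hp, hpd⟩ := Nat.exists_prime_and_dvd hcard1
  have := Fact.mk hp
  obtain ⟨⟨a₀, ha₀⟩, hord⟩ := exists_prime_orderOf_dvd_card' p hpd
  rw [Subgroup.orderOf_mk] at hord
  obtain ⟨N, hN⟩ : ∃ N : Subgroup G, ∀ a, a ∈ N ↔ (a ∈ A₁ ∧ a ^ p = 1) :=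
    ⟨{ carrier := {a | a ∈ A₁ ∧ a ^ p = 1}
       mul_mem' := by
         rintro a b ⟨ha, ha'⟩ ⟨hb, hb'⟩
         refine ⟨A₁.mul_mem ha hb, ?_⟩
         have hc : Commute a b := hA₁comm a ha b hb
         rw [hc.mul_pow, ha', hb', one_mul]
       one_mem' := ⟨A₁.one_mem, one_pow p⟩
       inv_mem' := by
         rintro a ⟨ha, ha'⟩
         exact ⟨A₁.inv_mem ha, by rw [inv_pow, ha', inv_one]⟩ }, fun a => Iff.rfl⟩
  refine ⟨p, N, hp, ?_, ?_, ?_, ?_⟩
  · constructor
    intro a ha g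
    rw [hN] at ha ⊢
    refine ⟨hA₁n.conj_mem a ha.1 g, ?_⟩
    rw [conj_pow, ha.2]; group
  · rintro ⟨a, ha⟩
    refine ⟨1, ?_⟩
    apply Subtype.ext
    show a ^ p ^ 1 = 1
    rw [pow_one]; exact ((hN a).1 ha).2
  · intro h0
    have h1 : a₀ ∈ N := (hN a₀).2 ⟨ha₀, by rw [← hord]; exact pow_orderOf_eq_one a₀⟩
    rw [h0, Subgroup.mem_bot] at h1
    rw [h1, orderOf_one] at hord
    exact hp.one_lt.ne' hord.symm
  · intro a ha
    exact hA₁H ((hN a).1 ha).1

theorem main_aux : ∀ n : ℕ, ∀ (G : Type u) [Group G] [Finite G], Nat.card G = n → IsCNGroup G →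
    ∀ (H : Subgroup G) [H.Normal], Group.IsSolvable H → IsCNGroup (G ⧸ H) := by
  intro n
  induction n using Nat.strong_induction_on with
  | _ n ih =>
  intro G _ _ hn hCN H _ hsolv
  by_cases hH0 : H = ⊥
  · subst hH0
    exact cn_of_mulEquiv (QuotientGroup.quotientBot (G := G)).symm hCN
  obtain ⟨p, N, hp, hNn, hNp, hN0, hNH⟩ := exists_normal_pgroup H hsolv hH0
  have hCN' : IsCNGroup (G ⧸ N) := cn_quot_pgroup hCN hp N hNp hN0
  have hlt : Nat.card (G ⧸ N) < n := by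
    rw [← hn]; exact Helper1.card_quotient_lt_of_ne_bot N hN0
  have hHn : (H.map (QuotientGroup.mk' N)).Normal :=
    Subgroup.Normal.map inferInstance _ (QuotientGroup.mk'_surjective N)
  have hHs : Group.IsSolvable (H.map (QuotientGroup.mk' N)) :=
    Group.isSolvable_of_surjective (f := (QuotientGroup.mk' N).subgroupMap H)
      ((QuotientGroup.mk' N).subgroupMap_surjective H)
  have h1 := ih _ hlt (G ⧸ N) rfl hCN' (H.map (QuotientGroup.mk' N)) hHs
  exact cn_of_mulEquiv (QuotientGroup.quotientQuotientEquivQuotient N H hNH) h1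

/-- Let G be a finite group in which the centralizer of every non-identity element is nilpotent, and H a solvable normal subgroup of G. Then in G/H the centralizer of every non-identity element is nilpotent. -/
theorem result {G : Type*} [Group G] [Finite G] (hCN : Cfsg.IsCNGroup G) (H : Subgroup G) [H.Normal] (hH : Group.IsSolvable H) :
    Cfsg.IsCNGroup (G ⧸ H) := by
  exact main_aux _ G rfl hCN H hH

end Cfsg.Agent.S1473
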