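import Mathlib
import Cfsg.Statements.S4097
import Cfsg.Agent.Helper1.Basic
import Cfsg.Agent.Helper1.SZ
import Cfsg.Agent.Helper1.Coprime2
import Cfsg.Agent.Helper1.FrobConj
import Cfsg.Agent.Helper1.FrobCompl

set_option autoImplicit false
open Cfsg
open scoped Pointwise

universe u

namespace Cfsg.Agent.S4097

theorem isSolvable_sup {G : Type*} [Group G] (Q A : Subgroup G)
    (hAQ : A ≤ Subgroup.normalizer (Q : Set G))
    (hQ : Group.IsSolvable Q) (hA : Group.IsSolvable A) : Group.IsSolvable ↥(Q ⊔ A) := by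
  have hSN : Q ⊔ A ≤ Subgroup.normalizer (Q : Set G) := sup_le Subgroup.le_normalizer hAQ
  have hnorm : (Q.subgroupOf (Q ⊔ A)).Normal :=
    (Subgroup.normal_subgroupOf_iff_le_normalizer le_sup_left).mpr hSN
  have hQ' : Group.IsSolvable ↥(Q.subgroupOf (Q ⊔ A)) :=
    Group.isSolvable_of_isSolvable_injective
      (f := (Subgroup.subgroupOfEquivOfLe (le_sup_left : Q ≤ Q ⊔ A)).toMonoidHom)
      (Subgroup.subgroupOfEquivOfLe le_sup_left).injective
  let h : ↥A →* ↥(Q ⊔ A) ⧸ Q.subgroupOf (Q ⊔ A) :=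
    (QuotientGroup.mk' (Q.subgroupOf (Q ⊔ A))).comp
      (Subgroup.inclusion (le_sup_right : A ≤ Q ⊔ A))
  have hR : ∀ s : ↥(Q ⊔ A), (QuotientGroup.mk' (Q.subgroupOf (Q ⊔ A))) s ∈ h.range := by
    let R : Subgroup ↥(Q ⊔ A) := h.range.comap (QuotientGroup.mk' (Q.subgroupOf (Q ⊔ A)))
    have hle : Q ⊔ A ≤ R.map (Q ⊔ A).subtype := by
      apply sup_le
      · intro u hu
        refine ⟨⟨u, Subgroup.mem_sup_left hu⟩, ?_, rfl⟩
        show (QuotientGroup.mk' (Q.subgroupOf (Q ⊔ A))) ⟨u, Subgroup.mem_sup_left hu⟩ ∈ h.range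
        have h1 : (QuotientGroup.mk' (Q.subgroupOf (Q ⊔ A))) ⟨u, Subgroup.mem_sup_left hu⟩
            = 1 := by
          rw [QuotientGroup.mk'_apply, QuotientGroup.eq_one_iff]
          exact Subgroup.mem_subgroupOf.mpr hu
        rw [h1]; exact one_mem _
      · intro a ha
        refine ⟨⟨a, Subgroup.mem_sup_right ha⟩, ?_, rfl⟩
        exact ⟨⟨a, ha⟩, rfl⟩
    intro s
    obtain ⟨r, hr, hrs⟩ := hle s.2
    have hrs' : r = s := Subtype.ext hrs
    rw [← hrs']
    exact hr
  have hsurj : Function.Surjective h := by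
    intro y
    obtain ⟨s, rfl⟩ := QuotientGroup.mk'_surjective (Q.subgroupOf (Q ⊔ A)) y
    exact hR s
  have hquot : Group.IsSolvable (↥(Q ⊔ A) ⧸ Q.subgroupOf (Q ⊔ A)) :=
    Group.isSolvable_of_surjective hsurj
  exact Group.isSolvable_of_ker_le_range (Q.subgroupOf (Q ⊔ A)).subtype
    (QuotientGroup.mk' (Q.subgroupOf (Q ⊔ A)))
    (by rw [QuotientGroup.ker_mk', Subgroup.range_subtype])

theorem aux : ∀ (n : ℕ) (G : Type u) [Group G] [Finite G], Nat.card G = n →
    ∀ (A : Subgroup G), Group.IsSolvable A →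
    (∀ S : Subgroup G, A ≤ S → Group.IsSolvable S → ∀ a ∈ A, ∀ s ∈ S, a * s = s * a) →
    A ≤ Subgroup.center G := by
  intro n
  induction n using Nat.strong_induction_on with
  | _ n ih =>
  intro G _ _ hn A hA hc
  by_contra hAZ
  have hcomm : ∀ a ∈ A, ∀ b ∈ A, a * b = b * a := fun a ha b hb => hc A le_rfl hA a ha b hb
  have hprop : ∀ H : Subgroup G, A ≤ H → H ≠ ⊤ → ∀ a ∈ A, ∀ h ∈ H, a * h = h * a := by
    intro H hAH hH a ha h hh
    have hlt : Nat.card H < n := by rw [← hn]; exact Cfsg.Agent.Helper1.card_lt_of_ne_top H hH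
    have hA' : Group.IsSolvable ↥(A.subgroupOf H) :=
      Group.isSolvable_of_isSolvable_injective (f := (Subgroup.subgroupOfEquivOfLe hAH).toMonoidHom)
        (Subgroup.subgroupOfEquivOfLe hAH).injective
    have h1 := ih (Nat.card H) hlt ↥H rfl (A.subgroupOf H) hA' (by
      intro S' hAS' hS' a' ha' s' hs'
      have hS : Group.IsSolvable ↥(S'.map H.subtype) :=
        Group.isSolvable_of_surjective
          (f := (S'.equivMapOfInjective H.subtype H.subtype_injective).toMonoidHom)
          (S'.equivMapOfInjective H.subtype H.subtype_injective).surjective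
      have hAS : A ≤ S'.map H.subtype := by
        intro x hx
        exact ⟨⟨x, hAH hx⟩, hAS' (Subgroup.mem_subgroupOf.mpr hx), rfl⟩
      have h2 := hc (S'.map H.subtype) hAS hS (a' : G) (Subgroup.mem_subgroupOf.mp ha') (s' : G)
        ⟨s', hs', rfl⟩
      exact Subtype.ext h2)
    have h3 : (⟨a, hAH ha⟩ : H) ∈ Subgroup.center H := h1 (Subgroup.mem_subgroupOf.mpr ha)
    have h4 := Subgroup.mem_center_iff.mp h3 ⟨h, hh⟩
    exact (congrArg Subtype.val h4).symm
  obtain ⟨M, hMdef⟩ : ∃ M : Subgroup G, M = Subgroup.centralizer (A : Set G) := ⟨_, rfl⟩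
  have hMmem : ∀ x : G, x ∈ M ↔ ∀ a ∈ A, a * x = x * a := by
    intro x
    rw [hMdef, Subgroup.mem_centralizer_iff]
    exact Iff.rfl
  have hAM : A ≤ M := fun a ha => (hMmem a).mpr (fun b hb => hcomm b hb a ha)
  have hZM : Subgroup.center G ≤ M := fun z hz =>
    (hMmem z).mpr (fun a _ => Subgroup.mem_center_iff.mp hz a)
  have hMtop : M ≠ ⊤ := by
    intro h
    apply hAZ
    intro a ha
    rw [Subgroup.mem_center_iff]
    intro g
    have hg : g ∈ M := by rw [h]; exact Subgroup.mem_top g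
    exact ((hMmem g).mp hg a ha).symm
  have hM : ∀ H : Subgroup G, A ≤ H → H ≠ ⊤ → H ≤ M := fun H hAH hH h hh =>
    (hMmem h).mpr (fun a ha => hprop H hAH hH a ha h hh)
  have hTI : ∀ g : G, g ∉ M → ∀ x ∈ M, g⁻¹ * x * g ∈ M → x ∈ Subgroup.center G := by
    intro g hg x hx hxg
    obtain ⟨Ag, hAg⟩ : ∃ Ag : Subgroup G, Ag = A.map (MulAut.conj g).toMonoidHom := ⟨_, rfl⟩
    have hAgmem : ∀ a ∈ A, g * a * g⁻¹ ∈ Ag := by
      intro a ha
      rw [hAg]
      exact ⟨a, ha, rfl⟩
    by_cases hT : A ⊔ Ag = ⊤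
    · have h1 : A ≤ Subgroup.centralizer ({x} : Set G) := by
        intro a ha
        rw [Subgroup.mem_centralizer_singleton_iff]
        exact (hMmem x).mp hx a ha
      have h2 : Ag ≤ Subgroup.centralizer ({x} : Set G) := by
        rw [hAg]
        rintro _ ⟨a, ha, rfl⟩
        rw [Subgroup.mem_centralizer_singleton_iff]
        have h3 : a * (g⁻¹ * x * g) = (g⁻¹ * x * g) * a := (hMmem _).mp hxg a ha
        show g * a * g⁻¹ * x = x * (g * a * g⁻¹)
        calc g * a * g⁻¹ * x = g * (a * (g⁻¹ * x * g)) * g⁻¹ := by group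
          _ = g * ((g⁻¹ * x * g) * a) * g⁻¹ := by rw [h3]
          _ = x * (g * a * g⁻¹) := by group
      have h4 : (⊤ : Subgroup G) ≤ Subgroup.centralizer ({x} : Set G) := hT ▸ sup_le h1 h2
      rw [Subgroup.mem_center_iff]
      intro y
      have h5 := h4 (Subgroup.mem_top y)
      rw [Subgroup.mem_centralizer_singleton_iff] at h5
      exact h5
    · exfalso
      have hTM : A ⊔ Ag ≤ M := hM _ le_sup_left hT
      have hc1 : ∀ a ∈ A, ∀ b ∈ A, b * (g * a * g⁻¹) = (g * a * g⁻¹) * b := by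
        intro a ha b hb
        exact (hMmem _).mp (hTM (Subgroup.mem_sup_right (hAgmem a ha))) b hb
      obtain ⟨Mg, hMg⟩ : ∃ Mg : Subgroup G, Mg = M.map (MulAut.conj g).toMonoidHom := ⟨_, rfl⟩
      have hAMg : A ≤ Mg := by
        intro a ha
        rw [hMg]
        refine ⟨g⁻¹ * a * g, ?_, ?_⟩
        · show g⁻¹ * a * g ∈ M
          rw [hMmem]
          intro b hb
          have h3 := hc1 b hb a ha
          calc b * (g⁻¹ * a * g) = g⁻¹ * ((g * b * g⁻¹) * a) * g := by group
            _ = g⁻¹ * (a * (g * b * g⁻¹)) * g := by rw [h3]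
            _ = (g⁻¹ * a * g) * b := by group
        · show g * (g⁻¹ * a * g) * g⁻¹ = a
          group
      have hMgtop : Mg ≠ ⊤ := by
        intro h
        apply hMtop
        rw [eq_top_iff]
        intro y _
        have h3 : g * y * g⁻¹ ∈ Mg := by rw [h]; exact Subgroup.mem_top _
        rw [hMg] at h3
        obtain ⟨m, hm, hme⟩ := h3
        have hme' : g * m * g⁻¹ = g * y * g⁻¹ := hme
        have hmy : m = y := mul_left_cancel (mul_right_cancel hme')
        rw [← hmy]; exact hm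
      have hMgM : Mg ≤ M := hM Mg hAMg hMgtop
      have hgN : g ∈ Subgroup.normalizer (M : Set G) := by
        apply Subgroup.mem_normalizer_fintype
        intro m hm
        apply hMgM
        rw [hMg]
        exact ⟨m, hm, rfl⟩
      have hNtop : Subgroup.normalizer (M : Set G) = ⊤ := by
        by_contra hN
        exact hg (hM _ (hAM.trans Subgroup.le_normalizer) hN hgN)
      have hMn : M.Normal := Subgroup.normalizer_eq_top_iff.mp hNtop
      have hNM : Subgroup.normalClosure (A : Set G) ≤ M := Subgroup.normalClosure_le_normal hAM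
      have hNab : ∀ u ∈ Subgroup.normalClosure (A : Set G),
          ∀ v ∈ Subgroup.normalClosure (A : Set G), u * v = v * u := by
        have hAC : (A : Set G) ⊆ Subgroup.centralizer
            ((Subgroup.normalClosure (A : Set G) : Subgroup G) : Set G) := by
          intro a ha
          rw [SetLike.mem_coe, Subgroup.mem_centralizer_iff]
          intro v hv
          exact ((hMmem v).mp (hNM hv) a ha).symm
        have hle : Subgroup.normalClosure (A : Set G) ≤ Subgroup.centralizer
            ((Subgroup.normalClosure (A : Set G) : Subgroup G) : Set G) :=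
          Subgroup.normalClosure_le_normal hAC
        intro u hu v hv
        have h3 := Subgroup.mem_centralizer_iff.mp (hle hu) v hv
        exact h3.symm
      apply hAZ
      intro a ha
      rw [Subgroup.mem_center_iff]
      intro y
      have hS : Group.IsSolvable ↥(Subgroup.normalClosure (A : Set G) ⊔ Subgroup.zpowers y) := by
        apply isSolvable_sup
        · rw [Subgroup.normalizer_eq_top]; exact le_top
        · exact Group.isSolvable_of_comm (fun a b => Subtype.ext (hNab a a.2 b b.2))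
        · exact Group.isSolvable_of_comm (fun a b => by
            obtain ⟨i, hi⟩ := Subgroup.mem_zpowers_iff.mp a.2
            obtain ⟨j, hj⟩ := Subgroup.mem_zpowers_iff.mp b.2
            apply Subtype.ext
            show (a : G) * (b : G) = (b : G) * (a : G)
            rw [← hi, ← hj]
            exact Commute.zpow_zpow_self y i j)
      have h6 := hc _ (Subgroup.le_normalClosure.trans le_sup_left) hS a ha y
        (Subgroup.mem_sup_right (Subgroup.mem_zpowers y))
      exact h6.symm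
  obtain ⟨a0, ha0, ha0Z⟩ := SetLike.not_le_iff_exists.mp hAZ
  obtain ⟨π, hπdef⟩ : ∃ π : G →* G ⧸ Subgroup.center G,
      π = QuotientGroup.mk' (Subgroup.center G) := ⟨_, rfl⟩
  have hπ1 : ∀ x : G, π x = 1 ↔ x ∈ Subgroup.center G := by
    intro x; rw [hπdef]; exact QuotientGroup.eq_one_iff x
  have hπeq : ∀ x y : G, π x = π y → x⁻¹ * y ∈ Subgroup.center G := by
    intro x y h; rw [hπdef] at h; exact QuotientGroup.eq.mp h
  have hπsurj : Function.Surjective π := by
    rw [hπdef]; exact QuotientGroup.mk'_surjective _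
  have hMbar : ∀ x : G, π x ∈ M.map π → x ∈ M := by
    rintro x ⟨m, hm, hmx⟩
    have h1 : m⁻¹ * x ∈ M := hZM (hπeq m x hmx)
    have h2 : x = m * (m⁻¹ * x) := by group
    rw [h2]; exact M.mul_mem hm h1
  have hFrob : Cfsg.IsFrobeniusComplement (M.map π) := by
    refine ⟨?_, ?_, ?_⟩
    · intro h
      have h1 : π a0 ∈ M.map π := Subgroup.mem_map_of_mem π (hAM ha0)
      rw [h, Subgroup.mem_bot] at h1
      exact ha0Z ((hπ1 a0).mp h1)
    · intro h
      apply hMtop
      rw [eq_top_iff]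
      intro y _
      apply hMbar
      rw [h]; exact Subgroup.mem_top _
    · intro gb hgb
      obtain ⟨g, rfl⟩ := hπsurj gb
      have hg : g ∉ M := fun hg => hgb (Subgroup.mem_map_of_mem π hg)
      rw [eq_bot_iff]
      intro xb hxb
      obtain ⟨hx1, hx2⟩ := Subgroup.mem_inf.mp hxb
      rw [Subgroup.mem_bot]
      obtain ⟨m1, hm1, rfl⟩ := hx1
      have hx2' : (π g)⁻¹ * π m1 * π g ∈ M.map π := Cfsg.Agent.Helper1.mem_conj_smul.mp hx2
      have h3 : g⁻¹ * m1 * g ∈ M := by
        apply hMbar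
        have h4 : π (g⁻¹ * m1 * g) = (π g)⁻¹ * π m1 * π g := by
          simp only [map_mul, map_inv]
        rw [h4]; exact hx2'
      exact (hπ1 m1).mpr (hTI g hg m1 hm1 h3)
  obtain ⟨K, -, hKn, hKc, hKne, hfpf, -⟩ := Cfsg.Agent.Helper1.frob_data (M.map π) hFrob
  have hAbM : A.map π ≤ M.map π := Subgroup.map_mono hAM
  have hcop : (Nat.card (A.map π)).Coprime (Nat.card K) :=
    Cfsg.Agent.Helper1.fpf_coprime_sub K (M.map π) hfpf (A.map π) hAbM
  have hAbK : A.map π ≤ Subgroup.normalizer (K : Set (G ⧸ Subgroup.center G)) := by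
    rw [Subgroup.normalizer_eq_top]; exact le_top
  have hAbsolv : Group.IsSolvable ↥(A.map π) :=
    Group.isSolvable_of_surjective (π.subgroupMap_surjective A)
  have hK1 : Nat.card K ≠ 1 := fun h => hKne (Subgroup.card_eq_one.mp h)
  obtain ⟨q, hq, hqK⟩ := Nat.exists_prime_and_dvd hK1
  have hqf : Fact q.Prime := ⟨hq⟩
  obtain ⟨Q, hQK, hQcard, hQA⟩ := Cfsg.Agent.Helper1.inv_sylow_exists (A.map π) K hAbK hcop
    (Or.inl hAbsolv) q
  have hQne : Q ≠ ⊥ := by
    intro h
    rw [h, Subgroup.card_bot] at hQcard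
    have hpos : 0 < (Nat.card K).factorization q :=
      hq.factorization_pos_of_dvd Nat.card_pos.ne' hqK
    have h1 : 1 < q ^ (Nat.card K).factorization q := Nat.one_lt_pow hpos.ne' hq.one_lt
    omega
  obtain ⟨⟨y, hyQ⟩, hy1⟩ := (Subgroup.ne_bot_iff_exists_ne_one).mp hQne
  have hy1' : y ≠ 1 := fun h => hy1 (Subtype.ext h)
  obtain ⟨s, rfl⟩ := hπsurj y
  have hQsolv : Group.IsSolvable ↥Q := by
    have hQp : IsPGroup q ↥Q := IsPGroup.of_card hQcard
    have hnil := hQp.isNilpotent
    infer_instance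
  have hQgsolv : Group.IsSolvable ↥(Q.comap π) := by
    have h1 : Group.IsSolvable ↥((Subgroup.center G).subgroupOf (Q.comap π)) :=
      Group.isSolvable_of_comm (fun a b => Subtype.ext (Subtype.ext
        (Subgroup.mem_center_iff.mp (Subgroup.mem_subgroupOf.mp b.2) a.1.1)))
    exact Group.isSolvable_of_ker_le_range ((Subgroup.center G).subgroupOf (Q.comap π)).subtype
      (π.subgroupComap Q) (by
        intro x hx
        rw [MonoidHom.mem_ker] at hx
        have h2 : π (x : G) = 1 := congrArg Subtype.val hx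
        exact ⟨⟨x, Subgroup.mem_subgroupOf.mpr ((hπ1 _).mp h2)⟩, rfl⟩)
  have hAQg : A ≤ Subgroup.normalizer ((Q.comap π : Subgroup G) : Set G) := by
    intro a ha
    rw [Subgroup.mem_normalizer_iff]
    intro t
    have h1 := Subgroup.mem_normalizer_iff.mp (hQA (Subgroup.mem_map_of_mem π ha)) (π t)
    show π t ∈ Q ↔ π (a * t * a⁻¹) ∈ Q
    rw [map_mul, map_mul, map_inv]
    exact h1
  have hB : Group.IsSolvable ↥(Q.comap π ⊔ A) := isSolvable_sup (Q.comap π) A hAQg hQgsolv hA
  have h7 := hc (Q.comap π ⊔ A) le_sup_right hB a0 ha0 s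
    (Subgroup.mem_sup_left (Subgroup.mem_comap.mpr hyQ))
  have h8 : π a0 * π s = π s * π a0 := by rw [← map_mul, ← map_mul, h7]
  have h9 : π s ∈ K ⊓ Subgroup.centralizer ({π a0} : Set (G ⧸ Subgroup.center G)) := by
    refine Subgroup.mem_inf.mpr ⟨hQK hyQ, ?_⟩
    rw [Subgroup.mem_centralizer_singleton_iff]
    exact h8.symm
  rw [hfpf (π a0) (Subgroup.mem_map_of_mem π (hAM ha0))
    (fun h => ha0Z ((hπ1 a0).mp h))] at h9
  exact hy1' (Subgroup.mem_bot.mp h9)

theorem result {G : Type*} [Group G] [Finite G]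
    (A : Subgroup G) (hA : Group.IsSolvable A)
    (hc : ∀ S : Subgroup G, A ≤ S → Group.IsSolvable S → ∀ a ∈ A, ∀ s ∈ S, a * s = s * a) : A ≤ Subgroup.center G :=
  aux _ G rfl A hA hc

end Cfsg.Agent.S4097
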