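import Mathlib

import Cfsg.Agent.Helper1.ThMain3
import Cfsg.Agent.Helper1.Coprime2
import Cfsg.Agent.Helper17.RelSylow
import Cfsg.Agent.S1473
import Cfsg.Agent.S4097

set_option autoImplicit false
open Cfsg

namespace Cfsg.Agent.S4040

universe u

theorem npc_of_nilpotent {M : Type*} [Group M] [Finite M] (hnil : Group.IsNilpotent M) (p : ℕ)
    [Fact p.Prime] : HasNormalPComplement p M := by
  rw [← Lead.frobHyp_iff]
  intro X hX g hg hcop
  rw [Subgroup.mem_centralizer_iff]
  intro x hx
  obtain ⟨k, hk⟩ := (IsPGroup.iff_orderOf.mp hX) ⟨x, hx⟩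
  have hox : orderOf x = p ^ k := by rw [← hk]; exact (Subgroup.orderOf_mk x hx).symm
  have h1 : (orderOf x).Coprime (orderOf g) := by
    rw [hox]; exact Nat.Coprime.pow_left k hcop.symm
  exact S1473.comm_of_coprime x g h1

theorem corefree {G : Type u} [Group G] [Finite G]
    (M : Subgroup G) (hmax : IsCoatom M) (hnil : Group.IsNilpotent M) (hodd : Odd (Nat.card M))
    (hcf : ∀ N : Subgroup G, N.Normal → N ≤ M → N = ⊥) :
    Group.IsSolvable G := by
  classical
  have hnorm : ∀ X : Subgroup G, X ≠ ⊥ → X ≤ M → M ≤ Subgroup.normalizer (X : Set G) →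
      Subgroup.normalizer (X : Set G) = M := by
    intro X hX hXM hMX
    rcases hmax.le_iff.mp hMX with h | h
    · exfalso
      have hXn : X.Normal := Subgroup.normalizer_eq_top_iff.mp h
      exact hX (hcf X hXn hXM)
    · exact h
  have hnpc : ∀ p : ℕ, p.Prime → p ∣ Nat.card M →
      ∃ K : Subgroup G, K.Normal ∧ ¬ p ∣ Nat.card K ∧ (∃ k : ℕ, K.index = p ^ k) ∧
        ∃ P : Sylow p G, (P : Subgroup G) ≤ M := by
    intro p hp hpM
    have : Fact p.Prime := ⟨hp⟩
    have hp2 : p ≠ 2 := by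
      rintro rfl
      exact (Nat.not_even_iff_odd.mpr hodd) (even_iff_two_dvd.mpr hpM)
    obtain ⟨P₀⟩ : Nonempty (Sylow p M) := inferInstance
    have hP₀n : (P₀ : Subgroup M).Normal := by
      have := hnil
      infer_instance
    have hP₀1 : (P₀ : Subgroup M) ≠ ⊥ := P₀.ne_bot_of_dvd_card hpM
    obtain ⟨P1, hP1⟩ : ∃ X : Subgroup G, X = (P₀ : Subgroup M).map M.subtype := ⟨_, rfl⟩
    have hP1M : P1 ≤ M := by rw [hP1]; exact Subgroup.map_subtype_le _
    have hP1ne : P1 ≠ ⊥ := by
      intro h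
      apply hP₀1
      rw [hP1, Subgroup.map_eq_bot_iff_of_injective _ M.subtype_injective] at h
      exact h
    have hMP1 : M ≤ Subgroup.normalizer (P1 : Set G) := by
      intro m hm
      apply Subgroup.mem_normalizer_fintype
      intro n hn
      have hn' : n ∈ P1 := hn
      rw [hP1] at hn'
      obtain ⟨y, hy, rfl⟩ := hn'
      have h1 : (⟨m, hm⟩ : M) * y * (⟨m, hm⟩ : M)⁻¹ ∈ (P₀ : Subgroup M) :=
        hP₀n.conj_mem y hy ⟨m, hm⟩
      show m * M.subtype y * m⁻¹ ∈ P1
      rw [hP1]
      exact ⟨_, h1, rfl⟩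
    have hNP1 : Subgroup.normalizer (P1 : Set G) = M := hnorm P1 hP1ne hP1M hMP1
    obtain ⟨P, hP⟩ := Helper17.exists_sylow_eq_of_normalizer_le M P₀ (by rw [← hP1, hNP1])
    have hPP1 : (P : Subgroup G) = P1 := by rw [hP, hP1]
    have hJne : thompsonSubgroupOf p (P : Subgroup G) ≠ ⊥ :=
      Helper1.thompsonSubgroupOf_ne_bot (P : Subgroup G) P.2 (by rw [hPP1]; exact hP1ne)
    have hJle : thompsonSubgroupOf p (P : Subgroup G) ≤ M :=
      (Helper1.thompsonSubgroupOf_le_self p (P : Subgroup G)).trans (by rw [hPP1]; exact hP1M)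
    have hJN : Subgroup.normalizer
        ((thompsonSubgroupOf p (P : Subgroup G) : Subgroup G) : Set G) = M := by
      apply hnorm _ hJne hJle
      refine le_trans ?_ (Helper1.normalizer_le_normalizer_thompson p (P : Subgroup G))
      rw [hPP1]; exact hMP1
    have hZne : ((P : Subgroup G) ⊓ Subgroup.centralizer ((P : Subgroup G) : Set G)
        : Subgroup G) ≠ ⊥ :=
      Helper1.center_ne_bot_of_pgroup (P : Subgroup G) P.2 (by rw [hPP1]; exact hP1ne)
    have hZle : ((P : Subgroup G) ⊓ Subgroup.centralizer ((P : Subgroup G) : Set G)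
        : Subgroup G) ≤ M :=
      inf_le_left.trans (by rw [hPP1]; exact hP1M)
    have hZN : Subgroup.normalizer ((((P : Subgroup G) ⊓
        Subgroup.centralizer ((P : Subgroup G) : Set G) : Subgroup G)) : Set G) = M := by
      apply hnorm _ hZne hZle
      refine le_trans ?_ (Helper1.normalizer_le_normalizer_center (P : Subgroup G))
      rw [hPP1]; exact hMP1
    have hMnpc : HasNormalPComplement p M := npc_of_nilpotent hnil p
    have hJ : HasNormalPComplement p (Subgroup.normalizer
        ((thompsonSubgroupOf p (P : Subgroup G) : Subgroup G) : Set G)) :=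
      Helper1.npc_of_le (le_of_eq hJN) hMnpc
    have hZ : HasNormalPComplement p (Subgroup.centralizer
        (((P : Subgroup G) ⊓ Subgroup.centralizer ((P : Subgroup G) : Set G) : Subgroup G)
          : Set G)) := by
      refine Helper1.npc_of_le ?_ hMnpc
      rw [← hZN]
      exact Subgroup.centralizer_le_normalizer _
    obtain ⟨P', K, hKn, hc⟩ := Helper1.thompson_npc hp2 P hJ hZ
    refine ⟨K, hKn, ?_, ?_, P, ?_⟩
    · rw [← hc.index_eq_card]; exact P'.not_dvd_index
    · obtain ⟨k, hk⟩ := (IsPGroup.iff_card).mp P'.isPGroup'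
      exact ⟨k, by rw [hc.symm.index_eq_card, hk]⟩
    · rw [hPP1]; exact hP1M
  have hG1 : ∃ x : G, x ≠ 1 := by
    by_contra h
    push Not at h
    exact hmax.1 ((Subgroup.eq_top_iff' M).mpr (fun x => by rw [h x]; exact M.one_mem))
  obtain ⟨N, ⟨hNn, hN1⟩, hNmin⟩ : ∃ N : Subgroup G, (N.Normal ∧ N ≠ ⊥) ∧
      ∀ L : Subgroup G, L.Normal → L ≠ ⊥ → Nat.card N ≤ Nat.card L := by
    have htop : (⊤ : Subgroup G) ≠ ⊥ := by
      intro h
      obtain ⟨x, hx⟩ := hG1
      have h1 : x ∈ (⊤ : Subgroup G) := Subgroup.mem_top x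
      rw [h] at h1
      exact hx (Subgroup.mem_bot.mp h1)
    have hne : Nonempty {L : Subgroup G // L.Normal ∧ L ≠ ⊥} := ⟨⟨⊤, inferInstance, htop⟩⟩
    obtain ⟨N, hN⟩ := Finite.exists_min
      (fun L : {L : Subgroup G // L.Normal ∧ L ≠ ⊥} => Nat.card L.1)
    exact ⟨N.1, N.2, fun L hL hL1 => hN ⟨L, hL, hL1⟩⟩
  have hcop : (Nat.card M).Coprime (Nat.card N) := by
    by_contra hnc
    obtain ⟨p, hp, hpM, hpN⟩ := Nat.Prime.not_coprime_iff_dvd.mp hnc
    obtain ⟨K, hKn, hKp, ⟨k, hk⟩, P, hPM⟩ := hnpc p hp hpM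
    have : Fact p.Prime := ⟨hp⟩
    have hLn : (N ⊓ K).Normal := inferInstance
    by_cases hL : N ⊓ K = ⊥
    · have h1 : Nat.card N ∣ p ^ k := by
        have h2 : K.relIndex N ∣ K.index := Subgroup.relIndex_dvd_index_of_normal K N
        have hL' : K ⊓ N = ⊥ := by rw [inf_comm]; exact hL
        have h3 : K.relIndex N = Nat.card N := by
          rw [← Subgroup.inf_relIndex_right, hL', Subgroup.relIndex_bot_left]
        rw [h3, hk] at h2; exact h2
      obtain ⟨j, -, hj⟩ := (Nat.dvd_prime_pow hp).mp h1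
      have hNp : IsPGroup p N := IsPGroup.of_card hj
      have hNP : N ≤ (P : Subgroup G) := Helper1.normal_pgroup_le_sylow N hNp P
      exact hN1 (hcf N hNn (hNP.trans hPM))
    · have h1 : Nat.card N ≤ Nat.card ↥(N ⊓ K) := hNmin _ hLn hL
      have h2 : N ⊓ K = N := Subgroup.eq_of_le_of_card_ge inf_le_left h1
      have h3 : N ≤ K := by rw [← h2]; exact inf_le_right
      exact hKp (hpN.trans (Subgroup.card_dvd_of_le h3))
  have hMsolv : Group.IsSolvable M := by
    have := hnil
    infer_instance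
  have hMN : M ≤ Subgroup.normalizer (N : Set G) := by
    rw [Subgroup.normalizer_eq_top_iff.mpr hNn]; exact le_top
  have hNcard : Nat.card N ≠ 1 := fun h => hN1 (Subgroup.card_eq_one.mp h)
  obtain ⟨q, hq, hqN⟩ := Nat.exists_prime_and_dvd hNcard
  have : Fact q.Prime := ⟨hq⟩
  obtain ⟨Q, hQN, hQcard, hMQ⟩ := Helper1.inv_sylow_exists M N hMN hcop (Or.inl hMsolv) q
  have hfac : 0 < (Nat.card N).factorization q :=
    hq.factorization_pos_of_dvd Nat.card_pos.ne' hqN
  have hqQ : q ∣ Nat.card Q := by rw [hQcard]; exact dvd_pow_self q hfac.ne'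
  have hQsolv : Group.IsSolvable Q := by
    have h1 : IsPGroup q Q := IsPGroup.of_card hQcard
    have h2 : Group.IsNilpotent Q := h1.isNilpotent
    infer_instance
  have hsup : Q ⊔ M = ⊤ := by
    rcases hmax.le_iff.mp (le_sup_right : M ≤ Q ⊔ M) with h | h
    · exact h
    · exfalso
      have hQM : Q ≤ M := by rw [← h]; exact le_sup_left
      have h1 : Nat.card Q ∣ Nat.card M := Subgroup.card_dvd_of_le hQM
      have h2 : Nat.card Q ∣ Nat.card N := Subgroup.card_dvd_of_le hQN
      have h3 : q ∣ Nat.gcd (Nat.card M) (Nat.card N) :=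
        Nat.dvd_gcd (hqQ.trans h1) (hqQ.trans h2)
      rw [Nat.Coprime.gcd_eq_one hcop] at h3
      exact hq.one_lt.ne' (Nat.dvd_one.mp h3)
  have hS : Group.IsSolvable ↥(Q ⊔ M) := S4097.isSolvable_sup Q M hMQ hQsolv hMsolv
  exact Group.isSolvable_of_surjective (f := (Q ⊔ M).subtype)
    (fun g => ⟨⟨g, by rw [hsup]; exact Subgroup.mem_top g⟩, rfl⟩)

/-- A finite group possessing a maximal subgroup that is nilpotent of odd order is solvable. -/
theorem result {G : Type*} [Group G] [Finite G]
    (M : Subgroup G) (hmax : IsCoatom M) (hnil : Group.IsNilpotent M) (hodd : Odd (Nat.card M)) :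
    Group.IsSolvable G := by
  obtain ⟨N, hN⟩ : ∃ N : Subgroup G, N = M.normalCore := ⟨_, rfl⟩
  have hNn : N.Normal := by rw [hN]; infer_instance
  have hNM : N ≤ M := by rw [hN]; exact Subgroup.normalCore_le M
  obtain ⟨f, hf⟩ : ∃ f : G →* G ⧸ N, f = QuotientGroup.mk' N := ⟨_, rfl⟩
  have hfs : Function.Surjective f := by rw [hf]; exact QuotientGroup.mk'_surjective N
  have hker : f.ker = N := by rw [hf]; exact QuotientGroup.ker_mk' N
  have hcm : Subgroup.comap f (M.map f) = M := by
    rw [Subgroup.comap_map_eq, hker]; exact sup_eq_left.mpr hNM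
  have hM'co : IsCoatom (M.map f) := by
    constructor
    · intro h
      rw [h, Subgroup.comap_top] at hcm
      exact hmax.1 hcm.symm
    · intro L hL
      have h2 : M ≤ Subgroup.comap f L := by
        rw [← Subgroup.map_le_iff_le_comap]; exact hL.le
      rcases hmax.le_iff.mp h2 with h3 | h3
      · rw [← Subgroup.map_comap_eq_self_of_surjective hfs L, h3,
          Subgroup.map_top_of_surjective f hfs]
      · exfalso
        have h4 : L = M.map f := by
          rw [← h3, Subgroup.map_comap_eq_self_of_surjective hfs L]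
        rw [h4] at hL
        exact lt_irrefl _ hL
  have hM'nil : Group.IsNilpotent (M.map f) := S1473.nilpotent_map f M hnil
  have hM'odd : Odd (Nat.card (M.map f)) :=
    Odd.of_dvd_nat hodd (Subgroup.card_map_dvd M f)
  have hcf : ∀ L : Subgroup (G ⧸ N), L.Normal → L ≤ M.map f → L = ⊥ := by
    intro L hLn hLM
    have h1 : (Subgroup.comap f L).Normal := hLn.comap f
    have h2 : Subgroup.comap f L ≤ M := by
      rw [← hcm]; exact Subgroup.comap_mono hLM
    have h3 : Subgroup.comap f L ≤ N :=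
      (Subgroup.normal_le_normalCore.mpr h2).trans (le_of_eq hN.symm)
    rw [← Subgroup.map_comap_eq_self_of_surjective hfs L, eq_bot_iff]
    refine (Subgroup.map_mono h3).trans ?_
    rw [hf, QuotientGroup.map_mk'_self]
  have hQ : Group.IsSolvable (G ⧸ N) := corefree (M.map f) hM'co hM'nil hM'odd hcf
  have hNs : Group.IsSolvable N := by
    have h1 : Group.IsNilpotent N := S1473.nilpotent_of_le hNM hnil
    infer_instance
  exact Group.isSolvable_of_ker_le_range N.subtype f
    (by rw [hker, Subgroup.range_subtype])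

end Cfsg.Agent.S4040
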