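import Cfsg.Statements.S1477
import Mathlib
import Cfsg.Agent.Helper21.NilCoprime
-- import your own Cfsg.Agent.* helpers here

set_option autoImplicit false
open Cfsg

namespace Cfsg.Agent.S1477


theorem exists_center_of_normal {G : Type*} [Group G] [Group.IsNilpotent G]
    (N : Subgroup G) [hN : N.Normal] (h : N ≠ ⊥) :
    ∃ x ∈ N, x ≠ 1 ∧ ∀ g : G, g * x = x * g := by
  classical
  have hex : ∃ k, ¬ (N ⊓ Subgroup.upperCentralSeries G k ≤ ⊥) := by
    obtain ⟨c, hc⟩ := Group.IsNilpotent.nilpotent G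
    exact ⟨c, by rw [hc, inf_top_eq, le_bot_iff]; exact h⟩
  have hk := Nat.find_spec hex
  have hk0 : Nat.find hex ≠ 0 := by
    intro h0
    rw [h0, Subgroup.upperCentralSeries_zero, inf_bot_eq] at hk
    exact hk bot_le
  obtain ⟨k', hk'⟩ := Nat.exists_eq_succ_of_ne_zero hk0
  have hmin : N ⊓ Subgroup.upperCentralSeries G k' ≤ ⊥ := by
    have := Nat.find_min hex (show k' < Nat.find hex by omega)
    exact not_not.mp this
  obtain ⟨x, hx, hxM⟩ := SetLike.not_le_iff_exists.mp hk
  rw [Subgroup.mem_inf] at hx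
  have hx1 : x ≠ 1 := fun h1 => hxM (by rw [h1]; exact Subgroup.one_mem _)
  refine ⟨x, hx.1, hx1, fun g => ?_⟩
  have hc : x * g * x⁻¹ * g⁻¹ ∈ N ⊓ Subgroup.upperCentralSeries G k' := by
    rw [Subgroup.mem_inf]
    constructor
    · have h1 : x * g * x⁻¹ * g⁻¹ = x * (g * x⁻¹ * g⁻¹) := by group
      rw [h1]
      exact N.mul_mem hx.1 (hN.conj_mem _ (N.inv_mem hx.1) g)
    · have h2 := hx.2
      rw [hk', Nat.succ_eq_add_one] at h2
      exact (Subgroup.mem_upperCentralSeries_succ_iff.mp h2) g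
  have h3 := hmin hc
  rw [Subgroup.mem_bot] at h3
  have h4 : x * g = (x * g * x⁻¹ * g⁻¹) * (g * x) := by group
  rw [h4, h3, one_mul]

theorem exists_central_prime {G : Type*} [Group G] [Finite G] (H : Subgroup G)
    (hH : Group.IsNilpotent H) {q : ℕ} (hq : q.Prime) (hdvd : q ∣ Nat.card H) :
    ∃ y ∈ H, orderOf y = q ∧ ∀ h ∈ H, y * h = h * y := by
  haveI : Fact q.Prime := ⟨hq⟩
  haveI := hH
  obtain ⟨Q⟩ : Nonempty (Sylow q H) := inferInstance
  haveI : (Q : Subgroup H).Normal :=
    Sylow.normal_of_normalizerCondition Group.normalizerCondition_of_isNilpotent Q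
  have hQ : (Q : Subgroup H) ≠ ⊥ := Sylow.ne_bot_of_dvd_card Q hdvd
  obtain ⟨n, hnQ, hn1, hnc⟩ := exists_center_of_normal (Q : Subgroup H) hQ
  obtain ⟨k, hk⟩ := Q.isPGroup' ⟨n, hnQ⟩
  have hk' : n ^ q ^ k = 1 := congrArg Subtype.val hk
  have hd : orderOf n ∣ q ^ k := orderOf_dvd_of_pow_eq_one hk'
  obtain ⟨j, -, hj⟩ := (Nat.dvd_prime_pow hq).mp hd
  have hj0 : j ≠ 0 := by
    intro h0
    rw [h0, pow_zero, orderOf_eq_one_iff] at hj
    exact hn1 hj
  have hqn : q ∣ orderOf n := by rw [hj]; exact dvd_pow_self q hj0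
  have hy : ∀ g : H, g * n ^ (orderOf n / q) = n ^ (orderOf n / q) * g := fun g =>
    (Commute.pow_right (show Commute g n from hnc g) _).eq
  refine ⟨((n ^ (orderOf n / q) : H) : G), (n ^ (orderOf n / q)).2, ?_, ?_⟩
  · rw [Subgroup.orderOf_coe]
    exact orderOf_pow_orderOf_div (orderOf_pos n).ne' hqn
  · intro h hh
    have := congrArg Subtype.val (hy ⟨h, hh⟩)
    exact this.symm

theorem mem_of_pow_mem {G : Type*} [Group G] (H : Subgroup G) {a m : ℕ} (hc : Nat.Coprime a m)
    {c : G} (h1 : c ^ a ∈ H) (h2 : c ^ m ∈ H) : c ∈ H := by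
  have hb := Nat.gcd_eq_gcd_ab a m
  have hc' : Nat.gcd a m = 1 := hc
  rw [hc'] at hb
  have : c = (c ^ a) ^ (Nat.gcdA a m) * (c ^ m) ^ (Nat.gcdB a m) := by
    rw [← zpow_natCast, ← zpow_natCast, ← zpow_mul, ← zpow_mul, ← zpow_add, ← hb]
    simp
  rw [this]
  exact H.mul_mem (H.zpow_mem h1 _) (H.zpow_mem h2 _)

theorem cent_eq {G : Type*} [Group G] (hCN : Cfsg.IsCNGroup G) (H : Subgroup G)
    (hmax : ∀ L : Subgroup G, Group.IsNilpotent L → H ≤ L → L = H)
    {y : G} (hy1 : y ≠ 1) (hyc : ∀ h ∈ H, y * h = h * y) :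
    Subgroup.centralizer ({y} : Set G) = H := by
  apply hmax _ (hCN y hy1)
  intro h hh
  rw [Subgroup.mem_centralizer_iff]
  intro z hz
  rw [Set.mem_singleton_iff] at hz
  rw [hz]
  exact hyc h hh

theorem comm_of_nil {G : Type*} [Group G] (K : Subgroup G) (hK : Group.IsNilpotent K)
    {u v : G} (hu : u ∈ K) (hv : v ∈ K) (h : (orderOf u).Coprime (orderOf v)) :
    u * v = v * u := by
  haveI := hK
  have := Cfsg.Agent.Helper21.commute_of_coprime_orderOf (⟨u, hu⟩ : K) ⟨v, hv⟩
    (by rw [Subgroup.orderOf_mk, Subgroup.orderOf_mk]; exact h)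
  exact congrArg Subtype.val this.eq

theorem ne_one_of_order {G : Type*} [Group G] {y : G} {q : ℕ} (hq : q.Prime)
    (h : orderOf y = q) : y ≠ 1 := by
  intro h1
  rw [h1, orderOf_one] at h
  exact hq.one_lt.ne h

theorem cent_le_of_two_primes {G : Type*} [Group G] [Finite G] (hCN : Cfsg.IsCNGroup G)
    (H : Subgroup G) (hH : Group.IsNilpotent H)
    (hmax : ∀ L : Subgroup G, Group.IsNilpotent L → H ≤ L → L = H)
    {p q : ℕ} (hp : p.Prime) (hq : q.Prime) (hpq : p ≠ q) (hpd : p ∣ Nat.card H)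
    (hqd : q ∣ Nat.card H) {x : G} (hxH : x ∈ H) (hx1 : x ≠ 1) :
    Subgroup.centralizer ({x} : Set G) ≤ H := by
  obtain ⟨y, hyH, hyo, hyc⟩ := exists_central_prime H hH hq hqd
  obtain ⟨z, hzH, hzo, hzc⟩ := exists_central_prime H hH hp hpd
  have hy1 : y ≠ 1 := ne_one_of_order hq hyo
  have hz1 : z ≠ 1 := ne_one_of_order hp hzo
  have hCy := cent_eq hCN H hmax hy1 hyc
  have hCz := cent_eq hCN H hmax hz1 hzc
  have hK := hCN x hx1
  have hyK : y ∈ Subgroup.centralizer ({x} : Set G) := by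
    rw [Subgroup.mem_centralizer_iff]
    intro w hw
    rw [Set.mem_singleton_iff] at hw
    rw [hw]
    exact (hyc x hxH).symm
  have hzK : z ∈ Subgroup.centralizer ({x} : Set G) := by
    rw [Subgroup.mem_centralizer_iff]
    intro w hw
    rw [Set.mem_singleton_iff] at hw
    rw [hw]
    exact (hzc x hxH).symm
  intro c hc
  obtain ⟨e, m, hnd, hcm⟩ :=
    Nat.exists_eq_pow_mul_and_not_dvd (orderOf_pos c).ne' p hp.ne_one
  have h1 : c ^ m ∈ H := by
    rw [← hCy, Subgroup.mem_centralizer_iff]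
    intro w hw
    rw [Set.mem_singleton_iff] at hw
    rw [hw]
    have hd : orderOf (c ^ m) ∣ p ^ e := by
      apply orderOf_dvd_of_pow_eq_one
      rw [← pow_mul, mul_comm m (p ^ e), ← hcm, pow_orderOf_eq_one]
    have hco : (orderOf y).Coprime (orderOf (c ^ m)) := by
      rw [hyo]
      exact (Nat.Coprime.coprime_dvd_left hd
        (Nat.Coprime.pow_left e ((Nat.coprime_primes hp hq).mpr hpq))).symm
    exact comm_of_nil _ hK hyK (Subgroup.pow_mem _ hc m) hco
  have h2 : c ^ (p ^ e) ∈ H := by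
    rw [← hCz, Subgroup.mem_centralizer_iff]
    intro w hw
    rw [Set.mem_singleton_iff] at hw
    rw [hw]
    have hd : orderOf (c ^ (p ^ e)) ∣ m := by
      apply orderOf_dvd_of_pow_eq_one
      rw [← pow_mul, ← hcm, pow_orderOf_eq_one]
    have hco : (orderOf z).Coprime (orderOf (c ^ (p ^ e))) := by
      rw [hzo]
      exact Nat.Coprime.coprime_dvd_right hd ((Nat.Prime.coprime_iff_not_dvd hp).mpr hnd)
    exact comm_of_nil _ hK hzK (Subgroup.pow_mem _ hc _) hco
  exact mem_of_pow_mem H (a := m) (m := p ^ e)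
    (Nat.Coprime.pow_right e ((Nat.Prime.coprime_iff_not_dvd hp).mpr hnd).symm) h1 h2

theorem two_primes {n : ℕ} (hn1 : n ≠ 1) (hn0 : n ≠ 0) (hpp : ¬ IsPrimePow n) :
    ∃ p q : ℕ, p.Prime ∧ q.Prime ∧ p ≠ q ∧ p ∣ n ∧ q ∣ n := by
  obtain ⟨p, hp, hpn⟩ := Nat.exists_prime_and_dvd hn1
  by_contra hcon
  apply hpp
  have huniq : ∀ {q : ℕ}, q.Prime → q ∣ n → q = p := by
    intro q hq hqn
    by_contra hne
    exact hcon ⟨p, q, hp, hq, fun h => hne h.symm, hpn, hqn⟩
  have hn := Nat.eq_prime_pow_of_unique_prime_dvd hn0 huniq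
  rw [isPrimePow_nat_iff]
  refine ⟨p, n.primeFactorsList.length, hp, ?_, hn.symm⟩
  rcases Nat.eq_zero_or_pos n.primeFactorsList.length with h0 | h0
  · rw [h0, pow_zero] at hn
    exact absurd hn hn1
  · exact h0

theorem cent_conj_le {G : Type*} [Group G] (H : Subgroup G) (g t : G)
    (h : Subgroup.centralizer ({t} : Set G) ≤ H) :
    Subgroup.centralizer ({g * t * g⁻¹} : Set G) ≤ H.map (MulAut.conj g).toMonoidHom := by
  intro c hc
  rw [Subgroup.mem_centralizer_iff] at hc
  have hc' := hc _ (Set.mem_singleton _)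
  have h1 : g⁻¹ * c * g ∈ Subgroup.centralizer ({t} : Set G) := by
    rw [Subgroup.mem_centralizer_iff]
    intro w hw
    rw [Set.mem_singleton_iff] at hw
    rw [hw]
    have e1 : t * (g⁻¹ * c * g) = g⁻¹ * (g * t * g⁻¹ * c) * g := by group
    have e2 : g⁻¹ * c * g * t = g⁻¹ * (c * (g * t * g⁻¹)) * g := by group
    rw [e1, e2, hc']
  refine Subgroup.mem_map.mpr ⟨g⁻¹ * c * g, h h1, ?_⟩
  show g * (g⁻¹ * c * g) * g⁻¹ = c
  group

theorem exists_sylow_le {G : Type*} [Group G] [Finite G] (hCN : Cfsg.IsCNGroup G)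
    (H : Subgroup G) (hH : Group.IsNilpotent H)
    (hmax : ∀ L : Subgroup G, Group.IsNilpotent L → H ≤ L → L = H)
    {p : ℕ} [hpf : Fact p.Prime] (hpd : p ∣ Nat.card H) :
    ∃ S : Sylow p G, (S : Subgroup G) ≤ H := by
  have hp : p.Prime := hpf.out
  by_cases hq : ∃ q : ℕ, q.Prime ∧ q ≠ p ∧ q ∣ Nat.card H
  · obtain ⟨q, hq, hqp, hqd⟩ := hq
    obtain ⟨y, hyH, hyo, hyc⟩ := exists_central_prime H hH hq hqd
    obtain ⟨z, hzH, hzo, hzc⟩ := exists_central_prime H hH hp hpd
    have hy1 : y ≠ 1 := ne_one_of_order hq hyo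
    have hz1 : z ≠ 1 := ne_one_of_order hp hzo
    have hCy := cent_eq hCN H hmax hy1 hyc
    have hCz := cent_eq hCN H hmax hz1 hzc
    have hzp : IsPGroup p (Subgroup.zpowers z) := by
      apply IsPGroup.of_card (n := 1)
      rw [Nat.card_zpowers, hzo, pow_one]
    obtain ⟨S, hS⟩ := hzp.exists_le_sylow
    have hzS : z ∈ (S : Subgroup G) := hS (Subgroup.mem_zpowers z)
    haveI : Nontrivial (S : Subgroup G) :=
      ⟨⟨⟨z, hzS⟩, 1, fun h => hz1 (congrArg Subtype.val h)⟩⟩
    haveI : Nontrivial (Subgroup.center (S : Subgroup G)) := S.isPGroup'.center_nontrivial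
    obtain ⟨w, hw, hw1⟩ :=
      Subgroup.exists_ne_one_of_nontrivial (Subgroup.center (S : Subgroup G))
    rw [Subgroup.mem_center_iff] at hw
    have hwG1 : (w : G) ≠ 1 := fun h => hw1 (Subtype.ext h)
    have hwz : z * (w : G) = (w : G) * z := congrArg Subtype.val (hw ⟨z, hzS⟩)
    have hwH : (w : G) ∈ H := by
      rw [← hCz, Subgroup.mem_centralizer_iff]
      intro v hv
      rw [Set.mem_singleton_iff] at hv
      rw [hv]
      exact hwz
    have hK := hCN (w : G) hwG1
    have hyK : y ∈ Subgroup.centralizer ({(w : G)} : Set G) := by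
      rw [Subgroup.mem_centralizer_iff]
      intro v hv
      rw [Set.mem_singleton_iff] at hv
      rw [hv]
      exact (hyc _ hwH).symm
    refine ⟨S, fun u hu => ?_⟩
    have huK : u ∈ Subgroup.centralizer ({(w : G)} : Set G) := by
      rw [Subgroup.mem_centralizer_iff]
      intro v hv
      rw [Set.mem_singleton_iff] at hv
      rw [hv]
      exact (congrArg Subtype.val (hw ⟨u, hu⟩)).symm
    obtain ⟨k, hk⟩ := S.isPGroup' ⟨u, hu⟩
    have hk' : u ^ p ^ k = 1 := congrArg Subtype.val hk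
    have hd : orderOf u ∣ p ^ k := orderOf_dvd_of_pow_eq_one hk'
    have hco : (orderOf y).Coprime (orderOf u) := by
      rw [hyo]
      exact (Nat.Coprime.coprime_dvd_left hd
        (Nat.Coprime.pow_left k ((Nat.coprime_primes hp hq).mpr (Ne.symm hqp)))).symm
    rw [← hCy, Subgroup.mem_centralizer_iff]
    intro v hv
    rw [Set.mem_singleton_iff] at hv
    rw [hv]
    exact comm_of_nil _ hK hyK huK hco
  · have huniq : ∀ {d : ℕ}, d.Prime → d ∣ Nat.card H → d = p := by
      intro d hd hdn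
      by_contra hne
      exact hq ⟨d, hd, hne, hdn⟩
    have hn := Nat.eq_prime_pow_of_unique_prime_dvd Nat.card_pos.ne' huniq
    have hHp : IsPGroup p H := IsPGroup.of_card hn
    obtain ⟨S, hS⟩ := hHp.exists_le_sylow
    have hSnil : Group.IsNilpotent (S : Subgroup G) := S.isPGroup'.isNilpotent
    exact ⟨S, (hmax _ hSnil hS).le⟩


/-- Let G be a finite group in which every non-identity element has nilpotent centralizer, and H a nilpotent subgroup not properly contained in any nilpotent subgroup. Then the order of H is coprime to its index; if the order of H is not a prime power then H ∩ gHg⁻¹ = 1 whenever gHg⁻¹ ≠ H; and if H ∩ gHg⁻¹ = 1 whenever gHg⁻¹ ≠ H, then C_G(x) ≤ H for every non-identity x ∈ H. -/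
theorem result {G : Type*} [Group G] [Finite G] (hCN : Cfsg.IsCNGroup G) (H : Subgroup G) (hH : Group.IsNilpotent H)
    (hmax : ∀ L : Subgroup G, Group.IsNilpotent L → H ≤ L → L = H) :
    (Nat.card H).Coprime H.index ∧
      (¬ IsPrimePow (Nat.card H) → Nat.card H ≠ 1 → ∀ g : G, H.map (MulAut.conj g).toMonoidHom ≠ H → H ⊓ H.map (MulAut.conj g).toMonoidHom = ⊥) ∧
      ((∀ g : G, H.map (MulAut.conj g).toMonoidHom ≠ H → H ⊓ H.map (MulAut.conj g).toMonoidHom = ⊥) → ∀ x ∈ H, x ≠ 1 → Subgroup.centralizer ({x} : Set G) ≤ H) := by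
  have hX : ¬ IsPrimePow (Nat.card H) → Nat.card H ≠ 1 → ∀ x ∈ H, x ≠ 1 →
      Subgroup.centralizer ({x} : Set G) ≤ H := by
    intro hpp h1 x hxH hx1
    obtain ⟨p, q, hp, hq, hpq, hpd, hqd⟩ := two_primes h1 Nat.card_pos.ne' hpp
    exact cent_le_of_two_primes hCN H hH hmax hp hq hpq hpd hqd hxH hx1
  refine ⟨?_, ?_, ?_⟩
  · apply Nat.coprime_of_dvd
    intro p hp hpd hpi
    haveI : Fact p.Prime := ⟨hp⟩
    obtain ⟨S, hS⟩ := exists_sylow_le hCN H hH hmax hpd
    have h1 : p ∣ (S : Subgroup G).index := dvd_trans hpi (Subgroup.index_dvd_of_le hS)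
    have h2 : p ∣ Nat.card (S : Subgroup G) :=
      S.dvd_card_of_dvd_card (dvd_trans hpd (Subgroup.card_subgroup_dvd_card H))
    exact hp.one_lt.ne' (Nat.eq_one_of_dvd_coprimes S.card_coprime_index h2 h1)
  · intro hpp h1 g hg
    rw [Subgroup.eq_bot_iff_forall]
    intro x hx
    by_contra hx1
    apply hg
    obtain ⟨hxH, hxHg⟩ := Subgroup.mem_inf.mp hx
    obtain ⟨h, hhH, hhx⟩ := Subgroup.mem_map.mp hxHg
    obtain ⟨q, hq, hqd⟩ := Nat.exists_prime_and_dvd h1
    obtain ⟨y, hyH, hyo, hyc⟩ := exists_central_prime H hH hq hqd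
    have hy1 : y ≠ 1 := ne_one_of_order hq hyo
    have hCy := cent_eq hCN H hmax hy1 hyc
    have hh1 : h ≠ 1 := by
      intro h0
      apply hx1
      rw [← hhx, h0, map_one]
    have hx' : x = g * h * g⁻¹ := hhx.symm
    have hCx : Subgroup.centralizer ({x} : Set G) ≤ H.map (MulAut.conj g).toMonoidHom := by
      rw [hx']
      exact cent_conj_le H g h (hX hpp h1 h hhH hh1)
    have hyHg : y ∈ H.map (MulAut.conj g).toMonoidHom := by
      apply hCx
      rw [Subgroup.mem_centralizer_iff]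
      intro v hv
      rw [Set.mem_singleton_iff] at hv
      rw [hv]
      exact (hyc x hxH).symm
    obtain ⟨t, htH, hty⟩ := Subgroup.mem_map.mp hyHg
    have ht1 : t ≠ 1 := by
      intro h0
      apply hy1
      rw [← hty, h0, map_one]
    have hy' : y = g * t * g⁻¹ := hty.symm
    have hCy' : Subgroup.centralizer ({y} : Set G) ≤ H.map (MulAut.conj g).toMonoidHom := by
      rw [hy']
      exact cent_conj_le H g t (hX hpp h1 t htH ht1)
    rw [hCy] at hCy'
    have hcard : Nat.card (H.map (MulAut.conj g).toMonoidHom) = Nat.card H :=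
      (Nat.card_congr (H.equivMapOfInjective _ (MulAut.conj g).injective).toEquiv).symm
    exact (Subgroup.eq_of_le_of_card_ge hCy' hcard.le).symm
  · intro hTI x hxH hx1
    by_cases hpp : IsPrimePow (Nat.card H)
    · rw [isPrimePow_nat_iff] at hpp
      obtain ⟨p, k, hp, hk, hpk⟩ := hpp
      haveI : Fact p.Prime := ⟨hp⟩
      have hHp : IsPGroup p H := IsPGroup.of_card hpk.symm
      obtain ⟨S, hS⟩ := hHp.exists_le_sylow
      have hSH : (S : Subgroup G) = H := hmax _ S.isPGroup'.isNilpotent hS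
      have hpd : p ∣ Nat.card H := by
        rw [← hpk]
        exact dvd_pow_self p hk.ne'
      obtain ⟨z, hzH, hzo, hzc⟩ := exists_central_prime H hH hp hpd
      have hz1 : z ≠ 1 := ne_one_of_order hp hzo
      have hCz := cent_eq hCN H hmax hz1 hzc
      have hK := hCN x hx1
      have hzK : z ∈ Subgroup.centralizer ({x} : Set G) := by
        rw [Subgroup.mem_centralizer_iff]
        intro v hv
        rw [Set.mem_singleton_iff] at hv
        rw [hv]
        exact (hzc x hxH).symm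
      intro c hc
      have hcx : x * c = c * x := by
        rw [Subgroup.mem_centralizer_iff] at hc
        exact hc x (Set.mem_singleton x)
      have hHc : H.map (MulAut.conj c).toMonoidHom = H := by
        by_contra hne
        have h0 := hTI c hne
        have hxin : x ∈ H ⊓ H.map (MulAut.conj c).toMonoidHom := by
          refine Subgroup.mem_inf.mpr ⟨hxH, Subgroup.mem_map.mpr ⟨x, hxH, ?_⟩⟩
          show c * x * c⁻¹ = x
          rw [← hcx]
          group
        rw [h0, Subgroup.mem_bot] at hxin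
        exact hx1 hxin
      have hcN : c ∈ Subgroup.normalizer (H : Set G) := by
        rw [Subgroup.mem_normalizer_iff]
        intro h
        constructor
        · intro hh
          have h3 : c * h * c⁻¹ ∈ H.map (MulAut.conj c).toMonoidHom :=
            Subgroup.mem_map.mpr ⟨h, hh, rfl⟩
          rwa [hHc] at h3
        · intro hh
          rw [← hHc] at hh
          obtain ⟨h', hh', he⟩ := Subgroup.mem_map.mp hh
          have he' : c * h' * c⁻¹ = c * h * c⁻¹ := he
          have h4 : h' = h := mul_left_cancel (mul_right_cancel he')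
          rw [← h4]
          exact hh'
      obtain ⟨e, m, hnd, hcm⟩ :=
        Nat.exists_eq_pow_mul_and_not_dvd (orderOf_pos c).ne' p hp.ne_one
      have h1 : c ^ m ∈ H := by
        have hd : orderOf (c ^ m) ∣ p ^ e := by
          apply orderOf_dvd_of_pow_eq_one
          rw [← pow_mul, mul_comm m (p ^ e), ← hcm, pow_orderOf_eq_one]
        obtain ⟨j, -, hj⟩ := (Nat.dvd_prime_pow hp).mp hd
        have hP : IsPGroup p (Subgroup.zpowers (c ^ m)) :=
          IsPGroup.of_card (n := j) (by rw [Nat.card_zpowers, hj])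
        have hcmN : c ^ m ∈ Subgroup.normalizer ((S : Subgroup G) : Set G) := by
          rw [hSH]
          exact Subgroup.pow_mem _ hcN m
        have h5 := IsPGroup.inf_normalizer_sylow hP S
        have h6 : c ^ m ∈
            Subgroup.zpowers (c ^ m) ⊓ Subgroup.normalizer ((S : Subgroup G) : Set G) :=
          Subgroup.mem_inf.mpr ⟨Subgroup.mem_zpowers _, hcmN⟩
        have h6' : c ^ m ∈ Subgroup.zpowers (c ^ m) ⊓ (S : Subgroup G) := by
          rw [← h5]
          exact h6
        have h7 := (Subgroup.mem_inf.mp h6').2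
        rwa [hSH] at h7
      have h2 : c ^ (p ^ e) ∈ H := by
        rw [← hCz, Subgroup.mem_centralizer_iff]
        intro v hv
        rw [Set.mem_singleton_iff] at hv
        rw [hv]
        have hd : orderOf (c ^ (p ^ e)) ∣ m := by
          apply orderOf_dvd_of_pow_eq_one
          rw [← pow_mul, ← hcm, pow_orderOf_eq_one]
        have hco : (orderOf z).Coprime (orderOf (c ^ (p ^ e))) := by
          rw [hzo]
          exact Nat.Coprime.coprime_dvd_right hd ((Nat.Prime.coprime_iff_not_dvd hp).mpr hnd)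
        exact comm_of_nil _ hK hzK (Subgroup.pow_mem _ hc _) hco
      exact mem_of_pow_mem H (a := m) (m := p ^ e)
        (Nat.Coprime.pow_right e ((Nat.Prime.coprime_iff_not_dvd hp).mpr hnd).symm) h1 h2
    · have h1 : Nat.card H ≠ 1 := by
        intro h1
        have h0 := Subgroup.eq_bot_of_card_eq H h1
        rw [h0, Subgroup.mem_bot] at hxH
        exact hx1 hxH
      exact hX hpp h1 x hxH hx1

end Cfsg.Agent.S1477
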