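import Cfsg.Statements.S1474
import Mathlib
import Cfsg.Agent.Helper9.TypeP
import Cfsg.Agent.Helper4.Schmidt
import Cfsg.Agent.S1477
-- import your own Cfsg.Agent.* helpers here

set_option autoImplicit false
open Cfsg

namespace Cfsg.Agent.S1474


universe u

theorem nil_of_le {G : Type*} [Group G] {K L : Subgroup G} (hle : K ≤ L)
    (hL : Group.IsNilpotent L) : Group.IsNilpotent K := by
  haveI := hL
  have h1 : Group.IsNilpotent (K.subgroupOf L) := inferInstance
  exact Group.nilpotent_of_mulEquiv (Subgroup.subgroupOfEquivOfLe hle)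

/-- Averaging lemma: if `⟨b⟩` acts without fixed points on `U` and both `U` and the conjugates
of `b` under `U` have no nontrivial fixed point on the abelian normal subgroup `Z`, of order
coprime to that of `U`, then `Z` is trivial. -/
theorem frob_fixed {G : Type*} [Group G] [Finite G] (Z U : Subgroup G) [hZn : Z.Normal]
    (hZc : ∀ a ∈ Z, ∀ b ∈ Z, a * b = b * a) (b : G)
    (hbU : ∀ u ∈ U, b * u * b⁻¹ ∈ U)
    (h1 : ∀ j : ℕ, 0 < j → j < orderOf b → ∀ u ∈ U, b ^ j * u = u * b ^ j → u = 1)
    (h2 : ∀ v ∈ Z, (∀ u ∈ U, u * v = v * u) → v = 1)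
    (h3 : ∀ u ∈ U, ∀ v ∈ Z, (u * b * u⁻¹) * v = v * (u * b * u⁻¹) → v = 1)
    (h4 : (Nat.card U).Coprime (Nat.card Z)) : Z = ⊥ := by
  classical
  letI : CommGroup Z := { (inferInstance : Group Z) with
    mul_comm := fun a b => Subtype.ext (hZc a a.2 b b.2) }
  haveI : Fintype U := Fintype.ofFinite U
  have hn0 : 0 < orderOf b := orderOf_pos b
  let c : G →* MulAut Z := MulAut.conjNormal
  have hbpow : ∀ j : ℕ, ∀ u ∈ U, b ^ j * u * (b ^ j)⁻¹ ∈ U := by
    intro j
    induction j with
    | zero => intro u hu; simpa using hu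
    | succ j ih =>
      intro u hu
      have e : b ^ (j + 1) * u * (b ^ (j + 1))⁻¹ = b * (b ^ j * u * (b ^ j)⁻¹) * b⁻¹ := by
        rw [pow_succ']; group
      rw [e]
      exact hbU _ (ih u hu)
  have key1 : ∀ b' : G, orderOf b' = orderOf b → (∀ v ∈ Z, b' * v = v * b' → v = 1) →
      ∀ v : Z, ∏ j ∈ Finset.range (orderOf b), c (b' ^ j) v = 1 := by
    intro b' hb' hfix v
    have hfixed : c b' (∏ j ∈ Finset.range (orderOf b), c (b' ^ j) v)
        = ∏ j ∈ Finset.range (orderOf b), c (b' ^ j) v := by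
      rw [map_prod]
      have e1 : ∀ j, c b' (c (b' ^ j) v) = c (b' ^ (j + 1)) v := by
        intro j
        rw [pow_succ', map_mul]; rfl
      have e2 := Finset.prod_range_succ (fun j => c (b' ^ j) v) (orderOf b)
      have e3 := Finset.prod_range_succ' (fun j => c (b' ^ j) v) (orderOf b)
      have e4 : c (b' ^ orderOf b) v = c (b' ^ 0) v := by
        rw [← hb', pow_orderOf_eq_one, pow_zero]
      rw [e2] at e3
      beta_reduce at e3
      rw [e4] at e3
      have e5 := mul_right_cancel e3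
      calc ∏ j ∈ Finset.range (orderOf b), c b' (c (b' ^ j) v)
          = ∏ j ∈ Finset.range (orderOf b), c (b' ^ (j + 1)) v :=
            Finset.prod_congr rfl (fun j _ => e1 j)
        _ = ∏ j ∈ Finset.range (orderOf b), c (b' ^ j) v := e5.symm
    have h5 : b' * ((∏ j ∈ Finset.range (orderOf b), c (b' ^ j) v : Z) : G) * b'⁻¹
        = ((∏ j ∈ Finset.range (orderOf b), c (b' ^ j) v : Z) : G) := by
      have h := congrArg Subtype.val hfixed
      rwa [MulAut.conjNormal_apply] at h
    have h6 : b' * ((∏ j ∈ Finset.range (orderOf b), c (b' ^ j) v : Z) : G)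
        = ((∏ j ∈ Finset.range (orderOf b), c (b' ^ j) v : Z) : G) * b' := by
      calc b' * ((∏ j ∈ Finset.range (orderOf b), c (b' ^ j) v : Z) : G)
          = (b' * ((∏ j ∈ Finset.range (orderOf b), c (b' ^ j) v : Z) : G) * b'⁻¹) * b' := by
            group
        _ = ((∏ j ∈ Finset.range (orderOf b), c (b' ^ j) v : Z) : G) * b' := by rw [h5]
    exact Subtype.ext (hfix _ (∏ j ∈ Finset.range (orderOf b), c (b' ^ j) v : Z).2 h6)
  have key2 : ∀ w : Z, ∏ u : U, c (u : G) w = 1 := by
    intro w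
    have hfixed : ∀ u₀ : U, c (u₀ : G) (∏ u : U, c (u : G) w) = ∏ u : U, c (u : G) w := by
      intro u₀
      rw [map_prod]
      refine Fintype.prod_equiv (Equiv.mulLeft u₀) _ _ (fun u => ?_)
      show c (u₀ : G) (c (u : G) w) = c ((u₀ * u : U) : G) w
      rw [Subgroup.coe_mul, map_mul]; rfl
    apply Subtype.ext
    show ((∏ u : U, c (u : G) w : Z) : G) = 1
    apply h2 _ (∏ u : U, c (u : G) w : Z).2
    intro u hu
    have h5 := congrArg Subtype.val (hfixed ⟨u, hu⟩)
    rw [MulAut.conjNormal_apply] at h5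
    calc u * ((∏ u : U, c (u : G) w : Z) : G)
        = (u * ((∏ u : U, c (u : G) w : Z) : G) * u⁻¹) * u := by group
      _ = ((∏ u : U, c (u : G) w : Z) : G) * u := by rw [h5]
  have key3 : ∀ v : Z, v ^ Nat.card U = 1 := by
    intro v
    have hA : ∀ u : U,
        ∏ j ∈ Finset.range (orderOf b), c (((u : G) * b * (u : G)⁻¹) ^ j) v = 1 := by
      intro u
      refine key1 _ ?_ (fun v' hv' hcomm => h3 u u.2 v' hv' hcomm) v
      exact orderOf_injective (MulAut.conj (u : G)).toMonoidHom (MulAut.conj (u : G)).injective b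
    have hprod : ∏ u : U, ∏ j ∈ Finset.range (orderOf b),
        c (((u : G) * b * (u : G)⁻¹) ^ j) v = 1 :=
      Finset.prod_eq_one (fun u _ => hA u)
    rw [Finset.prod_comm] at hprod
    obtain ⟨m, hm⟩ : ∃ m, orderOf b = m + 1 := ⟨orderOf b - 1, by omega⟩
    have hsplit : ∏ j ∈ Finset.range (m + 1), ∏ u : U, c (((u : G) * b * (u : G)⁻¹) ^ j) v
        = (∏ k ∈ Finset.range m, ∏ u : U, c (((u : G) * b * (u : G)⁻¹) ^ (k + 1)) v)
          * ∏ u : U, c (((u : G) * b * (u : G)⁻¹) ^ 0) v :=
      Finset.prod_range_succ' (fun j => ∏ u : U, c (((u : G) * b * (u : G)⁻¹) ^ j) v) m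
    have hrest : ∀ k ∈ Finset.range m,
        ∏ u : U, c (((u : G) * b * (u : G)⁻¹) ^ (k + 1)) v = 1 := by
      intro k hk
      rw [Finset.mem_range] at hk
      let φ : U → U := fun u =>
        ⟨(u : G) * (b ^ (k + 1) * (u : G)⁻¹ * (b ^ (k + 1))⁻¹),
          U.mul_mem u.2 (hbpow (k + 1) _ (U.inv_mem u.2))⟩
      have hφinj : Function.Injective φ := by
        intro u u' huu
        have e : (u : G) * (b ^ (k + 1) * (u : G)⁻¹ * (b ^ (k + 1))⁻¹)
            = (u' : G) * (b ^ (k + 1) * (u' : G)⁻¹ * (b ^ (k + 1))⁻¹) :=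
          congrArg Subtype.val huu
        have e' : b ^ (k + 1) * ((u' : G)⁻¹ * (u : G)) = ((u' : G)⁻¹ * (u : G)) * b ^ (k + 1) := by
          have e2 : b ^ (k + 1) * ((u' : G)⁻¹ * (u : G))
              = (u' : G)⁻¹ * ((u' : G) * (b ^ (k + 1) * (u' : G)⁻¹ * (b ^ (k + 1))⁻¹))
                * b ^ (k + 1) * (u : G) := by group
          have e3 : ((u' : G)⁻¹ * (u : G)) * b ^ (k + 1)
              = (u' : G)⁻¹ * ((u : G) * (b ^ (k + 1) * (u : G)⁻¹ * (b ^ (k + 1))⁻¹))
                * b ^ (k + 1) * (u : G) := by group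
          rw [e2, e3, e]
        have h5 := h1 (k + 1) (by omega) (by omega) ((u' : G)⁻¹ * (u : G))
          (U.mul_mem (U.inv_mem u'.2) u.2) e'
        exact Subtype.ext (inv_mul_eq_one.mp h5).symm
      have hφbij : Function.Bijective φ := ⟨hφinj, Finite.surjective_of_injective hφinj⟩
      have hterm : ∀ u : U, c (((u : G) * b * (u : G)⁻¹) ^ (k + 1)) v
          = c ((φ u : U) : G) (c (b ^ (k + 1)) v) := by
        intro u
        have e5 : ((u : G) * b * (u : G)⁻¹) ^ (k + 1) = ((φ u : U) : G) * b ^ (k + 1) := by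
          rw [conj_pow]
          show _ = (u : G) * (b ^ (k + 1) * (u : G)⁻¹ * (b ^ (k + 1))⁻¹) * b ^ (k + 1)
          group
        rw [e5, map_mul]; rfl
      calc ∏ u : U, c (((u : G) * b * (u : G)⁻¹) ^ (k + 1)) v
          = ∏ u : U, c ((φ u : U) : G) (c (b ^ (k + 1)) v) :=
            Finset.prod_congr rfl (fun u _ => hterm u)
        _ = ∏ u : U, c (u : G) (c (b ^ (k + 1)) v) :=
            Fintype.prod_equiv (Equiv.ofBijective φ hφbij) _ _ (fun u => rfl)
        _ = 1 := key2 _
    have h0 : ∀ u : U, c (((u : G) * b * (u : G)⁻¹) ^ 0) v = v := by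
      intro u
      rw [pow_zero, map_one]; rfl
    rw [hm, hsplit, Finset.prod_eq_one hrest, one_mul,
      Finset.prod_congr rfl (fun u _ => h0 u), Finset.prod_const, Finset.card_univ,
      ← Nat.card_eq_fintype_card] at hprod
    exact hprod
  rw [Subgroup.eq_bot_iff_forall]
  intro v hv
  have h7 := key3 ⟨v, hv⟩
  have h8 : v ^ Nat.card U = 1 := congrArg Subtype.val h7
  have h9 : orderOf v ∣ Nat.card U := orderOf_dvd_of_pow_eq_one h8
  have h10 : orderOf v ∣ Nat.card Z := Subgroup.orderOf_dvd_natCard Z hv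
  have h11 : orderOf v = 1 := Nat.eq_one_of_dvd_coprimes h4 h9 h10
  exact orderOf_eq_one_iff.mp h11

/-- An element of prime order in `E` fixes a nontrivial element of each nontrivial subgroup of
`E` that it normalizes, when the nontrivial elements of `E` have no fixed points on `F`. -/
theorem exists_fixed {G : Type*} [Group G] [Finite G] (F E : Subgroup G) [hFn : F.Normal]
    (hFnil : Group.IsNilpotent F) (hF1 : F ≠ ⊥) (hcopE : (Nat.card E).Coprime (Nat.card F))
    (hA : ∀ e ∈ E, e ≠ 1 → ∀ x ∈ F, e * x = x * e → x = 1)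
    (U : Subgroup G) (hUE : U ≤ E) (hU1 : U ≠ ⊥) {b : G} (hbE : b ∈ E) {p : ℕ} (hp : p.Prime)
    (hbo : orderOf b = p) (hbU : ∀ u ∈ U, b * u * b⁻¹ ∈ U) :
    ∃ c ∈ U, c ≠ 1 ∧ b * c = c * b := by
  by_contra hcon
  push_neg at hcon
  have hb1 : b ≠ 1 := S1477.ne_one_of_order hp hbo
  obtain ⟨u₀, hu₀, hu₀1⟩ : ∃ u ∈ U, u ≠ 1 := by
    by_contra h
    push_neg at h
    exact hU1 ((Subgroup.eq_bot_iff_forall _).mpr h)
  haveI hCn : (Subgroup.centralizer (F : Set G)).Normal := Subgroup.normal_centralizer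
  haveI hZn : (F ⊓ Subgroup.centralizer (F : Set G)).Normal := Subgroup.normal_inf_normal _ _
  have hZ : F ⊓ Subgroup.centralizer (F : Set G) = ⊥ := by
    refine frob_fixed (F ⊓ Subgroup.centralizer (F : Set G)) U ?_ b hbU ?_ ?_ ?_ ?_
    · intro a ha b' hb'
      have h5 := (Subgroup.mem_inf.mp ha).2
      rw [Subgroup.mem_centralizer_iff] at h5
      exact (h5 b' (Subgroup.mem_inf.mp hb').1).symm
    · intro j hj0 hjn u hu hcomm
      by_contra hu1
      apply hcon u hu hu1
      rw [hbo] at hjn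
      have hcop : Nat.Coprime j (orderOf b) := by
        rw [hbo]
        exact ((Nat.Prime.coprime_iff_not_dvd hp).mpr (Nat.not_dvd_of_pos_of_lt hj0 hjn)).symm
      obtain ⟨i, hi⟩ := exists_pow_eq_self_of_coprime hcop
      have h5 : Commute ((b ^ j) ^ i) u := Commute.pow_left (show Commute (b ^ j) u from hcomm) i
      rw [hi] at h5
      exact h5.eq
    · intro v hv h
      exact hA u₀ (hUE hu₀) hu₀1 v (Subgroup.mem_inf.mp hv).1 (h u₀ hu₀)
    · intro u hu v hv h
      have hE' : u * b * u⁻¹ ∈ E := E.mul_mem (E.mul_mem (hUE hu) hbE) (E.inv_mem (hUE hu))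
      have hne : u * b * u⁻¹ ≠ 1 := by
        intro h0
        apply hb1
        have : b = u⁻¹ * (u * b * u⁻¹) * u := by group
        rw [this, h0]; group
      exact hA _ hE' hne v (Subgroup.mem_inf.mp hv).1 h
    · exact Nat.Coprime.coprime_dvd_left (Subgroup.card_dvd_of_le hUE)
        (Nat.Coprime.coprime_dvd_right (Subgroup.card_dvd_of_le inf_le_left) hcopE)
  have hcard : Nat.card F ≠ 1 := fun h => hF1 (Subgroup.eq_bot_of_card_eq F h)
  obtain ⟨r, hr, hrF⟩ := Nat.exists_prime_and_dvd hcard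
  obtain ⟨z, hzF, hzo, hzc⟩ := S1477.exists_central_prime F hFnil hr hrF
  have hz1 : z ≠ 1 := S1477.ne_one_of_order hr hzo
  have hzZ : z ∈ F ⊓ Subgroup.centralizer (F : Set G) := by
    refine Subgroup.mem_inf.mpr ⟨hzF, ?_⟩
    rw [Subgroup.mem_centralizer_iff]
    intro h hh
    exact (hzc h hh).symm
  rw [hZ, Subgroup.mem_bot] at hzZ
  exact hz1 hzZ

/-- The complement is nilpotent. -/
theorem compl_nilpotent {G : Type u} [Group G] [Finite G] (hCN : Cfsg.IsCNGroup G)
    (F E : Subgroup G) [hFn : F.Normal]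
    (hFnil : Group.IsNilpotent F) (hF1 : F ≠ ⊥) (hcopE : (Nat.card E).Coprime (Nat.card F))
    (hA : ∀ e ∈ E, e ≠ 1 → ∀ x ∈ F, e * x = x * e → x = 1) :
    Group.IsNilpotent E := by
  have key : ∀ n : ℕ, ∀ D : Subgroup G, D ≤ E → Nat.card D = n → Group.IsNilpotent D := by
    intro n
    induction n using Nat.strong_induction_on with
    | _ n ih =>
      intro D hDE hDn
      by_contra hnot
      have hmin : Cfsg.IsMinimalNonNilpotent D := by
        refine ⟨hnot, fun H hH => ?_⟩
        have hlt : Nat.card (H.map D.subtype) < n := by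
          rw [← hDn]
          have hc1 : Nat.card (H.map D.subtype) = Nat.card H :=
            Subgroup.card_map_of_injective D.subtype_injective
          have hc2 : Nat.card H < Nat.card D := by
            rcases lt_or_eq_of_le (Subgroup.card_le_card_group H) with h | h
            · exact h
            · exact absurd (Subgroup.eq_top_of_card_eq H h) hH
          rw [hc1]; exact hc2
        have h1 := ih _ hlt (H.map D.subtype) (le_trans (Subgroup.map_subtype_le H) hDE) rfl
        haveI := h1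
        exact Group.nilpotent_of_mulEquiv
          (H.equivMapOfInjective D.subtype D.subtype_injective).symm
      obtain ⟨p, q, X, y, hp, hq, hpq, hXp, hXn, ⟨k, hyo⟩, htop, hyC, hdis⟩ :=
        Cfsg.Agent.Helper4.schmidt_structure hmin
      haveI : Fact q.Prime := ⟨hq⟩
      have hy1 : y ≠ 1 := by
        intro h
        apply hyC
        rw [h]
        exact Subgroup.one_mem _
      have hk0 : k ≠ 0 := by
        intro h
        rw [h, pow_zero, orderOf_eq_one_iff] at hyo
        exact hy1 hyo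
      have hpy : p ∣ orderOf y := by
        rw [hyo]
        exact dvd_pow_self p hk0
      have hbo' : orderOf (y ^ (orderOf y / p)) = p :=
        orderOf_pow_orderOf_div (orderOf_pos y).ne' hpy
      obtain ⟨b, hb⟩ : ∃ b : G, b = ((y ^ (orderOf y / p) : D) : G) := ⟨_, rfl⟩
      have hbo : orderOf b = p := by
        rw [hb, Subgroup.orderOf_coe]
        exact hbo'
      have hbD : b ∈ D := by
        rw [hb]
        exact (y ^ (orderOf y / p)).2
      have hbE : b ∈ E := hDE hbD
      have hb1 : b ≠ 1 := S1477.ne_one_of_order hp hbo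
      have hX1 : X ≠ ⊥ := by
        intro h
        apply hyC
        rw [h, Subgroup.mem_centralizer_iff]
        intro g hg
        have hg1 : g = 1 := Subgroup.mem_bot.mp hg
        rw [hg1, one_mul, mul_one]
      have hmemU : ∀ u : G, u ∈ X.map D.subtype ↔ ∃ x : D, x ∈ X ∧ (x : G) = u := by
        intro u
        rw [Subgroup.mem_map]
        rfl
      have hUD : X.map D.subtype ≤ D := Subgroup.map_subtype_le X
      have hUE : X.map D.subtype ≤ E := le_trans hUD hDE
      have hU1 : X.map D.subtype ≠ ⊥ := by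
        intro h
        apply hX1
        rw [Subgroup.eq_bot_iff_forall]
        intro x hx
        have h5 : (x : G) ∈ X.map D.subtype := (hmemU _).mpr ⟨x, hx, rfl⟩
        rw [h, Subgroup.mem_bot] at h5
        exact Subtype.ext h5
      have hbU : ∀ u ∈ X.map D.subtype, b * u * b⁻¹ ∈ X.map D.subtype := by
        intro u hu
        obtain ⟨x, hx, rfl⟩ := (hmemU u).mp hu
        rw [hb]
        exact (hmemU _).mpr ⟨y ^ (orderOf y / p) * x * (y ^ (orderOf y / p))⁻¹,
          hXn.conj_mem x hx _, rfl⟩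
      have hUq : ∀ u ∈ X.map D.subtype, ∃ j, orderOf u ∣ q ^ j := by
        intro u hu
        obtain ⟨x, hx, rfl⟩ := (hmemU u).mp hu
        obtain ⟨j, hj⟩ := hXp ⟨x, hx⟩
        refine ⟨j, orderOf_dvd_of_pow_eq_one ?_⟩
        have h5 : x ^ q ^ j = 1 := congrArg Subtype.val hj
        have h6 : (x : G) ^ q ^ j = 1 := congrArg Subtype.val h5
        exact h6
      have hcopU : ∀ u ∈ X.map D.subtype, ∀ m : ℕ, (p ^ m).Coprime (orderOf u) := by
        intro u hu m
        obtain ⟨j, hj⟩ := hUq u hu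
        exact Nat.Coprime.coprime_dvd_right hj
          (Nat.Coprime.pow m j ((Nat.coprime_primes hp hq).mpr hpq))
      obtain ⟨c, hcU, hc1, hbc⟩ :=
        exists_fixed F E hFnil hF1 hcopE hA (X.map D.subtype) hUE hU1 hbE hp hbo hbU
      haveI : Nontrivial X := (Subgroup.nontrivial_iff_ne_bot X).mpr hX1
      haveI : Nontrivial (Subgroup.center X) := hXp.center_nontrivial
      obtain ⟨z₀, hz₀, hz₀1⟩ := Subgroup.exists_ne_one_of_nontrivial (Subgroup.center X)
      rw [Subgroup.mem_center_iff] at hz₀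
      obtain ⟨z, hz⟩ : ∃ z : G, z = ((z₀ : D) : G) := ⟨_, rfl⟩
      have hzU : z ∈ X.map D.subtype := by
        rw [hz]
        exact (hmemU _).mpr ⟨(z₀ : D), z₀.2, rfl⟩
      have hz1 : z ≠ 1 := by
        intro h
        apply hz₀1
        apply Subtype.ext
        apply Subtype.ext
        rw [← hz]
        exact h
      have hzc : ∀ u ∈ X.map D.subtype, u * z = z * u := by
        intro u hu
        obtain ⟨x, hx, rfl⟩ := (hmemU u).mp hu
        have h5 := hz₀ ⟨x, hx⟩
        have h6 : x * (z₀ : D) = (z₀ : D) * x := congrArg Subtype.val h5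
        rw [hz]
        exact congrArg Subtype.val h6
      have hbz : b * z = z * b := by
        have hK := hCN c hc1
        have h5 : b ∈ Subgroup.centralizer ({c} : Set G) := by
          rw [Subgroup.mem_centralizer_iff]
          intro w hw
          rw [Set.mem_singleton_iff] at hw
          rw [hw]
          exact hbc.symm
        have h6 : z ∈ Subgroup.centralizer ({c} : Set G) := by
          rw [Subgroup.mem_centralizer_iff]
          intro w hw
          rw [Set.mem_singleton_iff] at hw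
          rw [hw]
          exact hzc c hcU
        refine S1477.comm_of_nil _ hK h5 h6 ?_
        rw [hbo]
        have h7 := hcopU z hzU 1
        rwa [pow_one] at h7
      have hbUc : ∀ u ∈ X.map D.subtype, b * u = u * b := by
        intro u hu
        have hK := hCN z hz1
        have h5 : b ∈ Subgroup.centralizer ({z} : Set G) := by
          rw [Subgroup.mem_centralizer_iff]
          intro w hw
          rw [Set.mem_singleton_iff] at hw
          rw [hw]
          exact hbz.symm
        have h6 : u ∈ Subgroup.centralizer ({z} : Set G) := by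
          rw [Subgroup.mem_centralizer_iff]
          intro w hw
          rw [Set.mem_singleton_iff] at hw
          rw [hw]
          exact (hzc u hu).symm
        refine S1477.comm_of_nil _ hK h5 h6 ?_
        rw [hbo]
        have h7 := hcopU u hu 1
        rwa [pow_one] at h7
      apply hyC
      rw [Subgroup.mem_centralizer_iff]
      intro x hx
      have hxU : (x : G) ∈ X.map D.subtype := (hmemU _).mpr ⟨x, SetLike.mem_coe.mp hx, rfl⟩
      have hK := hCN b hb1
      have h5 : (y : G) ∈ Subgroup.centralizer ({b} : Set G) := by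
        rw [Subgroup.mem_centralizer_iff]
        intro w hw
        rw [Set.mem_singleton_iff] at hw
        rw [hw, hb, Subgroup.coe_pow]
        exact (Commute.pow_left (Commute.refl (y : G)) _).eq
      have h6 : (x : G) ∈ Subgroup.centralizer ({b} : Set G) := by
        rw [Subgroup.mem_centralizer_iff]
        intro w hw
        rw [Set.mem_singleton_iff] at hw
        rw [hw]
        exact hbUc _ hxU
      have hco : (orderOf (y : G)).Coprime (orderOf (x : G)) := by
        rw [Subgroup.orderOf_coe y, hyo]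
        exact hcopU _ hxU k
      have h7 := S1477.comm_of_nil _ hK h5 h6 hco
      exact Subtype.ext h7.symm
  exact key _ E le_rfl rfl

/-- No nontrivial element of the complement centralizes a nontrivial element of `F`. -/
theorem no_fixed {G : Type*} [Group G] [Finite G] (hCN : Cfsg.IsCNGroup G) (F E : Subgroup G)
    [hFn : F.Normal] (hFnil : Group.IsNilpotent F) (hcop : (Nat.card F).Coprime F.index)
    (hFE : Subgroup.IsComplement' F E)
    (hmaxF : ∀ N : Subgroup G, N.Normal → Group.IsNilpotent N →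
      (Nat.card N).Coprime N.index → N ≤ F)
    {e x : G} (he : e ∈ E) (he1 : e ≠ 1) (hx : x ∈ F) (hx1 : x ≠ 1) (hex : e * x = x * e) :
    False := by
  have hdisj : F ⊓ E = ⊥ := disjoint_iff.mp hFE.disjoint
  have hcardE : Nat.card E = F.index := hFE.symm.index_eq_card.symm
  obtain ⟨q, hq, hqe⟩ := Nat.exists_prime_and_dvd (fun h => he1 (orderOf_eq_one_iff.mp h))
  obtain ⟨r, hr, hrx⟩ := Nat.exists_prime_and_dvd (fun h => hx1 (orderOf_eq_one_iff.mp h))
  obtain ⟨e', he'⟩ : ∃ e' : G, e' = e ^ (orderOf e / q) := ⟨_, rfl⟩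
  obtain ⟨x', hx'⟩ : ∃ x' : G, x' = x ^ (orderOf x / r) := ⟨_, rfl⟩
  have he'o : orderOf e' = q := by
    rw [he']
    exact orderOf_pow_orderOf_div (orderOf_pos e).ne' hqe
  have hx'o : orderOf x' = r := by
    rw [hx']
    exact orderOf_pow_orderOf_div (orderOf_pos x).ne' hrx
  have he'E : e' ∈ E := by
    rw [he']
    exact E.pow_mem he _
  have hx'F : x' ∈ F := by
    rw [hx']
    exact F.pow_mem hx _
  have he'1 : e' ≠ 1 := S1477.ne_one_of_order hq he'o
  have hx'1 : x' ≠ 1 := S1477.ne_one_of_order hr hx'o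
  have hcomm : e' * x' = x' * e' := by
    rw [he', hx']
    exact (Commute.pow_pow (show Commute e x from hex) _ _).eq
  have hqF : (Nat.card F).Coprime q := by
    have h1 : q ∣ F.index := by
      rw [← hcardE, ← he'o]
      exact Subgroup.orderOf_dvd_natCard E he'E
    exact Nat.Coprime.coprime_dvd_right h1 hcop
  have hrF : r ∣ Nat.card F := by
    rw [← hx'o]
    exact Subgroup.orderOf_dvd_natCard F hx'F
  have hqr : q ≠ r := by
    intro h
    rw [h] at hqF
    exact hr.one_lt.ne' (Nat.eq_one_of_dvd_coprimes hqF hrF dvd_rfl)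
  obtain ⟨z, hzF, hzo, hzc⟩ := S1477.exists_central_prime F hFnil hr hrF
  have hz1 : z ≠ 1 := S1477.ne_one_of_order hr hzo
  have hez : e' * z = z * e' := by
    have hK := hCN x' hx'1
    have h1 : e' ∈ Subgroup.centralizer ({x'} : Set G) := by
      rw [Subgroup.mem_centralizer_iff]
      intro w hw
      rw [Set.mem_singleton_iff] at hw
      rw [hw]
      exact hcomm.symm
    have h2 : z ∈ Subgroup.centralizer ({x'} : Set G) := by
      rw [Subgroup.mem_centralizer_iff]
      intro w hw
      rw [Set.mem_singleton_iff] at hw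
      rw [hw]
      exact (hzc x' hx'F).symm
    exact S1477.comm_of_nil _ hK h1 h2
      (by rw [he'o, hzo]; exact (Nat.coprime_primes hq hr).mpr hqr)
  have hqcomm : ∀ t : G, t ≠ 1 → (∀ h ∈ F, t * h = h * t) → ∀ f : G, t * f = f * t →
      (∃ k, f ^ q ^ k = 1) → ∀ h ∈ F, f * h = h * f := by
    intro t ht1 htF f htf ⟨k, hk⟩ h hh
    have hK := hCN t ht1
    have h1 : f ∈ Subgroup.centralizer ({t} : Set G) := by
      rw [Subgroup.mem_centralizer_iff]
      intro w hw
      rw [Set.mem_singleton_iff] at hw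
      rw [hw]
      exact htf
    have h2 : h ∈ Subgroup.centralizer ({t} : Set G) := by
      rw [Subgroup.mem_centralizer_iff]
      intro w hw
      rw [Set.mem_singleton_iff] at hw
      rw [hw]
      exact htF h hh
    refine S1477.comm_of_nil _ hK h1 h2 ?_
    have h3 : orderOf f ∣ q ^ k := orderOf_dvd_of_pow_eq_one hk
    have h4 : orderOf h ∣ Nat.card F := Subgroup.orderOf_dvd_natCard F hh
    exact Nat.Coprime.coprime_dvd_left h3
      (Nat.Coprime.coprime_dvd_right h4 (Nat.Coprime.pow_left k hqF.symm))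
  have he'q : e' ^ q ^ 1 = 1 := by
    rw [pow_one]
    have h := pow_orderOf_eq_one e'
    rwa [he'o] at h
  have he'F : ∀ h ∈ F, e' * h = h * e' := hqcomm z hz1 hzc e' hez.symm ⟨1, he'q⟩
  have he'C : e' ∈ Subgroup.centralizer (F : Set G) := by
    rw [Subgroup.mem_centralizer_iff]
    intro h hh
    exact (he'F h hh).symm
  haveI hCn : (Subgroup.centralizer (F : Set G)).Normal := Subgroup.normal_centralizer
  have hCz : Subgroup.centralizer (F : Set G) ≤ Subgroup.centralizer ({z} : Set G) :=
    Subgroup.centralizer_le (Set.singleton_subset_iff.mpr hzF)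
  have hCnil : Group.IsNilpotent (Subgroup.centralizer (F : Set G)) :=
    nil_of_le hCz (hCN z hz1)
  haveI : Fact q.Prime := ⟨hq⟩
  have hzp : IsPGroup q (Subgroup.zpowers e') :=
    IsPGroup.of_card (n := 1) (by rw [Nat.card_zpowers, he'o, pow_one])
  obtain ⟨Q, hQ⟩ := hzp.exists_le_sylow
  have he'Q : e' ∈ (Q : Subgroup G) := hQ (Subgroup.mem_zpowers e')
  have hQC : (Q : Subgroup G) ≤ Subgroup.centralizer (F : Set G) := by
    haveI : Group.IsNilpotent (Q : Subgroup G) := Q.isPGroup'.isNilpotent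
    have hN1 : (Subgroup.centralizer (F : Set G)).subgroupOf (Q : Subgroup G) ≠ ⊥ := by
      intro h
      have h1 : (⟨e', he'Q⟩ : (Q : Subgroup G)) ∈
          (Subgroup.centralizer (F : Set G)).subgroupOf (Q : Subgroup G) :=
        Subgroup.mem_subgroupOf.mpr he'C
      rw [h, Subgroup.mem_bot] at h1
      exact he'1 (congrArg Subtype.val h1)
    obtain ⟨t, htN, ht1, htc⟩ := S1477.exists_center_of_normal
      ((Subgroup.centralizer (F : Set G)).subgroupOf (Q : Subgroup G)) hN1
    have htC : (t : G) ∈ Subgroup.centralizer (F : Set G) := Subgroup.mem_subgroupOf.mp htN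
    rw [Subgroup.mem_centralizer_iff] at htC
    have htG1 : (t : G) ≠ 1 := fun h => ht1 (Subtype.ext h)
    intro f hf
    rw [Subgroup.mem_centralizer_iff]
    intro h hh
    have h1 : (t : G) * f = f * (t : G) := (congrArg Subtype.val (htc ⟨f, hf⟩)).symm
    obtain ⟨k, hk⟩ := Q.isPGroup' ⟨f, hf⟩
    have hk' : f ^ q ^ k = 1 := congrArg Subtype.val hk
    exact (hqcomm (t : G) htG1 (fun h hh => (htC h hh).symm) f h1 ⟨k, hk'⟩ h hh).symm
  have hQn : (Q : Subgroup G).Normal := by
    haveI := hCnil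
    have hQCn : ((Q.subtype hQC : Sylow q (Subgroup.centralizer (F : Set G))) :
        Subgroup (Subgroup.centralizer (F : Set G))).Normal :=
      Sylow.normal_of_normalizerCondition Group.normalizerCondition_of_isNilpotent _
    haveI : Unique (Sylow q (Subgroup.centralizer (F : Set G))) :=
      Sylow.unique_of_normal _ hQCn
    refine ⟨fun u hu g => ?_⟩
    obtain ⟨k, hk⟩ := Q.isPGroup' ⟨u, hu⟩
    have hk' : u ^ q ^ k = 1 := congrArg Subtype.val hk
    have hcC : g * u * g⁻¹ ∈ Subgroup.centralizer (F : Set G) := hCn.conj_mem u (hQC hu) g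
    have hcpow : (⟨g * u * g⁻¹, hcC⟩ : Subgroup.centralizer (F : Set G)) ^ q ^ k = 1 := by
      apply Subtype.ext
      show (g * u * g⁻¹) ^ q ^ k = 1
      rw [conj_pow, hk']
      group
    obtain ⟨j, -, hj⟩ := (Nat.dvd_prime_pow hq).mp (orderOf_dvd_of_pow_eq_one hcpow)
    have hcp : IsPGroup q (Subgroup.zpowers
        (⟨g * u * g⁻¹, hcC⟩ : Subgroup.centralizer (F : Set G))) :=
      IsPGroup.of_card (n := j) (by rw [Nat.card_zpowers, hj])
    obtain ⟨Q', hQ'⟩ := hcp.exists_le_sylow
    have h1 : (⟨g * u * g⁻¹, hcC⟩ : Subgroup.centralizer (F : Set G)) ∈ (Q' : Subgroup _) :=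
      hQ' (Subgroup.mem_zpowers _)
    rw [Subsingleton.elim Q' (Q.subtype hQC), Sylow.coe_subtype] at h1
    exact Subgroup.mem_subgroupOf.mp h1
  have hQF : (Q : Subgroup G) ≤ F :=
    hmaxF _ hQn Q.isPGroup'.isNilpotent Q.card_coprime_index
  have h1 : e' ∈ F ⊓ E := Subgroup.mem_inf.mpr ⟨hQF he'Q, he'E⟩
  rw [hdisj, Subgroup.mem_bot] at h1
  exact he'1 h1


/-- Let G be a finite group in which every non-identity element has nilpotent centralizer, not itself nilpotent, and having a nontrivial normal Sylow p-subgroup for some prime p. Let H be the largest normal nilpotent Hall subgroup of G. Then H is a nontrivial proper normal subgroup with a complement E that is a Frobenius complement in G (no non-identity element of E centralizes a non-identity element of H), and G/H is nilpotent. -/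
theorem result {G : Type*} [Group G] [Finite G] (hCN : Cfsg.IsCNGroup G) (hnn : ¬ Group.IsNilpotent G) (p : ℕ) [Fact p.Prime] (P : Sylow p G)
    (hP1 : (P : Subgroup G) ≠ ⊥) (hPn : (P : Subgroup G).Normal) :
    Cfsg.fittingHall G ≠ ⊥ ∧ Cfsg.fittingHall G ≠ ⊤ ∧
      (∃ E : Subgroup G, Subgroup.IsComplement' (Cfsg.fittingHall G) E ∧ Cfsg.IsFrobeniusComplement E ∧
        ∀ e ∈ E, e ≠ 1 → Cfsg.fittingHall G ⊓ Subgroup.centralizer ({e} : Set G) = ⊥) ∧
      Group.IsNilpotent (G ⧸ Cfsg.fittingHall G) := by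
  classical
  obtain ⟨hFnil, hcop⟩ := Cfsg.Agent.Helper9.fittingHall_nilpotent_coprime G
  haveI hFn : (Cfsg.fittingHall G).Normal := Cfsg.fittingHall_normal G
  have hmaxF : ∀ N : Subgroup G, N.Normal → Group.IsNilpotent N →
      (Nat.card N).Coprime N.index → N ≤ Cfsg.fittingHall G := by
    intro N h1 h2 h3
    exact le_sSup ⟨h1, h2, h3⟩
  have hPF : (P : Subgroup G) ≤ Cfsg.fittingHall G :=
    hmaxF _ hPn P.isPGroup'.isNilpotent P.card_coprime_index
  have hF1 : Cfsg.fittingHall G ≠ ⊥ := by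
    intro h
    rw [h, le_bot_iff] at hPF
    exact hP1 hPF
  have hF2 : Cfsg.fittingHall G ≠ ⊤ := by
    intro h
    apply hnn
    rw [h] at hFnil
    haveI := hFnil
    exact Group.nilpotent_of_mulEquiv Subgroup.topEquiv
  obtain ⟨E, hFE⟩ := Subgroup.exists_right_complement'_of_coprime hcop
  have hdisj : Cfsg.fittingHall G ⊓ E = ⊥ := disjoint_iff.mp hFE.disjoint
  have hA : ∀ e ∈ E, e ≠ 1 → ∀ x ∈ Cfsg.fittingHall G, e * x = x * e → x = 1 := by
    intro e he he1 x hx hex
    by_contra hx1
    exact no_fixed hCN (Cfsg.fittingHall G) E hFnil hcop hFE hmaxF he he1 hx hx1 hex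
  have hE1 : E ≠ ⊥ := by
    intro h
    rw [h] at hFE
    exact hF2 (Subgroup.isComplement'_bot_right.mp hFE)
  have hE2 : E ≠ ⊤ := by
    intro h
    rw [h] at hFE
    exact hF1 (Subgroup.isComplement'_top_right.mp hFE)
  have hdecomp : ∀ g : G, ∃ f ∈ Cfsg.fittingHall G, ∃ e ∈ E, g = f * e := by
    intro g
    have hg : g ∈ Cfsg.fittingHall G ⊔ E := by
      rw [hFE.sup_eq_top]
      exact Subgroup.mem_top g
    obtain ⟨f, hf, e, he, hfe⟩ := Subgroup.mem_sup_of_normal_left.mp hg
    exact ⟨f, hf, e, he, hfe.symm⟩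
  refine ⟨hF1, hF2, ⟨E, hFE, ⟨hE1, hE2, ?_⟩, ?_⟩, ?_⟩
  · intro g hg
    rw [Subgroup.eq_bot_iff_forall]
    intro y hy
    obtain ⟨hyE, hyg⟩ := Subgroup.mem_inf.mp hy
    by_contra hy1
    apply hg
    obtain ⟨s, hs, hsy⟩ := (Subgroup.mem_smul_pointwise_iff_exists _ _ _).mp hyg
    have hsy' : g * s * g⁻¹ = y := hsy
    obtain ⟨f, hf, e₁, he₁, hge⟩ := hdecomp g
    have hs'E : e₁ * s * e₁⁻¹ ∈ E := E.mul_mem (E.mul_mem he₁ hs) (E.inv_mem he₁)
    have hy' : y = f * (e₁ * s * e₁⁻¹) * f⁻¹ := by
      rw [← hsy', hge]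
      group
    have h1 : y * (e₁ * s * e₁⁻¹)⁻¹ ∈ Cfsg.fittingHall G ⊓ E := by
      refine Subgroup.mem_inf.mpr ⟨?_, E.mul_mem hyE (E.inv_mem hs'E)⟩
      have h2 : y * (e₁ * s * e₁⁻¹)⁻¹
          = f * ((e₁ * s * e₁⁻¹) * f⁻¹ * (e₁ * s * e₁⁻¹)⁻¹) := by
        rw [hy']
        group
      rw [h2]
      exact (Cfsg.fittingHall G).mul_mem hf (hFn.conj_mem _ ((Cfsg.fittingHall G).inv_mem hf) _)
    rw [hdisj, Subgroup.mem_bot] at h1
    have hys : y = e₁ * s * e₁⁻¹ := mul_inv_eq_one.mp h1
    have h2 : y = f * y * f⁻¹ := by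
      rw [← hys] at hy'
      exact hy'
    have hfy : y * f = f * y := by
      calc y * f = (f * y * f⁻¹) * f := by rw [← h2]
        _ = f * y := by group
    have hf1 : f = 1 := hA y hyE hy1 f hf hfy
    rw [hge, hf1, one_mul]
    exact he₁
  · intro e he he1
    rw [Subgroup.eq_bot_iff_forall]
    intro x hx
    obtain ⟨hxF, hxC⟩ := Subgroup.mem_inf.mp hx
    rw [Subgroup.mem_centralizer_iff] at hxC
    exact hA e he he1 x hxF (hxC e (Set.mem_singleton e))
  · have hcopE : (Nat.card E).Coprime (Nat.card (Cfsg.fittingHall G)) := by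
      have hcardE : Nat.card E = (Cfsg.fittingHall G).index := hFE.symm.index_eq_card.symm
      rw [hcardE]
      exact hcop.symm
    have hEnil : Group.IsNilpotent E :=
      compl_nilpotent hCN (Cfsg.fittingHall G) E hFnil hF1 hcopE hA
    haveI := hEnil
    refine Group.nilpotent_of_surjective
      ((QuotientGroup.mk' (Cfsg.fittingHall G)).comp E.subtype) ?_
    intro x
    obtain ⟨g, rfl⟩ := QuotientGroup.mk_surjective x
    obtain ⟨f, hf, e, he, hge⟩ := hdecomp g
    refine ⟨⟨e, he⟩, ?_⟩
    show (QuotientGroup.mk e : G ⧸ Cfsg.fittingHall G) = QuotientGroup.mk g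
    rw [hge, QuotientGroup.eq]
    have h5 : e⁻¹ * (f * e) = e⁻¹ * f * e⁻¹⁻¹ := by group
    rw [h5]
    exact hFn.conj_mem f hf e⁻¹

end Cfsg.Agent.S1474
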