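import Cfsg.Statements.S1781
-- import your own Cfsg.Agent.* helpers here
import Cfsg.Agent.Helper11.TI

set_option autoImplicit false
open Cfsg

namespace Cfsg.Agent.S1781

/-- Let A be an abelian 2-subgroup of the finite group G such that every conjugate of A equals A or meets A trivially, and let g ∈ G with g A g⁻¹ ≠ A. Then either the subgroup of those elements of A that normalize g A g⁻¹ is an elementary abelian 2-group, or A and g A g⁻¹ commute elementwise. -/
theorem result {G : Type*} [Group G] [Finite G] (A : Subgroup G)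
    (hA2 : IsPGroup 2 ↥A) (hAa : IsMulCommutative ↥A)
    (hti : ∀ h : G, A.map (MulAut.conj h).toMonoidHom = A ∨ A.map (MulAut.conj h).toMonoidHom ⊓ A = ⊥)
    (g : G) (hg : A.map (MulAut.conj g).toMonoidHom ≠ A) :
    Cfsg.IsElementaryAbelian 2 (A ⊓ Subgroup.normalizer ((A.map (MulAut.conj g).toMonoidHom : Subgroup G) : Set G)) ∨
      ⁅A, A.map (MulAut.conj g).toMonoidHom⁆ = ⊥ := by
  have hTI : Helper11.IsTI A := hti
  have hTI' : Helper11.IsTI (Helper11.cj A g) := hTI.cj g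
  have hAA' : A ⊓ Helper11.cj A g = ⊥ := by
    rcases hti g with h | h
    · exact absurd h hg
    · rw [inf_comm]; exact h
  by_cases hD : ∀ a ∈ A ⊓ Subgroup.normalizer ((Helper11.cj A g : Subgroup G) : Set G), a ^ 2 = 1
  · left
    refine ⟨?_, hD⟩
    refine ⟨⟨?_⟩⟩
    rintro ⟨x, hx⟩ ⟨y, hy⟩
    apply Subtype.ext
    have := mul_comm' (⟨x, hx.1⟩ : A) ⟨y, hy.1⟩
    have h1 : x * y = y * x := congrArg Subtype.val this
    exact h1
  · right
    push Not at hD
    obtain ⟨d, hdD, hd2⟩ := hD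
    have hdA : d ∈ A := hdD.1
    have hdN : d ∈ Subgroup.normalizer ((Helper11.cj A g : Subgroup G) : Set G) := hdD.2
    have hA'2 : IsPGroup 2 ↥(Helper11.cj A g) := hA2.map _
    have hA'c : IsMulCommutative ↥(Helper11.cj A g) := by
      refine ⟨⟨?_⟩⟩
      rintro ⟨x, hx⟩ ⟨y, hy⟩
      apply Subtype.ext
      rw [Helper11.mem_cj] at hx hy
      have := mul_comm' (⟨_, hx⟩ : A) ⟨_, hy⟩
      have h1 : (g⁻¹ * x * g) * (g⁻¹ * y * g) = (g⁻¹ * y * g) * (g⁻¹ * x * g) :=
        congrArg Subtype.val this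
      show x * y = y * x
      calc x * y = g * ((g⁻¹ * x * g) * (g⁻¹ * y * g)) * g⁻¹ := by group
        _ = g * ((g⁻¹ * y * g) * (g⁻¹ * x * g)) * g⁻¹ := by rw [h1]
        _ = y * x := by group
    have hcent : ∀ y ∈ Helper11.cj A g, d * y * d⁻¹ = y :=
      Helper11.centralizes_of_sq_ne_one hTI hA2 hA'2 hA'c hAA' hdA hdN hd2
    have hd1 : d ≠ 1 := by
      rintro rfl
      simp at hd2
    have hN1 : ∀ a' ∈ Helper11.cj A g, ∀ x ∈ A, a' * x * a'⁻¹ ∈ A := by
      intro a' ha' x hx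
      apply hTI.conj_mem hdA hd1 _ hx
      have := hcent a' ha'
      calc a' * d = (d * a' * d⁻¹) * d := by rw [this]
        _ = d * a' := by group
    have hd'A' : g * d * g⁻¹ ∈ Helper11.cj A g := Helper11.conj_mem_cj hdA
    have hd'2 : (g * d * g⁻¹) ^ 2 ≠ 1 := by
      intro h
      apply hd2
      calc d ^ 2 = g⁻¹ * (g * d * g⁻¹) ^ 2 * g := by rw [pow_two, pow_two]; group
        _ = 1 := by rw [h]; group
    have hd'1 : g * d * g⁻¹ ≠ 1 := by
      intro h
      rw [h] at hd'2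
      simp at hd'2
    have hcomm : (g * d * g⁻¹) * d = d * (g * d * g⁻¹) := by
      have := hcent _ hd'A'
      calc (g * d * g⁻¹) * d = (d * (g * d * g⁻¹) * d⁻¹) * d := by rw [this]
        _ = d * (g * d * g⁻¹) := by group
    have hd'N : g * d * g⁻¹ ∈ Subgroup.normalizer (A : Set G) :=
      Helper11.cj_eq_iff_mem_normalizer.mp (hTI.cj_eq_of_commute hdA hd1 hcomm)
    have hcent' : ∀ y ∈ A, (g * d * g⁻¹) * y * (g * d * g⁻¹)⁻¹ = y :=
      Helper11.centralizes_of_sq_ne_one hTI' hA'2 hA2 hAa (by rw [inf_comm]; exact hAA') hd'A' hd'N hd'2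
    have hN2 : ∀ a ∈ A, ∀ x ∈ Helper11.cj A g, a * x * a⁻¹ ∈ Helper11.cj A g := by
      intro a ha x hx
      apply hTI'.conj_mem hd'A' hd'1 _ hx
      have := hcent' a ha
      calc a * (g * d * g⁻¹) = ((g * d * g⁻¹) * a * (g * d * g⁻¹)⁻¹) * (g * d * g⁻¹) := by rw [this]
        _ = (g * d * g⁻¹) * a := by group
    show ⁅A, Helper11.cj A g⁆ = ⊥
    rw [eq_bot_iff, ← hAA', Subgroup.commutator_le]
    intro a ha a' ha'
    show a * a' * a⁻¹ * a'⁻¹ ∈ A ⊓ Helper11.cj A g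
    refine ⟨?_, ?_⟩
    · have : a * a' * a⁻¹ * a'⁻¹ = a * (a' * a⁻¹ * a'⁻¹) := by group
      rw [this]
      exact A.mul_mem ha (hN1 a' ha' a⁻¹ (A.inv_mem ha))
    · exact Subgroup.mul_mem _ (hN2 a ha a' ha') (Subgroup.inv_mem _ ha')

end Cfsg.Agent.S1781
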