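import Cfsg.Statements.S1782
-- import your own Cfsg.Agent.* helpers here
import Cfsg.Agent.Helper11.TwoGroup

set_option autoImplicit false
open Cfsg

namespace Cfsg.Agent.S1782

universe u

theorem family_commute (n : ℕ) : ∀ (S : Type u) [Group S] [Finite S], Nat.card S = n →
    IsPGroup 2 S → ∀ (Δ : Set (Subgroup S)),
    (∀ s : S, ∀ R ∈ Δ, R.map (MulAut.conj s).toMonoidHom ∈ Δ) →
    (∀ R ∈ Δ, ∃ r ∈ R, r ^ 2 ≠ 1) → (∀ R ∈ Δ, ∀ T ∈ Δ, Nat.card ↥R = Nat.card ↥T) →
    (∀ R ∈ Δ, ∀ T ∈ Δ, R = T ∨ R ⊓ T = ⊥) →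
    ∀ R ∈ Δ, ∀ T ∈ Δ, R ≠ T → ⁅R, T⁆ = ⊥ := by
  induction n using Nat.strong_induction_on with
  | _ n ih =>
  intro S _ _ hn hS Δ hinv hsq hord hti
  haveI : Fact (Nat.Prime 2) := ⟨Nat.prime_two⟩
  have lemA : ∀ M : Subgroup S, M ≠ ⊤ → ∀ U ∈ Δ, ∀ V ∈ Δ, U ≤ M → V ≤ M → U ≠ V →
      ⁅U, V⁆ = ⊥ := by
    intro M hM U hU V hV hUM hVM hUV
    have hcardM : Nat.card ↥M < n := by
      rw [← hn]
      by_contra hlt
      push Not at hlt
      exact hM (Subgroup.eq_top_of_le_card M hlt)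
    have hinj : Function.Injective M.subtype := Subgroup.subtype_injective M
    have h1 : (U.subgroupOf M).map M.subtype = U := Subgroup.map_subgroupOf_eq_of_le hUM
    have h2 : (V.subgroupOf M).map M.subtype = V := Subgroup.map_subgroupOf_eq_of_le hVM
    have key := ih (Nat.card ↥M) hcardM ↥M rfl (hS.to_subgroup M)
      {W : Subgroup ↥M | W.map M.subtype ∈ Δ} ?_ ?_ ?_ ?_ (U.subgroupOf M) ?_ (V.subgroupOf M) ?_ ?_
    · rw [← h1, ← h2, ← Subgroup.map_commutator, key, Subgroup.map_bot]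
    · intro s W hW
      show (W.map (MulAut.conj s).toMonoidHom).map M.subtype ∈ Δ
      have : (W.map (MulAut.conj s).toMonoidHom).map M.subtype =
          (W.map M.subtype).map (MulAut.conj (s : S)).toMonoidHom := by
        rw [Subgroup.map_map, Subgroup.map_map]
        congr 1
      rw [this]
      exact hinv s _ hW
    · intro W hW
      obtain ⟨r, ⟨w, hw, rfl⟩, hr2⟩ := hsq _ hW
      refine ⟨w, hw, ?_⟩
      intro h
      apply hr2
      rw [← map_pow, h, map_one]
    · intro W₁ hW₁ W₂ hW₂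
      have := hord _ hW₁ _ hW₂
      rwa [Subgroup.card_map_of_injective hinj, Subgroup.card_map_of_injective hinj] at this
    · intro W₁ hW₁ W₂ hW₂
      rcases hti _ hW₁ _ hW₂ with h | h
      · left; exact Subgroup.map_injective hinj h
      · right
        rw [eq_bot_iff]
        intro x hx
        have hx' : M.subtype x ∈ W₁.map M.subtype ⊓ W₂.map M.subtype :=
          ⟨Subgroup.mem_map_of_mem _ hx.1, Subgroup.mem_map_of_mem _ hx.2⟩
        rw [h] at hx'
        have hx'' : M.subtype x = 1 := hx'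
        show x = 1
        exact Subtype.ext hx''
    · show (U.subgroupOf M).map M.subtype ∈ Δ
      rw [h1]; exact hU
    · show (V.subgroupOf M).map M.subtype ∈ Δ
      rw [h2]; exact hV
    · intro h
      apply hUV
      rw [← h1, ← h2, h]
  have hTI : ∀ U ∈ Δ, Helper11.IsTI U := fun U hU g => hti _ (hinv g U hU) U hU
  haveI hnil : Group.IsNilpotent S := hS.isNilpotent
  have hnc : NormalizerCondition S := normalizerCondition_of_isNilpotent
  have lemB : ∀ U ∈ Δ, U ≠ ⊤ → ∀ s : S,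
      Helper11.cj U s = U ∨ ⁅U, Helper11.cj U s⁆ = ⊥ := by
    intro U hU hUtop s
    obtain ⟨M, hMco, hUM⟩ := (eq_top_or_exists_le_coatom U).resolve_left hUtop
    have hMn : M.Normal := Subgroup.NormalizerCondition.normal_of_coatom M hnc hMco
    by_cases h : Helper11.cj U s = U
    · left; exact h
    · right
      apply lemA M hMco.1 U hU _ (hinv s U hU) hUM ?_ (Ne.symm h)
      rintro _ ⟨u, hu, rfl⟩
      exact hMn.conj_mem u (hUM hu) s
  intro R hR T hT hRT
  by_cases htop : R ⊔ T = ⊤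
  · have hdisj : R ⊓ T = ⊥ := (hti R hR T hT).resolve_left hRT
    have hRne : R ≠ ⊤ := by
      intro h
      obtain ⟨t, ht, ht2⟩ := hsq T hT
      have hmem : t ∈ R ⊓ T := ⟨h ▸ Subgroup.mem_top t, ht⟩
      rw [hdisj] at hmem
      have h1 : t = 1 := hmem
      rw [h1] at ht2
      simp at ht2
    have hTne : T ≠ ⊤ := by
      intro h
      obtain ⟨r, hr, hr2⟩ := hsq R hR
      have hmem : r ∈ R ⊓ T := ⟨hr, h ▸ Subgroup.mem_top r⟩
      rw [hdisj] at hmem
      have h1 : r = 1 := hmem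
      rw [h1] at hr2
      simp at hr2
    exact Helper11.core_commute (hTI R hR) (hTI T hT) (hS.to_subgroup R) (hS.to_subgroup T)
      hdisj (hord R hR T hT) (fun t _ => lemB R hR hRne t) (fun r _ => lemB T hT hTne r)
      (hsq R hR) (hsq T hT)
  · exact lemA (R ⊔ T) htop R hR T hT le_sup_left le_sup_right hRT

/-- Let S be a finite 2-group and Δ a set of subgroups of S closed under conjugation by S, all of the same order, each with nontrivial Frattini subgroup, and such that two distinct members of Δ meet trivially. Then any two distinct members of Δ commute elementwise. -/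
theorem result {S : Type*} [Group S] [Finite S] (hS : IsPGroup 2 S)
    (Δ : Set (Subgroup S)) (hinv : ∀ s : S, ∀ R ∈ Δ, R.map (MulAut.conj s).toMonoidHom ∈ Δ)
    (hΦ : ∀ R ∈ Δ, frattini ↥R ≠ ⊥) (hord : ∀ R ∈ Δ, ∀ T ∈ Δ, Nat.card ↥R = Nat.card ↥T)
    (hti : ∀ R ∈ Δ, ∀ T ∈ Δ, R = T ∨ R ⊓ T = ⊥) :
    ∀ R ∈ Δ, ∀ T ∈ Δ, R ≠ T → ⁅R, T⁆ = ⊥ := by
  apply family_commute (Nat.card S) S rfl hS Δ hinv ?_ hord hti
  intro R hR
  by_contra h
  push Not at h
  apply hΦ R hR
  apply Helper11.frattini_eq_bot_of_sq_eq_one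
  intro r
  apply Subtype.ext
  exact h r r.2

end Cfsg.Agent.S1782
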