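import Cfsg.Statements.S2308
-- import your own Cfsg.Agent.* helpers here

set_option autoImplicit false
open Cfsg

namespace Cfsg.Agent.S2308

theorem mem_B {F : Type*} [Field F] (M : Matrix.GeneralLinearGroup (Fin 2) F) :
    M ∈ Cfsg.upperTriangularGL 2 F ↔ (M : Matrix (Fin 2) (Fin 2) F) 1 0 = 0 := by
  change (M : Matrix (Fin 2) (Fin 2) F).BlockTriangular id ↔ _
  constructor
  · intro h
    exact h (by decide)
  · intro h i j hij
    fin_cases i <;> fin_cases j <;> simp_all

noncomputable def xRep {F : Type*} [Field F] (t : F) : Matrix.GeneralLinearGroup (Fin 2) F :=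
  Matrix.GeneralLinearGroup.mkOfDetNeZero !![1, 0; t, 1] (by simp [Matrix.det_fin_two])

noncomputable def wRep (F : Type*) [Field F] : Matrix.GeneralLinearGroup (Fin 2) F :=
  Matrix.GeneralLinearGroup.mkOfDetNeZero !![0, 1; 1, 0] (by simp [Matrix.det_fin_two])

theorem xRep_coe {F : Type*} [Field F] (t : F) :
    ((xRep t : Matrix.GeneralLinearGroup (Fin 2) F) : Matrix (Fin 2) (Fin 2) F) = !![1, 0; t, 1] := rfl

theorem wRep_coe {F : Type*} [Field F] :
    ((wRep F : Matrix.GeneralLinearGroup (Fin 2) F) : Matrix (Fin 2) (Fin 2) F) = !![0, 1; 1, 0] := rfl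

theorem xRep_inv {F : Type*} [Field F] (t : F) : (xRep t)⁻¹ = xRep (-t) := by
  apply inv_eq_of_mul_eq_one_right
  apply Matrix.GeneralLinearGroup.ext
  intro i j
  rw [Matrix.GeneralLinearGroup.coe_mul, xRep_coe, xRep_coe]
  fin_cases i <;> fin_cases j <;> simp [Matrix.mul_apply, Fin.sum_univ_two]

theorem wRep_inv {F : Type*} [Field F] : (wRep F)⁻¹ = wRep F := by
  apply inv_eq_of_mul_eq_one_right
  apply Matrix.GeneralLinearGroup.ext
  intro i j
  rw [Matrix.GeneralLinearGroup.coe_mul, wRep_coe]
  fin_cases i <;> fin_cases j <;> simp [Matrix.mul_apply, Fin.sum_univ_two]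

theorem mk_eq_iff {F : Type*} [Field F] (M N : Matrix.GeneralLinearGroup (Fin 2) F) :
    ((M : Matrix.GeneralLinearGroup (Fin 2) F ⧸ Cfsg.upperTriangularGL 2 F) = N) ↔
      ((M⁻¹ * N : Matrix.GeneralLinearGroup (Fin 2) F) : Matrix (Fin 2) (Fin 2) F) 1 0 = 0 := by
  rw [QuotientGroup.eq, mem_B]

theorem x_entry {F : Type*} [Field F] (t : F) (N : Matrix.GeneralLinearGroup (Fin 2) F) :
    (((xRep t)⁻¹ * N : Matrix.GeneralLinearGroup (Fin 2) F) : Matrix (Fin 2) (Fin 2) F) 1 0
      = -t * (N : Matrix (Fin 2) (Fin 2) F) 0 0 + (N : Matrix (Fin 2) (Fin 2) F) 1 0 := by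
  rw [xRep_inv, Matrix.GeneralLinearGroup.coe_mul, xRep_coe]
  simp [Matrix.mul_apply, Fin.sum_univ_two]

theorem w_entry {F : Type*} [Field F] (N : Matrix.GeneralLinearGroup (Fin 2) F) :
    (((wRep F)⁻¹ * N : Matrix.GeneralLinearGroup (Fin 2) F) : Matrix (Fin 2) (Fin 2) F) 1 0
      = (N : Matrix (Fin 2) (Fin 2) F) 0 0 := by
  rw [wRep_inv, Matrix.GeneralLinearGroup.coe_mul, wRep_coe]
  simp [Matrix.mul_apply, Fin.sum_univ_two]

/-- the parametrisation of cosets -/
noncomputable def phi {F : Type*} [Field F] :
    Option F → Matrix.GeneralLinearGroup (Fin 2) F ⧸ Cfsg.upperTriangularGL 2 F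
  | some t => ((xRep t : Matrix.GeneralLinearGroup (Fin 2) F) : _ ⧸ _)
  | none => ((wRep F : Matrix.GeneralLinearGroup (Fin 2) F) : _ ⧸ _)

theorem phi_bij {F : Type*} [Field F] : Function.Bijective (phi (F := F)) := by
  constructor
  · intro o o' h
    rcases o with _ | t <;> rcases o' with _ | s
    · rfl
    · exfalso
      simp only [phi] at h
      rw [mk_eq_iff, w_entry, xRep_coe] at h
      simp at h
    · exfalso
      simp only [phi] at h
      rw [mk_eq_iff, x_entry, wRep_coe] at h
      simp at h
    · simp only [phi] at h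
      rw [mk_eq_iff, x_entry, xRep_coe] at h
      simp at h
      congr 1
      linear_combination -h
  · intro y
    induction y using QuotientGroup.induction_on with
    | H M =>
      by_cases ha : (M : Matrix (Fin 2) (Fin 2) F) 0 0 = 0
      · refine ⟨none, ?_⟩
        simp only [phi]
        rw [mk_eq_iff, w_entry, ha]
      · refine ⟨some ((M : Matrix (Fin 2) (Fin 2) F) 1 0 / (M : Matrix (Fin 2) (Fin 2) F) 0 0), ?_⟩
        simp only [phi]
        rw [mk_eq_iff, x_entry]
        field_simp
        ring

theorem fixed_iff {F : Type*} [Field F] (g M : Matrix.GeneralLinearGroup (Fin 2) F) :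
    ((M : Matrix.GeneralLinearGroup (Fin 2) F ⧸ Cfsg.upperTriangularGL 2 F) ∈
        MulAction.fixedBy (Matrix.GeneralLinearGroup (Fin 2) F ⧸ Cfsg.upperTriangularGL 2 F) g) ↔
      ((M⁻¹ * (g * M) : Matrix.GeneralLinearGroup (Fin 2) F) : Matrix (Fin 2) (Fin 2) F) 1 0 = 0 := by
  rw [MulAction.mem_fixedBy, MulAction.Quotient.smul_mk, eq_comm, mk_eq_iff]
  rfl

/-- the condition -/
def cond {F : Type*} [Field F] (g : Matrix.GeneralLinearGroup (Fin 2) F) : Option F → Prop
  | some t => -t * ((g : Matrix (Fin 2) (Fin 2) F) 0 0 + (g : Matrix (Fin 2) (Fin 2) F) 0 1 * t)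
      + ((g : Matrix (Fin 2) (Fin 2) F) 1 0 + (g : Matrix (Fin 2) (Fin 2) F) 1 1 * t) = 0
  | none => (g : Matrix (Fin 2) (Fin 2) F) 0 1 = 0

theorem phi_fixed_iff {F : Type*} [Field F] (g : Matrix.GeneralLinearGroup (Fin 2) F) (o : Option F) :
    cond g o ↔ phi o ∈
        MulAction.fixedBy (Matrix.GeneralLinearGroup (Fin 2) F ⧸ Cfsg.upperTriangularGL 2 F) g := by
  rcases o with _ | t
  · simp only [phi, cond]
    rw [fixed_iff, w_entry, Matrix.GeneralLinearGroup.coe_mul, wRep_coe]
    simp [Matrix.mul_apply, Fin.sum_univ_two]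
  · simp only [phi, cond]
    rw [fixed_iff, x_entry, Matrix.GeneralLinearGroup.coe_mul, xRep_coe]
    simp [Matrix.mul_apply, Fin.sum_univ_two]

theorem fpc_eq {F : Type*} [Field F] (g : Matrix.GeneralLinearGroup (Fin 2) F) :
    Cfsg.fixedPointCharacter (Cfsg.upperTriangularGL 2 F) g = ((Set.ncard {o : Option F | cond g o} : ℕ) : ℂ) := by
  unfold Cfsg.fixedPointCharacter
  congr 1
  rw [← Nat.card_coe_set_eq]
  exact (Nat.card_congr (Equiv.subtypeEquiv (Equiv.ofBijective phi phi_bij) (phi_fixed_iff g))).symm

/-- Values of the permutation character of GL₂ over a finite field F with q elements on the cosets of its upper triangular subgroup (equivalently, the number of lines of F² that an element maps to themselves): q + 1 at a scalar matrix, 2 at a diagonal matrix with two different diagonal entries, 0 at an element with no eigenvector in F², and 1 at an upper triangular matrix with equal diagonal entries and non-zero upper right entry. -/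
theorem result {F : Type*} [Field F] [Fintype F] (g : Matrix.GeneralLinearGroup (Fin 2) F) :
    ((∃ a : F, (g : Matrix (Fin 2) (Fin 2) F) = a • (1 : Matrix (Fin 2) (Fin 2) F)) → Cfsg.fixedPointCharacter (Cfsg.upperTriangularGL 2 F) g = Fintype.card F + 1) ∧
    ((g : Matrix (Fin 2) (Fin 2) F) 0 1 = 0 → (g : Matrix (Fin 2) (Fin 2) F) 1 0 = 0 → (g : Matrix (Fin 2) (Fin 2) F) 0 0 ≠ (g : Matrix (Fin 2) (Fin 2) F) 1 1 →
      Cfsg.fixedPointCharacter (Cfsg.upperTriangularGL 2 F) g = 2) ∧
    ((∀ (c : F) (v : Fin 2 → F), v ≠ 0 → (g : Matrix (Fin 2) (Fin 2) F).mulVec v ≠ c • v) → Cfsg.fixedPointCharacter (Cfsg.upperTriangularGL 2 F) g = 0) ∧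
    ((g : Matrix (Fin 2) (Fin 2) F) 1 0 = 0 → (g : Matrix (Fin 2) (Fin 2) F) 0 0 = (g : Matrix (Fin 2) (Fin 2) F) 1 1 → (g : Matrix (Fin 2) (Fin 2) F) 0 1 ≠ 0 →
      Cfsg.fixedPointCharacter (Cfsg.upperTriangularGL 2 F) g = 1) := by
  refine ⟨?_, ?_, ?_, ?_⟩
  · rintro ⟨a, ha⟩
    rw [fpc_eq]
    have : {o : Option F | cond g o} = Set.univ := by
      ext o
      simp only [Set.mem_setOf_eq, Set.mem_univ, iff_true]
      rcases o with _ | t
      · simp [cond, ha]
      · simp [cond, ha]
        ring
    rw [this, Set.ncard_univ, Nat.card_eq_fintype_card, Fintype.card_option]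
    push_cast
    rfl
  · intro h01 h10 hne
    rw [fpc_eq]
    have : {o : Option F | cond g o} = {some 0, none} := by
      ext o
      simp only [Set.mem_setOf_eq, Set.mem_insert_iff, Set.mem_singleton_iff]
      rcases o with _ | t
      · simp [cond, h01]
      · simp only [cond, h01, h10]
        simp only [Option.some.injEq, reduceCtorEq, or_false]
        constructor
        · intro h
          have h' : t * ((g : Matrix (Fin 2) (Fin 2) F) 1 1 - (g : Matrix (Fin 2) (Fin 2) F) 0 0) = 0 := by
            linear_combination h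
          rcases mul_eq_zero.mp h' with h'' | h''
          · exact h''
          · exact absurd (sub_eq_zero.mp h'').symm hne
        · rintro rfl
          ring
    rw [this, Set.ncard_pair (by simp)]
    norm_num
  · intro hno
    rw [fpc_eq]
    have : {o : Option F | cond g o} = ∅ := by
      ext o
      simp only [Set.mem_setOf_eq, Set.mem_empty_iff_false, iff_false]
      rcases o with _ | t
      · simp only [cond]
        intro hb
        apply hno ((g : Matrix (Fin 2) (Fin 2) F) 1 1) ![0, 1]
        · intro h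
          have := congrFun h 1
          simp at this
        · ext i
          fin_cases i <;> simp [Matrix.mulVec, dotProduct, Fin.sum_univ_two, hb]
      · simp only [cond]
        intro hb
        apply hno ((g : Matrix (Fin 2) (Fin 2) F) 0 0 + (g : Matrix (Fin 2) (Fin 2) F) 0 1 * t) ![1, t]
        · intro h
          have := congrFun h 0
          simp at this
        · ext i
          fin_cases i
          · simp [Matrix.mulVec, dotProduct, Fin.sum_univ_two]
          · simp [Matrix.mulVec, dotProduct, Fin.sum_univ_two]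
            linear_combination hb
    rw [this, Set.ncard_empty]
    norm_num
  · intro h10 heq hne
    rw [fpc_eq]
    have : {o : Option F | cond g o} = {some 0} := by
      ext o
      simp only [Set.mem_setOf_eq, Set.mem_singleton_iff]
      rcases o with _ | t
      · simp [cond, hne]
      · simp only [cond, h10, heq]
        simp only [Option.some.injEq]
        constructor
        · intro h
          have h' : (g : Matrix (Fin 2) (Fin 2) F) 0 1 * (t * t) = 0 := by
            linear_combination -h
          rcases mul_eq_zero.mp h' with h'' | h''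
          · exact absurd h'' hne
          · exact mul_self_eq_zero.mp h''
        · rintro rfl
          ring
    rw [this, Set.ncard_singleton]
    norm_num

end Cfsg.Agent.S2308
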