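import Cfsg.Statements.S2325
import Cfsg.Agent.Helper14.SL2Odd

set_option autoImplicit false
open Cfsg

namespace Cfsg.Agent.S2325

open Cfsg.Agent.Helper14.Mat2 Cfsg.Agent.Helper14.SL2Odd in
theorem main {F : Type*} [Field F] [Fintype F] [DecidableEq F] (hodd : Odd (Fintype.card F)) :
    Nat.card (ConjClasses (Matrix.SpecialLinearGroup (Fin 2) F)) = Fintype.card F + 4 := by
  have hchar : ringChar F ≠ 2 := by
    intro h
    have := FiniteField.even_card_of_char_two h
    rw [Nat.odd_iff] at hodd
    omega
  have h2 : (2 : F) ≠ 0 := Ring.two_ne_zero hchar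
  obtain ⟨ν0, hν0⟩ := FiniteField.exists_nonsquare hchar
  have hν0ne : ν0 ≠ 0 := by
    rintro rfl
    exact hν0 ⟨0, by simp⟩
  obtain ⟨ν, hν⟩ : ∃ ν : Fˣ, (ν : F) = ν0 := ⟨Units.mk0 ν0 hν0ne, rfl⟩
  have hνns : ¬ IsSquare (ν : F) := by rw [hν]; exact hν0
  let rz : Bool → Matrix.SpecialLinearGroup (Fin 2) F := fun b => if b then 1 else negOne
  let rn : F ⊕ Bool → Matrix.SpecialLinearGroup (Fin 2) F := fun x =>
    match x with
    | Sum.inl τ => compSL τ
    | Sum.inr b => rep (if b then 2 else -2) ν
  let φ : Bool ⊕ (F ⊕ Bool) → ConjClasses (Matrix.SpecialLinearGroup (Fin 2) F) :=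
    Sum.elim (fun b => ConjClasses.mk (rz b)) (fun x => ConjClasses.mk (rn x))
  have hz_central : ∀ (b : Bool) (h : Matrix.SpecialLinearGroup (Fin 2) F), IsConj (rz b) h → h = rz b := by
    intro b h hc
    rw [isConj_iff] at hc
    obtain ⟨c, rfl⟩ := hc
    have hcomm : c * rz b = rz b * c := by
      cases b
      · apply Subtype.ext
        simp only [rz, Bool.false_eq_true, if_false, Matrix.SpecialLinearGroup.coe_mul, coe_negOne]
        ext i j
        fin_cases i <;> fin_cases j <;> simp [Matrix.mul_apply, Fin.sum_univ_two]
      · simp [rz]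
    rw [hcomm, mul_inv_cancel_right]
  have hz10 : ∀ b : Bool, (rz b : Matrix (Fin 2) (Fin 2) F) 1 0 = 0 := by
    intro b
    cases b <;> simp [rz, coe_negOne]
  have hn10 : ∀ x : F ⊕ Bool, (rn x : Matrix (Fin 2) (Fin 2) F) 1 0 ≠ 0 := by
    rintro (τ | b)
    · simp [rn, coe_compSL, comp_apply_one_zero]
    · simp [rn, coe_rep]
  have htr : ∀ x : F ⊕ Bool, (rn x : Matrix (Fin 2) (Fin 2) F).trace =
      Sum.elim (fun τ => τ) (fun b : Bool => if b then (2 : F) else -2) x := by
    rintro (τ | b)
    · simp [rn, coe_compSL, trace_comp]
    · simp [rn, trace_rep]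
  have hneg2 : (2 : F) ≠ -2 := by
    intro h
    have : (2 : F) * 2 = 0 := by linear_combination h
    exact h2 (mul_self_eq_zero.mp this)
  have hnosq : ∀ (τ : F) (b : Bool), ¬ IsConj (rn (Sum.inl τ)) (rn (Sum.inr b)) := by
    intro τ b hc
    have h1 := (htr (Sum.inl τ)).symm.trans ((trace_eq_of_isConj_SL hc).trans (htr (Sum.inr b)))
    simp only [Sum.elim_inl, Sum.elim_inr] at h1
    cases b
    · have hc' : IsConj (compSL (2 * (-1 : F))) (rep (2 * (-1 : F)) ν) := by
        simp only [rn, h1, Bool.false_eq_true, if_false] at hc
        simpa using hc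
      exact hνns (isSquare_of_isConj_compSL_rep (-1) (by ring) ν hc')
    · have hc' : IsConj (compSL (2 * (1 : F))) (rep (2 * (1 : F)) ν) := by
        simp only [rn, h1, if_true] at hc
        simpa using hc
      exact hνns (isSquare_of_isConj_compSL_rep 1 (by ring) ν hc')
  have hinj : Function.Injective φ := by
    rintro (b | x) (b' | x') hab
    · have h1 := hz_central b _ (ConjClasses.mk_eq_mk_iff_isConj.mp hab)
      cases b <;> cases b'
      · rfl
      · exfalso
        have h3 := congrArg (fun M : Matrix.SpecialLinearGroup (Fin 2) F => (M : Matrix (Fin 2) (Fin 2) F) 0 0) h1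
        simp [rz, coe_negOne] at h3
        exact hneg2 (by linear_combination 2 * h3)
      · exfalso
        have h3 := congrArg (fun M : Matrix.SpecialLinearGroup (Fin 2) F => (M : Matrix (Fin 2) (Fin 2) F) 0 0) h1
        simp [rz, coe_negOne] at h3
        exact hneg2 (by linear_combination -2 * h3)
      · rfl
    · exfalso
      have h1 := hz_central b _ (ConjClasses.mk_eq_mk_iff_isConj.mp hab)
      exact hn10 x' (by rw [h1]; exact hz10 b)
    · exfalso
      have h1 := hz_central b' _ (ConjClasses.mk_eq_mk_iff_isConj.mp hab.symm)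
      exact hn10 x (by rw [h1]; exact hz10 b')
    · have hc : IsConj (rn x) (rn x') := ConjClasses.mk_eq_mk_iff_isConj.mp hab
      have h1 := (htr x).symm.trans ((trace_eq_of_isConj_SL hc).trans (htr x'))
      rcases x with τ | b <;> rcases x' with τ' | b'
      · simp only [Sum.elim_inl] at h1
        rw [h1]
      · exact absurd hc (hnosq τ b')
      · exact absurd hc.symm (hnosq τ' b)
      · simp only [Sum.elim_inr] at h1
        cases b <;> cases b'
        · rfl
        · exfalso
          simp at h1
          exact hneg2 h1.symm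
        · exfalso
          simp at h1
          exact hneg2 h1
        · rfl
  have hsurj : Function.Surjective φ := by
    intro c
    obtain ⟨g, rfl⟩ := ConjClasses.mk_surjective c
    by_cases hns : (g : Matrix (Fin 2) (Fin 2) F) 1 0 ≠ 0 ∨ (g : Matrix (Fin 2) (Fin 2) F) 0 1 ≠ 0 ∨
        (g : Matrix (Fin 2) (Fin 2) F) 0 0 ≠ (g : Matrix (Fin 2) (Fin 2) F) 1 1
    · obtain ⟨d, hd⟩ := isConj_rep_of_nonscalar g hns
      by_cases hsq : IsSquare (d : F)
      · obtain ⟨c, hc⟩ := hsq
        have hcne : c ≠ 0 := by
          rintro rfl
          simp at hc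
        refine ⟨Sum.inr (Sum.inl (g : Matrix (Fin 2) (Fin 2) F).trace), ?_⟩
        symm
        apply ConjClasses.mk_eq_mk_iff_isConj.mpr
        refine hd.trans ?_
        apply isConj_rep_compSL_of_eq _ d c⁻¹ 0
        rw [hc]
        field_simp
        ring
      · have hsq2 : IsSquare ((d : F) * (ν : F)) := by
          rw [← quadraticChar_one_iff_isSquare (mul_ne_zero d.ne_zero ν.ne_zero), map_mul,
            quadraticChar_neg_one_iff_not_isSquare.mpr hsq, quadraticChar_neg_one_iff_not_isSquare.mpr hνns]
          norm_num
        obtain ⟨e, he⟩ := hsq2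
        have hene : e ≠ 0 := by
          rintro rfl
          simp at he
        have hdν : d = ν * (Units.mk0 e hene * ν⁻¹) ^ 2 := by
          apply Units.ext
          simp only [Units.val_mul, Units.val_pow_eq_pow_val, Units.val_mk0, Units.val_inv_eq_inv_val]
          have hνne : (ν : F) ≠ 0 := ν.ne_zero
          field_simp
          linear_combination he
        have hd2 : IsConj g (rep (g : Matrix (Fin 2) (Fin 2) F).trace ν) := by
          refine hd.trans ?_
          rw [hdν]
          exact (isConj_rep_mul_sq _ ν _).symm
        by_cases ht2 : (g : Matrix (Fin 2) (Fin 2) F).trace = 2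
        · refine ⟨Sum.inr (Sum.inr true), ?_⟩
          symm
          apply ConjClasses.mk_eq_mk_iff_isConj.mpr
          rw [ht2] at hd2
          simpa [rn] using hd2
        · by_cases htm2 : (g : Matrix (Fin 2) (Fin 2) F).trace = -2
          · refine ⟨Sum.inr (Sum.inr false), ?_⟩
            symm
            apply ConjClasses.mk_eq_mk_iff_isConj.mpr
            rw [htm2] at hd2
            simpa [rn] using hd2
          · refine ⟨Sum.inr (Sum.inl (g : Matrix (Fin 2) (Fin 2) F).trace), ?_⟩
            symm
            apply ConjClasses.mk_eq_mk_iff_isConj.mpr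
            refine hd2.trans ?_
            set τ := (g : Matrix (Fin 2) (Fin 2) F).trace with hτ
            have h4 : (4 : F) ≠ 0 := by
              have : (4 : F) = 2 * 2 := by norm_num
              rw [this]
              exact mul_ne_zero h2 h2
            have hD : (1 - τ ^ 2 / 4 : F) ≠ 0 := by
              intro h0
              have h5 : (τ - 2) * (τ + 2) = 0 := by
                field_simp at h0
                linear_combination -h0
              rcases mul_eq_zero.mp h5 with h6 | h6
              · exact ht2 (by linear_combination h6)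
              · exact htm2 (by linear_combination h6)
            have hf : (Polynomial.X ^ 2 : Polynomial F).degree = 2 := by
              simp
            have hg : (Polynomial.C (1 - τ ^ 2 / 4) * Polynomial.X ^ 2 - Polynomial.C ((ν : F)⁻¹) : Polynomial F).degree = 2 := by
              rw [Polynomial.degree_sub_C (by rw [Polynomial.degree_C_mul_X_pow 2 hD]; norm_num),
                Polynomial.degree_C_mul_X_pow 2 hD]
              rfl
            obtain ⟨a, b, hab⟩ := FiniteField.exists_root_sum_quadratic hf hg (Nat.odd_iff.mp hodd)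
            simp only [Polynomial.eval_pow, Polynomial.eval_X, Polynomial.eval_sub, Polynomial.eval_mul,
              Polynomial.eval_C] at hab
            apply isConj_rep_compSL_of_eq τ ν (a - τ * b / 2) b
            field_simp
            field_simp at hab
            linear_combination hab
    · push Not at hns
      obtain ⟨h10, h01, h00⟩ := hns
      have hdet := g.det_coe
      rw [Matrix.det_fin_two, h10, h01, mul_zero, sub_zero, ← h00] at hdet
      rcases mul_self_eq_one_iff.mp hdet with ha | ha
      · refine ⟨Sum.inl true, ?_⟩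
        change ConjClasses.mk (rz true) = ConjClasses.mk g
        congr 1
        apply Matrix.SpecialLinearGroup.ext
        intro i j
        fin_cases i <;> fin_cases j <;> simp [rz, h10, h01, ← h00, ha]
      · refine ⟨Sum.inl false, ?_⟩
        change ConjClasses.mk (rz false) = ConjClasses.mk g
        congr 1
        apply Matrix.SpecialLinearGroup.ext
        intro i j
        fin_cases i <;> fin_cases j <;> simp [rz, coe_negOne, h10, h01, ← h00, ha]
  rw [← Nat.card_congr (Equiv.ofBijective φ ⟨hinj, hsurj⟩), Nat.card_eq_fintype_card, Fintype.card_sum,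
    Fintype.card_sum, Fintype.card_bool]
  omega


/-- Over a finite field with q elements, q odd, the special linear group SL₂ has exactly q + 4 conjugacy classes. -/
theorem result {F : Type*} [Field F] [Fintype F] (hodd : Odd (Fintype.card F)) :
    Nat.card (ConjClasses (Matrix.SpecialLinearGroup (Fin 2) F)) = Fintype.card F + 4 := by
  classical
  exact main hodd

end Cfsg.Agent.S2325
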