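import Cfsg.Statements.S2331
import Cfsg.Agent.Helper14.Mat2

set_option autoImplicit false
open Cfsg

namespace Cfsg.Agent.S2331

open Cfsg.Agent.Helper14.Mat2 in
theorem main {F : Type*} [Field F] [Fintype F] [DecidableEq F] [CharP F 2] :
    Nat.card (ConjClasses (Matrix.SpecialLinearGroup (Fin 2) F)) = Fintype.card F + 1 := by
  let φ : Option F → ConjClasses (Matrix.SpecialLinearGroup (Fin 2) F) := fun x =>
    match x with
    | none => ConjClasses.mk 1
    | some τ => ConjClasses.mk (compSL τ)
  have hcomp_ne : ∀ τ : F, compSL τ ≠ 1 := by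
    intro τ h
    have h2 := congrArg (fun M : Matrix.SpecialLinearGroup (Fin 2) F => (M : Matrix (Fin 2) (Fin 2) F) 1 0) h
    simp [coe_compSL, comp_apply_one_zero] at h2
  have hinj : Function.Injective φ := by
    rintro (_ | τ) (_ | τ') hab
    · rfl
    · exfalso
      have h1 : IsConj (1 : Matrix.SpecialLinearGroup (Fin 2) F) (compSL τ') := ConjClasses.mk_eq_mk_iff_isConj.mp hab
      rw [isConj_iff] at h1
      obtain ⟨c, hc⟩ := h1
      rw [mul_one, mul_inv_cancel] at hc
      exact hcomp_ne τ' hc.symm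
    · exfalso
      have h1 : IsConj (1 : Matrix.SpecialLinearGroup (Fin 2) F) (compSL τ) := ConjClasses.mk_eq_mk_iff_isConj.mp hab.symm
      rw [isConj_iff] at h1
      obtain ⟨c, hc⟩ := h1
      rw [mul_one, mul_inv_cancel] at hc
      exact hcomp_ne τ hc.symm
    · have hc : IsConj (compSL τ) (compSL τ') := ConjClasses.mk_eq_mk_iff_isConj.mp hab
      have h1 := trace_eq_of_isConj_SL hc
      rw [coe_compSL, coe_compSL, trace_comp, trace_comp] at h1
      rw [h1]
  have hsurj : Function.Surjective φ := by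
    intro c
    obtain ⟨g, rfl⟩ := ConjClasses.mk_surjective c
    by_cases hns : (g : Matrix (Fin 2) (Fin 2) F) 1 0 ≠ 0 ∨ (g : Matrix (Fin 2) (Fin 2) F) 0 1 ≠ 0 ∨
        (g : Matrix (Fin 2) (Fin 2) F) 0 0 ≠ (g : Matrix (Fin 2) (Fin 2) F) 1 1
    · refine ⟨some (g : Matrix (Fin 2) (Fin 2) F).trace, ?_⟩
      obtain ⟨P, hP, hc⟩ := exists_conj_compSL g hns
      obtain ⟨s, hs⟩ := FiniteField.isSquare_of_char_two (CharP.ringChar_of_prime_eq_zero Nat.prime_two (CharTwo.two_eq_zero)) (P.det)⁻¹
      symm
      apply ConjClasses.mk_eq_mk_iff_isConj.mpr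
      apply isConj_SL_of_mul_eq g _ (s • P)
      · rw [Matrix.det_smul, Fintype.card_fin, pow_two, ← hs, inv_mul_cancel₀ hP]
      · rw [Matrix.mul_smul, hc, Matrix.smul_mul]
    · push Not at hns
      obtain ⟨h10, h01, h00⟩ := hns
      have hdet := g.det_coe
      rw [Matrix.det_fin_two, h10, h01, mul_zero, sub_zero, ← h00] at hdet
      have ha : (g : Matrix (Fin 2) (Fin 2) F) 0 0 = 1 := by
        have h2 : (2 : F) = 0 := CharTwo.two_eq_zero
        have : ((g : Matrix (Fin 2) (Fin 2) F) 0 0 - 1) ^ 2 = 0 := by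
          linear_combination hdet - ((g : Matrix (Fin 2) (Fin 2) F) 0 0 - 1) * h2
        exact sub_eq_zero.mp (pow_eq_zero_iff (two_ne_zero) |>.mp this)
      refine ⟨none, ?_⟩
      change ConjClasses.mk (1 : Matrix.SpecialLinearGroup (Fin 2) F) = ConjClasses.mk g
      congr 1
      apply Matrix.SpecialLinearGroup.ext
      intro i j
      fin_cases i <;> fin_cases j <;> simp [h10, h01, ← h00, ha]
  rw [← Nat.card_congr (Equiv.ofBijective φ ⟨hinj, hsurj⟩), Nat.card_eq_fintype_card, Fintype.card_option]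


/-- Over a finite field with q elements, q even, the special linear group SL₂ has exactly q + 1 conjugacy classes. -/
theorem result {F : Type*} [Field F] [Fintype F] [CharP F 2] :
    Nat.card (ConjClasses (Matrix.SpecialLinearGroup (Fin 2) F)) = Fintype.card F + 1 := by
  classical
  exact main

end Cfsg.Agent.S2331
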