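import Mathlib
import Cfsg.Statements.S4106

set_option autoImplicit false
open Cfsg

namespace Cfsg.Agent.S4106

open scoped Pointwise

universe u

abbrev PiClass (s : Set ℕ) {G : Type*} [Group G] (C : ConjClasses G) : Prop :=
  ∀ q : ℕ, q.Prime → (∃ g : G, ConjClasses.mk g = C ∧ q ∣ orderOf g) → q ∈ s

theorem piClass_mk {G : Type*} [Group G] (s : Set ℕ) (g : G) :
    PiClass s (ConjClasses.mk g) ↔ ∀ q : ℕ, q.Prime → q ∣ orderOf g → q ∈ s := by
  constructor
  · intro h q hq hd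
    exact h q hq ⟨g, rfl, hd⟩
  · rintro h q hq ⟨g', hg', hd⟩
    rw [ConjClasses.mk_eq_mk_iff_isConj, isConj_iff] at hg'
    obtain ⟨c, hc⟩ := hg'
    have e : orderOf g = orderOf g' := by
      rw [← hc]
      exact MulEquiv.orderOf_eq (MulAut.conj c) g'
    rw [← e] at hd
    exact h q hq hd

theorem exists_conj_mem_sylow {G : Type*} [Group G] [Finite G] {p : ℕ} [Fact p.Prime]
    (P : Sylow p G) (u : G) (hu : IsPGroup p (Subgroup.zpowers u)) :
    ∃ c : G, c * u * c⁻¹ ∈ (P : Subgroup G) := by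
  obtain ⟨S, hS⟩ := hu.exists_le_sylow
  obtain ⟨c, hc⟩ := MulAction.exists_smul_eq G S P
  refine ⟨c, ?_⟩
  have h1 : u ∈ (S : Subgroup G) := hS (Subgroup.mem_zpowers u)
  have h2 : c * u * c⁻¹ ∈ ((c • S : Sylow p G) : Subgroup G) := by
    rw [Sylow.coe_subgroup_smul, Subgroup.mem_pointwise_smul_iff_inv_smul_mem]
    have e : (MulAut.conj c)⁻¹ • (c * u * c⁻¹) = u := by
      rw [MulAut.smul_def, MulAut.conj_inv_apply]; group
    rw [e]; exact h1
  rwa [hc] at h2

theorem exists_decomp {G : Type*} [Group G] [Finite G] (p : ℕ) [hp : Fact p.Prime] (g : G) :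
    ∃ (u v : G) (k m' : ℕ), u * v = g ∧ v * u = u * v ∧ orderOf u ∣ p ^ k ∧ orderOf v ∣ m' ∧
      ¬ p ∣ m' ∧ orderOf g = p ^ k * m' := by
  have hn : orderOf g ≠ 0 := (orderOf_pos g).ne'
  obtain ⟨k, m', hpm, hn'⟩ := Nat.exists_eq_pow_mul_and_not_dvd hn p hp.out.ne_one
  have hco : Nat.Coprime (p ^ k) m' :=
    Nat.Coprime.pow_left k ((Nat.Prime.coprime_iff_not_dvd hp.out).mpr hpm)
  obtain ⟨a, ha1, ha2⟩ := Nat.chineseRemainder hco 1 0
  obtain ⟨b, hb1, hb2⟩ := Nat.chineseRemainder hco 0 1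
  refine ⟨g ^ a, g ^ b, k, m', ?_, ?_, ?_, ?_, hpm, hn'⟩
  · rw [← pow_add]
    have h1 : a + b ≡ 1 [MOD p ^ k * m'] := by
      apply (Nat.modEq_and_modEq_iff_modEq_mul hco).mp
      exact ⟨by simpa using ha1.add hb1, by simpa using ha2.add hb2⟩
    rw [← hn'] at h1
    have h2 := (pow_eq_pow_iff_modEq (x := g)).mpr h1
    rwa [pow_one] at h2
  · rw [← pow_add, ← pow_add, add_comm]
  · apply orderOf_dvd_of_pow_eq_one
    rw [← pow_mul]
    apply orderOf_dvd_iff_pow_eq_one.mp
    rw [hn']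
    have h3 : m' ∣ a := (Nat.modEq_zero_iff_dvd).mp ha2
    rw [mul_comm a]; exact Nat.mul_dvd_mul_left _ h3
  · apply orderOf_dvd_of_pow_eq_one
    rw [← pow_mul]
    apply orderOf_dvd_iff_pow_eq_one.mp
    rw [hn']
    have h3 : p ^ k ∣ b := (Nat.modEq_zero_iff_dvd).mp hb1
    exact Nat.mul_dvd_mul h3 (dvd_refl _)

theorem exists_rep {G : Type u} [Group G] [Finite G] (p : ℕ) [Fact p.Prime] (P : Sylow p G)
    (s' : Set ℕ) (C : ConjClasses G) (hC : PiClass (insert p s') C) :
    ∃ (u v : G), u ∈ (P : Subgroup G) ∧ v ∈ Subgroup.centralizer ({u} : Set G) ∧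
      ConjClasses.mk (u * v) = C ∧ ∀ q : ℕ, q.Prime → q ∣ orderOf v → q ∈ s' := by
  obtain ⟨g, rfl⟩ := ConjClasses.mk_surjective C
  rw [piClass_mk] at hC
  obtain ⟨u₀, v₀, k, m', huv, hcomm, hu, hv, hpm, hn⟩ := exists_decomp p g
  have hpu : IsPGroup p (Subgroup.zpowers u₀) := by
    obtain ⟨j, -, hj⟩ := (Nat.dvd_prime_pow Fact.out).mp hu
    exact IsPGroup.of_card (n := j) (by rw [Nat.card_zpowers, hj])
  obtain ⟨c, hc⟩ := exists_conj_mem_sylow P u₀ hpu
  refine ⟨c * u₀ * c⁻¹, c * v₀ * c⁻¹, hc, ?_, ?_, ?_⟩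
  · rw [Subgroup.mem_centralizer_iff]
    intro h hh
    rw [Set.mem_singleton_iff] at hh
    rw [hh]
    have e1 : c * u₀ * c⁻¹ * (c * v₀ * c⁻¹) = c * (u₀ * v₀) * c⁻¹ := by group
    have e2 : c * v₀ * c⁻¹ * (c * u₀ * c⁻¹) = c * (v₀ * u₀) * c⁻¹ := by group
    rw [e1, e2, hcomm]
  · have e1 : c * u₀ * c⁻¹ * (c * v₀ * c⁻¹) = c * (u₀ * v₀) * c⁻¹ := by group
    rw [e1, huv, ConjClasses.mk_eq_mk_iff_isConj, isConj_iff]
    exact ⟨c⁻¹, by group⟩
  · intro q hq hqd
    have e : orderOf (c * v₀ * c⁻¹) = orderOf v₀ := MulEquiv.orderOf_eq (MulAut.conj c) v₀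
    rw [e] at hqd
    have hqm : q ∣ m' := hqd.trans hv
    have hqg : q ∣ orderOf g := by rw [hn]; exact hqm.trans (dvd_mul_left _ _)
    rcases Set.mem_insert_iff.mp (hC q hq hqg) with h1 | h2
    · exact absurd (h1 ▸ hqm) hpm
    · exact h2

theorem step {G : Type u} [Group G] [Finite G] (p : ℕ) [Fact p.Prime] (s' : Set ℕ) (B : ℕ)
    (hB : ∀ u : G, Nat.card {D : ConjClasses (Subgroup.centralizer ({u} : Set G)) //
      PiClass s' D} ≤ B) (P : Sylow p G) :
    Nat.card {C : ConjClasses G // PiClass (insert p s') C} ≤ Nat.card P * B := by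
  classical
  have hex := fun C : {C : ConjClasses G // PiClass (insert p s') C} =>
    exists_rep p P s' C.1 C.2
  choose U V hU hV hUV hVq using hex
  have : Fintype P := Fintype.ofFinite P
  obtain ⟨F, hF⟩ : ∃ F : {C : ConjClasses G // PiClass (insert p s') C} → P,
      ∀ C, (F C : G) = U C := ⟨fun C => ⟨U C, hU C⟩, fun C => rfl⟩
  have h1 : Nat.card {C : ConjClasses G // PiClass (insert p s') C}
      = ∑ u : P, Nat.card {C // F C = u} := by
    rw [← Nat.card_sigma]
    exact Nat.card_congr (Equiv.sigmaFiberEquiv F).symm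
  rw [h1]
  have h2 : ∀ u : P, Nat.card {C // F C = u} ≤ B := by
    intro u
    refine le_trans ?_ (hB (u : G))
    have hUu : ∀ C : {C // F C = u}, U C.1 = (u : G) := by
      intro C
      rw [← hF, C.2]
    have hVmem : ∀ C : {C // F C = u},
        V C.1 ∈ Subgroup.centralizer ({(u : G)} : Set G) := by
      intro C
      have h3 := hV C.1
      rwa [hUu C] at h3
    obtain ⟨Φ, hΦ⟩ : ∃ Φ : {C // F C = u} →
        {D : ConjClasses (Subgroup.centralizer ({(u : G)} : Set G)) // PiClass s' D},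
        ∀ C, (Φ C).1 = ConjClasses.mk ⟨V C.1, hVmem C⟩ :=
      ⟨fun C => ⟨ConjClasses.mk ⟨V C.1, hVmem C⟩, by
        rw [piClass_mk]
        intro q hq hqd
        rw [Subgroup.orderOf_mk] at hqd
        exact hVq C.1 q hq hqd⟩, fun C => rfl⟩
    apply Nat.card_le_card_of_injective Φ
    intro C C' hCC'
    have h3 : ConjClasses.mk (⟨V C.1, hVmem C⟩ : Subgroup.centralizer ({(u : G)} : Set G))
        = ConjClasses.mk ⟨V C'.1, hVmem C'⟩ := by
      rw [← hΦ, ← hΦ, hCC']
    rw [ConjClasses.mk_eq_mk_iff_isConj, isConj_iff] at h3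
    obtain ⟨c, hc⟩ := h3
    have hc' : (c : G) * V C.1 * (c : G)⁻¹ = V C'.1 := congrArg Subtype.val hc
    have hcu : (u : G) * (c : G) = (c : G) * (u : G) :=
      (Subgroup.mem_centralizer_iff.mp c.2) (u : G) (Set.mem_singleton _)
    apply Subtype.ext
    apply Subtype.ext
    rw [← hUV C.1, ← hUV C'.1, hUu C, hUu C', ← hc', ConjClasses.mk_eq_mk_iff_isConj,
      isConj_iff]
    refine ⟨(c : G), ?_⟩
    have e : (c : G) * ((u : G) * V C.1) * (c : G)⁻¹
        = ((c : G) * (u : G)) * V C.1 * (c : G)⁻¹ := by group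
    rw [e, ← hcu]; group
  calc ∑ u : P, Nat.card {C // F C = u} ≤ ∑ _u : P, B := Finset.sum_le_sum (fun u _ => h2 u)
    _ = Nat.card P * B := by
      rw [Finset.sum_const, Finset.card_univ, smul_eq_mul, Nat.card_eq_fintype_card]

theorem bound (s : Finset ℕ) : (∀ q ∈ s, q.Prime) → ∀ (G : Type u) [Group G] [Finite G],
    Nat.card {C : ConjClasses G // PiClass (↑s : Set ℕ) C}
      ≤ ∏ q ∈ s, q ^ (Nat.card G).factorization q := by
  classical
  induction s using Finset.induction_on with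
  | empty =>
    intro _ G _ _
    rw [Finset.prod_empty, Finite.card_le_one_iff_subsingleton]
    have key : ∀ D : ConjClasses G, PiClass (↑(∅ : Finset ℕ) : Set ℕ) D →
        D = ConjClasses.mk 1 := by
      intro D hD
      obtain ⟨g, rfl⟩ := ConjClasses.mk_surjective D
      rw [piClass_mk] at hD
      have h1 : orderOf g = 1 := by
        by_contra hne
        obtain ⟨q, hq, hqd⟩ := Nat.exists_prime_and_dvd hne
        have h2 := hD q hq hqd
        simp at h2
      rw [orderOf_eq_one_iff] at h1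
      rw [h1]
    constructor
    rintro ⟨C, hC⟩ ⟨C', hC'⟩
    apply Subtype.ext
    show C = C'
    rw [key C hC, key C' hC']
  | insert p s' hp ih =>
    intro hs G _ _
    have hpp : p.Prime := hs p (Finset.mem_insert_self p s')
    have : Fact p.Prime := ⟨hpp⟩
    have hs' : ∀ q ∈ s', q.Prime := fun q hq => hs q (Finset.mem_insert_of_mem hq)
    obtain ⟨P⟩ : Nonempty (Sylow p G) := inferInstance
    rw [Finset.prod_insert hp, Finset.coe_insert]
    have hB : ∀ u : G, Nat.card {D : ConjClasses (Subgroup.centralizer ({u} : Set G)) //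
        PiClass (↑s' : Set ℕ) D} ≤ ∏ q ∈ s', q ^ (Nat.card G).factorization q := by
      intro u
      refine le_trans (ih hs' (Subgroup.centralizer ({u} : Set G))) ?_
      apply Finset.prod_le_prod (fun q _ => Nat.zero_le _)
      intro q hq
      apply Nat.pow_le_pow_right (hs' q hq).pos
      exact (Nat.factorization_le_iff_dvd (Nat.card_pos.ne') (Nat.card_pos.ne')).mpr
        (Subgroup.card_subgroup_dvd_card _) q
    have h3 := step p (↑s' : Set ℕ) _ hB P
    rwa [Sylow.card_eq_multiplicity] at h3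

theorem result {G : Type*} [Group G] [Finite G]
    (π : Set ℕ) (hπ : ∀ q ∈ π, q.Prime)
    (m : ℕ) (hm : m ∣ Nat.card G) (hmπ : ∀ q : ℕ, q.Prime → q ∣ m → q ∈ π)
    (hm' : ∀ q ∈ π, ¬ q ∣ Nat.card G / m) :
    Nat.card {C : ConjClasses G // ∀ q : ℕ, q.Prime → (∃ g : G, ConjClasses.mk g = C ∧ q ∣ orderOf g) → q ∈ π} ≤ m := by
  classical
  have hcard : Nat.card G ≠ 0 := Nat.card_pos.ne'
  have hm0 : m ≠ 0 := by
    rintro rfl
    exact hcard (Nat.eq_zero_of_zero_dvd hm)
  have hG : m * (Nat.card G / m) = Nat.card G := Nat.mul_div_cancel' hm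
  have hr0 : Nat.card G / m ≠ 0 := by
    intro h
    rw [h, mul_zero] at hG
    exact hcard hG.symm
  have himp : ∀ C : ConjClasses G, PiClass π C → PiClass (↑m.primeFactors : Set ℕ) C := by
    intro C hC q hq hex
    have hqπ := hC q hq hex
    obtain ⟨g, -, hqd⟩ := hex
    have hqG : q ∣ Nat.card G := hqd.trans (orderOf_dvd_natCard g)
    rw [← hG] at hqG
    rcases (Nat.Prime.dvd_mul hq).mp hqG with h | h
    · exact Finset.mem_coe.mpr (Nat.mem_primeFactors.mpr ⟨hq, h, hm0⟩)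
    · exact absurd h (hm' q hqπ)
  have h1 : Nat.card {C : ConjClasses G // PiClass π C}
      ≤ Nat.card {C : ConjClasses G // PiClass (↑m.primeFactors : Set ℕ) C} :=
    Nat.card_le_card_of_injective (fun C => ⟨C.1, himp C.1 C.2⟩)
      (fun a b h => Subtype.ext (by have h' := congrArg Subtype.val h; exact h'))
  have h2 := bound m.primeFactors (fun q hq => Nat.prime_of_mem_primeFactors hq) G
  have h3 : ∏ q ∈ m.primeFactors, q ^ (Nat.card G).factorization q = m := by
    have e1 : ∀ q ∈ m.primeFactors,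
        q ^ (Nat.card G).factorization q = q ^ m.factorization q := by
      intro q hq
      have hqp := Nat.prime_of_mem_primeFactors hq
      have hqm := Nat.dvd_of_mem_primeFactors hq
      congr 1
      rw [← hG, Nat.factorization_mul hm0 hr0, Finsupp.add_apply,
        Nat.factorization_eq_zero_of_not_dvd (hm' q (hmπ q hqp hqm)), add_zero]
    rw [Finset.prod_congr rfl e1]
    have e2 := Nat.prod_factorization_pow_eq_self hm0
    rw [Finsupp.prod, Nat.support_factorization] at e2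
    exact e2
  rw [h3] at h2
  exact h1.trans h2

end Cfsg.Agent.S4106
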