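import Mathlib
import Cfsg.Statements.S4116
import Cfsg.Agent.Helper1.Frob
import Cfsg.Agent.S4106

set_option autoImplicit false
open Cfsg

namespace Cfsg.Agent.S4116

open scoped Pointwise

theorem mem_conj_smul' {L : Type*} [Group L] {S : Subgroup L} {g x : L} :
    x ∈ MulAut.conj g • S ↔ g⁻¹ * x * g ∈ S := by
  rw [Subgroup.mem_pointwise_smul_iff_inv_smul_mem]
  simp [MulAut.smul_def]

theorem exists_eq_top {K I : Type*} [Group K] [Finite K] (E : I → Subgroup K)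
    (F1 : ∀ (i j : I) (x : K), x ≠ 1 → x ∈ E i → x ∈ E j → E i = E j)
    (F2 : ∀ x : K, (∃ q j : ℕ, q.Prime ∧ orderOf x = q ^ j) → ∃ i, x ∈ E i)
    (F3 : ∀ (i : I) (k x : K), x ≠ 1 → x ∈ E i → k * x * k⁻¹ ∈ E i → k ∈ E i)
    (F4 : ∀ (i : I) (k : K), ∃ j, ∀ y, y ∈ E j ↔ k⁻¹ * y * k ∈ E i) :
    ∃ i, E i = ⊤ := by
  classical
  by_contra hno
  push Not at hno
  obtain ⟨i₀, -⟩ := F2 1 ⟨2, 0, Nat.prime_two, by simp⟩
  have hnt : Nontrivial K := by
    by_contra h
    rw [not_nontrivial_iff_subsingleton] at h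
    exact hno i₀ (Subsingleton.elim _ _)
  have hTI : ∀ i, ∀ k : K, k ∉ E i → E i ⊓ MulAut.conj k • E i = ⊥ := by
    intro i k hk
    rw [eq_bot_iff]
    intro x hx
    obtain ⟨hx1, hx2⟩ := Subgroup.mem_inf.mp hx
    rw [mem_conj_smul'] at hx2
    rw [Subgroup.mem_bot]
    by_contra hx0
    apply hk
    have h3 := F3 i k⁻¹ x hx0 hx1 (by rw [inv_inv]; exact hx2)
    have h4 := (E i).inv_mem h3
    rwa [inv_inv] at h4
  have hconj : ∀ (i j : I) (k : K), (∀ y, y ∈ E j ↔ k⁻¹ * y * k ∈ E i) →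
      Nat.card (E j) = Nat.card (E i) := by
    intro i j k h
    refine Nat.card_congr ⟨fun y => ⟨k⁻¹ * y.1 * k, (h y.1).mp y.2⟩,
      fun x => ⟨k * x.1 * k⁻¹, (h _).mpr (by
        have e : k⁻¹ * (k * x.1 * k⁻¹) * k = x.1 := by group
        rw [e]; exact x.2)⟩, ?_, ?_⟩
    · intro y
      apply Subtype.ext
      show k * (k⁻¹ * y.1 * k) * k⁻¹ = y.1
      group
    · intro x
      apply Subtype.ext
      show k⁻¹ * (k * x.1 * k⁻¹) * k = x.1
      group
  have hidx : ∀ i, E i ≠ ⊥ → 2 * (E i).index ≤ Nat.card K := by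
    intro i hi
    have h1 := (E i).card_mul_index
    have h2 : 1 < Nat.card (E i) := (Subgroup.one_lt_card_iff_ne_bot _).mpr hi
    nlinarith [Nat.zero_le (E i).index]
  have hK1 : Nat.card K ≠ 1 := (Finite.one_lt_card (α := K)).ne'
  obtain ⟨q₀, hq₀, hq₀d⟩ := Nat.exists_prime_and_dvd hK1
  have hf0 : Fact q₀.Prime := ⟨hq₀⟩
  obtain ⟨x₀, hx₀⟩ := exists_prime_orderOf_dvd_card' q₀ hq₀d
  obtain ⟨i₁, hi₁⟩ := F2 x₀ ⟨q₀, 1, hq₀, by rw [hx₀, pow_one]⟩
  have hx₀1 : x₀ ≠ 1 := by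
    intro h
    rw [h, orderOf_one] at hx₀
    exact hq₀.one_lt.ne hx₀
  have hE1 : E i₁ ≠ ⊥ := by
    intro h
    rw [h, Subgroup.mem_bot] at hi₁
    exact hx₀1 hi₁
  obtain ⟨q, hq, hval⟩ : ∃ q : ℕ, q.Prime ∧
      (Nat.card (E i₁)).factorization q < (Nat.card K).factorization q := by
    by_contra hall
    push Not at hall
    apply hno i₁
    have hle : (Nat.card K).factorization ≤ (Nat.card (E i₁)).factorization := by
      intro p
      by_cases hp : p.Prime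
      · exact hall p hp
      · rw [Nat.factorization_eq_zero_of_not_prime _ hp]; exact Nat.zero_le _
    have hdvd := (Nat.factorization_le_iff_dvd Nat.card_pos.ne' Nat.card_pos.ne').mp hle
    exact Subgroup.eq_top_of_le_card _ (Nat.le_of_dvd Nat.card_pos hdvd)
  have hfq : Fact q.Prime := ⟨hq⟩
  obtain ⟨S⟩ : Nonempty (Sylow q K) := inferInstance
  have hScard : Nat.card S = q ^ (Nat.card K).factorization q := S.card_eq_multiplicity
  have hSnt : Nontrivial S := by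
    rw [← Finite.one_lt_card_iff_nontrivial, hScard]
    exact Nat.one_lt_pow (by omega) hq.one_lt
  have hcen : Nontrivial (Subgroup.center S) := IsPGroup.center_nontrivial S.isPGroup'
  obtain ⟨z, hz⟩ := exists_ne (1 : Subgroup.center S)
  have hzK1 : ((z : S) : K) ≠ 1 := by
    intro h
    apply hz
    apply Subtype.ext
    apply Subtype.ext
    exact h
  obtain ⟨j, hj⟩ : ∃ j, orderOf ((z : S) : K) = q ^ j := by
    obtain ⟨j, hj⟩ := (IsPGroup.iff_orderOf.mp S.isPGroup') (z : S)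
    exact ⟨j, by rw [← hj, Subgroup.orderOf_coe]⟩
  obtain ⟨i₂, hi₂⟩ := F2 _ ⟨q, j, hq, hj⟩
  have hSle : (S : Subgroup K) ≤ E i₂ := by
    intro s hs
    apply F3 i₂ s _ hzK1 hi₂
    have hcomm : (⟨s, hs⟩ : S) * (z : S) = (z : S) * ⟨s, hs⟩ :=
      (Subgroup.mem_center_iff.mp z.2 ⟨s, hs⟩)
    have hcomm' : s * ((z : S) : K) = ((z : S) : K) * s := congrArg Subtype.val hcomm
    rw [hcomm', mul_inv_cancel_right]
    exact hi₂
  have hE2 : E i₂ ≠ ⊥ := by
    intro h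
    rw [h, Subgroup.mem_bot] at hi₂
    exact hzK1 hi₂
  have hval2 : (Nat.card K).factorization q ≤ (Nat.card (E i₂)).factorization q := by
    have hdvd : Nat.card S ∣ Nat.card (E i₂) := Subgroup.card_dvd_of_le hSle
    rw [hScard] at hdvd
    exact (hq.pow_dvd_iff_le_factorization Nat.card_pos.ne').mp hdvd
  have hne : Nat.card (E i₁) ≠ Nat.card (E i₂) := by
    intro h
    rw [h] at hval
    omega
  have c1 := Helper1.card_conjUnion (E i₁) (hTI i₁)
  have c2 := Helper1.card_conjUnion (E i₂) (hTI i₂)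
  have hdisj : Disjoint (Helper1.conjUnion (E i₁)) (Helper1.conjUnion (E i₂)) := by
    rw [Set.disjoint_left]
    rintro x ⟨hx1, k₁, hk₁⟩ ⟨-, k₂, hk₂⟩
    rw [mem_conj_smul'] at hk₁ hk₂
    obtain ⟨j₁, hj₁⟩ := F4 i₁ k₁
    obtain ⟨j₂, hj₂⟩ := F4 i₂ k₂
    have h12 := F1 j₁ j₂ x hx1 ((hj₁ x).mpr hk₁) ((hj₂ x).mpr hk₂)
    apply hne
    rw [← hconj i₁ j₁ k₁ hj₁, ← hconj i₂ j₂ k₂ hj₂, h12]
  have hsub : Helper1.conjUnion (E i₁) ∪ Helper1.conjUnion (E i₂) ⊆ ({1} : Set K)ᶜ := by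
    rintro x (⟨hx, -⟩ | ⟨hx, -⟩) <;> exact hx
  have hcard : (Helper1.conjUnion (E i₁)).ncard + (Helper1.conjUnion (E i₂)).ncard + 1
      ≤ Nat.card K := by
    rw [← Set.ncard_union_eq hdisj]
    have h1 := Set.ncard_add_ncard_compl ({1} : Set K)
    rw [Set.ncard_singleton] at h1
    have h2 := Set.ncard_le_ncard hsub (Set.toFinite _)
    omega
  rw [← Nat.card_coe_set_eq, ← Nat.card_coe_set_eq] at hcard
  have h5 := hidx i₁ hE1
  have h6 := hidx i₂ hE2
  omega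

theorem mem_of_normalizer_of_primes {G : Type*} [Group G] [Finite G] (H : Subgroup G)
    (hHall : (Nat.card H).Coprime H.index) (k : G)
    (hk : k ∈ Subgroup.normalizer (H : Set G))
    (hprimes : ∀ q : ℕ, q.Prime → q ∣ orderOf k → q ∣ Nat.card H) : k ∈ H := by
  have hn : H.relIndex (Subgroup.normalizer (H : Set G)) ∣ H.index :=
    Subgroup.relIndex_dvd_index_of_le Subgroup.le_normalizer
  have h1 : k ^ H.relIndex (Subgroup.normalizer (H : Set G)) ∈ H := by
    have h2 := Subgroup.pow_index_mem (H.subgroupOf (Subgroup.normalizer (H : Set G))) ⟨k, hk⟩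
    rw [Subgroup.mem_subgroupOf, Subgroup.coe_pow] at h2
    exact h2
  have hcop : Nat.gcd (orderOf k) (H.relIndex (Subgroup.normalizer (H : Set G))) = 1 := by
    by_contra hne
    obtain ⟨q, hq, hqd⟩ := Nat.exists_prime_and_dvd hne
    have hq1 : q ∣ Nat.card H := hprimes q hq (hqd.trans (Nat.gcd_dvd_left _ _))
    have hq2 : q ∣ H.index := (hqd.trans (Nat.gcd_dvd_right _ _)).trans hn
    have h3 := Nat.dvd_gcd hq1 hq2
    rw [Nat.Coprime.gcd_eq_one hHall] at h3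
    exact hq.one_lt.ne' (Nat.dvd_one.mp h3)
  have hb := Nat.gcd_eq_gcd_ab (orderOf k) (H.relIndex (Subgroup.normalizer (H : Set G)))
  rw [hcop] at hb
  have e : k = k ^ ((orderOf k : ℤ) * Nat.gcdA (orderOf k)
      (H.relIndex (Subgroup.normalizer (H : Set G)))
      + (H.relIndex (Subgroup.normalizer (H : Set G)) : ℤ) * Nat.gcdB (orderOf k)
      (H.relIndex (Subgroup.normalizer (H : Set G)))) := by
    rw [← hb]; simp
  rw [e, zpow_add, zpow_mul, zpow_mul, zpow_natCast, zpow_natCast, pow_orderOf_eq_one,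
    one_zpow, one_mul]
  exact H.zpow_mem h1 _

theorem result {G : Type*} [Group G] [Finite G] (H : Subgroup G)
    (hHall : (Nat.card H).Coprime H.index) (hTI : Cfsg.IsTISubset (H : Set G))
    (K : Subgroup G) (hK : ∀ q : ℕ, q.Prime → q ∣ Nat.card K → q ∣ Nat.card H) :
    ∃ g : G, K ≤ H.map (MulAut.conj g).toMonoidHom := by
  classical
  have hmemc : ∀ g x : G, x ∈ H.map (MulAut.conj g).toMonoidHom ↔ g⁻¹ * x * g ∈ H := by
    intro g x
    rw [Subgroup.mem_map]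
    constructor
    · rintro ⟨h, hh, rfl⟩
      have e : g⁻¹ * ((MulAut.conj g).toMonoidHom h) * g = h := by
        show g⁻¹ * (g * h * g⁻¹) * g = h
        group
      rw [e]; exact hh
    · intro hx
      refine ⟨g⁻¹ * x * g, hx, ?_⟩
      show g * (g⁻¹ * x * g) * g⁻¹ = x
      group
  have hnorm : ∀ (c h : G), h ∈ H → h ≠ 1 → c * h * c⁻¹ ∈ H →
      c ∈ Subgroup.normalizer (H : Set G) := by
    intro c h hh h1 hc
    by_contra hcn
    exact h1 (hTI c hcn h hh hc)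
  have hTI' : ∀ g g' x : G, x ≠ 1 → g⁻¹ * x * g ∈ H → g'⁻¹ * x * g' ∈ H →
      ∀ y, g⁻¹ * y * g ∈ H ↔ g'⁻¹ * y * g' ∈ H := by
    intro g g' x hx1 hxg hxg' y
    have hh1 : g⁻¹ * x * g ≠ 1 := by
      intro h
      apply hx1
      have e : x = g * (g⁻¹ * x * g) * g⁻¹ := by group
      rw [e, h]; group
    have hc : (g'⁻¹ * g) * (g⁻¹ * x * g) * (g'⁻¹ * g)⁻¹ ∈ H := by
      have e : (g'⁻¹ * g) * (g⁻¹ * x * g) * (g'⁻¹ * g)⁻¹ = g'⁻¹ * x * g' := by group
      rw [e]; exact hxg'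
    have hcn := hnorm _ _ hxg hh1 hc
    have h2 := (Subgroup.mem_normalizer_iff.mp hcn) (g⁻¹ * y * g)
    have e2 : (g'⁻¹ * g) * (g⁻¹ * y * g) * (g'⁻¹ * g)⁻¹ = g'⁻¹ * y * g' := by group
    rw [e2] at h2
    exact h2
  have hNorm : ∀ (g k x : G), k ∈ K → x ≠ 1 → g⁻¹ * x * g ∈ H →
      g⁻¹ * (k * x * k⁻¹) * g ∈ H → g⁻¹ * k * g ∈ H := by
    intro g k x hkK hx1 hxg hkx
    have hh1 : g⁻¹ * x * g ≠ 1 := by
      intro h
      apply hx1
      have e : x = g * (g⁻¹ * x * g) * g⁻¹ := by group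
      rw [e, h]; group
    have hc : (g⁻¹ * k * g) * (g⁻¹ * x * g) * (g⁻¹ * k * g)⁻¹ ∈ H := by
      have e : (g⁻¹ * k * g) * (g⁻¹ * x * g) * (g⁻¹ * k * g)⁻¹ = g⁻¹ * (k * x * k⁻¹) * g := by
        group
      rw [e]; exact hkx
    have hcn := hnorm _ _ hxg hh1 hc
    apply mem_of_normalizer_of_primes H hHall _ hcn
    intro q hq hqd
    apply hK q hq
    have e1 : orderOf (g⁻¹ * k * g) = orderOf k := by
      have e2 := MulEquiv.orderOf_eq (MulAut.conj g⁻¹) k
      rw [MulAut.conj_apply, inv_inv] at e2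
      exact e2
    rw [e1] at hqd
    have e3 : orderOf (⟨k, hkK⟩ : K) = orderOf k := Subgroup.orderOf_mk k hkK
    rw [← e3] at hqd
    exact hqd.trans (orderOf_dvd_natCard _)
  have hCov : ∀ x : G, x ∈ K → (∃ q j : ℕ, q.Prime ∧ orderOf x = q ^ j) →
      ∃ g : G, g⁻¹ * x * g ∈ H := by
    rintro x hxK ⟨q, j, hq, hj⟩
    by_cases hj0 : j = 0
    · rw [hj0, pow_zero, orderOf_eq_one_iff] at hj
      exact ⟨1, by rw [hj]; simp⟩
    have hqx : q ∣ orderOf x := by rw [hj]; exact dvd_pow_self q hj0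
    have hqK : q ∣ Nat.card K := by
      have e3 : orderOf (⟨x, hxK⟩ : K) = orderOf x := Subgroup.orderOf_mk x hxK
      rw [← e3] at hqx
      exact hqx.trans (orderOf_dvd_natCard _)
    have hqH : q ∣ Nat.card H := hK q hq hqK
    have hfq : Fact q.Prime := ⟨hq⟩
    obtain ⟨S₀⟩ : Nonempty (Sylow q H) := inferInstance
    have hqi : ¬ q ∣ H.index := by
      intro hqi
      have h3 := Nat.dvd_gcd hqH hqi
      rw [Nat.Coprime.gcd_eq_one hHall] at h3
      exact hq.one_lt.ne' (Nat.dvd_one.mp h3)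
    have hfac : (Nat.card G).factorization q = (Nat.card H).factorization q := by
      rw [← H.card_mul_index, Nat.factorization_mul Nat.card_pos.ne'
        Subgroup.index_ne_zero_of_finite, Finsupp.add_apply,
        Nat.factorization_eq_zero_of_not_dvd hqi, add_zero]
    have hScard : Nat.card ((S₀ : Subgroup H).map H.subtype)
        = q ^ (Nat.card G).factorization q := by
      rw [Subgroup.card_map_of_injective H.subtype_injective, hfac]
      exact S₀.card_eq_multiplicity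
    have hxp : IsPGroup q (Subgroup.zpowers x) :=
      IsPGroup.of_card (n := j) (by rw [Nat.card_zpowers, hj])
    obtain ⟨c, hc⟩ := S4106.exists_conj_mem_sylow (Sylow.ofCard _ hScard) x hxp
    rw [Sylow.coe_ofCard] at hc
    refine ⟨c⁻¹, ?_⟩
    rw [inv_inv]
    exact Subgroup.map_subtype_le _ hc
  have hE := exists_eq_top (K := K) (I := G)
    (fun g => (H.map (MulAut.conj g).toMonoidHom).subgroupOf K) ?_ ?_ ?_ ?_
  · obtain ⟨g, hg⟩ := hE
    refine ⟨g, ?_⟩
    intro x hx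
    have h1 : (⟨x, hx⟩ : K) ∈ (H.map (MulAut.conj g).toMonoidHom).subgroupOf K := by
      rw [hg]; exact Subgroup.mem_top _
    exact Subgroup.mem_subgroupOf.mp h1
  · intro i j x hx1 hxi hxj
    rw [Subgroup.mem_subgroupOf, hmemc] at hxi hxj
    have hx1' : (x : G) ≠ 1 := fun h => hx1 (Subtype.ext h)
    ext y
    rw [Subgroup.mem_subgroupOf, Subgroup.mem_subgroupOf, hmemc, hmemc]
    exact hTI' i j x hx1' hxi hxj y
  · rintro x ⟨q, j, hq, hj⟩
    obtain ⟨g, hg⟩ := hCov (x : G) x.2 ⟨q, j, hq, by rw [Subgroup.orderOf_coe]; exact hj⟩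
    exact ⟨g, by rw [Subgroup.mem_subgroupOf, hmemc]; exact hg⟩
  · intro i k x hx1 hxi hkx
    rw [Subgroup.mem_subgroupOf, hmemc] at hxi hkx ⊢
    have hx1' : (x : G) ≠ 1 := fun h => hx1 (Subtype.ext h)
    exact hNorm i k x k.2 hx1' hxi hkx
  · intro i k
    refine ⟨(k : G) * i, ?_⟩
    intro y
    rw [Subgroup.mem_subgroupOf, Subgroup.mem_subgroupOf, hmemc, hmemc]
    have e : ((k : G) * i)⁻¹ * (y : G) * ((k : G) * i)
        = i⁻¹ * ((k⁻¹ * y * k : K) : G) * i := by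
      simp only [Subgroup.coe_mul, Subgroup.coe_inv]
      group
    rw [e]

end Cfsg.Agent.S4116
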