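import Mathlib
import Cfsg.Statements.S3740
import Cfsg.Agent.S5997
import Cfsg.Agent.Helper18.QuatSub
import Cfsg.Agent.Helper18.SL23Rec
import Cfsg.Agent.Helper1.Quat
import Cfsg.Agent.Helper1.QuatSL

set_option autoImplicit false
open Cfsg

namespace Cfsg.Agent.S3740

open scoped Pointwise

open Cfsg.Agent.Helper14.Mat2 Cfsg.Agent.Helper14.SL2Odd Cfsg.Agent.Helper14.PSL2
  Cfsg.Agent.Helper14.SL2Conj Cfsg.Agent.Helper14.Torus Cfsg.Agent.Helper14.TorusB
  Cfsg.Agent.Helper14.TorusC Cfsg.Agent.Helper14.TorusD Cfsg.Agent.Helper14.TorusE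
  Cfsg.Agent.Helper14.A4Sub

variable {F : Type*} [Field F]

local notation "SL2" => Matrix.SpecialLinearGroup (Fin 2) F
local notation "M2" => Matrix (Fin 2) (Fin 2) F

theorem unipotent_of_pow (p : ℕ) [Fact p.Prime] [CharP F p] (a : SL2) (n : ℕ)
    (ha : a ^ (p ^ n) = 1) : (a : M2).trace = 2 ∧ a ^ p = 1 := by
  have hpp : p.Prime := Fact.out
  obtain ⟨N, hN⟩ : ∃ N : M2, N = (a : M2) - 1 := ⟨_, rfl⟩
  have hA : (a : M2) = 1 + N := by
    rw [hN]
    abel
  have hNpow : N ^ (p ^ n) = 0 := by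
    rw [hN, sub_pow_char_pow_of_commute p n (Commute.one_right _), one_pow,
      ← Matrix.SpecialLinearGroup.coe_pow, ha, Matrix.SpecialLinearGroup.coe_one, sub_self]
  have hdet : N.det = 0 := by
    have h := congrArg Matrix.det hNpow
    rw [Matrix.det_pow, Matrix.det_zero] at h
    exact (pow_eq_zero_iff (pow_ne_zero n hpp.ne_zero)).mp h
  have hNN : N * N = N.trace • N := by
    rw [Cfsg.Agent.S5997.ch2 N, hdet, zero_smul, sub_zero]
  have hk : ∀ k : ℕ, N ^ (k + 1) = N.trace ^ k • N := by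
    intro k
    induction k with
    | zero => simp
    | succ k ih => rw [pow_succ, ih, Matrix.smul_mul, hNN, smul_smul, pow_succ]
  have htrN : N.trace = 0 ∨ N = 0 := by
    obtain ⟨m, hm⟩ : ∃ m, p ^ n = m + 1 :=
      ⟨p ^ n - 1, by have := Nat.pos_of_ne_zero (pow_ne_zero n hpp.ne_zero); omega⟩
    rw [hm, hk m] at hNpow
    rcases smul_eq_zero.mp hNpow with h | h
    · by_cases hm0 : m = 0
      · rw [hm0, pow_zero] at h
        exact absurd h one_ne_zero
      · exact Or.inl ((pow_eq_zero_iff hm0).mp h)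
    · exact Or.inr h
  have hN2 : N * N = 0 := by
    rcases htrN with h | h
    · rw [hNN, h, zero_smul]
    · rw [h, mul_zero]
  have htr0 : N.trace = 0 := by
    rcases htrN with h | h
    · exact h
    · rw [h, Matrix.trace_zero]
  refine ⟨?_, ?_⟩
  · rw [hA, Matrix.trace_add, htr0, Matrix.trace_one]
    simp
  · apply Subtype.ext
    rw [Matrix.SpecialLinearGroup.coe_pow, Matrix.SpecialLinearGroup.coe_one, hA,
      add_pow_char_of_commute p (Commute.one_left N), one_pow]
    have hNp : N ^ p = 0 := by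
      obtain ⟨m, hm⟩ : ∃ m, p = 2 + m := ⟨p - 2, by have := hpp.two_le; omega⟩
      rw [hm, pow_add, pow_two, hN2, zero_mul]
    rw [hNp, add_zero]

theorem claim [Fintype F] (p : ℕ) [Fact p.Prime] [CharP F p] (hp : p ≠ 2) (a : SL2) (n : ℕ)
    (ha : a ^ (p ^ n) = 1) (ha1 : a ≠ 1) (r : SL2) (m : ℕ) (hrm : r ^ m = 1)
    (hmp : Nat.Coprime m p) (hr1 : r ≠ 1) (hr2 : r ≠ negOne) :
    (a * r * a⁻¹) * r ≠ r * (a * r * a⁻¹) := by
  classical
  have hpp : p.Prime := Fact.out
  obtain ⟨k0, -, hcard⟩ := FiniteField.card F p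
  have hodd : Odd (Fintype.card F) := by
    rw [hcard]
    exact (hpp.odd_of_ne_two hp).pow
  have h2 := two_ne_zero_of_odd hodd
  obtain ⟨htra, -⟩ := unipotent_of_pow p a n ha
  have hτ : (r : M2).trace ^ 2 ≠ 4 := by
    intro h
    have h1 := pow_two_mul_char p r h
    have h3 : orderOf r ∣ 2 := by
      have h4 : orderOf r ∣ 2 * p := orderOf_dvd_of_pow_eq_one h1
      have h5 : orderOf r ∣ m := orderOf_dvd_of_pow_eq_one hrm
      have h6 : Nat.Coprime (orderOf r) p := Nat.Coprime.coprime_dvd_left h5 hmp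
      exact h6.dvd_of_dvd_mul_right h4
    have h7 : r * r = 1 := by
      rw [← pow_two]
      exact orderOf_dvd_iff_pow_eq_one.mp h3
    rcases sq_one h2 r h7 with h | h
    · exact hr1 h
    · exact hr2 h
  have hA : a * r = r * a → False := by
    intro hc
    have hns : NS (a : M2) := by
      obtain ⟨k, -, hk⟩ := (Nat.dvd_prime_pow hpp).mp (orderOf_dvd_of_pow_eq_one ha)
      exact NS_of_odd_order p hp a ha1 ⟨k, hk⟩
    have hc' : (r : M2) * (a : M2) = (a : M2) * (r : M2) := by
      rw [← Matrix.SpecialLinearGroup.coe_mul, ← Matrix.SpecialLinearGroup.coe_mul, hc]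
    obtain ⟨x, y, hxy⟩ := cent_mat _ _ hns hc'
    have hd := det_param a x y
    rw [← hxy, Matrix.SpecialLinearGroup.det_coe, htra] at hd
    have ht := trace_param (a : M2) x y
    rw [← hxy, htra] at ht
    apply hτ
    rw [ht]
    linear_combination (-4 : F) * hd
  intro hc
  have htr : ((a * r * a⁻¹ : SL2) : M2).trace = (r : M2).trace :=
    (trace_eq_of_isConj_SL (isConj_iff.mpr ⟨a, rfl⟩)).symm
  rcases conj_mem_pair hodd r (a * r * a⁻¹) hτ hc htr with h | h
  · apply hA
    calc a * r = (a * r * a⁻¹) * a := by group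
      _ = r * a := by rw [h]
  · have h2a : (a * a) * r = r * (a * a) := by
      have e1 : a * r = r⁻¹ * a := by
        calc a * r = (a * r * a⁻¹) * a := by group
          _ = r⁻¹ * a := by rw [h]
      have e2 : a * r⁻¹ = r * a := by
        have : a * r⁻¹ * a⁻¹ = r := by
          have e3 : a * r⁻¹ * a⁻¹ = (a * r * a⁻¹)⁻¹ := by group
          rw [e3, h, inv_inv]
        calc a * r⁻¹ = (a * r⁻¹ * a⁻¹) * a := by group
          _ = r * a := by rw [this]
      calc (a * a) * r = a * (a * r) := by group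
        _ = a * (r⁻¹ * a) := by rw [e1]
        _ = (a * r⁻¹) * a := by group
        _ = (r * a) * a := by rw [e2]
        _ = r * (a * a) := by group
    apply hA
    have hoddpn : Odd (p ^ n) := (hpp.odd_of_ne_two hp).pow
    obtain ⟨j, hj⟩ := hoddpn
    have ea : a = (a * a) ^ (j + 1) := by
      rw [← pow_two, ← pow_mul]
      have : 2 * (j + 1) = p ^ n + 1 := by omega
      rw [this, pow_succ, ha, one_mul]
    have hcomm : Commute (a * a) r := h2a
    have := hcomm.pow_left (j + 1)
    rw [← ea] at this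
    exact this

theorem final_iso {G : Type*} [Group G] [Finite G] (R : Subgroup G) (a U c : G)
    (hR8 : Nat.card R = 8) (hUR : U ∈ R) (hcUR : c * U * c⁻¹ ∈ R)
    (hca : Subgroup.zpowers c = Subgroup.zpowers a)
    (hU4 : U ^ 4 = 1) (hU2 : U ^ 2 ≠ 1) (hc3 : c ^ 3 = 1) (hc1 : c ≠ 1)
    (h1 : (c * U * c⁻¹) * (c * U * c⁻¹) = U * U)
    (h2 : (c * U * c⁻¹) * U * (c * U * c⁻¹)⁻¹ = U⁻¹)
    (h3 : c * (c * U * c⁻¹) * c⁻¹ = U * (c * U * c⁻¹))
    (hnc : (c * U * c⁻¹) * U ≠ U * (c * U * c⁻¹)) :
    Nonempty (↥(R ⊔ Subgroup.zpowers a) ≃* Matrix.SpecialLinearGroup (Fin 2) (ZMod 3)) := by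
  classical
  have hUmem : U ∈ Subgroup.closure ({U, c} : Set G) := Subgroup.subset_closure (by simp)
  have hcmem : c ∈ Subgroup.closure ({U, c} : Set G) := Subgroup.subset_closure (by simp)
  have hoU : orderOf U = 4 := by
    have := orderOf_eq_prime_pow (p := 2) (n := 1) (x := U) (by rw [pow_one]; exact hU2)
      (by norm_num; exact hU4)
    rw [this]
    norm_num
  have hoc : orderOf c = 3 := by
    haveI : Fact (Nat.Prime 3) := ⟨by norm_num⟩
    exact orderOf_eq_prime hc3 hc1
  -- the subgroup generated by U and its conjugate is R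
  have hK : Subgroup.closure ({U, c * U * c⁻¹} : Set G) = R := by
    have hKR : Subgroup.closure ({U, c * U * c⁻¹} : Set G) ≤ R := by
      rw [Subgroup.closure_le]
      rintro x (rfl | rfl)
      · exact hUR
      · exact hcUR
    have hzK : Subgroup.zpowers U ≤ Subgroup.closure ({U, c * U * c⁻¹} : Set G) := by
      rw [Subgroup.zpowers_le]
      exact Subgroup.subset_closure (by simp)
    have hd1 : 4 ∣ Nat.card (Subgroup.closure ({U, c * U * c⁻¹} : Set G)) := by
      have := Subgroup.card_dvd_of_le hzK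
      rw [Nat.card_zpowers, hoU] at this
      exact this
    have hd2 : Nat.card (Subgroup.closure ({U, c * U * c⁻¹} : Set G)) ∣ 8 := by
      rw [← hR8]
      exact Subgroup.card_dvd_of_le hKR
    have hne4 : Nat.card (Subgroup.closure ({U, c * U * c⁻¹} : Set G)) ≠ 4 := by
      intro h4
      have heq : Subgroup.zpowers U = Subgroup.closure ({U, c * U * c⁻¹} : Set G) := by
        apply Subgroup.eq_of_le_of_card_ge hzK
        rw [h4, Nat.card_zpowers, hoU]
      have hm : c * U * c⁻¹ ∈ Subgroup.zpowers U := by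
        rw [heq]
        exact Subgroup.subset_closure (by simp)
      obtain ⟨i, hi⟩ := Subgroup.mem_zpowers_iff.mp hm
      apply hnc
      rw [← hi]
      exact ((Commute.refl U).zpow_left i).eq
    apply Subgroup.eq_of_le_of_card_ge hKR
    rw [hR8]
    obtain ⟨n, hn⟩ : ∃ n, n = Nat.card (Subgroup.closure ({U, c * U * c⁻¹} : Set G)) := ⟨_, rfl⟩
    rw [← hn] at hd1 hd2 hne4 ⊢
    have hle : n ≤ 8 := Nat.le_of_dvd (by norm_num) hd2
    have key : ∀ m : ℕ, m ≤ 8 → 4 ∣ m → m ∣ 8 → m ≠ 4 → 8 ≤ m := by decide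
    exact key n hle hd1 hd2 hne4
  have hRC : R ≤ Subgroup.closure ({U, c} : Set G) := by
    rw [← hK, Subgroup.closure_le]
    rintro x (rfl | rfl)
    · exact hUmem
    · exact Subgroup.mul_mem _ (Subgroup.mul_mem _ hcmem hUmem) (Subgroup.inv_mem _ hcmem)
  have heq : R ⊔ Subgroup.zpowers a = Subgroup.closure ({U, c} : Set G) := by
    apply le_antisymm
    · rw [sup_le_iff]
      refine ⟨hRC, ?_⟩
      rw [← hca, Subgroup.zpowers_le]
      exact hcmem
    · rw [Subgroup.closure_le]
      rintro x (rfl | rfl)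
      · exact (le_sup_left : R ≤ R ⊔ Subgroup.zpowers a) hUR
      · apply (le_sup_right : Subgroup.zpowers a ≤ R ⊔ Subgroup.zpowers a)
        rw [← hca]
        exact Subgroup.mem_zpowers x
  have hrel : Cfsg.Agent.Helper18.SL23Rec.Rel
      (⟨U, hUmem⟩ : Subgroup.closure ({U, c} : Set G)) ⟨c, hcmem⟩ := by
    refine ⟨?_, ?_, ?_, ?_, ?_⟩
    · apply Subtype.ext
      rw [Subgroup.coe_pow, Subgroup.coe_one]
      exact hU4
    · apply Subtype.ext
      rw [Subgroup.coe_pow, Subgroup.coe_one]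
      exact hc3
    · apply Subtype.ext
      exact h1
    · apply Subtype.ext
      exact h2
    · apply Subtype.ext
      exact h3
  have hgen : Subgroup.closure ({(⟨U, hUmem⟩ : Subgroup.closure ({U, c} : Set G)), ⟨c, hcmem⟩} :
      Set (Subgroup.closure ({U, c} : Set G))) = ⊤ := by
    have h := Subgroup.closure_closure_coe_preimage (k := ({U, c} : Set G))
    have hset : ((↑) : Subgroup.closure ({U, c} : Set G) → G) ⁻¹' ({U, c} : Set G)
        = {(⟨U, hUmem⟩ : Subgroup.closure ({U, c} : Set G)), ⟨c, hcmem⟩} := by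
      ext x
      simp only [Set.mem_preimage, Set.mem_insert_iff, Set.mem_singleton_iff, Subtype.ext_iff]
    rw [hset] at h
    exact h
  have hcard : 24 ≤ Nat.card (Subgroup.closure ({U, c} : Set G)) := by
    have h8 : 8 ∣ Nat.card (Subgroup.closure ({U, c} : Set G)) := by
      rw [← hR8]
      exact Subgroup.card_dvd_of_le hRC
    have h3' : 3 ∣ Nat.card (Subgroup.closure ({U, c} : Set G)) := by
      have := Subgroup.card_dvd_of_le ((Subgroup.zpowers_le).mpr hcmem)
      rw [Nat.card_zpowers, hoc] at this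
      exact this
    have h24 : 24 ∣ Nat.card (Subgroup.closure ({U, c} : Set G)) :=
      Nat.Coprime.mul_dvd_of_dvd_of_dvd (by norm_num : Nat.Coprime 8 3) h8 h3'
    exact Nat.le_of_dvd Nat.card_pos h24
  obtain ⟨e⟩ := Cfsg.Agent.Helper18.SL23Rec.exists_iso _ _ hrel hgen hcard
  exact ⟨(MulEquiv.subgroupCongr heq).trans e⟩


theorem anti (X Y : SL2) (hX : X * X = negOne) (hY : Y * Y = negOne)
    (hXY : (X * Y) * (X * Y) = negOne) : Y * X * Y⁻¹ = X⁻¹ := by
  have e1 : Y * X * Y = X⁻¹ * negOne := by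
    calc Y * X * Y = X⁻¹ * ((X * Y) * (X * Y)) := by group
      _ = X⁻¹ * negOne := by rw [hXY]
  have e2 : Y⁻¹ = negOne * Y := inv_of_sq Y hY
  calc Y * X * Y⁻¹ = Y * X * (Y * negOne) := by rw [e2, negOne_comm Y]
    _ = (Y * X * Y) * negOne := by group
    _ = X⁻¹ * negOne * negOne := by rw [e1]
    _ = X⁻¹ := by rw [mul_assoc, negOne_mul_self, mul_one]

/-- Let F be a finite field of odd characteristic p and let a be a p-element of SL₂(F) normalizing a subgroup R of order prime to p with [R, a] ≠ 1. Then p = 3, R is a quaternion group of order 8, and R⟨a⟩ is isomorphic to SL₂(3). -/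
theorem result (F : Type) [Field F] [Fintype F] {p : ℕ} [Fact p.Prime] [CharP F p] (hp : p ≠ 2) (a : Matrix.SpecialLinearGroup (Fin 2) F) (ha : IsPGroup p ↥(Subgroup.zpowers a)) (R : Subgroup (Matrix.SpecialLinearGroup (Fin 2) F)) (hR : (Nat.card R).Coprime p) (haR : a ∈ Subgroup.normalizer (R : Set (Matrix.SpecialLinearGroup (Fin 2) F))) (hnt : ⁅R, Subgroup.zpowers a⁆ ≠ ⊥) : p = 3 ∧ Nonempty (↥R ≃* QuaternionGroup 2) ∧ Nonempty (↥(R ⊔ Subgroup.zpowers a) ≃* Matrix.SpecialLinearGroup (Fin 2) (ZMod 3)) := by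
  classical
  have hpp : p.Prime := Fact.out
  obtain ⟨k0, -, hcard⟩ := FiniteField.card F p
  have hodd : Odd (Fintype.card F) := by
    rw [hcard]
    exact (hpp.odd_of_ne_two hp).pow
  have h2 := two_ne_zero_of_odd hodd
  obtain ⟨n, hn⟩ := IsPGroup.iff_card.mp ha
  rw [Nat.card_zpowers] at hn
  have han : a ^ (p ^ n) = 1 := by
    rw [← hn]
    exact pow_orderOf_eq_one a
  have hnorm := Subgroup.mem_set_normalizer_iff.mp haR
  obtain ⟨r0, hr0R, hr0⟩ : ∃ r0 ∈ R, a * r0 * a⁻¹ ≠ r0 := by
    by_contra hcon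
    push Not at hcon
    apply hnt
    rw [Subgroup.commutator_eq_bot_iff_le_centralizer]
    intro r hr
    rw [Subgroup.mem_centralizer_iff]
    intro t ht
    obtain ⟨i, rfl⟩ := Subgroup.mem_zpowers_iff.mp ht
    have hcomm : Commute a r := by
      have := hcon r hr
      show a * r = r * a
      calc a * r = (a * r * a⁻¹) * a := by group
        _ = r * a := by rw [this]
    exact (hcomm.zpow_left i).eq
  have ha1 : a ≠ 1 := by
    rintro rfl
    apply hr0
    group
  have hRelt : ∀ r ∈ R, r ^ Nat.card R = 1 := by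
    intro r hr
    have h := pow_card_eq_one' (G := R) (x := ⟨r, hr⟩)
    exact congrArg Subtype.val h
  have hclaim : ∀ r ∈ R, r ≠ 1 → r ≠ negOne → (a * r * a⁻¹) * r ≠ r * (a * r * a⁻¹) :=
    fun r hr h1 h2' => claim p hp a n han ha1 r (Nat.card R) (hRelt r hr) hR h1 h2'
  have hconjneg : a * negOne * a⁻¹ = negOne := by
    rw [← negOne_comm a]
    group
  -- the action of a on R
  obtain ⟨g0, hg0⟩ : ∃ g0 : Subgroup.normalizer (R : Set (Matrix.SpecialLinearGroup (Fin 2) F)),
      (g0 : Matrix.SpecialLinearGroup (Fin 2) F) = a := ⟨⟨a, haR⟩, rfl⟩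
  have hg0pow : g0 ^ (p ^ n) = 1 := by
    apply Subtype.ext
    rw [Subgroup.coe_pow, hg0, han]
    rfl
  have hsmul : ∀ r : R, ((g0 • r : R) : Matrix.SpecialLinearGroup (Fin 2) F) = a * r * a⁻¹ := by
    intro r
    rw [← hg0]
    rfl
  -- odd primes do not divide the order of R
  have hodd_prime : ∀ ℓ : ℕ, ℓ.Prime → ℓ ≠ 2 → ¬ ℓ ∣ Nat.card R := by
    intro ℓ hℓ hℓ2 hdvd
    haveI : Fact ℓ.Prime := ⟨hℓ⟩
    let f : Function.End (Sylow ℓ R) := fun S => g0 • S
    have hfk : ∀ k : ℕ, ∀ S : Sylow ℓ R, (f ^ k) S = g0 ^ k • S := by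
      intro k
      induction k with
      | zero =>
        intro S
        rw [pow_zero, pow_zero, one_smul]
        rfl
      | succ k ih =>
        intro S
        rw [pow_succ', pow_succ', mul_smul, ← ih S]
        rfl
    have hf : f ^ p ^ n = 1 := by
      funext S
      rw [hfk, hg0pow, one_smul]
      rfl
    have : Fintype (Sylow ℓ R) := Fintype.ofFinite _
    have hmod := Equiv.Perm.card_fixedPoints_modEq (p := p) (n := n) hf
    have hcop : ¬ p ∣ Fintype.card (Sylow ℓ R) := by
      obtain ⟨S0⟩ : Nonempty (Sylow ℓ R) := inferInstance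
      have h1 := Sylow.card_dvd_index S0
      have h2' : (S0 : Subgroup R).index ∣ Nat.card R := Subgroup.index_dvd_card _
      intro h3
      rw [← Nat.card_eq_fintype_card] at h3
      exact (Nat.Prime.coprime_iff_not_dvd hpp).mp hR.symm (h3.trans (h1.trans h2'))
    have hex : ∃ S : Sylow ℓ R, f S = S := by
      by_contra hno
      push Not at hno
      have h0 : Fintype.card (Function.fixedPoints f) = 0 := by
        rw [Fintype.card_eq_zero_iff]
        exact ⟨fun ⟨S, hS⟩ => hno S hS⟩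
      rw [h0] at hmod
      exact hcop ((Nat.modEq_zero_iff_dvd).mp hmod)
    obtain ⟨S, hS⟩ := hex
    have hSp := S.isPGroup'
    have hScard : ℓ ∣ Nat.card (S : Subgroup R) := S.dvd_card_of_dvd_card hdvd
    haveI : Nontrivial (S : Subgroup R) := by
      rw [← Finite.one_lt_card_iff_nontrivial]
      have h1 := Nat.le_of_dvd Nat.card_pos hScard
      have h2' := hℓ.two_le
      omega
    haveI := hSp.center_nontrivial
    obtain ⟨z, hz1⟩ := exists_ne (1 : Subgroup.center (S : Subgroup R))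
    obtain ⟨zR, hzR⟩ : ∃ zR : R, zR = ((z : (S : Subgroup R)) : R) := ⟨_, rfl⟩
    have hzS : zR ∈ (S : Subgroup R) := by
      rw [hzR]
      exact (z : (S : Subgroup R)).2
    have hz1' : (zR : Matrix.SpecialLinearGroup (Fin 2) F) ≠ 1 := by
      intro h
      apply hz1
      apply Subtype.ext
      apply Subtype.ext
      apply Subtype.ext
      rw [← hzR]
      exact h
    have hzneg : (zR : Matrix.SpecialLinearGroup (Fin 2) F) ≠ negOne := by
      intro h
      obtain ⟨k, hk⟩ := hSp ⟨zR, hzS⟩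
      have hk' : (zR : Matrix.SpecialLinearGroup (Fin 2) F) ^ (ℓ ^ k) = 1 := by
        have := congrArg (fun t : (S : Subgroup R) => ((t : R) : Matrix.SpecialLinearGroup (Fin 2) F)) hk
        simpa using this
      have hoddl : Odd (ℓ ^ k) := (hℓ.odd_of_ne_two hℓ2).pow
      obtain ⟨j, hj⟩ := hoddl
      rw [h, hj, Cfsg.Agent.S5997.negOne_pow_odd] at hk'
      exact negOne_ne_one h2 hk'
    have hwS : g0 • zR ∈ (S : Subgroup R) := by
      have h1 : g0 • zR ∈ g0 • (S : Subgroup R) := Subgroup.smul_mem_pointwise_smul zR g0 _ hzS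
      have h2' : g0 • (S : Subgroup R) = ((g0 • S : Sylow ℓ R) : Subgroup R) := rfl
      rw [h2'] at h1
      have h3 : g0 • S = S := hS
      rw [h3] at h1
      exact h1
    have hcomm : (⟨g0 • zR, hwS⟩ : (S : Subgroup R)) * (z : (S : Subgroup R))
        = (z : (S : Subgroup R)) * ⟨g0 • zR, hwS⟩ :=
      (Subgroup.mem_center_iff.mp z.2 ⟨g0 • zR, hwS⟩)
    have hcomm' : (a * (zR : Matrix.SpecialLinearGroup (Fin 2) F) * a⁻¹) * zR
        = zR * (a * (zR : Matrix.SpecialLinearGroup (Fin 2) F) * a⁻¹) := by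
      have := congrArg (fun t : (S : Subgroup R) => ((t : R) : Matrix.SpecialLinearGroup (Fin 2) F)) hcomm
      simp only [Subgroup.coe_mul] at this
      rw [← hzR, hsmul] at this
      exact this
    exact hclaim _ zR.2 hz1' hzneg hcomm'
  -- R is a 2-group
  have hRcard2 : ∃ k, Nat.card R = 2 ^ k :=
    ⟨_, Nat.eq_prime_pow_of_unique_prime_dvd Nat.card_pos.ne' (fun {d} hd hdvd => by
      by_contra h
      exact hodd_prime d hd h hdvd)⟩
  obtain ⟨kR, hkR⟩ := hRcard2
  have hR2 : IsPGroup 2 R := IsPGroup.of_card hkR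
  have huniq := Cfsg.Agent.Helper1.unique_two_of_invol (G := R) (by
    intro g h hg hg1 hh hh1
    apply Subtype.ext
    have e1 : (g : Matrix.SpecialLinearGroup (Fin 2) F) * g = 1 := by
      rw [← pow_two, ← Subgroup.coe_pow, hg]
      rfl
    have e2 : (h : Matrix.SpecialLinearGroup (Fin 2) F) * h = 1 := by
      rw [← pow_two, ← Subgroup.coe_pow, hh]
      rfl
    rcases sq_one h2 _ e1 with h' | h'
    · exact absurd (Subtype.ext h') hg1
    · rcases sq_one h2 _ e2 with h'' | h''
      · exact absurd (Subtype.ext h'') hh1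
      · rw [h', h''])
  have hr0ne : r0 ≠ 1 ∧ r0 ≠ negOne := by
    constructor
    · rintro rfl
      apply hr0
      group
    · rintro rfl
      exact hr0 hconjneg
  have hQ : Cfsg.Agent.Helper18.QuatSub.QData R := by
    rcases Cfsg.Agent.Helper1.two_group_unique_invol hR2 huniq with hcyc | ⟨n', ⟨e⟩⟩
    · exfalso
      obtain ⟨g, hg⟩ := hcyc.exists_generator
      obtain ⟨i, hi⟩ := Subgroup.mem_zpowers_iff.mp (hg ⟨r0, hr0R⟩)
      obtain ⟨j, hj⟩ := Subgroup.mem_zpowers_iff.mp (hg ⟨a * r0 * a⁻¹, (hnorm r0).mp hr0R⟩)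
      apply hclaim r0 hr0R hr0ne.1 hr0ne.2
      have h1 := congrArg (Subtype.val) hi
      have h3 := congrArg (Subtype.val) hj
      simp only [Subgroup.coe_zpow] at h1 h3
      rw [← h3, ← h1]
      exact (zpow_mul_comm _ j i)
    · obtain ⟨e', -⟩ : ∃ e' : R ≃* (⊤ : Subgroup (QuaternionGroup (2 ^ n'))), True :=
        ⟨e.trans Subgroup.topEquiv.symm, trivial⟩
      rcases Cfsg.Agent.Helper18.QuatSub.quat_subgroup_dichotomy n' ⊤ with hP | hQ
      · exfalso
        have hP' : IsPGroup 2 (MulAut R) :=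
          Cfsg.Agent.Helper18.QuatSub.isPGroup_mulAut_of_equiv e'.symm hP
        obtain ⟨φ, hφ⟩ : ∃ φ : MulAut R, φ = MulDistribMulAction.toMulAut _ R g0 := ⟨_, rfl⟩
        obtain ⟨k, hk⟩ := hP' φ
        have hφp : φ ^ p ^ n = 1 := by rw [hφ, ← map_pow, hg0pow, map_one]
        have hφ1 : φ = 1 := by
          have h1 : orderOf φ ∣ 2 ^ k := orderOf_dvd_of_pow_eq_one hk
          have h2' : orderOf φ ∣ p ^ n := orderOf_dvd_of_pow_eq_one hφp
          have hcop : Nat.Coprime (2 ^ k) (p ^ n) :=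
            Nat.Coprime.pow _ _ ((Nat.coprime_primes Nat.prime_two hpp).mpr (Ne.symm hp))
          have h3 : orderOf φ = 1 :=
            Nat.Coprime.eq_one_of_dvd (Nat.Coprime.coprime_dvd_left h1 hcop) h2'
          exact orderOf_eq_one_iff.mp h3
        apply hr0
        have h4 : φ ⟨r0, hr0R⟩ = ⟨r0, hr0R⟩ := by rw [hφ1]; rfl
        have h5 : ((φ ⟨r0, hr0R⟩ : R) : Matrix.SpecialLinearGroup (Fin 2) F) = a * r0 * a⁻¹ := by
          rw [hφ]
          exact hsmul ⟨r0, hr0R⟩
        rw [h4] at h5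
        exact h5.symm
      · exact Cfsg.Agent.Helper18.QuatSub.qdata_of_equiv e'.symm hQ
  obtain ⟨hc8, u, w, hu4, hwu, hww, hwuw⟩ := hQ
  have hRQ : Nonempty (↥R ≃* QuaternionGroup 2) :=
    Cfsg.Agent.Helper1.quat_iso 2 u w le_rfl (by rw [hu4]; norm_num) (by rw [hc8]; norm_num)
      hwu hwuw (by rw [pow_two, hww]; norm_num [pow_two])
  -- squares
  have hsq : ∀ x ∈ R, x ≠ 1 → x ≠ negOne → x * x = negOne := by
    intro x hx hx1 hx2
    have h8 : x ^ 8 = 1 := by
      have := hRelt x hx
      rw [hc8] at this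
      exact this
    have h4 : x ^ 4 = 1 := by
      by_contra h4
      have ho : orderOf x = 2 ^ 3 :=
        orderOf_eq_prime_pow (p := 2) (n := 2) (by norm_num; exact h4) (by norm_num; exact h8)
      have ho' : orderOf (⟨x, hx⟩ : R) = 8 := by
        rw [← Subgroup.orderOf_coe]
        rw [ho]
        norm_num
      have htop : Subgroup.zpowers (⟨x, hx⟩ : R) = ⊤ := by
        rw [← Subgroup.card_eq_iff_eq_top, Nat.card_zpowers, ho', hc8]
      have hm : (⟨a * x * a⁻¹, (hnorm x).mp hx⟩ : R) ∈ Subgroup.zpowers (⟨x, hx⟩ : R) := by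
        rw [htop]
        trivial
      obtain ⟨i, hi⟩ := Subgroup.mem_zpowers_iff.mp hm
      have hi' := congrArg Subtype.val hi
      simp only [Subgroup.coe_zpow] at hi'
      apply hclaim x hx hx1 hx2
      rw [← hi']
      exact ((Commute.refl x).zpow_left i).eq
    have h22 : (x * x) * (x * x) = 1 := by
      rw [← h4]
      simp only [pow_succ, pow_zero, one_mul, mul_assoc]
    rcases sq_one h2 _ h22 with h | h
    · rcases sq_one h2 _ h with h' | h'
      · exact absurd h' hx1
      · exact absurd h' hx2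
    · exact h
  -- p = 3
  have hnegR : negOne ∈ R := by
    have hu1 : (u : Matrix.SpecialLinearGroup (Fin 2) F) ≠ 1 := by
      intro h
      have : u = 1 := Subtype.ext h
      rw [this, orderOf_one] at hu4
      norm_num at hu4
    have hu2 : (u : Matrix.SpecialLinearGroup (Fin 2) F) ≠ negOne := by
      intro h
      have h1 : u ^ 2 = 1 := by
        apply Subtype.ext
        rw [Subgroup.coe_pow, h, pow_two, negOne_mul_self]
        rfl
      have := orderOf_dvd_of_pow_eq_one h1
      rw [hu4] at this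
      norm_num at this
    rw [← hsq u u.2 hu1 hu2]
    exact R.mul_mem u.2 u.2
  have hp3 : p = 3 := by
    let f : Function.End R := fun r => g0 • r
    have hfk : ∀ k : ℕ, ∀ r : R, (f ^ k) r = g0 ^ k • r := by
      intro k
      induction k with
      | zero =>
        intro r
        rw [pow_zero, pow_zero, one_smul]
        rfl
      | succ k ih =>
        intro r
        rw [pow_succ', pow_succ', mul_smul, ← ih r]
        rfl
    have hf : f ^ p ^ n = 1 := by
      funext r
      rw [hfk, hg0pow, one_smul]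
      rfl
    have : Fintype R := Fintype.ofFinite _
    have hmod := Equiv.Perm.card_fixedPoints_modEq (p := p) (n := n) hf
    rw [← Nat.card_eq_fintype_card, ← Nat.card_eq_fintype_card, hc8] at hmod
    have hfix2 : Nat.card (Function.fixedPoints f) = 2 := by
      rw [Nat.card_eq_two_iff]
      refine ⟨⟨1, ?_⟩, ⟨⟨negOne, hnegR⟩, ?_⟩, ?_, ?_⟩
      · show g0 • (1 : R) = 1
        exact smul_one g0
      · show g0 • (⟨negOne, hnegR⟩ : R) = ⟨negOne, hnegR⟩
        apply Subtype.ext
        rw [hsmul]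
        exact hconjneg
      · intro h
        have h' := congrArg (fun t : Function.fixedPoints f =>
          ((t : R) : Matrix.SpecialLinearGroup (Fin 2) F)) h
        exact negOne_ne_one h2 h'.symm
      · ext ⟨r, hr⟩
        simp only [Set.mem_insert_iff, Set.mem_singleton_iff, Set.mem_univ, iff_true]
        have hr' : a * (r : Matrix.SpecialLinearGroup (Fin 2) F) * a⁻¹ = r := by
          have h1 : g0 • r = r := hr
          have h3 := congrArg Subtype.val h1
          rw [hsmul] at h3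
          exact h3
        by_cases h1 : (r : Matrix.SpecialLinearGroup (Fin 2) F) = 1
        · left
          apply Subtype.ext
          apply Subtype.ext
          exact h1
        · by_cases h3 : (r : Matrix.SpecialLinearGroup (Fin 2) F) = negOne
          · right
            apply Subtype.ext
            apply Subtype.ext
            exact h3
          · exfalso
            apply hclaim _ r.2 h1 h3
            rw [hr']
    rw [hfix2] at hmod
    have hd := (Nat.modEq_iff_dvd' (by norm_num : 2 ≤ 8)).mp hmod.symm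
    have hle := Nat.le_of_dvd (by norm_num) hd
    have h2le := hpp.two_le
    have h6 : p = 3 ∨ p = 4 ∨ p = 5 ∨ p = 6 := by omega
    rcases h6 with h | h | h | h
    · exact h
    · rw [h] at hpp
      exact absurd hpp (by norm_num)
    · rw [h] at hd
      norm_num at hd
    · rw [h] at hpp
      exact absurd hpp (by norm_num)
  refine ⟨hp3, hRQ, ?_⟩
  subst hp3
  have ha3 : a ^ 3 = 1 := (unipotent_of_pow 3 a n han).2
  -- the quaternion elements
  obtain ⟨U, hU⟩ : ∃ U : Matrix.SpecialLinearGroup (Fin 2) F, U = r0 := ⟨_, rfl⟩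
  have hUR : U ∈ R := by rw [hU]; exact hr0R
  have hU1 : U ≠ 1 := by rw [hU]; exact hr0ne.1
  have hU2 : U ≠ negOne := by rw [hU]; exact hr0ne.2
  have hUU := hsq U hUR hU1 hU2
  have hconj_ne : ∀ x : Matrix.SpecialLinearGroup (Fin 2) F, x ≠ 1 → x ≠ negOne →
      a * x * a⁻¹ ≠ 1 ∧ a * x * a⁻¹ ≠ negOne := by
    intro x hx1 hx2
    constructor
    · intro h
      apply hx1
      calc x = a⁻¹ * (a * x * a⁻¹) * a := by group
        _ = 1 := by rw [h]; group
    · intro h
      apply hx2
      calc x = a⁻¹ * (a * x * a⁻¹) * a := by group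
        _ = a⁻¹ * (a * negOne * a⁻¹) * a := by rw [h, hconjneg]
        _ = negOne := by group
  obtain ⟨V, hV⟩ : ∃ V : Matrix.SpecialLinearGroup (Fin 2) F, V = a * U * a⁻¹ := ⟨_, rfl⟩
  obtain ⟨W, hW⟩ : ∃ W : Matrix.SpecialLinearGroup (Fin 2) F, W = a * V * a⁻¹ := ⟨_, rfl⟩
  have hVR : V ∈ R := by rw [hV]; exact (hnorm U).mp hUR
  have hWR : W ∈ R := by rw [hW]; exact (hnorm V).mp hVR
  have hV1 : V ≠ 1 ∧ V ≠ negOne := by rw [hV]; exact hconj_ne U hU1 hU2
  have hW1 : W ≠ 1 ∧ W ≠ negOne := by rw [hW]; exact hconj_ne V hV1.1 hV1.2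
  have hVV := hsq V hVR hV1.1 hV1.2
  have hWW := hsq W hWR hW1.1 hW1.2
  have haW : a * W * a⁻¹ = U := by
    rw [hW, hV]
    have e : a * (a * (a * U * a⁻¹) * a⁻¹) * a⁻¹ = a ^ 3 * U * (a ^ 3)⁻¹ := by
      rw [pow_succ, pow_two]
      group
    rw [e, ha3]
    group
  have hncVU : V * U ≠ U * V := by
    have := hclaim U hUR hU1 hU2
    rw [← hV] at this
    exact this
  have hncWV : W * V ≠ V * W := by
    have := hclaim V hVR hV1.1 hV1.2
    rw [← hW] at this
    exact this
  have hncUW : U * W ≠ W * U := by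
    have := hclaim W hWR hW1.1 hW1.2
    rw [haW] at this
    exact this
  -- products square to minus one
  have hprod : ∀ X Y : Matrix.SpecialLinearGroup (Fin 2) F, X ∈ R → Y ∈ R → X * X = negOne →
      Y * Y = negOne → Y * X ≠ X * Y → (X * Y) * (X * Y) = negOne := by
    intro X Y hX hY hXX hYY hnc
    apply hsq (X * Y) (R.mul_mem hX hY)
    · intro h
      apply hnc
      have e : Y = X⁻¹ := by
        calc Y = X⁻¹ * (X * Y) := by group
          _ = X⁻¹ := by rw [h, mul_one]
      rw [e]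
      group
    · intro h
      apply hnc
      have e : Y = X⁻¹ * negOne := by
        calc Y = X⁻¹ * (X * Y) := by group
          _ = X⁻¹ * negOne := by rw [h]
      rw [e]
      calc X⁻¹ * negOne * X = X⁻¹ * (X * negOne) := by rw [mul_assoc, negOne_comm X]
        _ = X * (X⁻¹ * negOne) := by group
  have hVUV : V * U * V⁻¹ = U⁻¹ := anti U V hUU hVV (hprod U V hUR hVR hUU hVV hncVU)
  have hWVW : W * V * W⁻¹ = V⁻¹ := anti V W hVV hWW (hprod V W hVR hWR hVV hWW hncWV)
  have hWUW : W * U * W⁻¹ = U⁻¹ :=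
    anti U W hUU hWW (hprod U W hUR hWR hUU hWW (fun h => hncUW h.symm))
  have hVU' : V * U = U * V * negOne := by
    have e : V * U = (V * U * V⁻¹) * V := by group
    rw [e, hVUV, inv_of_sq U hUU, ← negOne_comm, mul_assoc]
  -- W = ± U V
  obtain ⟨D, hD⟩ : ∃ D : Matrix.SpecialLinearGroup (Fin 2) F, D = W * V⁻¹ * U⁻¹ := ⟨_, rfl⟩
  have hDU : D * U = U * D := by
    have e1 : V⁻¹ * U⁻¹ * V = U := by
      rw [← hVUV]
      group
    have e2 : V⁻¹ * U * V = U⁻¹ := by
      calc V⁻¹ * U * V = (V⁻¹ * U⁻¹ * V)⁻¹ := by group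
        _ = U⁻¹ := by rw [e1]
    have e3 : D * U * D⁻¹ = U := by
      calc D * U * D⁻¹ = W * (V⁻¹ * U * V) * W⁻¹ := by rw [hD]; group
        _ = W * U⁻¹ * W⁻¹ := by rw [e2]
        _ = (W * U * W⁻¹)⁻¹ := by group
        _ = U := by rw [hWUW, inv_inv]
    calc D * U = (D * U * D⁻¹) * D := by group
      _ = U * D := by rw [e3]
  have hDV : D * V = V * D := by
    have e1 : U⁻¹ * V * U = V * negOne := by
      have e0 : V * U = U⁻¹ * V := by
        calc V * U = (V * U * V⁻¹) * V := by group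
          _ = U⁻¹ * V := by rw [hVUV]
      calc U⁻¹ * V * U = U⁻¹ * (V * U) := by group
        _ = U⁻¹ * (U⁻¹ * V) := by rw [e0]
        _ = (U * U)⁻¹ * V := by group
        _ = negOne * V := by
          rw [hUU]
          congr 1
          exact inv_eq_of_mul_eq_one_right negOne_mul_self
        _ = V * negOne := negOne_comm V
    have e3 : D * V * D⁻¹ = V := by
      calc D * V * D⁻¹ = W * V⁻¹ * (U⁻¹ * V * U) * V * W⁻¹ := by rw [hD]; group
        _ = W * V⁻¹ * (V * negOne) * V * W⁻¹ := by rw [e1]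
        _ = W * (negOne * V) * W⁻¹ := by group
        _ = negOne * (W * V * W⁻¹) := by
          rw [← mul_assoc, ← negOne_comm W]
          group
        _ = negOne * V⁻¹ := by rw [hWVW]
        _ = V := by
          rw [inv_of_sq V hVV, ← mul_assoc, negOne_mul_self, one_mul]
    calc D * V = (D * V * D⁻¹) * D := by group
      _ = V * D := by rw [e3]
  have hWD : W = D * (U * V) := by
    rw [hD]
    group
  have hDcases := Cfsg.Agent.Helper18.PSLKleinB.pkb_cc h2 U V D hUU hVU' hDU hDV
  have hUo4 : U ^ 4 = 1 := by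
    have : U ^ 4 = (U * U) * (U * U) := by simp only [pow_succ, pow_zero, one_mul, mul_assoc]
    rw [this, hUU, negOne_mul_self]
  have hUo2 : U ^ 2 ≠ 1 := by
    rw [pow_two, hUU]
    exact negOne_ne_one h2
  rcases hDcases with hD1 | hD1
  · -- W = U V : the pair (U, a)
    have hWUV : W = U * V := by rw [hWD, hD1, one_mul]
    apply final_iso R a U a hc8 hUR (by rw [← hV]; exact hVR) rfl hUo4 hUo2 ha3 ha1
    · rw [← hV, hVV, hUU]
    · rw [← hV]
      exact hVUV
    · rw [← hV, ← hW]
      exact hWUV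
    · rw [← hV]
      exact hncVU
  · -- W = - U V : the pair (U, a⁻¹)
    have hWUV : W = negOne * (U * V) := by rw [hWD, hD1]
    have hainvU : a⁻¹ * U * a⁻¹⁻¹ = W := by
      rw [← haW]
      group
    have hainvW : a⁻¹ * W * a⁻¹⁻¹ = V := by
      rw [hW]
      group
    have hVUW : V = U * W := by
      rw [hWUV, ← mul_assoc, ← negOne_comm U, mul_assoc, ← mul_assoc U U V, hUU, ← mul_assoc,
        negOne_mul_self, one_mul]
    apply final_iso R a U a⁻¹ hc8 hUR (by rw [hainvU]; exact hWR) Subgroup.zpowers_inv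
      hUo4 hUo2 (by rw [inv_pow, ha3, inv_one]) (by
        intro h
        apply ha1
        rw [← inv_inv a, h, inv_one])
    · rw [hainvU, hWW, hUU]
    · rw [hainvU]
      exact hWUW
    · rw [hainvU, hainvW]
      exact hVUW
    · rw [hainvU]
      exact fun h => hncUW h.symm

end Cfsg.Agent.S3740
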