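import Cfsg.Statements.S0751
-- import your own Cfsg.Agent.* helpers here
import Mathlib
import Cfsg.Agent.Helper5.WittSkel

set_option autoImplicit false
open Cfsg

namespace Cfsg.Agent.S0751

/-- Unitary quasi-transvection. -/
noncomputable def qt {F V : Type*} [Field F] [AddCommGroup V] [Module F V]
    (σ : F →+* F) (B : V →ₛₗ[σ] V →ₗ[F] F) (c : F) (d : V)
    (hc : c + σ c + c * σ c * B d d = 0) (hσ2 : ∀ a : F, σ (σ a) = a) : V ≃ₗ[F] V where
  toFun v := v + (c * B d v) • d
  invFun v := v + (σ c * B d v) • d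
  map_add' u v := by
    simp only [map_add, mul_add, add_smul]
    abel
  map_smul' a v := by
    simp only [map_smul, smul_eq_mul, smul_add, smul_smul, RingHom.id_apply]
    congr 2
    ring
  left_inv v := by
    simp only [map_add, map_smul, smul_eq_mul]
    rw [add_assoc, ← add_smul]
    have : c * B d v + σ c * (B d v + c * B d v * B d d) = 0 := by
      linear_combination (B d v) * hc
    rw [this, zero_smul, add_zero]
  right_inv v := by
    simp only [map_add, map_smul, smul_eq_mul]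
    rw [add_assoc, ← add_smul]
    have : σ c * B d v + c * (B d v + σ c * B d v * B d d) = 0 := by
      linear_combination (B d v) * hc
    rw [this, zero_smul, add_zero]

theorem qt_isom {F V : Type*} [Field F] [AddCommGroup V] [Module F V]
    (σ : F →+* F) (B : V →ₛₗ[σ] V →ₗ[F] F) (hS : B.IsSymm) (c : F) (d : V)
    (hc : c + σ c + c * σ c * B d d = 0) (hσ2 : ∀ a : F, σ (σ a) = a) (u v : V) :
    B (qt σ B c d hc hσ2 u) (qt σ B c d hc hσ2 v) = B u v := by
  change B (u + (c * B d u) • d) (v + (c * B d v) • d) = B u v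
  have h1 : σ (B d u) = B u d := hS.eq d u
  simp only [map_add, map_smul, map_smulₛₗ, LinearMap.add_apply, LinearMap.smul_apply,
    smul_eq_mul, map_mul, h1]
  linear_combination (B u d * B d v) * hc

theorem hperpH {F V : Type*} [Field F] [AddCommGroup V] [Module F V] [FiniteDimensional F V]
    (σ : F →+* F) (hσ2 : ∀ a : F, σ (σ a) = a) (B : V →ₛₗ[σ] V →ₗ[F] F) (hS : B.IsSymm)
    (hB : B.Nondegenerate) (X₀ : Submodule F V) (z : V) (hz : z ∉ X₀) :
    ∃ t, (∀ w ∈ X₀, B w t = 0) ∧ B t z ≠ 0 := by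
  let R : Submodule F (Module.Dual F V) :=
    { carrier := Set.range (fun u => B u)
      add_mem' := by
        rintro _ _ ⟨u, rfl⟩ ⟨u', rfl⟩
        exact ⟨u + u', map_add B u u'⟩
      zero_mem' := ⟨0, map_zero B⟩
      smul_mem' := by
        rintro c _ ⟨u, rfl⟩
        refine ⟨σ c • u, ?_⟩
        change B (σ c • u) = c • B u
        rw [map_smulₛₗ, hσ2] }
  have hR : R = ⊤ := by
    have h1 : R.dualCoannihilator = ⊥ := by
      rw [eq_bot_iff]
      intro v hv
      rw [Submodule.mem_dualCoannihilator] at hv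
      rw [Submodule.mem_bot]
      exact hB.2 v (fun u => hv (B u) ⟨u, rfl⟩)
    have h2 := Subspace.dualCoannihilator_dualAnnihilator_eq (W := R)
    rw [h1, Submodule.dualAnnihilator_bot] at h2
    exact h2.symm
  obtain ⟨ℓ, hℓz, hℓX⟩ := Submodule.exists_le_ker_of_notMem hz
  have hmem : ℓ ∈ R := by
    rw [hR]
    exact Submodule.mem_top
  obtain ⟨t, ht⟩ := hmem
  have ht' : ∀ v, B t v = ℓ v := fun v => by
    have := congrArg (fun l : Module.Dual F V => l v) ht
    exact this
  refine ⟨t, fun w hw => ?_, ?_⟩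
  · have h3 : B t w = 0 := by
      rw [ht']
      exact hℓX hw
    rw [← hS.eq t w, h3, map_zero]
  · rw [ht']
    exact hℓz

theorem trace_exists {F : Type*} [Field F] (σ : F →+* F) (hσ : σ ≠ RingHom.id F)
    (hσ2 : ∀ a : F, σ (σ a) = a) (q : F) (hq : σ q = q) : ∃ c : F, c ≠ 0 ∧ c + σ c = -q := by
  obtain ⟨e, he⟩ : ∃ e, σ e ≠ e := by
    by_contra hh
    push Not at hh
    exact hσ (RingHom.ext hh)
  by_cases hq0 : q = 0
  · refine ⟨e - σ e, fun h => he (sub_eq_zero.1 h).symm, ?_⟩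
    rw [map_sub, hσ2, hq0]
    ring
  · obtain ⟨e', he'⟩ : ∃ e' : F, e' + σ e' ≠ 0 := by
      by_cases h1 : e + σ e = 0
      · refine ⟨1, ?_⟩
        rw [map_one]
        intro h2
        apply he
        have h3 : σ e = - e := by linear_combination h1
        have h4 : e + e = 0 := by linear_combination e * h2
        rw [h3]
        linear_combination - h4
      · exact ⟨e, h1⟩
    have hθ : σ (e' + σ e') = e' + σ e' := by
      rw [map_add, hσ2]
      ring
    have he'0 : e' ≠ 0 := by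
      rintro rfl
      apply he'
      rw [map_zero, add_zero]
    refine ⟨-q * e' / (e' + σ e'), ?_, ?_⟩
    · exact div_ne_zero (mul_ne_zero (neg_ne_zero.2 hq0) he'0) he'
    · rw [map_div₀, map_mul, map_neg, hq, hθ]
      field_simp
      ring

theorem coreH {F V : Type*} [Field F] [AddCommGroup V] [Module F V] [FiniteDimensional F V]
    (σ : F →+* F) (hσ : σ ≠ RingHom.id F) (hσ2 : ∀ a : F, σ (σ a) = a)
    (B : V →ₛₗ[σ] V →ₗ[F] F) (hS : B.IsSymm) (hB : B.Nondegenerate)
    (X₀ : Submodule F V) (x y : V) (hx : x ∉ X₀) (hy : y ∉ X₀) (hq : B y y = B x x)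
    (hxy : ∀ w ∈ X₀, B w (y - x) = 0) :
    ∃ g : V ≃ₗ[F] V, (∀ u v, B (g u) (g v) = B u v) ∧ (∀ w ∈ X₀, g w = w) ∧ g x = y := by
  have hσ0 : ∀ a : F, σ a = 0 → a = 0 := by
    intro a h
    have := congrArg σ h
    rwa [hσ2, map_zero] at this
  have step : ∀ x y : V, B (y - x) x ≠ 0 → B y y = B x x → (∀ w ∈ X₀, B w (y - x) = 0) →
      ∃ g : V ≃ₗ[F] V, (∀ u v, B (g u) (g v) = B u v) ∧ (∀ w ∈ X₀, g w = w) ∧ g x = y := by
    intro x y hne hq hxy
    have hu' : B x (y - x) ≠ 0 := by
      rw [← hS.eq (y - x) x]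
      exact fun h0 => hne (hσ0 _ h0)
    have hsum : B x (y - x) + B (y - x) x + B (y - x) (y - x) = 0 := by
      have e1 : B y y = B (x + (y - x)) (x + (y - x)) := by rw [add_sub_cancel]
      rw [e1] at hq
      simp only [map_add, LinearMap.add_apply] at hq
      linear_combination hq
    have hc : (B (y - x) x)⁻¹ + σ (B (y - x) x)⁻¹
        + (B (y - x) x)⁻¹ * σ (B (y - x) x)⁻¹ * B (y - x) (y - x) = 0 := by
      rw [map_inv₀, hS.eq (y - x) x]
      field_simp
      linear_combination hsum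
    refine ⟨qt σ B (B (y - x) x)⁻¹ (y - x) hc hσ2, qt_isom σ B hS _ _ hc hσ2, ?_, ?_⟩
    · intro w hw
      change w + ((B (y - x) x)⁻¹ * B (y - x) w) • (y - x) = w
      have : B (y - x) w = 0 := by rw [← hS.eq w (y - x), hxy w hw, map_zero]
      rw [this, mul_zero, zero_smul, add_zero]
    · change x + ((B (y - x) x)⁻¹ * B (y - x) x) • (y - x) = y
      rw [inv_mul_cancel₀ hne, one_smul]
      abel
  by_cases hne : B (y - x) x ≠ 0
  · exact step x y hne hq hxy
  · push Not at hne
    obtain ⟨t₁, ht₁, hβ, hγ⟩ : ∃ t, (∀ w ∈ X₀, B w t = 0) ∧ B t x ≠ 0 ∧ B t y ≠ 0 := by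
      obtain ⟨t₁, ht₁, ht₁x⟩ := hperpH σ hσ2 B hS hB X₀ x hx
      obtain ⟨t₂, ht₂, ht₂y⟩ := hperpH σ hσ2 B hS hB X₀ y hy
      by_cases h1 : B t₁ y = 0
      · by_cases h2 : B t₂ x = 0
        · refine ⟨t₁ + t₂, fun w hw => by rw [map_add, ht₁ w hw, ht₂ w hw, add_zero], ?_, ?_⟩
          · rw [map_add, LinearMap.add_apply, h2, add_zero]
            exact ht₁x
          · rw [map_add, LinearMap.add_apply, h1, zero_add]
            exact ht₂y
        · exact ⟨t₂, ht₂, h2, ht₂y⟩
      · exact ⟨t₁, ht₁, ht₁x, h1⟩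
    obtain ⟨c, hc0, hc⟩ := trace_exists σ hσ hσ2 (B t₁ t₁) (hS.eq t₁ t₁)
    obtain ⟨a, ha⟩ : ∃ a : F, a = B t₁ x / c := ⟨_, rfl⟩
    have ha0 : a ≠ 0 := by
      rw [ha]
      exact div_ne_zero hβ hc0
    have hσa0 : σ a ≠ 0 := fun h => ha0 (hσ0 _ h)
    have hBxt₁ : B x t₁ = σ (B t₁ x) := (hS.eq t₁ x).symm
    have hac : B t₁ x = a * c := by
      rw [ha]
      field_simp
    have hσac : σ (B t₁ x) = σ a * σ c := by rw [hac, map_mul]
    have hi : B x (a • t₁) + B (a • t₁) x + B (a • t₁) (a • t₁) = 0 := by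
      simp only [map_smul, map_smulₛₗ, LinearMap.smul_apply, smul_eq_mul, hBxt₁]
      rw [hσac, hac]
      linear_combination (a * σ a) * hc
    obtain ⟨t, ht⟩ : ∃ t : V, t = a • t₁ := ⟨_, rfl⟩
    rw [← ht] at hi
    have htX : ∀ w ∈ X₀, B w t = 0 := fun w hw => by
      rw [ht, map_smul, ht₁ w hw, smul_zero]
    have htx : B t x ≠ 0 := by
      rw [ht, map_smulₛₗ, LinearMap.smul_apply, smul_eq_mul]
      exact mul_ne_zero hσa0 hβ
    have hyt : B y t ≠ 0 := by
      rw [ht, map_smul, smul_eq_mul, ← hS.eq t₁ y]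
      exact mul_ne_zero ha0 (fun h => hγ (hσ0 _ h))
    have hne' : B y x - B x x = 0 := by
      rw [map_sub, LinearMap.sub_apply] at hne
      exact hne
    have hyxt : y - (x + t) = (y - x) - t := by abel
    obtain ⟨g₁, hg₁, hg₁X, hg₁x⟩ := step x (x + t) (by rw [add_sub_cancel_left]; exact htx)
      (by simp only [map_add, LinearMap.add_apply]; linear_combination hi)
      (fun w hw => by rw [add_sub_cancel_left]; exact htX w hw)
    have e2 : B (y - (x + t)) (x + t) = B y t := by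
      rw [hyxt]
      simp only [map_sub, map_add, LinearMap.sub_apply]
      linear_combination hne' - hi
    obtain ⟨g₂, hg₂, hg₂X, hg₂x⟩ := step (x + t) y (by rw [e2]; exact hyt)
      (by simp only [map_add, LinearMap.add_apply]; linear_combination hq - hi)
      (fun w hw => by rw [hyxt, map_sub, hxy w hw, htX w hw, sub_zero])
    refine ⟨g₁.trans g₂, fun u v => ?_, fun w hw => ?_, ?_⟩
    · change B (g₂ (g₁ u)) (g₂ (g₁ v)) = _
      rw [hg₂, hg₁]
    · change g₂ (g₁ w) = w
      rw [hg₁X w hw, hg₂X w hw]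
    · change g₂ (g₁ x) = y
      rw [hg₁x, hg₂x]

/-- Witt's Lemma for Hermitian forms. Let σ be a non-identity involutive automorphism of a finite field F and B a non-degenerate σ-sesquilinear form on a finite-dimensional F-space V which is conjugate-symmetric (σ (B x y) = B y x). Then every linear equivalence between subspaces X, Y of V preserving B extends to a B-preserving linear automorphism of V. -/
theorem result {F V : Type*} [Field F] [Finite F] [AddCommGroup V] [Module F V] [FiniteDimensional F V] (σ : F →+* F) (hσ : σ ≠ RingHom.id F) (hσ2 : ∀ a : F, σ (σ a) = a) (B : V →ₛₗ[σ] V →ₗ[F] F) (hS : B.IsSymm) (hB : B.Nondegenerate) (X Y : Submodule F V) (φ : X ≃ₗ[F] Y) (hφ : ∀ x x' : X, B (φ x : V) (φ x' : V) = B (x : V) (x' : V)) : ∃ g : V ≃ₗ[F] V, (∀ u v : V, B (g u) (g v) = B u v) ∧ ∀ x : X, g (x : V) = (φ x : V) := by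
  refine Cfsg.Agent.Helper5.witt_wrap
    (fun f X => (∀ u ∈ X, ∀ v ∈ X, B (f u) (f v) = B u v) ∧ (∀ u ∈ X, f u = 0 → u = 0))
    (fun g => ∀ u v : V, B (g u) (g v) = B u v) ?_ ?_ ?_ ?_ ?_ X Y φ ?_
  · intro f X Y hle hP
    exact ⟨fun u hu v hv => hP.1 u (hle hu) v (hle hv), fun u hu => hP.2 u (hle hu)⟩
  · intro u v
    rfl
  · intro g₁ g₂ h1 h2 u v
    change B (g₂ (g₁ u)) (g₂ (g₁ v)) = _
    rw [h2, h1]
  · intro f X g hP hg
    have hgs : ∀ u v, B (g.symm u) (g.symm v) = B u v := by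
      intro u v
      have := hg (g.symm u) (g.symm v)
      rw [g.apply_symm_apply, g.apply_symm_apply] at this
      exact this.symm
    refine ⟨fun u hu v hv => ?_, fun u hu h0 => ?_⟩
    · change B (g.symm (f u)) (g.symm (f v)) = _
      rw [hgs, hP.1 u hu v hv]
    · apply hP.2 u hu
      exact (LinearEquiv.map_eq_zero_iff g.symm).1 h0
  · intro f X₀ a hP hfix ha
    have hmem : a ∈ X₀ ⊔ Submodule.span F {a} :=
      Submodule.mem_sup_right (Submodule.mem_span_singleton_self a)
    have hle : X₀ ≤ X₀ ⊔ Submodule.span F {a} := le_sup_left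
    have hy : f a ∉ X₀ := by
      intro hy
      apply ha
      have h1 : f (a - f a) = 0 := by rw [map_sub, hfix _ hy, sub_self]
      have h2 := hP.2 (a - f a) (Submodule.sub_mem _ hmem (hle hy)) h1
      rw [sub_eq_zero] at h2
      rw [h2]
      exact hy
    exact coreH σ hσ hσ2 B hS hB X₀ a (f a) ha hy (hP.1 a hmem a hmem) (by
      intro w hw
      rw [map_sub]
      have := hP.1 w (hle hw) a hmem
      rw [hfix w hw] at this
      rw [this, sub_self])
  · intro f hf
    refine ⟨fun u hu v hv => ?_, fun u hu h0 => ?_⟩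
    · have := hφ ⟨u, hu⟩ ⟨v, hv⟩
      rw [← hf, ← hf] at this
      exact this
    · have h1 := hf ⟨u, hu⟩
      have h2 : (φ ⟨u, hu⟩ : V) = 0 := by
        rw [← h1]
        exact h0
      have h3 : φ ⟨u, hu⟩ = 0 := Subtype.ext h2
      have h4 : (⟨u, hu⟩ : X) = 0 := (LinearEquiv.map_eq_zero_iff φ).1 h3
      exact congrArg Subtype.val h4

end Cfsg.Agent.S0751
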