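import Cfsg.Statements.S0027
import Cfsg.Agent.Helper1.Coprime

set_option autoImplicit false
open Cfsg
open scoped commutatorElement

namespace Cfsg.Agent.S0027

/-- Under coprime action the commutator subgroup with A is stable: taking the commutator with A twice gives the same subgroup as once. -/
theorem result {G : Type*} [Group G] [Finite G] (A K : Subgroup G) (hAK : A ≤ Subgroup.normalizer (K : Set G))
    (hcop : (Nat.card A).Coprime (Nat.card K)) (hsolv : Group.IsSolvable A ∨ Group.IsSolvable K) :
    ⁅⁅K, A⁆, A⁆ = ⁅K, A⁆ := by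
  have hKA : ⁅K, A⁆ ≤ K := Cfsg.Agent.Helper1.commutator_le_of_le_normalizer K A hAK
  have hAD : A ≤ Subgroup.normalizer ((⁅K, A⁆ : Subgroup G) : Set G) :=
    Cfsg.Agent.Helper1.le_normalizer_commutator K A A hAK Subgroup.le_normalizer
  apply le_antisymm (Subgroup.commutator_mono hKA le_rfl)
  rw [Subgroup.commutator_le]
  intro k hk a ha
  obtain ⟨d, hd, hc⟩ := Cfsg.Agent.Helper1.coprime_coset_fixed A K ⁅K, A⁆ hAK hAD hKA hcop hsolv
    k⁻¹ (K.inv_mem hk) (fun a ha => by
      have := Subgroup.commutator_mem_commutator hk ha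
      rw [commutatorElement_def] at this
      simpa using this)
  have hca := Subgroup.mem_centralizer_iff.mp hc a ha
  have h0 : ⁅k, a⁆ = ⁅d, a⁆ := by
    rw [commutatorElement_def, commutatorElement_def]
    have h1 : k * a * k⁻¹ = d * a * d⁻¹ := by
      have h2 : k * (a * (k⁻¹ * d)) * d⁻¹ = k * (k⁻¹ * d * a) * d⁻¹ := by rw [hca]
      simpa [mul_assoc] using h2
    rw [h1]
  rw [h0]
  exact Subgroup.commutator_mem_commutator hd ha

end Cfsg.Agent.S0027
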