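import Cfsg.Statements.S2530
import Mathlib
import Cfsg.Agent.Helper3.CoxExch2
-- import your own Cfsg.Agent.* helpers here

set_option autoImplicit false
open Cfsg

namespace Cfsg.Agent.S2530

open Equiv Cfsg.Agent.Helper3

/-- adjacent transposition -/
def s (n : ℕ) (i : Fin n) : Perm (Fin (n + 1)) := swap i.castSucc i.succ

theorem s_mul_s (n : ℕ) (i : Fin n) : s n i * s n i = 1 := swap_mul_self _ _

theorem s_inv (n : ℕ) (i : Fin n) : (s n i)⁻¹ = s n i := by
  unfold s
  rw [swap_inv]

theorem s_lt_iff {n : ℕ} (a : Fin n) (u v : Fin (n + 1)) (h1 : ¬(u = a.castSucc ∧ v = a.succ))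
    (h2 : ¬(u = a.succ ∧ v = a.castSucc)) : s n a v < s n a u ↔ v < u := by
  unfold s
  rw [swap_apply_def, swap_apply_def]
  simp only [Fin.ext_iff, Fin.val_castSucc, Fin.val_succ] at h1 h2
  split_ifs with h3 h4 h5 h6 h7 h8 <;>
    simp only [Fin.ext_iff, Fin.lt_def, Fin.val_castSucc, Fin.val_succ] at * <;> omega

theorem ais {α : Type*} (w : Perm α) (x : α) : w (w⁻¹ x) = x := w.apply_symm_apply x

theorem ias {α : Type*} (w : Perm α) (x : α) : w⁻¹ (w x) = x := w.symm_apply_apply x

/-- the inversion set -/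
def InvSet {n : ℕ} (w : Perm (Fin (n + 1))) : Finset (Fin (n + 1) × Fin (n + 1)) :=
  Finset.univ.filter (fun p => p.1 < p.2 ∧ w p.2 < w p.1)

theorem mem_InvSet {n : ℕ} (w : Perm (Fin (n + 1))) (x y : Fin (n + 1)) :
    (x, y) ∈ InvSet w ↔ x < y ∧ w y < w x := by
  unfold InvSet
  rw [Finset.mem_filter]
  simp only [Finset.mem_univ, true_and]

theorem InvSet_s_mul {n : ℕ} (a : Fin n) (w : Perm (Fin (n + 1)))
    (h : w⁻¹ a.castSucc < w⁻¹ a.succ) :
    (InvSet (s n a * w)).card = (InvSet w).card + 1 := by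
  have hlt : a.castSucc < a.succ := Fin.castSucc_lt_succ
  have hnot : (w⁻¹ a.castSucc, w⁻¹ a.succ) ∉ InvSet w := by
    rw [mem_InvSet, ais, ais]
    intro hh
    exact absurd hh.2 (not_lt.2 hlt.le)
  have heq : InvSet (s n a * w) = insert (w⁻¹ a.castSucc, w⁻¹ a.succ) (InvSet w) := by
    ext ⟨x, y⟩
    rw [Finset.mem_insert, mem_InvSet, mem_InvSet, Prod.mk.injEq, Perm.mul_apply,
      Perm.mul_apply]
    constructor
    · rintro ⟨hxy, hlt'⟩
      by_cases h1 : w x = a.castSucc ∧ w y = a.succ
      · left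
        exact ⟨by rw [← h1.1, ias], by rw [← h1.2, ias]⟩
      · right
        have h2 : ¬(w x = a.succ ∧ w y = a.castSucc) := by
          rintro ⟨hx, hy⟩
          rw [← hx, ← hy, ias, ias] at h
          exact absurd h (not_lt.2 hxy.le)
        exact ⟨hxy, (s_lt_iff a (w x) (w y) h1 h2).1 hlt'⟩
    · rintro (⟨rfl, rfl⟩ | ⟨hxy, hlt'⟩)
      · refine ⟨h, ?_⟩
        rw [ais, ais]
        show swap _ _ _ < swap _ _ _
        rw [swap_apply_right, swap_apply_left]
        exact hlt
      · have h1 : ¬(w x = a.castSucc ∧ w y = a.succ) := by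
          rintro ⟨hx, hy⟩
          rw [hx, hy] at hlt'
          exact absurd hlt' (not_lt.2 hlt.le)
        have h2 : ¬(w x = a.succ ∧ w y = a.castSucc) := by
          rintro ⟨hx, hy⟩
          rw [← hx, ← hy, ias, ias] at h
          exact absurd h (not_lt.2 hxy.le)
        exact ⟨hxy, (s_lt_iff a (w x) (w y) h1 h2).2 hlt'⟩
  rw [heq, Finset.card_insert_of_notMem hnot]

theorem inv_castSucc_ne {n : ℕ} (a : Fin n) (w : Perm (Fin (n + 1))) :
    w⁻¹ a.castSucc ≠ w⁻¹ a.succ := by
  intro h
  have h1 := w⁻¹.injective h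
  exact absurd h1 (Fin.castSucc_lt_succ).ne

theorem InvSet_s_mul' {n : ℕ} (a : Fin n) (w : Perm (Fin (n + 1)))
    (h : w⁻¹ a.succ < w⁻¹ a.castSucc) :
    (InvSet (s n a * w)).card + 1 = (InvSet w).card := by
  have h1 : (s n a * w)⁻¹ a.castSucc < (s n a * w)⁻¹ a.succ := by
    rw [mul_inv_rev, Perm.mul_apply, Perm.mul_apply, s_inv]
    have e1 : s n a a.castSucc = a.succ := by
      unfold s; rw [swap_apply_left]
    have e2 : s n a a.succ = a.castSucc := by
      unfold s; rw [swap_apply_right]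
    rw [e1, e2]; exact h
  have h2 := InvSet_s_mul a (s n a * w) h1
  rw [← mul_assoc, s_mul_s, one_mul] at h2
  exact h2.symm

theorem InvSet_one {n : ℕ} : (InvSet (1 : Perm (Fin (n + 1)))).card = 0 := by
  rw [Finset.card_eq_zero, Finset.eq_empty_iff_forall_notMem]
  rintro ⟨x, y⟩ hxy
  rw [mem_InvSet] at hxy
  exact absurd hxy.2 (not_lt.2 hxy.1.le)

theorem InvSet_wprod_le {n : ℕ} (ω : List (Fin n)) : (InvSet (wprod (s n) ω)).card ≤ ω.length := by
  induction ω with
  | nil => rw [wprod_nil, InvSet_one]; exact Nat.zero_le _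
  | cons a ω ih =>
    rw [wprod_cons, List.length_cons]
    rcases lt_or_gt_of_ne (inv_castSucc_ne a (wprod (s n) ω)) with h | h
    · rw [InvSet_s_mul a _ h]; omega
    · have := InvSet_s_mul' a _ h; omega

theorem exists_descent {n : ℕ} (w : Perm (Fin (n + 1))) (hw : w ≠ 1) :
    ∃ a : Fin n, w⁻¹ a.succ < w⁻¹ a.castSucc := by
  by_contra hcon
  push Not at hcon
  apply hw
  have hmono : StrictMono (fun x : Fin (n + 1) => w⁻¹ x) := by
    rw [Fin.strictMono_iff_lt_succ]
    intro a
    exact lt_of_le_of_ne (hcon a) (inv_castSucc_ne a w)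
  have hid : ∀ x, w⁻¹ x = x := by
    intro x
    have h1 := Fin.coe_orderIso_apply (StrictMono.orderIsoOfSurjective _ hmono w⁻¹.surjective) x
    exact Fin.ext h1
  rw [← inv_eq_one]
  ext x
  rw [hid]
  rfl

theorem exists_word {n : ℕ} : ∀ (k : ℕ) (w : Perm (Fin (n + 1))), (InvSet w).card = k →
    ∃ ω : List (Fin n), ω.length = k ∧ wprod (s n) ω = w := by
  intro k
  induction k with
  | zero =>
    intro w hw
    refine ⟨[], rfl, ?_⟩
    rw [wprod_nil]
    by_contra hne
    obtain ⟨a, ha⟩ := exists_descent w (fun h => hne h.symm)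
    have := InvSet_s_mul' a w ha
    omega
  | succ k ih =>
    intro w hw
    have hne : w ≠ 1 := by
      rintro rfl
      rw [InvSet_one] at hw
      omega
    obtain ⟨a, ha⟩ := exists_descent w hne
    have h1 := InvSet_s_mul' a w ha
    obtain ⟨ω, hl, hω⟩ := ih (s n a * w) (by omega)
    refine ⟨a :: ω, by rw [List.length_cons, hl], ?_⟩
    rw [wprod_cons, hω, ← mul_assoc, s_mul_s, one_mul]

theorem wred_length {n : ℕ} {ω : List (Fin n)} (h : WRed (s n) ω) :
    ω.length = (InvSet (wprod (s n) ω)).card := by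
  apply le_antisymm
  · obtain ⟨ω', hl, hω'⟩ := exists_word _ (wprod (s n) ω) rfl
    rw [← hl]
    exact h ω' hω'
  · exact InvSet_wprod_le ω

theorem track {n : ℕ} : ∀ (ω : List (Fin n)) (a b : Fin (n + 1)), a < b →
    (wprod (s n) ω)⁻¹ b < (wprod (s n) ω)⁻¹ a →
    ∃ j < ω.length, swap a b * wprod (s n) (ω.eraseIdx j) = wprod (s n) ω := by
  intro ω
  induction ω with
  | nil =>
    intro a b hab h
    rw [wprod_nil, inv_one] at h
    exact absurd h (not_lt.2 hab.le)
  | cons c ω ih =>
    intro a b hab h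
    by_cases hc : b = c.succ ∧ a = c.castSucc
    · refine ⟨0, by simp, ?_⟩
      rw [List.eraseIdx_cons_zero, wprod_cons, hc.1, hc.2]
      rfl
    · have hc' : ¬(b = c.castSucc ∧ a = c.succ) := by
        rintro ⟨hb, ha⟩
        rw [hb, ha] at hab
        exact absurd hab (not_lt.2 (Fin.castSucc_lt_succ).le)
      have hab' : s n c a < s n c b := (s_lt_iff c b a hc' hc).2 hab
      have h' : (wprod (s n) ω)⁻¹ (s n c b) < (wprod (s n) ω)⁻¹ (s n c a) := by
        rw [wprod_cons, mul_inv_rev, Perm.mul_apply, Perm.mul_apply, s_inv] at h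
        exact h
      obtain ⟨j, hj, hjeq⟩ := ih (s n c a) (s n c b) hab' h'
      refine ⟨j + 1, by rw [List.length_cons]; omega, ?_⟩
      rw [List.eraseIdx_cons_succ, wprod_cons, wprod_cons, ← hjeq, swap_apply_apply, s_inv]
      simp only [← mul_assoc]
      rw [s_mul_s, one_mul]

theorem exchange {n : ℕ} (i : Fin n) (ω : List (Fin n)) (h1 : WRed (s n) ω)
    (h2 : ¬ WRed (s n) (i :: ω)) :
    ∃ j < ω.length, wprod (s n) (i :: ω.eraseIdx j) = wprod (s n) ω := by
  have hlen := wred_length h1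
  unfold WRed at h2
  push Not at h2
  obtain ⟨ω', hω', hlt⟩ := h2
  rw [List.length_cons] at hlt
  have h3 := InvSet_wprod_le ω'
  rw [hω', wprod_cons] at h3
  have hdesc : (wprod (s n) ω)⁻¹ i.succ < (wprod (s n) ω)⁻¹ i.castSucc := by
    rcases lt_or_gt_of_ne (inv_castSucc_ne i (wprod (s n) ω)) with h | h
    · have := InvSet_s_mul i _ h; omega
    · exact h
  obtain ⟨j, hj, hjeq⟩ := track ω i.castSucc i.succ Fin.castSucc_lt_succ hdesc
  exact ⟨j, hj, by rw [wprod_cons]; exact hjeq⟩

theorem s_injective (n : ℕ) : Function.Injective (s n) := by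
  intro i j h
  have h1 := congrArg (fun f : Perm (Fin (n + 1)) => f i.castSucc) h
  simp only [s, swap_apply_left] at h1
  rw [swap_apply_def] at h1
  split_ifs at h1 with h2 h3
  · exact Fin.castSucc_injective _ h2
  · simp only [Fin.ext_iff, Fin.val_castSucc, Fin.val_succ] at h1 h3; omega
  · simp only [Fin.ext_iff, Fin.val_castSucc, Fin.val_succ] at h1; omega

theorem s_closure (n : ℕ) : Subgroup.closure (Set.range (s n)) = ⊤ :=
  Subgroup.closure_eq_top_of_mclosure_eq_top (Equiv.Perm.mclosure_swap_castSucc_succ n)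

theorem orderOf_s_mul_s (n : ℕ) (i j : Fin n) :
    orderOf (s n i * s n j) = CoxeterMatrix.A n i j := by
  show _ = (if i = j then 1 else (if (j : ℕ) + 1 = i ∨ (i : ℕ) + 1 = j then 3 else 2))
  split_ifs with h1 h2
  · subst h1; rw [s_mul_s, orderOf_one]
  · rcases h2 with h2 | h2
    · have e : i.castSucc = j.succ := Fin.ext (by simp only [Fin.val_castSucc, Fin.val_succ]; omega)
      unfold s
      rw [e, swap_comm j.castSucc j.succ]
      refine (Equiv.Perm.isThreeCycle_swap_mul_swap_same ?_ ?_ ?_).orderOf <;>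
        simp only [ne_eq, Fin.ext_iff, Fin.val_castSucc, Fin.val_succ] <;> omega
    · have e : j.castSucc = i.succ := Fin.ext (by simp only [Fin.val_castSucc, Fin.val_succ]; omega)
      unfold s
      rw [e, swap_comm i.castSucc i.succ]
      refine (Equiv.Perm.isThreeCycle_swap_mul_swap_same ?_ ?_ ?_).orderOf <;>
        simp only [ne_eq, Fin.ext_iff, Fin.val_castSucc, Fin.val_succ] <;> omega
  · have h1' : (i : ℕ) ≠ j := fun h => h1 (Fin.ext h)
    have hd : Perm.Disjoint (s n i) (s n j) := by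
      unfold s
      apply Perm.disjoint_swap_swap
      simp only [List.nodup_cons, List.mem_cons, List.not_mem_nil, or_false, not_or,
        Fin.ext_iff, Fin.val_castSucc, Fin.val_succ, List.nodup_nil, and_true, not_false_eq_true]
      omega
    haveI : Fact (Nat.Prime 2) := ⟨Nat.prime_two⟩
    apply orderOf_eq_prime
    · rw [pow_two, hd.commute.symm.mul_mul_mul_comm, s_mul_s, s_mul_s, one_mul]
    · intro h
      have h3 := congrArg (fun f : Perm (Fin (n + 1)) => f i.castSucc) h
      simp only [Perm.mul_apply, Perm.one_apply] at h3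
      have h4 : s n j i.castSucc = i.castSucc := by
        unfold s
        apply swap_apply_of_ne_of_ne <;>
          simp only [ne_eq, Fin.ext_iff, Fin.val_castSucc, Fin.val_succ] <;> omega
      rw [h4] at h3
      unfold s at h3
      rw [swap_apply_left] at h3
      simp only [Fin.ext_iff, Fin.val_castSucc, Fin.val_succ] at h3
      omega

theorem transport {B W : Type*} [Group W] (M M' : CoxeterMatrix B) (h : M = M')
    (cs : CoxeterSystem M W) : ∃ cs' : CoxeterSystem M' W, ∀ i, cs'.simple i = cs.simple i := by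
  subst h
  exact ⟨cs, fun _ => rfl⟩

/-- The Coxeter presentation of the symmetric group: for every n, the symmetric group on n+1 letters is the Coxeter group of type A_n with the adjacent transpositions (i, i+1) as simple reflections; that is, it is presented by generators r_1, …, r_n subject to r_i² = 1, (r_i r_j)² = 1 for |i − j| > 1 and (r_i r_{i+1})³ = 1, with r_i mapping to (i, i+1). -/
theorem result (n : ℕ) :
    ∃ cs : CoxeterSystem (CoxeterMatrix.A n) (Equiv.Perm (Fin (n + 1))), ∀ i : Fin n, cs.simple i = Equiv.swap i.castSucc i.succ := by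
  obtain ⟨cs, hcs⟩ := coxeter_of_exchange (s n) (s_mul_s n) (s_closure n) (s_injective n)
    (exchange (n := n))
  have hM : ordMatrix (s n) (s_mul_s n) (s_injective n) = CoxeterMatrix.A n := by
    apply CoxeterMatrix.ext
    ext i j
    exact orderOf_s_mul_s n i j
  obtain ⟨cs', hcs'⟩ := transport _ _ hM cs
  exact ⟨cs', fun i => by rw [hcs', hcs]; rfl⟩

end Cfsg.Agent.S2530
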