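import Cfsg.Statements.S1489
import Cfsg.Agent.Helper10.IndLemmas
import Cfsg.Agent.Helper2.CharNat

set_option autoImplicit false
open Cfsg

namespace Cfsg.Agent.S1489

open scoped ComplexConjugate

/-- The arithmetic core: a nonnegative integer quadratic form dominating its diagonal. -/
theorem arith {ι : Type*} [Fintype ι] [DecidableEq ι] (N : ι → ℤ) (M : ι → ι → ℤ)
    (hN : ∀ i, 0 ≤ N i) (hM : ∀ i j, 0 ≤ M i j) (hM1 : ∀ i, 1 ≤ M i i)
    (hS : ∑ i, ∑ j, N i * N j * M i j = ∑ i, N i * N i) (i₀ : ι) (hi₀ : 0 < N i₀) :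
    M i₀ i₀ = 1 ∧ ∀ j, j ≠ i₀ → 0 < N j → M i₀ j = 0 := by
  have hterm : ∀ i j, 0 ≤ N i * N j * M i j := fun i j =>
    mul_nonneg (mul_nonneg (hN i) (hN j)) (hM i j)
  have hle : ∀ i ∈ (Finset.univ : Finset ι), N i * N i ≤ ∑ j, N i * N j * M i j := by
    intro i _
    have h1 : N i * N i * M i i ≤ ∑ j, N i * N j * M i j :=
      Finset.single_le_sum (f := fun j => N i * N j * M i j) (fun j _ => hterm i j)
        (Finset.mem_univ i)
    have h2 : N i * N i ≤ N i * N i * M i i := by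
      have := mul_le_mul_of_nonneg_left (hM1 i) (mul_nonneg (hN i) (hN i))
      linarith
    linarith
  have heq := (Finset.sum_eq_sum_iff_of_le hle).1 hS.symm i₀ (Finset.mem_univ i₀)
  have hpos : 0 < N i₀ * N i₀ := mul_pos hi₀ hi₀
  constructor
  · have h1 : N i₀ * N i₀ * M i₀ i₀ ≤ ∑ j, N i₀ * N j * M i₀ j :=
      Finset.single_le_sum (f := fun j => N i₀ * N j * M i₀ j) (fun j _ => hterm i₀ j)
        (Finset.mem_univ i₀)
    rw [← heq] at h1
    have h2 : M i₀ i₀ ≤ 1 := by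
      by_contra hcon
      push Not at hcon
      have : N i₀ * N i₀ * 2 ≤ N i₀ * N i₀ * M i₀ i₀ :=
        mul_le_mul_of_nonneg_left (by linarith) hpos.le
      linarith
    exact le_antisymm h2 (hM1 i₀)
  · intro j hj hNj
    have h1 : ∑ k ∈ ({i₀, j} : Finset ι), N i₀ * N k * M i₀ k ≤ ∑ k, N i₀ * N k * M i₀ k :=
      Finset.sum_le_sum_of_subset_of_nonneg (Finset.subset_univ _) (fun k _ _ => hterm i₀ k)
    rw [Finset.sum_pair (Ne.symm hj), ← heq] at h1
    have h2 : N i₀ * N i₀ ≤ N i₀ * N i₀ * M i₀ i₀ := by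
      have := mul_le_mul_of_nonneg_left (hM1 i₀) hpos.le
      linarith
    have h3 : N i₀ * N j * M i₀ j ≤ 0 := by linarith
    have h4 : 0 < N i₀ * N j := mul_pos hi₀ hNj
    by_contra hcon
    have h5 : 0 < M i₀ j := lt_of_le_of_ne (hM i₀ j) (Ne.symm hcon)
    have := mul_pos h4 h5
    linarith

/-- Let H be a normal subgroup of the finite group G, θ an irreducible character of H, and T the inertia group of θ (the elements g with θ(g h g⁻¹) = θ(h) for all h ∈ H). If ψ and ψ' are irreducible characters of T having nonzero inner product with the function induced from θ to T, then the function induced from ψ to G is an irreducible character of G, and it equals the one induced from ψ' only if ψ = ψ'. -/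
theorem result {G : Type*} [Group G] [Fintype G] (H T : Subgroup G) [hN : H.Normal] [Fintype T] (θ : H → ℂ) (hθ : Cfsg.IsIrrCharacter H θ) (hT : ∀ g : G, g ∈ T ↔ ∀ h : H, θ ⟨g * h * g⁻¹, hN.conj_mem h h.2 g⟩ = θ h) (hHT : H ≤ T) (ψ ψ' : T → ℂ) (hψ : Cfsg.IsIrrCharacter T ψ) (hψ' : Cfsg.IsIrrCharacter T ψ') (hc : Cfsg.classInner (Cfsg.indFun (H.subgroupOf T) (fun x => θ ⟨(x : T), Subgroup.mem_subgroupOf.mp x.2⟩)) ψ ≠ 0) (hc' : Cfsg.classInner (Cfsg.indFun (H.subgroupOf T) (fun x => θ ⟨(x : T), Subgroup.mem_subgroupOf.mp x.2⟩)) ψ' ≠ 0) : Cfsg.IsIrrCharacter G (Cfsg.indFun T ψ) ∧ (Cfsg.indFun T ψ = Cfsg.indFun T ψ' → ψ = ψ') := by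
  classical
  have := Fintype.ofFinite H
  have hfin := Helper24.finite_irrCharacter (G := T)
  have := Fintype.ofFinite (IrrCharacter T)
  have hTH0 : (Nat.card H : ℂ) ≠ 0 := by exact_mod_cast Nat.card_pos.ne'
  have hcardH : Nat.card (H.subgroupOf T) = Nat.card H :=
    Nat.card_congr (Subgroup.subgroupOfEquivOfLe hHT).toEquiv
  have hθ' : IsIrrCharacter (H.subgroupOf T)
      (fun x => θ ⟨(x : T), Subgroup.mem_subgroupOf.mp x.2⟩) :=
    Helper10.isIrr_comp_equiv (Subgroup.subgroupOfEquivOfLe hHT) hθ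
  have hΘ'char : IsCharacter T (indFun (H.subgroupOf T)
      (fun x => θ ⟨(x : T), Subgroup.mem_subgroupOf.mp x.2⟩)) :=
    Helper2.isCharacter_indFun _ (Helper24.isCharacter_of_irr hθ')
  have hΘ'gen := Helper10.isGeneralizedCharacter_of_char hΘ'char
  have hnormT : classInner (indFun (H.subgroupOf T)
      (fun x => θ ⟨(x : T), Subgroup.mem_subgroupOf.mp x.2⟩)) (indFun (H.subgroupOf T)
      (fun x => θ ⟨(x : T), Subgroup.mem_subgroupOf.mp x.2⟩)) =
      (Nat.card H : ℂ)⁻¹ * (Nat.card T : ℂ) := by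
    rw [Helper10.classInner_indFun_normal (H.subgroupOf T) _ hθ', hcardH]
    congr 2
    rw [Nat.card_eq_fintype_card, ← Finset.card_univ]
    congr 1
    apply Finset.filter_true_of_mem
    intro x _
    funext h
    have h1 := (hT (x : G)).1 x.2 ⟨((h : T) : G), Subgroup.mem_subgroupOf.mp h.2⟩
    rw [← h1]
    congr 1
  have hnormG : classInner (indFun H θ) (indFun H θ) =
      (Nat.card H : ℂ)⁻¹ * (Nat.card T : ℂ) := by
    rw [Helper10.classInner_indFun_normal H θ hθ]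
    congr 2
    rw [Nat.card_eq_fintype_card, Fintype.card_subtype]
    congr 1
    ext x
    simp only [Finset.mem_filter, Finset.mem_univ, true_and]
    rw [hT x]
    constructor
    · intro h h'
      exact (congrFun h h').symm
    · intro h
      funext h'
      exact (h h').symm
  have htrans := Helper10.indFun_trans H T hHT θ
  have hexp := Helper10.gen_expansion hΘ'gen
  have hNnonneg : ∀ φ : IrrCharacter T, 0 ≤ Helper10.irrCoeff (indFun (H.subgroupOf T)
      (fun x => θ ⟨(x : T), Subgroup.mem_subgroupOf.mp x.2⟩)) φ := by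
    intro φ
    obtain ⟨k, hk⟩ := Helper10.classInner_char_irr hΘ'char φ.2
    have h2 := Helper10.irrCoeff_spec hΘ'gen φ.2
    rw [hk] at h2
    have h3 : ((k : ℤ) : ℂ) = ((Helper10.irrCoeff (indFun (H.subgroupOf T)
      (fun x => θ ⟨(x : T), Subgroup.mem_subgroupOf.mp x.2⟩)) φ : ℤ) : ℂ) := by
      rw [← h2]; simp
    have h4 : (k : ℤ) = Helper10.irrCoeff (indFun (H.subgroupOf T)
      (fun x => θ ⟨(x : T), Subgroup.mem_subgroupOf.mp x.2⟩)) φ := by exact_mod_cast h3
    rw [← h4]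
    exact Int.natCast_nonneg k
  have hindchar : ∀ φ : IrrCharacter T, IsCharacter G (indFun T (φ : T → ℂ)) := fun φ =>
    Helper2.isCharacter_indFun T (Helper24.isCharacter_of_irr φ.2)
  have hm : ∀ φ φ' : IrrCharacter T, ∃ m : ℕ,
      classInner (indFun T (φ : T → ℂ)) (indFun T (φ' : T → ℂ)) = (m : ℂ) := fun φ φ' =>
    Helper2.classInner_char_nat (hindchar φ) (hindchar φ')
  choose m hm using hm
  have hm1 : ∀ φ : IrrCharacter T, 1 ≤ (m φ φ : ℤ) := by
    intro φ
    have hne : m φ φ ≠ 0 := by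
      intro h0
      have h1 := hm φ φ
      rw [h0, Nat.cast_zero] at h1
      have h2 := Helper10.classInner_self_eq_zero h1
      have h3 := congrFun h2 1
      rw [Helper10.indFun_one] at h3
      have hT0 : (Nat.card T : ℂ)⁻¹ ≠ 0 := by
        apply inv_ne_zero
        exact_mod_cast Nat.card_pos.ne'
      have hG0 : (Nat.card G : ℂ) ≠ 0 := by exact_mod_cast Nat.card_pos.ne'
      obtain ⟨d, hd, hφ1⟩ := Helper10.irr_one_eq φ.2
      rw [hφ1] at h3
      have hd0 : (d : ℂ) ≠ 0 := by exact_mod_cast hd.ne'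
      exact mul_ne_zero (mul_ne_zero hT0 hG0) hd0 h3
    have : 1 ≤ m φ φ := Nat.one_le_iff_ne_zero.2 hne
    exact_mod_cast this
  have hsumG : classInner (indFun H θ) (indFun H θ) =
      ((∑ φ : IrrCharacter T, ∑ φ' : IrrCharacter T,
        Helper10.irrCoeff (indFun (H.subgroupOf T)
          (fun x => θ ⟨(x : T), Subgroup.mem_subgroupOf.mp x.2⟩)) φ *
        Helper10.irrCoeff (indFun (H.subgroupOf T)
          (fun x => θ ⟨(x : T), Subgroup.mem_subgroupOf.mp x.2⟩)) φ' * (m φ φ' : ℤ) : ℤ) : ℂ) := by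
    rw [← htrans]
    conv_lhs => rw [hexp]
    rw [Helper10.indFun_sum, Helper2.classInner_sum_left]
    push_cast
    refine Finset.sum_congr rfl fun φ _ => ?_
    rw [Helper2.classInner_sum_right]
    refine Finset.sum_congr rfl fun φ' _ => ?_
    rw [Helper10.indFun_smul, Helper10.indFun_smul, Helper2.classInner_smul_left,
      Helper2.classInner_smul_right, hm φ φ']
    rw [map_intCast]
    ring
  have hsumT := Helper10.gen_inner hΘ'gen hΘ'gen
  have hS : ∑ φ : IrrCharacter T, ∑ φ' : IrrCharacter T,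
        Helper10.irrCoeff (indFun (H.subgroupOf T)
          (fun x => θ ⟨(x : T), Subgroup.mem_subgroupOf.mp x.2⟩)) φ *
        Helper10.irrCoeff (indFun (H.subgroupOf T)
          (fun x => θ ⟨(x : T), Subgroup.mem_subgroupOf.mp x.2⟩)) φ' * (m φ φ' : ℤ) =
      ∑ φ : IrrCharacter T, Helper10.irrCoeff (indFun (H.subgroupOf T)
          (fun x => θ ⟨(x : T), Subgroup.mem_subgroupOf.mp x.2⟩)) φ *
        Helper10.irrCoeff (indFun (H.subgroupOf T)
          (fun x => θ ⟨(x : T), Subgroup.mem_subgroupOf.mp x.2⟩)) φ := by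
    have : ((∑ φ : IrrCharacter T, ∑ φ' : IrrCharacter T,
        Helper10.irrCoeff (indFun (H.subgroupOf T)
          (fun x => θ ⟨(x : T), Subgroup.mem_subgroupOf.mp x.2⟩)) φ *
        Helper10.irrCoeff (indFun (H.subgroupOf T)
          (fun x => θ ⟨(x : T), Subgroup.mem_subgroupOf.mp x.2⟩)) φ' * (m φ φ' : ℤ) : ℤ) : ℂ) =
      ((∑ φ : IrrCharacter T, Helper10.irrCoeff (indFun (H.subgroupOf T)
          (fun x => θ ⟨(x : T), Subgroup.mem_subgroupOf.mp x.2⟩)) φ *
        Helper10.irrCoeff (indFun (H.subgroupOf T)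
          (fun x => θ ⟨(x : T), Subgroup.mem_subgroupOf.mp x.2⟩)) φ : ℤ) : ℂ) := by
      rw [← hsumG, ← hsumT, hnormG, hnormT]
    exact_mod_cast this
  have hpos : ∀ (χ : T → ℂ) (hχ : IsIrrCharacter T χ),
      classInner (indFun (H.subgroupOf T)
        (fun x => θ ⟨(x : T), Subgroup.mem_subgroupOf.mp x.2⟩)) χ ≠ 0 →
      0 < Helper10.irrCoeff (indFun (H.subgroupOf T)
        (fun x => θ ⟨(x : T), Subgroup.mem_subgroupOf.mp x.2⟩)) (⟨χ, hχ⟩ : IrrCharacter T) := by
    intro χ hχ hne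
    have h2 := Helper10.irrCoeff_spec hΘ'gen hχ
    have h3 : Helper10.irrCoeff (indFun (H.subgroupOf T)
        (fun x => θ ⟨(x : T), Subgroup.mem_subgroupOf.mp x.2⟩)) χ ≠ 0 := by
      intro h0
      rw [h0] at h2
      exact hne (by rw [h2]; simp)
    exact lt_of_le_of_ne (hNnonneg ⟨χ, hχ⟩) (Ne.symm h3)
  obtain ⟨hone, hzero⟩ := arith
    (fun φ : IrrCharacter T => Helper10.irrCoeff (indFun (H.subgroupOf T)
        (fun x => θ ⟨(x : T), Subgroup.mem_subgroupOf.mp x.2⟩)) φ)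
    (fun φ φ' => (m φ φ' : ℤ)) hNnonneg (fun φ φ' => Int.natCast_nonneg _) hm1 hS
    (⟨ψ, hψ⟩ : IrrCharacter T) (hpos ψ hψ hc)
  have hnorm1 : classInner (indFun T ψ) (indFun T ψ) = 1 := by
    have h1 := hm ⟨ψ, hψ⟩ ⟨ψ, hψ⟩
    have h2 : m ⟨ψ, hψ⟩ ⟨ψ, hψ⟩ = 1 := by exact_mod_cast hone
    rw [h2] at h1
    simpa using h1
  refine ⟨Helper10.isIrr_of_char_norm_one (hindchar ⟨ψ, hψ⟩) hnorm1, ?_⟩
  intro heq
  by_contra hne
  have hne' : (⟨ψ', hψ'⟩ : IrrCharacter T) ≠ ⟨ψ, hψ⟩ := fun h =>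
    hne (congrArg Subtype.val h).symm
  have h0 := hzero ⟨ψ', hψ'⟩ hne' (hpos ψ' hψ' hc')
  have h1 := hm ⟨ψ, hψ⟩ ⟨ψ', hψ'⟩
  have h2 : m ⟨ψ, hψ⟩ ⟨ψ', hψ'⟩ = 0 := by exact_mod_cast h0
  rw [h2] at h1
  have h3 : classInner (indFun T ψ) (indFun T ψ') = 0 := by simpa using h1
  rw [← heq, hnorm1] at h3
  exact one_ne_zero h3

end Cfsg.Agent.S1489
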