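import Cfsg.Statements.S4713
-- import your own Cfsg.Agent.* helpers here
import Cfsg.Agent.Helper24.ItoPSolv

set_option autoImplicit false
open Cfsg

namespace Cfsg.Agent.S4713

open Cfsg.Agent.Helper24

/-- Let p be a prime and G a finite p-solvable group. Then G has a normal abelian Sylow p-subgroup if and only if the degree of every irreducible character of G is prime to p. -/
theorem result {G : Type*} [Group G] [Finite G] (p : ℕ) [Fact p.Prime] (hsolv : Cfsg.IsPSolvable p G) (P : Sylow p G) : ((P : Subgroup G).Normal ∧ IsMulCommutative P) ↔ ∀ χ : Cfsg.IrrCharacter G, ¬ p ∣ Cfsg.charDegree (χ : G → ℂ) := by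
  classical
  constructor
  · rintro ⟨hn, hab⟩ χ
    exact ito_sylow_forward p P hn (fun a b => hab.is_comm.comm a b) χ.2
  · intro h
    have hdeg : ∀ χ : G → ℂ, Cfsg.IsIrrCharacter G χ → ¬ p ∣ Cfsg.charDegree χ :=
      fun χ hχ => h ⟨χ, hχ⟩
    have hn := ito_sylow_normal_aux p (Nat.card G) G le_rfl hsolv hdeg P
    exact ⟨hn, ⟨⟨fun a b => ito_sylow_abelian p P hn hdeg a b⟩⟩⟩

end Cfsg.Agent.S4713
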