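import Mathlib
import Cfsg.Statements.S4263
import Cfsg.Agent.Helper9.Fitting

set_option autoImplicit false
open Cfsg

namespace Cfsg.Agent.S4263

theorem pow_index_mem_of_nc {F : Type*} [Group F] [Finite F] (hnc : NormalizerCondition F) :
    ∀ (n : ℕ) (K : Subgroup F), K.index = n → ∀ x : F, x ^ K.index ∈ K := by
  intro n
  induction n using Nat.strong_induction_on with
  | _ n ih =>
    intro K hK x
    by_cases hKtop : K = ⊤
    · rw [hKtop]; exact Subgroup.mem_top _
    · have hlt : K < ⊤ := lt_top_iff_ne_top.2 hKtop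
      have hN := hnc K hlt
      have hKN : K ≤ Subgroup.normalizer (K : Set F) := hN.le
      have hmul := Subgroup.relIndex_mul_index hKN
      have hKpos : K.index ≠ 0 := Subgroup.index_ne_zero_of_finite
      have h0 : K.relIndex (Subgroup.normalizer (K : Set F)) ≠ 0 := by
        intro h
        rw [h, zero_mul] at hmul
        exact hKpos hmul.symm
      have h1 : K.relIndex (Subgroup.normalizer (K : Set F)) ≠ 1 := by
        intro h
        exact hN.not_ge (Subgroup.relIndex_eq_one.1 h)
      have hNpos : 0 < (Subgroup.normalizer (K : Set F)).index :=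
        Nat.pos_of_ne_zero Subgroup.index_ne_zero_of_finite
      have hlt' : (Subgroup.normalizer (K : Set F)).index < n := by
        rw [← hK, ← hmul]
        have h2 : 2 ≤ K.relIndex (Subgroup.normalizer (K : Set F)) := by omega
        nlinarith
      have h3 := ih _ hlt' (Subgroup.normalizer (K : Set F)) rfl x
      have h4 : (⟨x ^ (Subgroup.normalizer (K : Set F)).index, h3⟩ :
          Subgroup.normalizer (K : Set F)) ^
            (K.subgroupOf (Subgroup.normalizer (K : Set F))).index ∈
          K.subgroupOf (Subgroup.normalizer (K : Set F)) :=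
        Subgroup.pow_index_mem (K.subgroupOf (Subgroup.normalizer (K : Set F))) _
      rw [Subgroup.mem_subgroupOf] at h4
      have h5 : (x ^ (Subgroup.normalizer (K : Set F)).index) ^
          K.relIndex (Subgroup.normalizer (K : Set F)) ∈ K := h4
      rw [← hmul, mul_comm, pow_mul]
      exact h5

theorem relIndex_sup_eq {G : Type*} [Group G] [Finite G] (H F : Subgroup G) [F.Normal] :
    H.relIndex (H ⊔ F) = H.relIndex F := by
  have e1 := Subgroup.relIndex_mul_relIndex (⊥ : Subgroup G) F (H ⊔ F) bot_le le_sup_right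
  have e2 := Subgroup.relIndex_mul_relIndex (⊥ : Subgroup G) H (H ⊔ F) bot_le le_sup_left
  have e3 := Subgroup.relIndex_mul_relIndex (⊥ : Subgroup G) (H ⊓ F) H bot_le inf_le_left
  have e4 := Subgroup.relIndex_mul_relIndex (⊥ : Subgroup G) (H ⊓ F) F bot_le inf_le_right
  rw [Subgroup.relIndex_bot_left, Subgroup.relIndex_bot_left] at e1 e2 e3 e4
  rw [Subgroup.relIndex_sup_right] at e1
  rw [Subgroup.inf_relIndex_left] at e3
  rw [Subgroup.inf_relIndex_right] at e4
  have hHpos : 0 < Nat.card H := Nat.card_pos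
  have key : Nat.card H * H.relIndex (H ⊔ F) = Nat.card H * H.relIndex F := by
    rw [e2, ← e1, ← e4, ← e3]
    ring
  exact Nat.eq_of_mul_eq_mul_left hHpos key

theorem forward {G : Type*} [Group G] [Finite G] (x : G) (hx : x ∈ Cfsg.fittingSubgroup G)
    (H : Subgroup G) : x ^ H.index ∈ H := by
  have hnil : Group.IsNilpotent (Cfsg.fittingSubgroup G) := Helper9.fitting_nilpotent
  have hnc : NormalizerCondition (Cfsg.fittingSubgroup G) :=
    Group.normalizerCondition_of_isNilpotent
  have h1 := pow_index_mem_of_nc hnc _ (H.subgroupOf (Cfsg.fittingSubgroup G)) rfl ⟨x, hx⟩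
  rw [Subgroup.mem_subgroupOf] at h1
  have h2 : x ^ H.relIndex (Cfsg.fittingSubgroup G) ∈ H := h1
  have h3 := Subgroup.relIndex_mul_index (le_sup_left : H ≤ H ⊔ Cfsg.fittingSubgroup G)
  rw [relIndex_sup_eq] at h3
  rw [← h3, pow_mul]
  exact H.pow_mem h2 _

theorem backward {G : Type*} [Group G] [Finite G] (x : G)
    (h : ∀ H : Subgroup G, x ^ H.index ∈ H) : x ∈ Cfsg.fittingSubgroup G := by
  by_contra hx
  have hne : (QuotientGroup.mk x : G ⧸ Cfsg.fittingSubgroup G) ≠ 1 := by
    rw [Ne, QuotientGroup.eq_one_iff]; exact hx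
  have hord : orderOf (QuotientGroup.mk x : G ⧸ Cfsg.fittingSubgroup G) ≠ 1 := by
    rw [Ne, orderOf_eq_one_iff]; exact hne
  obtain ⟨r, hr, hrd⟩ := Nat.exists_prime_and_dvd hord
  have : Fact r.Prime := ⟨hr⟩
  obtain ⟨R⟩ : Nonempty (Sylow r G) := inferInstance
  have hcore : x ^ (R : Subgroup G).index ∈ (R : Subgroup G).normalCore := by
    show ∀ b : G, b * x ^ (R : Subgroup G).index * b⁻¹ ∈ (R : Subgroup G)
    intro b
    have h1 := h ((R : Subgroup G).comap (MulAut.conj b).toMonoidHom)
    rw [Subgroup.index_comap_of_surjective _ (MulAut.conj b).surjective, Subgroup.mem_comap] at h1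
    exact h1
  have hcoreF : (R : Subgroup G).normalCore ≤ Cfsg.fittingSubgroup G := by
    apply Helper9.le_fitting inferInstance
    have hp : IsPGroup r ((R : Subgroup G).normalCore) :=
      R.isPGroup'.to_le (Subgroup.normalCore_le _)
    exact hp.isNilpotent
  have h2 : (QuotientGroup.mk x : G ⧸ Cfsg.fittingSubgroup G) ^ (R : Subgroup G).index = 1 := by
    rw [← QuotientGroup.mk_pow, QuotientGroup.eq_one_iff]
    exact hcoreF hcore
  have h3 : orderOf (QuotientGroup.mk x : G ⧸ Cfsg.fittingSubgroup G) ∣ (R : Subgroup G).index :=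
    orderOf_dvd_of_pow_eq_one h2
  exact R.not_dvd_index (dvd_trans hrd h3)

theorem result {G : Type*} [Group G] [Finite G] (x : G) :
    x ∈ Cfsg.fittingSubgroup G ↔ ∀ H : Subgroup G, x ^ H.index ∈ H :=
  ⟨fun hx H => forward x hx H, backward x⟩

end Cfsg.Agent.S4263
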