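import Cfsg.Statements.S0042
import Mathlib
import Cfsg.Agent.Helper1.FpfNil2
import Cfsg.Agent.Helper1.FrobThm

set_option autoImplicit false
open Cfsg

open Pointwise

namespace Cfsg.Agent.S0042

/-- In a finite Frobenius group, the Frobenius kernel is (the carrier of) a normal subgroup which is nilpotent. -/
theorem result {G : Type*} [Group G] [Finite G] (H : Subgroup G) (hH : Cfsg.IsFrobeniusComplement H) :
    ∃ N : Subgroup G, (N : Set G) = Cfsg.frobeniusKernel H ∧ N.Normal ∧ Group.IsNilpotent N := by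
  unfold Cfsg.IsFrobeniusComplement at hH
  obtain ⟨hHb, hHt, hTI⟩ := hH
  obtain ⟨N, hNset, hNn, hNc⟩ := Cfsg.Agent.Helper1.frobenius_kernel_subgroup H hTI
  refine ⟨N, hNset, hNn, ?_⟩
  haveI := hNn
  have hcard : Nat.card H ≠ 1 := by
    intro h1
    exact hHb (Subgroup.card_eq_one.mp h1)
  obtain ⟨r, hr, hrdvd⟩ := Nat.exists_prime_and_dvd hcard
  haveI : Fact r.Prime := ⟨hr⟩
  obtain ⟨h, hh⟩ := exists_prime_orderOf_dvd_card' r hrdvd
  have hh0 : orderOf (h : G) = r := by rw [Subgroup.orderOf_coe]; exact hh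
  have hh1 : (h : G) ≠ 1 := by
    intro h1
    rw [h1, orderOf_one] at hh0
    exact hr.one_lt.ne hh0
  have hψr : (MulAut.conjNormal (h : G) : MulAut N) ^ r = 1 := by
    rw [← map_pow, ← hh0, pow_orderOf_eq_one, map_one]
  have hψf : MonoidHom.FixedPointFree
      (((MulAut.conjNormal (h : G) : MulAut N) : N ≃* N) : N →* N) := by
    intro k hk
    have hk' : (h : G) * (k : G) * (h : G)⁻¹ = (k : G) := congrArg Subtype.val hk
    by_contra hk1
    have hkK : (k : G) ∈ Cfsg.frobeniusKernel H := by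
      rw [← hNset]; exact k.2
    have hkne : (k : G) ≠ 1 := fun h1 => hk1 (Subtype.ext h1)
    have hkout : ∀ g : G, (k : G) ∉ MulAut.conj g • H := by
      rcases hkK with h1 | h1
      · exact absurd h1 hkne
      · exact h1
    have hkH : (k : G) ∉ H := by
      intro hkH
      apply hkout 1
      rw [map_one, one_smul]
      exact hkH
    have hbot := hTI (k : G) hkH
    have h4 : (h : G) * (k : G) = (k : G) * (h : G) := mul_inv_eq_iff_eq_mul.mp hk'
    have hmem : (h : G) ∈ H ⊓ MulAut.conj (k : G) • H := by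
      refine Subgroup.mem_inf.mpr ⟨h.2, ?_⟩
      have h2 : (k : G) * (h : G) * (k : G)⁻¹ ∈ MulAut.conj (k : G) • H :=
        Subgroup.smul_mem_pointwise_smul (h : G) (MulAut.conj (k : G)) H h.2
      have h3 : (k : G) * (h : G) * (k : G)⁻¹ = (h : G) := by
        rw [← h4]; group
      rw [h3] at h2; exact h2
    rw [hbot, Subgroup.mem_bot] at hmem
    exact hh1 hmem
  exact Cfsg.Agent.Helper1.fpf_nilpotent_aux r hr (Nat.card N) N rfl
    (MulAut.conjNormal (h : G) : MulAut N) hψf hψr

end Cfsg.Agent.S0042
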