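import Cfsg.Agent.Helper2.CharOrtho
import Cfsg.Statements.S0173
-- import your own Cfsg.Agent.* helpers here

set_option autoImplicit false
open Cfsg

namespace Cfsg.Agent.S0173

/-- Brauer's permutation lemma for a single automorphism: the number of conjugacy classes mapped to themselves equals the number of irreducible complex characters χ with χ ∘ α = χ. -/
theorem result {G : Type*} [Group G] [Finite G] (α : G ≃* G) : Nat.card {C : ConjClasses G // ConjClasses.map α.toMonoidHom C = C} = Nat.card {χ : Cfsg.IrrCharacter G // (χ : G → ℂ) ∘ α = (χ : G → ℂ)} := by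
  classical
  have := Fintype.ofFinite G
  have := Helper24.finite_irrCharacter (G := G)
  have := Fintype.ofFinite (IrrCharacter G)
  have h1 := Helper2.brauer_perm (G := G) (fun g => α g)
    (fun χ hχ => Helper2.isIrrCharacter_comp_equiv α hχ)
  have h2 := Helper2.sum_class_weight (G := G) (fun C => ConjClasses.map α.toMonoidHom C = C)
  have h3 : (Nat.card {C : ConjClasses G // ConjClasses.map α.toMonoidHom C = C} : ℂ) =
      (Nat.card {χ : Cfsg.IrrCharacter G // (χ : G → ℂ) ∘ α = (χ : G → ℂ)} : ℂ) := by
    rw [← h2]
    refine Eq.trans ?_ h1.symm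
    refine Finset.sum_congr rfl fun g _ => ?_
    refine if_congr ?_ rfl rfl
    show ConjClasses.mk (α g) = ConjClasses.mk g ↔ IsConj (α g) g
    exact ConjClasses.mk_eq_mk_iff_isConj
  exact_mod_cast h3

end Cfsg.Agent.S0173
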