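import Cfsg.Agent.Helper2.CharOrtho
import Cfsg.Agent.Helper2.IndFun
import Cfsg.Statements.S0193
-- import your own Cfsg.Agent.* helpers here

set_option autoImplicit false
open Cfsg

namespace Cfsg.Agent.S0193

/-- Let H be a normal subgroup of a finite group G and θ an irreducible character of H. Then |H| times the inner product of the induced function of θ with itself equals the number of g in G with θ(g h g⁻¹) = θ(h) for all h in H; in particular the induced character is irreducible when only elements of H stabilise θ. -/
theorem result {G : Type*} [Group G] [Fintype G] (H : Subgroup G) [hN : H.Normal] (θ : H → ℂ) (hθ : Cfsg.IsIrrCharacter H θ) : (Nat.card H : ℂ) * Cfsg.classInner (Cfsg.indFun H θ) (Cfsg.indFun H θ) = (Nat.card {g : G // ∀ h : H, θ ⟨g * h * g⁻¹, hN.conj_mem h h.2 g⟩ = θ h} : ℂ) := by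
  classical
  have := Fintype.ofFinite H
  let cj : G → (H → ℂ) := fun g h => θ ⟨g * h * g⁻¹, hN.conj_mem h h.2 g⟩
  have hcj : ∀ g, IsIrrCharacter H (cj g) := by
    intro g
    exact Helper2.isIrrCharacter_comp_equiv (MulAut.conjNormal g : H ≃* H) hθ
  have hind : (fun h : H => indFun H θ h) = (Nat.card H : ℂ)⁻¹ • ∑ g : G, cj g := by
    funext h
    rw [Helper2.indFun_apply]
    simp only [Pi.smul_apply, Finset.sum_apply, smul_eq_mul]
    congr 1
    rw [← Equiv.sum_comp (Equiv.inv G)]
    refine Finset.sum_congr rfl fun x _ => ?_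
    simp only [Equiv.inv_apply, inv_inv]
    exact Helper2.extendByZero_apply_mem H θ (hN.conj_mem h h.2 x)
  have hH0 : (Nat.card H : ℂ) ≠ 0 := by exact_mod_cast Nat.card_pos.ne'
  rw [Helper2.frobenius_reciprocity H θ _ (Helper2.isClassFunction_indFun H θ), hind]
  rw [Helper2.classInner_smul_right, Helper2.classInner_sum_right]
  simp only [Helper2.classInner_irr hθ (hcj _)]
  rw [map_inv₀, Complex.conj_natCast, ← mul_assoc, mul_inv_cancel₀ hH0, one_mul]
  rw [Nat.card_eq_fintype_card, Fintype.card_subtype, Finset.card_filter]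
  push_cast
  refine Finset.sum_congr rfl fun g _ => ?_
  refine if_congr ?_ rfl rfl
  constructor
  · intro h x
    exact (congrFun h x).symm
  · intro h
    funext x
    exact (h x).symm

end Cfsg.Agent.S0193
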