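import Cfsg.Agent.Helper2.CharOrtho
import Cfsg.Agent.Helper2.IndFun
import Cfsg.Agent.Helper2.CharNat
import Cfsg.Agent.Helper2.CharLinear
import Cfsg.Agent.S0193
import Cfsg.Agent.S0173
import Cfsg.Statements.S0171
-- import your own Cfsg.Agent.* helpers here

set_option autoImplicit false
open Cfsg

namespace Cfsg.Agent.S0171

open scoped Pointwise

/-- In a Frobenius-type product `G = K H`, an element outside `K` commutes with no
non-identity element of `K`. -/
theorem frob_no_commute {G : Type*} [Group G] [Finite G] (K H : Subgroup G) [hK : K.Normal]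
    (hKH : K ⊓ H = ⊥) (hKH' : K ⊔ H = ⊤)
    (hfpf : ∀ h ∈ H, h ≠ 1 → ∀ k ∈ K, h * k = k * h → k = 1)
    (y : G) (hy : y ∉ K) (x : G) (hx : x ∈ K) (hc : y * x = x * y) : x = 1 := by
  classical
  have hyG : y ∈ K ⊔ H := by rw [hKH']; trivial
  have hmem : y ∈ (K : Set G) * (H : Set G) := by
    rw [← Subgroup.normal_mul]
    exact hyG
  obtain ⟨k, hk, h, hh, rfl⟩ := Set.mem_mul.1 hmem
  have hh1 : h ≠ 1 := by
    rintro rfl
    exact hy (by simpa using hk)
  -- the map u ↦ u⁻¹ * h * u * h⁻¹ is a bijection of K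
  let F : K → K := fun u => ⟨(u : G)⁻¹ * h * u * h⁻¹, by
    have h1 : h * (u : G) * h⁻¹ ∈ K := hK.conj_mem u u.2 h
    have h2 : (u : G)⁻¹ * (h * (u : G) * h⁻¹) ∈ K := K.mul_mem (K.inv_mem u.2) h1
    simpa [mul_assoc] using h2⟩
  have hF : Function.Injective F := by
    intro u v huv
    have h1 : (u : G)⁻¹ * h * u * h⁻¹ = (v : G)⁻¹ * h * v * h⁻¹ := congrArg Subtype.val huv
    have h2 : h * ((u : G) * (v : G)⁻¹) = ((u : G) * (v : G)⁻¹) * h := by
      have h3 : (u : G)⁻¹ * h * u = (v : G)⁻¹ * h * v := by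
        have := congrArg (fun z => z * h) h1
        simpa [mul_assoc] using this
      calc h * ((u : G) * (v : G)⁻¹) = (u : G) * ((u : G)⁻¹ * h * u) * (v : G)⁻¹ := by group
        _ = (u : G) * ((v : G)⁻¹ * h * v) * (v : G)⁻¹ := by rw [h3]
        _ = ((u : G) * (v : G)⁻¹) * h := by group
    have h4 := hfpf h hh hh1 _ (K.mul_mem u.2 (K.inv_mem v.2)) h2
    exact Subtype.ext (mul_inv_eq_one.1 h4)
  obtain ⟨u, hu⟩ := hF.bijective_of_finite.2 ⟨k, hk⟩
  have hu' : (u : G)⁻¹ * h * u * h⁻¹ = k := congrArg Subtype.val hu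
  have hy' : k * h = (u : G)⁻¹ * h * u := by rw [← hu']; group
  rw [hy'] at hc
  have h5 : h * ((u : G) * x * (u : G)⁻¹) = ((u : G) * x * (u : G)⁻¹) * h := by
    calc h * ((u : G) * x * (u : G)⁻¹) = (u : G) * ((u : G)⁻¹ * h * u * x) * (u : G)⁻¹ := by group
      _ = (u : G) * (x * ((u : G)⁻¹ * h * u)) * (u : G)⁻¹ := by rw [hc]
      _ = ((u : G) * x * (u : G)⁻¹) * h := by group
  have h6 := hfpf h hh hh1 _ (hK.conj_mem x hx u) h5
  have : x = (u : G)⁻¹ * ((u : G) * x * (u : G)⁻¹) * u := by group
  rw [this, h6]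
  group

/-- Let G = K H with K normal, K ⊓ H trivial, and no non-identity element of H commuting with a non-identity element of K (a Frobenius group with kernel K and complement H). Then every non-principal irreducible character of K induces to an irreducible character of G. -/
theorem result {G : Type*} [Group G] [Fintype G] (K H : Subgroup G) [K.Normal] (hKH : K ⊓ H = ⊥) (hKH' : K ⊔ H = ⊤) (hfpf : ∀ h ∈ H, h ≠ 1 → ∀ k ∈ K, h * k = k * h → k = 1) (τ : K → ℂ) (hτ : Cfsg.IsIrrCharacter K τ) (hτ1 : τ ≠ fun _ => 1) : Cfsg.IsIrrCharacter G (Cfsg.indFun K τ) := by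
  classical
  have := Fintype.ofFinite K
  have hK : K.Normal := inferInstance
  -- the inertia set is K
  have hinert : ∀ g : G, (∀ k : K, τ ⟨g * k * g⁻¹, hK.conj_mem k k.2 g⟩ = τ k) → g ∈ K := by
    intro g hg
    by_contra hgK
    -- Brauer permutation lemma for the automorphism of K induced by g
    have hperm := S0173.result (G := K) (MulAut.conjNormal g : K ≃* K)
    have hsub : Subsingleton {C : ConjClasses K //
        ConjClasses.map (MulAut.conjNormal g : K ≃* K).toMonoidHom C = C} := by
      refine ⟨fun a b => ?_⟩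
      have key : ∀ C : {C : ConjClasses K //
          ConjClasses.map (MulAut.conjNormal g : K ≃* K).toMonoidHom C = C},
          C.1 = ConjClasses.mk 1 := by
        intro C
        obtain ⟨x, hx⟩ := ConjClasses.mk_surjective C.1
        have hC := C.2
        rw [← hx] at hC
        have hconj : IsConj ((MulAut.conjNormal g : K ≃* K) x) x :=
          ConjClasses.mk_eq_mk_iff_isConj.1 hC
        obtain ⟨c, hc⟩ := isConj_iff.1 hconj
        -- c * (g x g⁻¹) * c⁻¹ = x
        have hc' : (c : G) * (g * x * g⁻¹) * (c : G)⁻¹ = x := by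
          have := congrArg Subtype.val hc
          simpa using this
        have hcomm : ((c : G) * g) * (x : G) = (x : G) * ((c : G) * g) := by
          calc ((c : G) * g) * (x : G) = ((c : G) * (g * x * g⁻¹) * (c : G)⁻¹) * ((c : G) * g) := by
                group
            _ = (x : G) * ((c : G) * g) := by rw [hc']
        have hcg : (c : G) * g ∉ K := by
          intro h
          apply hgK
          have := K.mul_mem (K.inv_mem c.2) h
          simpa using this
        have hx1 := frob_no_commute K H hKH hKH' hfpf _ hcg x x.2 hcomm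
        rw [← hx]
        congr 1
        exact Subtype.ext hx1
      exact Subtype.ext ((key a).trans (key b).symm)
    have hle : Nat.card {χ : Cfsg.IrrCharacter K //
        (χ : K → ℂ) ∘ (MulAut.conjNormal g : K ≃* K) = (χ : K → ℂ)} ≤ 1 := by
      rw [← hperm]
      exact Finite.card_le_one_iff_subsingleton.2 hsub
    have := Helper24.finite_irrCharacter (G := K)
    have hsub2 := Finite.card_le_one_iff_subsingleton.1 hle
    have e1 : (⟨⟨τ, hτ⟩, by funext k; exact hg k⟩ : {χ : Cfsg.IrrCharacter K //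
        (χ : K → ℂ) ∘ (MulAut.conjNormal g : K ≃* K) = (χ : K → ℂ)}) =
        ⟨⟨fun _ => 1, Helper2.isIrrCharacter_one_fun⟩, rfl⟩ := hsub2.elim _ _
    exact hτ1 (congrArg (fun x => (x.1 : K → ℂ)) e1)
  have hcard : Nat.card {g : G // ∀ k : K, τ ⟨g * k * g⁻¹, hK.conj_mem k k.2 g⟩ = τ k}
      = Nat.card K := by
    refine Nat.card_congr (Equiv.subtypeEquivRight fun g => ⟨hinert g, fun hg k => ?_⟩)
    have hcf := Helper2.IsIrrCharacter.isClassFunction hτ
    exact hcf k ⟨g, hg⟩
  have h193 := S0193.result K τ hτ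
  rw [hcard] at h193
  have hK0 : (Nat.card K : ℂ) ≠ 0 := by exact_mod_cast Nat.card_pos.ne'
  have hnorm : classInner (indFun K τ) (indFun K τ) = 1 := by
    have : (Nat.card K : ℂ) * classInner (indFun K τ) (indFun K τ) = (Nat.card K : ℂ) * 1 := by
      rw [h193, mul_one]
    exact mul_left_cancel₀ hK0 this
  exact Helper2.isIrrCharacter_of_norm_one
    (Helper2.isCharacter_indFun K (Helper24.isCharacter_of_irr hτ)) hnorm

end Cfsg.Agent.S0171
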