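import Cfsg.Statements.S0878
import Cfsg.Agent.Helper6.Zass

set_option autoImplicit false
open Cfsg

namespace Cfsg.Agent.S0878

open Cfsg.Agent Cfsg.Agent.Helper6 in
/-- Let G be a Zassenhaus group on the finite set Ω, a a point, and let H be the subgroup of the stabilizer of a consisting of the identity and the elements fixing no point other than a (given here as a subgroup of the stabilizer of order one less than the number of points whose non-identity elements fix only a; it is the Frobenius kernel of the stabilizer). Then an element outside the stabilizer of a conjugates no non-identity element of H into H, and the normalizer of H is exactly the stabilizer of a. -/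
theorem result {G Ω : Type*} [Group G] [Finite G] [MulAction G Ω] [Fintype Ω] (hZ : Cfsg.IsZassenhausGroup G Ω) (a : Ω) (H : Subgroup G) (hHa : H ≤ MulAction.stabilizer G a) (hHcard : Nat.card H + 1 = Fintype.card Ω) (hHfix : ∀ u ∈ H, u ≠ 1 → ∀ c : Ω, u • c = c → c = a) : (∀ g : G, g ∉ MulAction.stabilizer G a → ∀ u ∈ H, g * u * g⁻¹ ∈ H → u = 1) ∧ Subgroup.normalizer (H : Set G) = MulAction.stabilizer G a := by
  classical
  have h2 : Zass.TwoTrans G Ω := Zass.zass_twoTrans hZ
  have h3 := Zass.zass_noThree hZ
  have hn := Zass.zass_card_ge_three hZ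
  have hst : ∀ g : G, g ∈ MulAction.stabilizer G a ↔ g • a = a := fun g => MulAction.mem_stabilizer_iff
  -- part (i)
  have part1 : ∀ g : G, g ∉ MulAction.stabilizer G a → ∀ u ∈ H, g * u * g⁻¹ ∈ H → u = 1 := by
    intro g hg u hu hconj
    by_contra hu1
    have h1 : g * u * g⁻¹ ≠ 1 := by
      intro h
      apply hu1
      have : u = g⁻¹ * (g * u * g⁻¹) * g := by group
      rw [this, h]; group
    have hua : u • a = a := (hst u).mp (hHa hu)
    have := hHfix (g * u * g⁻¹) hconj h1 (g • a) (by
      rw [mul_smul, mul_smul, inv_smul_smul, hua])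
    exact hg ((hst g).mpr this)
  refine ⟨part1, ?_⟩
  -- a second point
  obtain ⟨b, hba⟩ : ∃ b : Ω, b ≠ a := by
    by_contra hcon
    push Not at hcon
    have : Fintype.card Ω ≤ 1 := Fintype.card_le_one_iff.mpr (fun x y => by rw [hcon x, hcon y])
    omega
  have hab : a ≠ b := Ne.symm hba
  have hmem := Zass.mem_of_fix_only h2 h3 hab H hHa hHcard hHfix
  have conj_mem : ∀ g : G, g • a = a → ∀ h ∈ H, g * h * g⁻¹ ∈ H := by
    intro g hga h hh
    by_cases hh1 : h = 1
    · rw [hh1]; simp
    · have hha : h • a = a := (hst h).mp (hHa hh)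
      have hginv : g⁻¹ • a = a := by rw [inv_smul_eq_iff, hga]
      apply hmem
      · rw [mul_smul, mul_smul, hginv, hha, hga]
      · intro hc
        apply hh1
        have : h = g⁻¹ * (g * h * g⁻¹) * g := by group
        rw [this, hc]; group
      · intro c hc
        rw [mul_smul, mul_smul, ← eq_inv_smul_iff] at hc
        have := hHfix h hh hh1 (g⁻¹ • c) hc
        rw [inv_smul_eq_iff, hga] at this
        exact this
  -- a nonidentity element of H
  obtain ⟨u, hu, hu1⟩ : ∃ u ∈ H, u ≠ 1 := by
    by_contra hcon
    push Not at hcon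
    have : H = ⊥ := (Subgroup.eq_bot_iff_forall H).mpr hcon
    rw [this, Subgroup.card_bot] at hHcard
    omega
  ext g
  rw [Subgroup.mem_normalizer_iff, hst]
  constructor
  · intro hgN
    by_contra hg
    exact hu1 (part1 g (fun h => hg ((hst g).mp h)) u hu ((hgN u).mp hu))
  · intro hga h
    constructor
    · exact conj_mem g hga h
    · intro hh
      have hginv : g⁻¹ • a = a := by rw [inv_smul_eq_iff, hga]
      have := conj_mem g⁻¹ hginv _ hh
      have e : g⁻¹ * (g * h * g⁻¹) * g⁻¹⁻¹ = h := by group
      rw [e] at this
      exact this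

end Cfsg.Agent.S0878
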