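import Cfsg.Statements.S0338
import Cfsg.Agent.Helper6.ZassNormal

set_option autoImplicit false
open Cfsg

namespace Cfsg.Agent.S0338

open Cfsg.Agent Cfsg.Agent.Helper6 in
/-- A Zassenhaus group of odd degree is a simple group. -/
theorem result {G Ω : Type*} [Group G] [MulAction G Ω] [Fintype Ω]
    (hZ : Cfsg.IsZassenhausGroup G Ω) (hodd : Odd (Fintype.card Ω)) : IsSimpleGroup G := by
  classical
  haveI : Finite G := Zass.zass_finite hZ
  have h2 : Zass.TwoTrans G Ω := Zass.zass_twoTrans hZ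
  have h3 := Zass.zass_noThree hZ
  have hn := Zass.zass_card_ge_three hZ
  obtain ⟨g₀, hg₀, -⟩ := hZ.2.2.2.1
  haveI : Nontrivial G := ⟨⟨g₀, 1, hg₀⟩⟩
  refine IsSimpleGroup.mk (fun M hMn => ?_)
  by_cases hM : M = ⊥
  · left; exact hM
  right
  haveI := hMn
  -- every element with exactly one fixed point lies in M
  obtain ⟨m, hmM, hm1, a₀, c₀, hac₀, hma₀, hmc₀⟩ := Zass.normal_exists_two_fix hZ M hM
  have hone : ∀ (u : G) (x : Ω), u • x = x → (∀ d : Ω, u • d = d → d = x) → u ∈ M := by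
    intro u x hux hfix
    by_cases hu1 : u = 1
    · rw [hu1]; exact M.one_mem
    obtain ⟨H, hHa, hHcard, hHfix⟩ := Zass.zass_exists_kernel hZ x
    obtain ⟨-, hnormH⟩ := Cfsg.Agent.S0878.result hZ x H hHa hHcard hHfix
    obtain ⟨g, hg⟩ := Zass.pretrans h2 a₀ x
    have hm' : g * m * g⁻¹ ∈ M := hMn.conj_mem m hmM g
    have hginv : g⁻¹ • x = a₀ := by rw [inv_smul_eq_iff, hg]
    have hm'x : (g * m * g⁻¹) • x = x := by rw [mul_smul, mul_smul, hginv, hma₀, hg]
    have hm'c : (g * m * g⁻¹) • (g • c₀) = g • c₀ := by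
      rw [mul_smul, mul_smul, inv_smul_smul, hmc₀]
    have hm'1 : g * m * g⁻¹ ≠ 1 := by
      intro h
      apply hm1
      have : m = g⁻¹ * (g * m * g⁻¹) * g := by group
      rw [this, h]; group
    have hxc : x ≠ g • c₀ := by
      rw [← hg]
      intro h
      exact hac₀ (smul_left_cancel g h)
    have hHle := Zass.kernel_le_normal h3 M hxc (g * m * g⁻¹) hm' hm'1 hm'x hm'c H hHa hHfix (by
      intro y hy v hv
      have : y ∈ Subgroup.normalizer (H : Set G) := by rw [hnormH]; exact hy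
      exact (Subgroup.mem_normalizer_iff.mp this v).mp hv)
    apply hHle
    exact Zass.mem_of_fix_only h2 h3 hxc H hHa hHcard hHfix u hux hu1 hfix
  -- involutions lie in M
  have hinv : ∀ s : G, orderOf s = 2 → s ∈ M := by
    intro s hs
    obtain ⟨r, hr⟩ := Zass.invol_unique_fix h3 hodd s hs
    exact hone s r ((hr r).mpr rfl) (fun d hd => (hr d).mp hd)
  -- two-point stabilizers lie in M
  have htps : ∀ (g : G) (a b : Ω), a ≠ b → g • a = a → g • b = b → g ∈ M := by
    intro g a b hab hga hgb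
    have hoddE := Zass.tps_odd_of_odd_degree h3 hodd hab
    obtain ⟨s, hs, hsa, hsb⟩ := Zass.exists_swap_invol h2 hab hoddE
    have h1 := hinv s hs
    have h2' := hinv (s * g) (Zass.swap_invol_mul h3 hodd hab s hs hsa hsb g hga hgb)
    have : g = s⁻¹ * (s * g) := by group
    rw [this]
    exact M.mul_mem (M.inv_mem h1) h2'
  -- conclude
  rw [eq_top_iff]
  intro g _
  obtain ⟨a⟩ : Nonempty Ω := Fintype.card_pos_iff.mp (by omega)
  obtain ⟨m₁, hm₁, hm₁a⟩ := Zass.normal_pretrans hZ.1 h2 M hM a (g • a)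
  have hfix : (m₁⁻¹ * g) • a = a := by rw [mul_smul, inv_smul_eq_iff, hm₁a]
  have hmem : m₁⁻¹ * g ∈ M := by
    by_cases hex : ∃ c : Ω, c ≠ a ∧ (m₁⁻¹ * g) • c = c
    · obtain ⟨c, hca, hc⟩ := hex
      exact htps _ a c (Ne.symm hca) hfix hc
    · push Not at hex
      exact hone _ a hfix (fun d hd => by
        by_contra hda
        exact hex d hda hd)
  have : g = m₁ * (m₁⁻¹ * g) := by group
  rw [this]
  exact M.mul_mem hm₁ hmem

end Cfsg.Agent.S0338
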