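import Cfsg.Statements.S0924
import Cfsg.Agent.Helper25.SecondMain2
open Cfsg.Agent.Helper25

set_option autoImplicit false
open Cfsg

namespace Cfsg.Agent.S0924

/-- Let χ be an irreducible character of the finite group G and g ∈ G, and fix a maximal ideal M of the algebraic integers containing the prime p. If the p-part of g is contained in no defect group of the block of χ, then χ g = 0. -/
theorem result {G : Type*} [Group G] [Finite G] (p : ℕ) [Fact p.Prime] (M : Ideal Cfsg.AlgInt) (hM : Cfsg.IsPModular p M) (χ : Cfsg.IrrCharacter G) (g x : G) (hx : Cfsg.IsPPart p g x) (hD : ∀ D : Subgroup G, Cfsg.IsDefectGroup p M (Cfsg.blockOf M (χ : G → ℂ)) D → x ∉ D) : (χ : G → ℂ) g = 0 := by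
  classical
  have : Fintype G := Fintype.ofFinite G
  have hMp : M.IsPrime := hM.2.1.isPrime
  obtain ⟨y, hxy, hcomm, hxp, hyp⟩ := hx
  let _ : Fintype (Subgroup.centralizer ({x} : Set G)) := Fintype.ofFinite _
  have := Helper24.finite_irrCharacter (G := Subgroup.centralizer ({x} : Set G))
  have : Fintype (IrrCharacter (Subgroup.centralizer ({x} : Set G))) := Fintype.ofFinite _
  have hB : IsPBlock M (blockOf M (χ : G → ℂ)) := ⟨χ, rfl⟩
  have hχB : χ ∈ blockOf M (χ : G → ℂ) := mem_blockOf_self hMp.ne_top χ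
  have hyC : y ∈ Subgroup.centralizer ({x} : Set G) := by
    rw [Subgroup.mem_centralizer_iff]
    intro z hz
    rw [Set.mem_singleton_iff] at hz
    subst hz
    exact hcomm.eq
  have h := second_main_closed hM x hxp (blockOf M (χ : G → ℂ)) hB χ hχB Set.univ
    (fun _ _ ψ₁ _ => Set.mem_univ ψ₁)
    (fun ψ _ => not_induced_of_not_mem_defect hM x hxp _ hB hD _) ⟨y, hyC⟩
    (by rwa [Subgroup.orderOf_mk])
  rw [finsum_mem_univ, finsum_eq_sum_of_fintype] at h
  have hexp := shift_expansion x (χ : G → ℂ) (Helper2.IsIrrCharacter.isClassFunction χ.2)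
    (⟨y, hyC⟩ : Subgroup.centralizer ({x} : Set G))
  rw [← hxy]
  rw [h] at hexp
  exact hexp

end Cfsg.Agent.S0924
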