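import Cfsg.Statements.S0971
import Cfsg.Agent.Helper25.InducedCover
import Cfsg.Agent.Helper25.BlockInd
open Cfsg.Agent.Helper25
open Cfsg.Agent

set_option autoImplicit false
open Cfsg

namespace Cfsg.Agent.S0971

/-- Let Q be a normal p-subgroup of the finite group G, let N = Q ⊔ C_G(Q) (a normal subgroup) and let b be a block of N relative to a maximal ideal M of the algebraic integers containing p. Then b induces some block of G, and every block B of G containing a character whose restriction to N has a constituent in b is induced by b. -/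
theorem result {G : Type*} [Group G] [Fintype G] (p : ℕ) [Fact p.Prime] (M : Ideal Cfsg.AlgInt) (hM : Cfsg.IsPModular p M) (Q : Subgroup G) [Q.Normal] (hQ : IsPGroup p Q) [Fintype ↥(Q ⊔ Subgroup.centralizer (Q : Set G))] (b : Set (Cfsg.IrrCharacter ↥(Q ⊔ Subgroup.centralizer (Q : Set G)))) (hb : Cfsg.IsPBlock M b) : Cfsg.InducedBlockDefined M (Q ⊔ Subgroup.centralizer (Q : Set G)) b ∧ ∀ B : Set (Cfsg.IrrCharacter G), Cfsg.IsPBlock M B → (∃ χ ∈ B, ∃ θ ∈ b, Cfsg.classInner (fun n : ↥(Q ⊔ Subgroup.centralizer (Q : Set G)) => (χ : G → ℂ) n) (θ : ↥(Q ⊔ Subgroup.centralizer (Q : Set G)) → ℂ) ≠ 0) → Cfsg.IsInducedBlock M (Q ⊔ Subgroup.centralizer (Q : Set G)) b B := by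
  classical
  have hMp := hM.2.1.isPrime
  have := Helper24.finite_irrCharacter (G := G)
  have : Fintype (IrrCharacter G) := Fintype.ofFinite _
  have hQN : Q ≤ Q ⊔ Subgroup.centralizer (Q : Set G) := le_sup_left
  have hCN : Subgroup.centralizer (Q : Set G) ≤ Q ⊔ Subgroup.centralizer (Q : Set G) :=
    le_sup_right
  have hQnormal : Q.Normal := inferInstance
  have hNN : Q ⊔ Subgroup.centralizer (Q : Set G) ≤ Subgroup.normalizer (Q : Set G) := by
    intro x _
    rw [Subgroup.mem_normalizer_iff]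
    intro h
    constructor
    · intro hh
      exact hQnormal.conj_mem h hh x
    · intro hh
      have h1 := hQnormal.conj_mem _ hh x⁻¹
      have e : x⁻¹ * (x * h * x⁻¹) * x⁻¹⁻¹ = h := by group
      rwa [e] at h1
  refine ⟨inducedBlockDefined_of_mul hMp _ (brauer_mul_gen hM Q _ hQ hQN hCN hNN) b hb, ?_⟩
  intro B hB hex
  obtain ⟨χ, hχ, θ, hθ, hcon⟩ := hex
  have hCnormal : (Subgroup.centralizer (Q : Set G)).Normal := by
    refine ⟨fun c hc x => ?_⟩
    exact conj_mem_centralizer_of_mem_normalizer (P := Q)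
      (by rw [Subgroup.mem_normalizer_iff]; intro h; constructor
          · intro hh
            exact hQnormal.conj_mem h hh x
          · intro hh
            have h1 := hQnormal.conj_mem _ hh x⁻¹
            have e : x⁻¹ * (x * h * x⁻¹) * x⁻¹⁻¹ = h := by group
            rwa [e] at h1) hc
  have hNnormal : (Q ⊔ Subgroup.centralizer (Q : Set G)).Normal := inferInstance
  refine ⟨hb, hB, fun ξ hξ χ' hχ' g => ?_⟩
  have hsξθ : SameBlock M (ξ : ↥(Q ⊔ Subgroup.centralizer (Q : Set G)) → ℂ)
      (θ : ↥(Q ⊔ Subgroup.centralizer (Q : Set G)) → ℂ) := by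
    obtain ⟨ξ₀, rfl⟩ := hb
    exact sameBlock_trans hMp (sameBlock_symm hξ) hθ
  have h1 := inducedCentralChar_sub_mem hMp _ ξ θ hsξθ g
  have hsχ : SameBlock M (χ : G → ℂ) (χ' : G → ℂ) := by
    obtain ⟨χ₀, rfl⟩ := hB
    exact sameBlock_trans hMp (sameBlock_symm hχ) hχ'
  have h3 := hsχ g
  have h2 : MemLocalIdeal M (inducedCentralChar (Q ⊔ Subgroup.centralizer (Q : Set G))
      (θ : ↥(Q ⊔ Subgroup.centralizer (Q : Set G)) → ℂ) g - centralChar (χ : G → ℂ) g) := by
    by_cases hg : g ∈ Q ⊔ Subgroup.centralizer (Q : Set G)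
    · rw [inducedCentralChar_eq_of_over _ χ θ hcon g hg, sub_self]
      exact MemLocalIdeal.zero hMp.ne_top
    · have e0 : inducedCentralChar (Q ⊔ Subgroup.centralizer (Q : Set G))
          (θ : ↥(Q ⊔ Subgroup.centralizer (Q : Set G)) → ℂ) g = 0 := by
        rw [inducedCentralChar_eq_sum, Finset.sum_eq_zero, zero_div]
        intro n _
        rw [if_neg]
        intro hc
        apply hg
        obtain ⟨c, hc'⟩ := isConj_iff.1 hc.symm
        rw [← hc']
        exact hNnormal.conj_mem _ n.2 c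
      rw [e0, zero_sub]
      exact MemLocalIdeal.neg
        (centralChar_mem_of_not_centralizer hM Q hQ χ g (fun h => hg (hCN h)))
  have h4 := MemLocalIdeal.add hMp (MemLocalIdeal.add hMp h1 h2) h3
  convert h4 using 1
  ring

end Cfsg.Agent.S0971
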