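import Cfsg.Statements.S0539
import Cfsg.Agent.Helper4.Wielandt

set_option autoImplicit false
open Pointwise
open Cfsg

namespace Cfsg.Agent.S0539

/-- Let S be a family of subnormal subgroups of a finite group that is closed under conjugation, and S₀ a proper subfamily. Then some member of S not in S₀ normalizes the join of S₀. -/
theorem result {G : Type*} [Group G] [Finite G] (S S₀ : Set (Subgroup G)) (hS : ∀ U ∈ S, U.IsSubnormal) (hconj : ∀ U ∈ S, ∀ g : G, MulAut.conj g • U ∈ S) (h₀ : S₀ ⊂ S) : ∃ X ∈ S, X ∉ S₀ ∧ X ≤ Subgroup.normalizer ((sSup S₀ : Subgroup G) : Set G) := by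
  have hsub₀ : S₀ ⊆ S := h₀.subset
  have hJ : (sSup S₀).IsSubnormal :=
    Cfsg.Agent.Helper4.isSubnormal_sSup S₀ (fun U hU => hS U (hsub₀ hU))
  have claim : ∀ K : Subgroup G, K.IsSubnormal → sSup S₀ ≤ K → (∀ X ∈ S, X ≤ K → X ∈ S₀) →
      ∃ X ∈ S, X ∉ S₀ ∧ X ≤ Subgroup.normalizer ((sSup S₀ : Subgroup G) : Set G) := by
    intro K hK
    induction hK with
    | top =>
      intro _ hall
      exfalso
      exact h₀.2 (fun X hX => hall X hX le_top)
    | step H K hHK hKsub hN ih =>
      intro hJH hall
      by_cases hK' : ∀ X ∈ S, X ≤ K → X ∈ S₀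
      · exact ih (hJH.trans hHK) hK'
      · push_neg at hK'
        obtain ⟨X, hXS, hXK, hXn⟩ := hK'
        refine ⟨X, hXS, hXn, ?_⟩
        have hKN : K ≤ Subgroup.normalizer (H : Set G) :=
          (Subgroup.normal_subgroupOf_iff_le_normalizer hHK).mp hN
        rw [Subgroup.le_normalizer_iff]
        intro x hx k hk
        have hle : sSup S₀ ≤ (sSup S₀).comap (MulAut.conj x).toMonoidHom := by
          apply sSup_le
          intro U hU u hu
          rw [Subgroup.mem_comap]
          have h1 : MulAut.conj x • U ∈ S := hconj U (hsub₀ hU) x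
          have h2 : MulAut.conj x • U ≤ H := by
            rintro _ ⟨w, hw, rfl⟩
            have hwH : w ∈ H := hJH (le_sSup hU hw)
            have := Subgroup.le_normalizer_iff.mp hKN x (hXK hx) w hwH
            simpa using this
          have h3 : MulAut.conj x • U ∈ S₀ := hall _ h1 h2
          have h4 : (MulAut.conj x).toMonoidHom u ∈ MulAut.conj x • U := ⟨u, hu, rfl⟩
          exact le_sSup h3 h4
        have := hle hk
        rw [Subgroup.mem_comap] at this
        simpa using this
  by_cases hall : ∀ X ∈ S, X ≤ sSup S₀ → X ∈ S₀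
  · exact claim _ hJ le_rfl hall
  · push_neg at hall
    obtain ⟨X, hXS, hXle, hXn⟩ := hall
    exact ⟨X, hXS, hXn, hXle.trans Subgroup.le_normalizer⟩

end Cfsg.Agent.S0539
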