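import Cfsg.Statements.S0749
-- import your own Cfsg.Agent.* helpers here
import Mathlib

set_option autoImplicit false
open Cfsg

namespace Cfsg.Agent.S0749

/-- Symplectic transvection. -/
noncomputable def transv {F V : Type*} [Field F] [AddCommGroup V] [Module F V]
    (B : LinearMap.BilinForm F V) (hA : B.IsAlt) (c : F) (w : V) : V ≃ₗ[F] V where
  toFun v := v + (c * B v w) • w
  invFun v := v - (c * B v w) • w
  map_add' u v := by
    simp only [map_add, LinearMap.add_apply, mul_add, add_smul]
    abel
  map_smul' a v := by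
    simp only [map_smul, LinearMap.smul_apply, smul_eq_mul, smul_add, smul_smul,
      RingHom.id_apply]
    congr 2
    ring
  left_inv v := by
    have h0 : B w w = 0 := hA w
    simp only [map_add, map_smul, LinearMap.add_apply, LinearMap.smul_apply, h0, smul_eq_mul,
      mul_zero, add_zero]
    abel
  right_inv v := by
    have h0 : B w w = 0 := hA w
    simp only [map_sub, map_smul, LinearMap.sub_apply, LinearMap.smul_apply, h0, smul_eq_mul,
      mul_zero, sub_zero]
    abel

theorem transv_isom {F V : Type*} [Field F] [AddCommGroup V] [Module F V]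
    (B : LinearMap.BilinForm F V) (hA : B.IsAlt) (c : F) (w : V) (u v : V) :
    B (transv B hA c w u) (transv B hA c w v) = B u v := by
  change B (u + (c * B u w) • w) (v + (c * B v w) • w) = B u v
  have h1 : B w v = - B v w := (hA.neg_eq v w).symm
  have h0 : B w w = 0 := hA w
  simp only [map_add, map_smul, LinearMap.add_apply, LinearMap.smul_apply, smul_eq_mul, h0, h1]
  ring

theorem core {F V : Type*} [Field F] [AddCommGroup V] [Module F V] [FiniteDimensional F V]
    (B : LinearMap.BilinForm F V) (hB : B.Nondegenerate) (hA : B.IsAlt) (X₀ : Submodule F V)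
    (x y : V) (hx : x ∉ X₀) (hy : y ∉ X₀) (hxy : ∀ w ∈ X₀, B w (y - x) = 0) :
    ∃ g : V ≃ₗ[F] V, (∀ u v, B (g u) (g v) = B u v) ∧ (∀ w ∈ X₀, g w = w) ∧ g x = y := by
  classical
  have hperp : ∀ z, z ∉ X₀ → ∃ t, (∀ w ∈ X₀, B w t = 0) ∧ B t z ≠ 0 := by
    intro z hz
    by_contra hcon
    push Not at hcon
    apply hz
    rw [← LinearMap.BilinForm.orthogonal_orthogonal hB hA.isRefl X₀]
    rw [LinearMap.BilinForm.mem_orthogonal_iff]
    intro t ht
    exact hcon t (fun w hw => ht w hw)
  have step : ∀ x y : V, B x y ≠ 0 → (∀ w ∈ X₀, B w (y - x) = 0) →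
      ∃ g : V ≃ₗ[F] V, (∀ u v, B (g u) (g v) = B u v) ∧ (∀ w ∈ X₀, g w = w) ∧ g x = y := by
    intro x y hne hxy
    refine ⟨transv B hA (B x y)⁻¹ (y - x), transv_isom B hA _ _, ?_, ?_⟩
    · intro w hw
      change w + ((B x y)⁻¹ * B w (y - x)) • (y - x) = w
      rw [hxy w hw, mul_zero, zero_smul, add_zero]
    · change x + ((B x y)⁻¹ * B x (y - x)) • (y - x) = y
      have h0 : B x x = 0 := hA x
      rw [map_sub, h0, sub_zero, inv_mul_cancel₀ hne, one_smul]
      abel
  by_cases hne : B x y ≠ 0
  · exact step x y hne hxy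
  · push Not at hne
    obtain ⟨t₁, ht₁, ht₁x⟩ := hperp x hx
    obtain ⟨t₂, ht₂, ht₂y⟩ := hperp y hy
    obtain ⟨t, ht, htx, hty⟩ : ∃ t, (∀ w ∈ X₀, B w t = 0) ∧ B t x ≠ 0 ∧ B t y ≠ 0 := by
      by_cases h1 : B t₁ y = 0
      · by_cases h2 : B t₂ x = 0
        · refine ⟨t₁ + t₂, fun w hw => by rw [map_add, ht₁ w hw, ht₂ w hw, add_zero], ?_, ?_⟩
          · rw [map_add, LinearMap.add_apply, h2, add_zero]
            exact ht₁x
          · rw [map_add, LinearMap.add_apply, h1, zero_add]
            exact ht₂y
        · exact ⟨t₂, ht₂, h2, ht₂y⟩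
      · exact ⟨t₁, ht₁, ht₁x, h1⟩
    have hxz : B x (x + t) ≠ 0 := by
      have h0 : B x x = 0 := hA x
      rw [map_add, h0, zero_add]
      intro hh
      apply htx
      rw [← hA.neg_eq x t, hh, neg_zero]
    have hzy : B (x + t) y ≠ 0 := by
      rw [map_add, LinearMap.add_apply, hne, zero_add]
      exact hty
    obtain ⟨g₁, hg₁, hg₁X, hg₁x⟩ := step x (x + t) hxz (fun w hw => by
      rw [add_sub_cancel_left]
      exact ht w hw)
    obtain ⟨g₂, hg₂, hg₂X, hg₂x⟩ := step (x + t) y hzy (fun w hw => by
      have : y - (x + t) = (y - x) - t := by abel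
      rw [this, map_sub, hxy w hw, ht w hw, sub_zero])
    refine ⟨g₁.trans g₂, fun u v => ?_, fun w hw => ?_, ?_⟩
    · change B (g₂ (g₁ u)) (g₂ (g₁ v)) = _
      rw [hg₂, hg₁]
    · change g₂ (g₁ w) = w
      rw [hg₁X w hw, hg₂X w hw]
    · change g₂ (g₁ x) = y
      rw [hg₁x, hg₂x]

theorem witt_aux {F V : Type*} [Field F] [AddCommGroup V] [Module F V] [FiniteDimensional F V]
    (B : LinearMap.BilinForm F V) (hB : B.Nondegenerate) (hA : B.IsAlt) (s : Finset V) :
    ∀ f : V →ₗ[F] V, (∀ u ∈ Submodule.span F (s : Set V), ∀ v ∈ Submodule.span F (s : Set V),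
        B (f u) (f v) = B u v) →
      (∀ u ∈ Submodule.span F (s : Set V), f u = 0 → u = 0) →
      ∃ g : V ≃ₗ[F] V, (∀ u v, B (g u) (g v) = B u v) ∧
        ∀ u ∈ Submodule.span F (s : Set V), g u = f u := by
  classical
  induction s using Finset.induction_on with
  | empty =>
    intro f _ _
    refine ⟨LinearEquiv.refl F V, fun u v => rfl, fun u hu => ?_⟩
    simp at hu
    subst hu
    simp
  | insert a s ha ih =>
    intro f hf hinj
    have hle : Submodule.span F (s : Set V)
        ≤ Submodule.span F ((insert a s : Finset V) : Set V) :=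
      Submodule.span_mono (by simp)
    have hmem : a ∈ Submodule.span F ((insert a s : Finset V) : Set V) :=
      Submodule.subset_span (by simp)
    obtain ⟨g₀, hg₀, hg₀s⟩ := ih f (fun u hu v hv => hf u (hle hu) v (hle hv))
      (fun u hu => hinj u (hle hu))
    obtain ⟨f', hf'⟩ : ∃ f' : V →ₗ[F] V, ∀ v, f' v = g₀.symm (f v) :=
      ⟨(g₀.symm : V →ₗ[F] V).comp f, fun v => rfl⟩
    have hg₀symm : ∀ u v, B (g₀.symm u) (g₀.symm v) = B u v := by
      intro u v
      have := hg₀ (g₀.symm u) (g₀.symm v)
      rw [g₀.apply_symm_apply, g₀.apply_symm_apply] at this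
      exact this.symm
    have hf's : ∀ w ∈ Submodule.span F (s : Set V), f' w = w := by
      intro w hw
      rw [hf', ← hg₀s w hw, g₀.symm_apply_apply]
    have hf'B : ∀ u ∈ Submodule.span F ((insert a s : Finset V) : Set V),
        ∀ v ∈ Submodule.span F ((insert a s : Finset V) : Set V), B (f' u) (f' v) = B u v := by
      intro u hu v hv
      rw [hf', hf', hg₀symm, hf u hu v hv]
    have hf'inj : ∀ u ∈ Submodule.span F ((insert a s : Finset V) : Set V),
        f' u = 0 → u = 0 := by
      intro u hu h0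
      apply hinj u hu
      rw [hf'] at h0
      exact (LinearEquiv.map_eq_zero_iff g₀.symm).1 h0
    by_cases haX : a ∈ Submodule.span F (s : Set V)
    · refine ⟨g₀, hg₀, fun u hu => hg₀s u ?_⟩
      have : Submodule.span F ((insert a s : Finset V) : Set V)
          ≤ Submodule.span F (s : Set V) := by
        rw [Submodule.span_le]
        intro z hz
        rw [Finset.coe_insert] at hz
        rcases Set.mem_insert_iff.1 hz with rfl | hz
        · exact haX
        · exact Submodule.subset_span hz
      exact this hu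
    · have hy : f' a ∉ Submodule.span F (s : Set V) := by
        intro hy
        apply haX
        have h1 : f' (a - f' a) = 0 := by rw [map_sub, hf's _ hy, sub_self]
        have h2 := hf'inj (a - f' a) (Submodule.sub_mem _ hmem (hle hy)) h1
        rw [sub_eq_zero] at h2
        rw [h2]
        exact hy
      obtain ⟨g₁, hg₁, hg₁s, hg₁a⟩ := core B hB hA (Submodule.span F (s : Set V)) a (f' a)
        haX hy (by
          intro w hw
          rw [map_sub]
          have := hf'B w (hle hw) a hmem
          rw [hf's w hw] at this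
          rw [this, sub_self])
      refine ⟨g₁.trans g₀, fun u v => ?_, ?_⟩
      · change B (g₀ (g₁ u)) (g₀ (g₁ v)) = _
        rw [hg₀, hg₁]
      · have hEq : Set.EqOn (g₁ : V →ₗ[F] V) f' ((insert a s : Finset V) : Set V) := by
          intro z hz
          rw [Finset.coe_insert] at hz
          rcases Set.mem_insert_iff.1 hz with rfl | hz
          · exact hg₁a
          · change g₁ z = f' z
            rw [hg₁s z (Submodule.subset_span hz), hf's z (Submodule.subset_span hz)]
        intro u hu
        have h3 : g₁ u = f' u := LinearMap.eqOn_span hEq hu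
        change g₀ (g₁ u) = f u
        rw [h3, hf', g₀.apply_symm_apply]

/-- Witt's Lemma for alternating forms. If B is a non-degenerate alternating bilinear form on a finite-dimensional vector space V (over any field) and φ is a linear equivalence between subspaces X and Y of V preserving B, then φ extends to a B-preserving linear automorphism of V. -/
theorem result {F V : Type*} [Field F] [AddCommGroup V] [Module F V] [FiniteDimensional F V] (B : LinearMap.BilinForm F V) (hB : B.Nondegenerate) (hA : B.IsAlt) (X Y : Submodule F V) (φ : X ≃ₗ[F] Y) (hφ : ∀ x x' : X, B (φ x : V) (φ x' : V) = B (x : V) (x' : V)) : ∃ g : V ≃ₗ[F] V, (∀ u v : V, B (g u) (g v) = B u v) ∧ ∀ x : X, g (x : V) = (φ x : V) := by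
  classical
  obtain ⟨s, hs⟩ : ∃ s : Finset V, Submodule.span F (s : Set V) = X :=
    IsNoetherian.noetherian X
  obtain ⟨f, hf⟩ := LinearMap.exists_extend ((Y.subtype).comp (φ : X →ₗ[F] Y))
  have hfx : ∀ x : X, f (x : V) = (φ x : V) := fun x => by
    have := congrArg (fun l : X →ₗ[F] V => l x) hf
    exact this
  have hc1 : ∀ u ∈ Submodule.span F (s : Set V), ∀ v ∈ Submodule.span F (s : Set V),
      B (f u) (f v) = B u v := by
    intro u hu v hv
    rw [hs] at hu hv
    have := hφ ⟨u, hu⟩ ⟨v, hv⟩
    rw [← hfx, ← hfx] at this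
    exact this
  have hc2 : ∀ u ∈ Submodule.span F (s : Set V), f u = 0 → u = 0 := by
    intro u hu h0
    rw [hs] at hu
    have h1 := hfx ⟨u, hu⟩
    have h2 : (φ ⟨u, hu⟩ : V) = 0 := by
      rw [← h1]
      exact h0
    have h3 : φ ⟨u, hu⟩ = 0 := Subtype.ext h2
    have h4 : (⟨u, hu⟩ : X) = 0 := (LinearEquiv.map_eq_zero_iff φ).1 h3
    exact congrArg Subtype.val h4
  obtain ⟨g, hg, hgs⟩ := witt_aux B hB hA s f hc1 hc2
  refine ⟨g, hg, fun x => ?_⟩
  rw [hgs (x : V) (by rw [hs]; exact x.2), hfx]

end Cfsg.Agent.S0749
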