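import Cfsg.Agent.Helper2.SLGen
import Cfsg.Statements.S0264
-- import your own Cfsg.Agent.* helpers here

set_option autoImplicit false
open Cfsg

namespace Cfsg.Agent.S0264

open Cfsg.Agent.Helper2 Matrix Matrix.SpecialLinearGroup
open scoped commutatorElement MatrixGroups

theorem gl_transvection_mem_commutator {F : Type*} [Field F] {ι : Type*} [Fintype ι]
    [DecidableEq ι] (a : F) (ha0 : a ≠ 0) (ha1 : a ≠ 1) {i j : ι} (hij : i ≠ j) (c : F) :
    (SpecialLinearGroup.toGL (SpecialLinearGroup.transvection hij c) : GL ι F) ∈
      commutator (GL ι F) := by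
  have ha1' : a - 1 ≠ 0 := sub_ne_zero_of_ne ha1
  have hdet : (diagonal (fun k : ι => if k = i then a else (1 : F))).det ≠ 0 := by
    rw [det_diagonal]
    apply Finset.prod_ne_zero_iff.mpr
    intro k _
    split_ifs
    · exact ha0
    · exact one_ne_zero
  have key : ∀ b : F, diagonal (fun k : ι => if k = i then a else (1 : F)) * (1 + single i j b) =
      (1 + single i j (a * b)) * diagonal (fun k : ι => if k = i then a else (1 : F)) := by
    intro b
    ext x y
    rw [Matrix.diagonal_mul, Matrix.mul_diagonal]
    simp only [Matrix.add_apply, Matrix.one_apply, Matrix.single_apply]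
    by_cases h : i = x ∧ j = y
    · obtain ⟨rfl, rfl⟩ := h
      simp [hij, hij.symm]
    · by_cases hxy : x = y
      · subst hxy
        simp [h]
      · simp [h, hxy]
  have key2 : ∀ b : F, GeneralLinearGroup.mkOfDetNeZero _ hdet *
      (SpecialLinearGroup.toGL (SpecialLinearGroup.transvection hij b) : GL ι F) =
      SpecialLinearGroup.toGL (SpecialLinearGroup.transvection hij (a * b)) *
        GeneralLinearGroup.mkOfDetNeZero _ hdet := by
    intro b
    apply Units.ext
    exact key b
  have hc : (SpecialLinearGroup.toGL (SpecialLinearGroup.transvection hij c) : GL ι F) =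
      ⁅GeneralLinearGroup.mkOfDetNeZero _ hdet,
        (SpecialLinearGroup.toGL (SpecialLinearGroup.transvection hij (c / (a - 1))) : GL ι F)⁆ := by
    rw [commutatorElement_def, key2, mul_assoc, mul_assoc, ← mul_assoc (GeneralLinearGroup.mkOfDetNeZero _ hdet),
      mul_inv_cancel, one_mul, ← map_inv, ← map_mul, transvection_inv, ← transvection_add]
    congr 2
    field_simp
    ring
  rw [hc]
  exact Subgroup.commutator_mem_commutator (Subgroup.mem_top _) (Subgroup.mem_top _)

theorem toGL_mem_commutator_of_three_le {F : Type*} [Field F] {ι : Type*} [Fintype ι]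
    [DecidableEq ι] (h3 : 3 ≤ Fintype.card ι) (A : SpecialLinearGroup ι F) :
    (SpecialLinearGroup.toGL A : GL ι F) ∈ commutator (GL ι F) := by
  have h1 : A ∈ commutator (SpecialLinearGroup ι F) := by
    rw [SL_commutator_eq_top h3]; exact Subgroup.mem_top _
  rw [commutator_def] at h1 ⊢
  have h2 : SpecialLinearGroup.toGL A ∈ Subgroup.map (SpecialLinearGroup.toGL : SpecialLinearGroup ι F →* GL ι F)
      ⁅(⊤ : Subgroup (SpecialLinearGroup ι F)), ⊤⁆ := Subgroup.mem_map_of_mem _ h1
  rw [Subgroup.map_commutator] at h2
  exact Subgroup.commutator_mono le_top le_top h2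

/-- GL_n(F)' = SL_n(F) (as the kernel of det), for every field F and every n, except n = 2 over the field of two elements. -/
theorem result {F : Type*} [Field F] (n : ℕ) (h : n = 2 → ∃ a : F, a ≠ 0 ∧ a ≠ 1) : commutator (Matrix.GeneralLinearGroup (Fin n) F) = (Matrix.GeneralLinearGroup.det : Matrix.GeneralLinearGroup (Fin n) F →* Fˣ).ker := by
  apply le_antisymm
  · exact Abelianization.commutator_subset_ker _
  · intro g hg
    rw [MonoidHom.mem_ker] at hg
    have hdet1 : (g : Matrix (Fin n) (Fin n) F).det = 1 := by
      have := congrArg Units.val hg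
      simpa using this
    have hg' : g = SpecialLinearGroup.toGL (⟨(g : Matrix (Fin n) (Fin n) F), hdet1⟩ :
        SpecialLinearGroup (Fin n) F) := by
      apply Units.ext; rfl
    rcases Nat.lt_or_ge n 2 with hn | hn
    · -- n = 0 or n = 1 : g = 1
      have hg1 : g = 1 := by
        apply Units.ext
        ext x y
        interval_cases n
        · exact x.elim0
        · have hx : x = 0 := Subsingleton.elim _ _
          have hy : y = 0 := Subsingleton.elim _ _
          subst hx; subst hy
          rw [Matrix.det_unique] at hdet1
          simpa using hdet1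
      rw [hg1]; exact Subgroup.one_mem _
    · rcases Nat.lt_or_ge n 3 with hn3 | hn3
      · have hn2 : n = 2 := by omega
        subst hn2
        obtain ⟨a, ha0, ha1⟩ := h rfl
        rw [hg']
        exact Cfsg.Agent.Helper2.transvection_induction
          (P := fun A => (SpecialLinearGroup.toGL A : GL (Fin 2) F) ∈ commutator (GL (Fin 2) F))
          (fun i j hij c => gl_transvection_mem_commutator a ha0 ha1 hij c)
          (fun A B hA hB => by rw [map_mul]; exact mul_mem hA hB) _
      · rw [hg']
        exact toGL_mem_commutator_of_three_le (by rw [Fintype.card_fin]; exact hn3) _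

end Cfsg.Agent.S0264
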