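import Cfsg.Statements.S0024
import Cfsg.Agent.Helper1.Coprime2

set_option autoImplicit false
open Pointwise
open Cfsg

namespace Cfsg.Agent.S0024

open Cfsg.Agent.Helper1 in
/-- Under coprime action (A normalising K, coprime orders, A or K solvable), any two A-invariant Sylow p-subgroups of K are conjugate by an element of the centraliser of A in K. -/
theorem result {G : Type*} [Group G] [Finite G] (A K : Subgroup G) (hAK : A ≤ Subgroup.normalizer (K : Set G))
    (hcop : (Nat.card A).Coprime (Nat.card K)) (hsolv : Group.IsSolvable A ∨ Group.IsSolvable K)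
    (p : ℕ) [Fact p.Prime] (P Q : Sylow p K)
    (hP : A ≤ Subgroup.normalizer ((P : Subgroup K).map K.subtype : Set G))
    (hQ : A ≤ Subgroup.normalizer ((Q : Subgroup K).map K.subtype : Set G)) :
    ∃ c : K, (c : G) ∈ Subgroup.centralizer (A : Set G) ∧ MulAut.conj c • P = Q := by
  set P₁ := (P : Subgroup K).map K.subtype with hP₁
  set Q₁ := (Q : Subgroup K).map K.subtype with hQ₁
  obtain ⟨k, hk⟩ := MulAction.exists_smul_eq K P Q
  have h1 : MulAut.conj k • (P : Subgroup K) = (Q : Subgroup K) := by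
    have := congrArg (fun S : Sylow p K => (S : Subgroup K)) hk
    simpa [Sylow.coe_subgroup_smul] using this
  have hkPQ : MulAut.conj (k : G) • P₁ = Q₁ := by
    rw [hP₁, hQ₁, ← map_subtype_conj_smul, h1]
  set D := K ⊓ Subgroup.normalizer (P₁ : Set G) with hD
  have hAD : A ≤ Subgroup.normalizer (D : Set G) := by
    intro a ha
    rw [Subgroup.mem_normalizer_iff]
    intro z
    have e1 := Subgroup.mem_normalizer_iff.mp (hAK ha) z
    have e2 := Subgroup.mem_normalizer_iff.mp (Subgroup.le_normalizer (hP ha)) z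
    simp only [hD, Subgroup.mem_inf]
    rw [e1, e2]
  have h : ∀ a ∈ A, (k : G)⁻¹ * a * k * a⁻¹ ∈ D := by
    intro a ha
    constructor
    · have h3 : a * k * a⁻¹ ∈ K := (Subgroup.mem_normalizer_iff.mp (hAK ha) k).mp k.2
      have := K.mul_mem (K.inv_mem k.2) h3
      simpa [mul_assoc] using this
    · have ha1 := mem_normalizer_iff_conj_smul.mp (hP ha)
      have ha2 := mem_normalizer_iff_conj_smul.mp (hQ ha)
      have ha3 : MulAut.conj a⁻¹ • P₁ = P₁ := by
        conv_lhs => rw [← ha1]
        rw [conj_smul_smul, inv_mul_cancel, map_one, one_smul]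
      have e : MulAut.conj ((k : G)⁻¹ * a * k * a⁻¹) • P₁ = P₁ := by
        calc MulAut.conj ((k : G)⁻¹ * a * k * a⁻¹) • P₁
            = MulAut.conj (k : G)⁻¹ • MulAut.conj a • MulAut.conj (k : G) • MulAut.conj a⁻¹ • P₁ := by
              simp only [conj_smul_smul, mul_assoc]
          _ = MulAut.conj (k : G)⁻¹ • MulAut.conj a • Q₁ := by rw [ha3, hkPQ]
          _ = MulAut.conj (k : G)⁻¹ • MulAut.conj (k : G) • P₁ := by rw [ha2, hkPQ]
          _ = P₁ := by rw [conj_smul_smul, inv_mul_cancel, map_one, one_smul]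
      exact mem_normalizer_iff_conj_smul.mpr e
  obtain ⟨d, hd, hc⟩ := coprime_coset_fixed A K D hAK hAD inf_le_left hcop hsolv k k.2 h
  refine ⟨⟨k * d, K.mul_mem k.2 hd.1⟩, hc, ?_⟩
  apply Sylow.ext
  rw [Sylow.pointwise_smul_def]
  apply Subgroup.map_injective K.subtype_injective
  rw [map_subtype_conj_smul]
  change MulAut.conj ((k : G) * d) • P₁ = Q₁
  rw [← conj_smul_smul, mem_normalizer_iff_conj_smul.mp hd.2, hkPQ]

end Cfsg.Agent.S0024
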