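import Cfsg.Statements.S0030
import Cfsg.Agent.Helper1.Coprime

set_option autoImplicit false
open Cfsg

namespace Cfsg.Agent.S0030

/-- Under coprime action fixed points of a product of two invariant subgroups factor: if K = X Y with X and Y normalised by A then every A-fixed element of K is a product of an A-fixed element of X and an A-fixed element of Y. -/
theorem result {G : Type*} [Group G] [Finite G] (A K : Subgroup G) (hAK : A ≤ Subgroup.normalizer (K : Set G))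
    (hcop : (Nat.card A).Coprime (Nat.card K)) (hsolv : Group.IsSolvable A ∨ Group.IsSolvable K)
    (X Y : Subgroup G) (hX : X ≤ K) (hY : Y ≤ K) (hXA : A ≤ Subgroup.normalizer (X : Set G)) (hYA : A ≤ Subgroup.normalizer (Y : Set G))
    (hXY : ∀ k ∈ K, ∃ x ∈ X, ∃ y ∈ Y, k = x * y) (k : G) (hk : k ∈ K ⊓ Subgroup.centralizer (A : Set G)) :
    ∃ x ∈ X ⊓ Subgroup.centralizer (A : Set G), ∃ y ∈ Y ⊓ Subgroup.centralizer (A : Set G), k = x * y := by
  obtain ⟨x, hx, y, hy, rfl⟩ := hXY k hk.1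
  have hAD : A ≤ Subgroup.normalizer ((X ⊓ Y : Subgroup G) : Set G) := by
    intro a ha
    rw [Subgroup.mem_normalizer_iff]
    intro z
    have h1 := Subgroup.mem_normalizer_iff.mp (hXA ha) z
    have h2 := Subgroup.mem_normalizer_iff.mp (hYA ha) z
    simp only [Subgroup.mem_inf]
    rw [h1, h2]
  have h : ∀ a ∈ A, x⁻¹ * a * x * a⁻¹ ∈ X ⊓ Y := by
    intro a ha
    have hax : a * x * a⁻¹ ∈ X := (Subgroup.mem_normalizer_iff.mp (hXA ha) x).mp hx
    have hay : a * y * a⁻¹ ∈ Y := (Subgroup.mem_normalizer_iff.mp (hYA ha) y).mp hy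
    have hc := Subgroup.mem_centralizer_iff.mp hk.2 a ha
    refine ⟨?_, ?_⟩
    · have := X.mul_mem (X.inv_mem hx) hax
      simpa [mul_assoc] using this
    · have h1 : x⁻¹ * a * x * a⁻¹ = y * (a * y * a⁻¹)⁻¹ := by
        have h2 : a * x = x * y * a * y⁻¹ := by rw [← hc]; group
        calc x⁻¹ * a * x * a⁻¹ = x⁻¹ * (a * x) * a⁻¹ := by group
          _ = x⁻¹ * (x * y * a * y⁻¹) * a⁻¹ := by rw [h2]
          _ = y * (a * y * a⁻¹)⁻¹ := by group
      rw [h1]
      exact Y.mul_mem hy (Y.inv_mem hay)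
  obtain ⟨d, hd, hc⟩ := Cfsg.Agent.Helper1.coprime_coset_fixed A K (X ⊓ Y) hAK hAD
    (inf_le_left.trans hX) hcop hsolv x (hX hx) h
  refine ⟨x * d, ⟨X.mul_mem hx hd.1, hc⟩, d⁻¹ * y, ⟨Y.mul_mem (Y.inv_mem hd.2) hy, ?_⟩, by group⟩
  have h5 : d⁻¹ * y = (x * d)⁻¹ * (x * y) := by group
  rw [h5]
  exact Subgroup.mul_mem _ (Subgroup.inv_mem _ hc) hk.2

end Cfsg.Agent.S0030
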