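import Cfsg.Statements.S0029
import Cfsg.Agent.Helper1.CharSub

set_option autoImplicit false
open Cfsg

namespace Cfsg.Agent.S0029

open Cfsg.Agent.Helper1 Pointwise in
/-- An action that is trivial on the Frattini quotient and coprime on the Frattini subgroup is trivial: if A normalises K, the orders of A and of the Frattini subgroup of K are coprime, and every commutator of an element of A with an element of K lies in the Frattini subgroup of K, then A centralises K. -/
theorem result {G : Type*} [Group G] [Finite G] (A K : Subgroup G)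
    (hAK : A ≤ Subgroup.normalizer (K : Set G))
    (hcop : (Nat.card A).Coprime (Nat.card (frattini K)))
    (htriv : ∀ a ∈ A, ∀ k ∈ K, a * k * a⁻¹ * k⁻¹ ∈ (frattini K).map K.subtype) :
    A ≤ Subgroup.centralizer (K : Set G) := by
  set F := (frattini K).map K.subtype with hF
  have hFK : F ≤ K := Subgroup.map_subtype_le _
  have hcardF : Nat.card F = Nat.card (frattini K) := Subgroup.card_subtype _ _
  have hAF : A ≤ Subgroup.normalizer (F : Set G) :=
    hAK.trans (normalizer_le_normalizer_map_char K (frattini K))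
  have hFsolv : Group.IsSolvable F := by
    have h1 : Group.IsNilpotent (frattini K) := frattini_nilpotent
    have h2 : Group.IsSolvable (frattini K) := inferInstance
    exact Group.isSolvable_of_surjective (f := K.subtype.subgroupMap (frattini K))
      (K.subtype.subgroupMap_surjective (frattini K))
  have hcopF : (Nat.card A).Coprime (Nat.card F) := by rw [hcardF]; exact hcop
  have key : ∀ k ∈ K, ∃ d ∈ F, k * d ∈ Subgroup.centralizer (A : Set G) := by
    intro k hk
    have hB : MulAut.conj k⁻¹ • A ≤ F ⊔ A := by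
      intro b hb
      rw [mem_conj_smul, inv_inv] at hb
      have h1 := htriv _ hb k⁻¹ (K.inv_mem hk)
      have h2 := F.inv_mem h1
      have h3 : b = ((k * b * k⁻¹) * k⁻¹ * (k * b * k⁻¹)⁻¹ * k⁻¹⁻¹)⁻¹ * (k * b * k⁻¹) := by group
      rw [h3]
      exact Subgroup.mul_mem_sup h2 hb
    obtain ⟨d, hd, hconj⟩ := sz2 F A (MulAut.conj k⁻¹ • A) hAF hB (card_conj_smul A k⁻¹)
      hcopF (Or.inr hFsolv)
    refine ⟨d, hd, ?_⟩
    have hnorm : k * d ∈ Subgroup.normalizer (A : Set G) := by
      rw [mem_normalizer_iff_conj_smul, ← conj_smul_smul, hconj, conj_smul_smul, mul_inv_cancel,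
        map_one, one_smul]
    rw [Subgroup.mem_centralizer_iff]
    intro a ha
    have hcK : k * d ∈ K := K.mul_mem hk (hFK hd)
    have h1 : (k * d) * a * (k * d)⁻¹ * a⁻¹ ∈ A :=
      A.mul_mem ((Subgroup.mem_normalizer_iff.mp hnorm a).mp ha) (A.inv_mem ha)
    have h2 : (k * d) * a * (k * d)⁻¹ * a⁻¹ ∈ F := by
      have := F.inv_mem (htriv a ha (k * d) hcK)
      have e : (a * (k * d) * a⁻¹ * (k * d)⁻¹)⁻¹ = (k * d) * a * (k * d)⁻¹ * a⁻¹ := by group
      rwa [e] at this
    have h4 : (k * d) * a * (k * d)⁻¹ * a⁻¹ = 1 :=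
      Subgroup.disjoint_def.mp (Subgroup.disjoint_of_coprime_natCard hcopF) h1 h2
    have h5 : a * (k * d) = ((k * d) * a * (k * d)⁻¹ * a⁻¹)⁻¹ * ((k * d) * a) := by group
    rw [h5, h4]
    simp
  have hsup : (Subgroup.centralizer (A : Set G)).subgroupOf K ⊔ frattini K = ⊤ := by
    rw [eq_top_iff]
    intro x _
    obtain ⟨d, hd, hc⟩ := key x x.2
    obtain ⟨d', hd', rfl⟩ := hd
    have h1 : x = (x * d') * d'⁻¹ := by group
    rw [h1]
    exact Subgroup.mul_mem_sup (Subgroup.mem_subgroupOf.mpr (by simpa using hc))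
      (Subgroup.inv_mem _ hd')
  have htop : (Subgroup.centralizer (A : Set G)).subgroupOf K = ⊤ := frattini_nongenerating hsup
  have hKC : K ≤ Subgroup.centralizer (A : Set G) := by
    intro k hk
    have h1 : (⟨k, hk⟩ : K) ∈ (Subgroup.centralizer (A : Set G)).subgroupOf K :=
      htop ▸ Subgroup.mem_top _
    exact Subgroup.mem_subgroupOf.mp h1
  exact Subgroup.le_centralizer_iff.mp hKC

end Cfsg.Agent.S0029
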