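import Cfsg.Statements.S0065

set_option autoImplicit false
open Cfsg
open scoped commutatorElement

namespace Cfsg.Agent.S0065

/-- A nontrivial normal subgroup of a nilpotent group intersects the centre nontrivially. -/
theorem result {G : Type*} [Group G] [Finite G] [Group.IsNilpotent G]
    (N : Subgroup G) [N.Normal] (hN : N ≠ ⊥) : N ⊓ Subgroup.center G ≠ ⊥ := by
  classical
  obtain ⟨n, hn⟩ := (Group.IsNilpotent.nilpotent G)
  have hex : ∃ k, N ⊓ Subgroup.upperCentralSeries G k ≠ ⊥ := ⟨n, by rw [hn]; simpa using hN⟩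
  have hk := Nat.find_spec hex
  have hmin := fun m => Nat.find_min hex (m := m)
  set k := Nat.find hex with hkdef
  rcases Nat.eq_zero_or_eq_succ_pred k with h0 | hs
  · rw [h0] at hk
    simp at hk
  · have hprev : N ⊓ Subgroup.upperCentralSeries G (k - 1) = ⊥ := by
      by_contra hne
      exact hmin (k - 1) (by omega) hne
    intro hbot
    apply hk
    rw [eq_bot_iff]
    intro x hx
    rw [Subgroup.mem_inf] at hx
    rw [← hbot]
    refine Subgroup.mem_inf.mpr ⟨hx.1, ?_⟩
    rw [Subgroup.mem_center_iff]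
    intro g
    have h1 : ⁅x, g⁆ ∈ Subgroup.upperCentralSeries G (k - 1) := by
      have hx2 := hx.2
      rw [hs] at hx2
      exact Subgroup.mem_upperCentralSeries_succ_iff.mp hx2 g
    have h2 : ⁅x, g⁆ ∈ N := by
      rw [commutatorElement_def]
      have : g * x⁻¹ * g⁻¹ ∈ N := Subgroup.Normal.conj_mem inferInstance _ (N.inv_mem hx.1) g
      have h3 := N.mul_mem hx.1 this
      simpa [mul_assoc] using h3
    have h3 : ⁅x, g⁆ ∈ N ⊓ Subgroup.upperCentralSeries G (k - 1) := Subgroup.mem_inf.mpr ⟨h2, h1⟩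
    rw [hprev, Subgroup.mem_bot, commutatorElement_eq_one_iff_mul_comm] at h3
    exact h3.symm

end Cfsg.Agent.S0065
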