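import Cfsg.Agent.Helper2.StronglyEmbedded
import Cfsg.Agent.Helper2.Isolated
import Mathlib
import Cfsg.Statements.S0214
-- import your own Cfsg.Agent.* helpers here

set_option autoImplicit false
open Cfsg

namespace Cfsg.Agent.S0214

open Cfsg.Agent.Helper2 Cfsg

theorem mem_map_conj' {G : Type*} [Group G] (T : Subgroup G) (g x : G) :
    x ∈ T.map (MulAut.conj g).toMonoidHom ↔ g⁻¹ * x * g ∈ T := by
  rw [Subgroup.mem_map]
  constructor
  · rintro ⟨h, hh, rfl⟩
    simp only [MulEquiv.coe_toMonoidHom, MulAut.conj_apply]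
    have : g⁻¹ * (g * h * g⁻¹) * g = h := by group
    rw [this]; exact hh
  · intro h2
    refine ⟨g⁻¹ * x * g, h2, ?_⟩
    simp only [MulEquiv.coe_toMonoidHom, MulAut.conj_apply]
    group

theorem card_map_conj' {G : Type*} [Group G] (T : Subgroup G) (g : G) :
    Nat.card (T.map (MulAut.conj g).toMonoidHom) = Nat.card T :=
  Subgroup.card_map_of_injective (MulAut.conj g).injective

theorem norm_of_conj_le {G : Type*} [Group G] [Finite G] (P : Subgroup G) (g : G)
    (h : ∀ x ∈ P, g⁻¹ * x * g ∈ P) : g ∈ Subgroup.normalizer (P : Set G) := by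
  have hle : P.map (MulAut.conj g⁻¹).toMonoidHom ≤ P := by
    intro x hx
    rw [mem_map_conj', inv_inv] at hx
    have h1 := h _ hx
    have h2 : g⁻¹ * (g * x * g⁻¹) * g = x := by group
    rwa [h2] at h1
  have heq : P.map (MulAut.conj g⁻¹).toMonoidHom = P :=
    Subgroup.eq_of_le_of_card_ge hle (card_map_conj' P g⁻¹).ge
  rw [Subgroup.mem_normalizer_iff]
  intro x
  constructor
  · intro hx
    rw [← heq] at hx
    rw [mem_map_conj', inv_inv] at hx
    exact hx
  · intro hx
    have h1 := h _ hx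
    have h2 : g⁻¹ * (g * x * g⁻¹) * g = x := by group
    rwa [h2] at h1

theorem pgroup_normalizer_grow {G : Type*} [Group G] [Finite G] {p : ℕ} [Fact p.Prime]
    (P T : Subgroup G) (hP : IsPGroup p P) (hT : T ≤ P) (hne : T ≠ P) :
    ∃ x ∈ P, x ∉ T ∧ x ∈ Subgroup.normalizer (T : Set G) := by
  have hnil : Group.IsNilpotent P := hP.isNilpotent
  have hnc : NormalizerCondition P := Group.normalizerCondition_of_isNilpotent
  have hlt : T.subgroupOf P < ⊤ := by
    rw [lt_top_iff_ne_top]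
    intro h
    rw [Subgroup.subgroupOf_eq_top] at h
    exact hne (le_antisymm hT h)
  obtain ⟨x, hx, hxT⟩ := SetLike.exists_of_lt (hnc _ hlt)
  refine ⟨x.1, x.2, ?_, ?_⟩
  · intro h; exact hxT (Subgroup.mem_subgroupOf.mpr h)
  · rw [Subgroup.mem_normalizer_iff] at hx ⊢
    intro y
    constructor
    · intro hy
      have := (hx ⟨y, hT hy⟩).1 (Subgroup.mem_subgroupOf.mpr hy)
      exact Subgroup.mem_subgroupOf.mp this
    · intro hy
      have hyP : y ∈ P := by
        have h1 : y = x.1⁻¹ * (x.1 * y * x.1⁻¹) * x.1 := by group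
        rw [h1]
        exact P.mul_mem (P.mul_mem (P.inv_mem x.2) (hT hy)) x.2
      have := (hx ⟨y, hyP⟩).2 (Subgroup.mem_subgroupOf.mpr hy)
      exact Subgroup.mem_subgroupOf.mp this

theorem se_key {G : Type*} [Group G] [Finite G] (H P : Subgroup G) (hPH : P ≤ H)
    (hP2 : IsPGroup 2 P)
    (hN : ∀ T : Subgroup G, T ≤ P → T ≠ ⊥ → Subgroup.normalizer (T : Set G) ≤ H)
    (hS : ∀ Q : Subgroup G, Q ≤ H → IsPGroup 2 Q → ∃ h ∈ H, ∀ x ∈ Q, h * x * h⁻¹ ∈ P) :
    ∀ n : ℕ, ∀ (T : Subgroup G) (g : G), T ≠ ⊥ → T ≤ P → (∀ x ∈ T, g⁻¹ * x * g ∈ P) →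
      Nat.card P - Nat.card T = n → g ∈ H := by
  have : Fact (Nat.Prime 2) := ⟨Nat.prime_two⟩
  intro n
  induction n using Nat.strong_induction_on with
  | _ n ih =>
    intro T g hT1 hTP hTg hn
    have hT'P : T.map (MulAut.conj g⁻¹).toMonoidHom ≤ P := by
      intro x hx
      rw [mem_map_conj', inv_inv] at hx
      have h0 := hTg _ hx
      have h1 : g⁻¹ * (g * x * g⁻¹) * g = x := by group
      rwa [h1] at h0
    have hcT' : Nat.card (T.map (MulAut.conj g⁻¹).toMonoidHom) = Nat.card T :=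
      card_map_conj' T g⁻¹
    have hcle : Nat.card T ≤ Nat.card P := Subgroup.card_le_of_le hTP
    by_cases heq : T.map (MulAut.conj g⁻¹).toMonoidHom = P
    · have hTeq : T = P := Subgroup.eq_of_le_of_card_ge hTP (by rw [← hcT', heq])
      have hg : g ∈ Subgroup.normalizer (P : Set G) :=
        norm_of_conj_le P g (fun x hx => hTg x (by rw [hTeq]; exact hx))
      exact hN P le_rfl (by rw [← hTeq]; exact hT1) hg
    · obtain ⟨x, hxP, hxT, hxN⟩ := pgroup_normalizer_grow P _ hP2 hT'P heq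
      have hT'T₂ : T.map (MulAut.conj g⁻¹).toMonoidHom ≤
          P ⊓ Subgroup.normalizer ((T.map (MulAut.conj g⁻¹).toMonoidHom : Subgroup G) : Set G) :=
        le_inf hT'P Subgroup.le_normalizer
      have hlt : Nat.card T < Nat.card (P ⊓ Subgroup.normalizer
          ((T.map (MulAut.conj g⁻¹).toMonoidHom : Subgroup G) : Set G) : Subgroup G) := by
        by_contra hc
        rw [not_lt, ← hcT'] at hc
        have := Subgroup.eq_of_le_of_card_ge hT'T₂ hc
        apply hxT
        rw [this]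
        exact ⟨hxP, hxN⟩
      generalize hT₂ : (P ⊓ Subgroup.normalizer
          ((T.map (MulAut.conj g⁻¹).toMonoidHom : Subgroup G) : Set G) : Subgroup G) = T₂ at *
      have hT₂P : T₂ ≤ P := by rw [← hT₂]; exact inf_le_left
      have hT₂N : ∀ y ∈ T₂, y ∈ Subgroup.normalizer
          ((T.map (MulAut.conj g⁻¹).toMonoidHom : Subgroup G) : Set G) := by
        intro y hy; rw [← hT₂] at hy; exact hy.2
      -- Q = g T₂ g⁻¹
      have hQH : T₂.map (MulAut.conj g).toMonoidHom ≤ H := by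
        intro y hy
        rw [mem_map_conj'] at hy
        have hyN := hT₂N _ hy
        apply hN T hTP hT1
        rw [Subgroup.mem_normalizer_iff] at hyN ⊢
        intro t
        have h1 := hyN (g⁻¹ * t * g)
        rw [mem_map_conj', mem_map_conj', inv_inv] at h1
        have e1 : g * (g⁻¹ * t * g) * g⁻¹ = t := by group
        have e2 : g * (g⁻¹ * y * g * (g⁻¹ * t * g) * (g⁻¹ * y * g)⁻¹) * g⁻¹ = y * t * y⁻¹ := by
          group
        rw [e1, e2] at h1
        exact h1
      have hQ2 : IsPGroup 2 (T₂.map (MulAut.conj g).toMonoidHom) := (hP2.to_le hT₂P).map _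
      obtain ⟨h, hh, hhP⟩ := hS _ hQH hQ2
      have hT₃P : (T₂.map (MulAut.conj g).toMonoidHom).map (MulAut.conj h).toMonoidHom ≤ P := by
        intro w hw
        rw [mem_map_conj'] at hw
        have h0 := hhP _ hw
        have e : h * (h⁻¹ * w * h) * h⁻¹ = w := by group
        rwa [e] at h0
      have hcT₃ : Nat.card ((T₂.map (MulAut.conj g).toMonoidHom).map
          (MulAut.conj h).toMonoidHom) = Nat.card T₂ := by
        rw [card_map_conj', card_map_conj']
      have hcle₃ := Subgroup.card_le_of_le hT₃P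
      have hTpos : 0 < Nat.card T := Nat.card_pos
      have hT₃ne : (T₂.map (MulAut.conj g).toMonoidHom).map (MulAut.conj h).toMonoidHom ≠ ⊥ := by
        intro hb
        rw [hb, Subgroup.card_bot] at hcT₃
        omega
      have hconj : ∀ w ∈ (T₂.map (MulAut.conj g).toMonoidHom).map (MulAut.conj h).toMonoidHom,
          (h * g)⁻¹ * w * (h * g) ∈ P := by
        intro w hw
        rw [mem_map_conj', mem_map_conj'] at hw
        have e : (h * g)⁻¹ * w * (h * g) = g⁻¹ * (h⁻¹ * w * h) * g := by group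
        rw [e]
        exact hT₂P hw
      have hres := ih (Nat.card P - Nat.card ((T₂.map (MulAut.conj g).toMonoidHom).map
          (MulAut.conj h).toMonoidHom)) (by omega) _ (h * g) hT₃ne hT₃P hconj rfl
      have e : g = h⁻¹ * (h * g) := by group
      rw [e]
      exact H.mul_mem (H.inv_mem hh) hres

/-- Let H be a proper subgroup of the finite group G and P a nontrivial Sylow 2-subgroup of H. Then H is strongly embedded in G if and only if N_G(X) ≤ H for every nontrivial subgroup X of P. -/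
theorem result {G : Type*} [Group G] [Finite G] (H : Subgroup G) (hH : H ≠ ⊤) (P : Sylow 2 ↥H) (hP : (P : Subgroup ↥H) ≠ ⊥) : Cfsg.IsStronglyEmbedded H ↔ (∀ X : Subgroup ↥H, X ≤ (P : Subgroup ↥H) → X ≠ ⊥ → Subgroup.normalizer ((X.map H.subtype : Subgroup G) : Set G) ≤ H) := by
  classical
  have : Fact (Nat.Prime 2) := ⟨Nat.prime_two⟩
  have hP'H : (P : Subgroup H).map H.subtype ≤ H := by
    rintro x ⟨y, -, rfl⟩; exact y.2
  have hP'2 : IsPGroup 2 ((P : Subgroup H).map H.subtype) := P.isPGroup'.map _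
  have two_dvd : ∀ X : Subgroup H, X ≤ (P : Subgroup H) → X ≠ ⊥ → 2 ∣ Nat.card X := by
    intro X hXP hX1
    have hX2 : IsPGroup 2 X := P.isPGroup'.to_le hXP
    obtain ⟨k, hk⟩ := IsPGroup.iff_card.mp hX2
    have hk0 : k ≠ 0 := by
      rintro rfl
      rw [pow_zero] at hk
      exact hX1 (Subgroup.eq_bot_of_card_eq X hk)
    rw [hk]; exact dvd_pow_self 2 hk0
  have heven : Even (Nat.card H) := by
    rw [even_iff_two_dvd]
    exact (two_dvd _ le_rfl hP).trans (Subgroup.card_subgroup_dvd_card _)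
  constructor
  · intro hSE X hXP hX1 g hg
    by_contra hgH
    obtain ⟨s, hs⟩ := exists_prime_orderOf_dvd_card' 2 (two_dvd X hXP hX1)
    have h1 := (stronglyEmbedded_iff H hH hSE.2.1).mp hSE g⁻¹
      (fun h => hgH (by simpa using H.inv_mem h)) ((s : H) : G) (s : H).2
      (by rw [Subgroup.orderOf_coe, Subgroup.orderOf_coe]; exact hs)
    apply h1
    rw [inv_inv]
    have hsX : ((s : H) : G) ∈ X.map H.subtype := ⟨s.1, s.2, rfl⟩
    have h2 := (Subgroup.mem_normalizer_iff.mp hg _).mp hsX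
    obtain ⟨y, -, hy⟩ := h2
    rw [← hy]; exact y.2
  · intro hN
    have hN' : ∀ T : Subgroup G, T ≤ (P : Subgroup H).map H.subtype → T ≠ ⊥ →
        Subgroup.normalizer (T : Set G) ≤ H := by
      intro T hTP hT1
      have hTH : T ≤ H := hTP.trans hP'H
      have hmap : (T.subgroupOf H).map H.subtype = T := Subgroup.map_subgroupOf_eq_of_le hTH
      have h0 := hN (T.subgroupOf H) ?_ ?_
      · rwa [hmap] at h0
      · intro x hx
        have hx' : (x : G) ∈ (P : Subgroup H).map H.subtype := hTP (Subgroup.mem_subgroupOf.mp hx)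
        obtain ⟨y, hy, hyx⟩ := hx'
        have : y = x := Subtype.ext hyx
        rw [← this]; exact hy
      · intro h
        apply hT1
        rw [← hmap, h, Subgroup.map_bot]
    have hS : ∀ Q : Subgroup G, Q ≤ H → IsPGroup 2 Q →
        ∃ h ∈ H, ∀ x ∈ Q, h * x * h⁻¹ ∈ (P : Subgroup H).map H.subtype := by
      intro Q hQH hQ2
      have hQ2' : IsPGroup 2 (Q.subgroupOf H) := hQ2.comap_subtype
      obtain ⟨Q', hQ'⟩ := hQ2'.exists_le_sylow
      obtain ⟨h, hh⟩ := MulAction.exists_smul_eq H Q' P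
      refine ⟨h.1, h.2, fun x hx => ?_⟩
      have h1 : (⟨x, hQH hx⟩ : H) ∈ Q' := hQ' (Subgroup.mem_subgroupOf.mpr hx)
      have h2 : h * ⟨x, hQH hx⟩ * h⁻¹ ∈ P := by
        rw [← hh, mem_sylow_smul_iff]
        have : h⁻¹ * (h * ⟨x, hQH hx⟩ * h⁻¹) * h = ⟨x, hQH hx⟩ := by group
        rw [this]; exact h1
      exact ⟨_, h2, rfl⟩
    rw [stronglyEmbedded_iff H hH heven]
    intro g hg s hs hs2 hgs
    apply hg
    have hgs2 : orderOf (g⁻¹ * s * g) = 2 := by
      have h1 : g⁻¹ * s * g = (MulAut.conj g⁻¹).toMonoidHom s := by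
        simp only [MulEquiv.coe_toMonoidHom, MulAut.conj_apply, inv_inv]
      rw [h1, orderOf_injective _ (MulAut.conj g⁻¹).injective _, hs2]
    have hz2 : IsPGroup 2 (Subgroup.zpowers s) := by
      apply IsPGroup.of_card (n := 1)
      rw [Nat.card_zpowers, hs2]; rfl
    obtain ⟨h, hh, hhP⟩ := hS (Subgroup.zpowers s) (by rw [Subgroup.zpowers_le]; exact hs) hz2
    have hz2' : IsPGroup 2 (Subgroup.zpowers (g⁻¹ * s * g)) := by
      apply IsPGroup.of_card (n := 1)
      rw [Nat.card_zpowers, hgs2]; rfl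
    obtain ⟨h', hh', hh'P⟩ := hS (Subgroup.zpowers (g⁻¹ * s * g))
      (by rw [Subgroup.zpowers_le]; exact hgs) hz2'
    have key := se_key H _ hP'H hP'2 hN' hS _ (Subgroup.zpowers (h * s * h⁻¹)) (h * g * h'⁻¹)
      ?_ ?_ ?_ rfl
    · have e : g = h⁻¹ * (h * g * h'⁻¹) * h' := by group
      rw [e]; exact H.mul_mem (H.mul_mem (H.inv_mem hh) key) hh'
    · rw [Ne, Subgroup.zpowers_eq_bot]
      intro h1
      have e : s = 1 := by
        have h2 : s = h⁻¹ * (h * s * h⁻¹) * h := by group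
        rw [h2, h1]; group
      rw [e, orderOf_one] at hs2; omega
    · rw [Subgroup.zpowers_le]; exact hhP s (Subgroup.mem_zpowers s)
    · intro x hx
      obtain ⟨k, rfl⟩ := hx
      have e1 : (h * s * h⁻¹) ^ k = h * s ^ k * h⁻¹ := _root_.conj_zpow
      have e2 : (g⁻¹ * s * g) ^ k = g⁻¹ * s ^ k * g := by
        have h0 := _root_.conj_zpow (a := g⁻¹) (b := s) (i := k)
        rwa [inv_inv] at h0
      have e3 : (h * g * h'⁻¹)⁻¹ * (h * s * h⁻¹) ^ k * (h * g * h'⁻¹) =
          h' * (g⁻¹ * s * g) ^ k * h'⁻¹ := by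
        rw [e1, e2]; group
      show (h * g * h'⁻¹)⁻¹ * (h * s * h⁻¹) ^ k * (h * g * h'⁻¹) ∈ _
      rw [e3]
      exact hh'P _ (Subgroup.zpow_mem _ (Subgroup.mem_zpowers _) k)

end Cfsg.Agent.S0214
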