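import Cfsg.Agent.Helper2.StronglyEmbedded
import Cfsg.Statements.S0223
-- import your own Cfsg.Agent.* helpers here

set_option autoImplicit false
open Cfsg

namespace Cfsg.Agent.S0223

/-- Let H be a proper subgroup of even order of the finite group G. Then H is strongly embedded if and only if (i) C_G(t) ≤ H for every involution t of H and (ii) H controls fusion of its involutions: involutions of H conjugate in G are conjugate in H. -/
theorem result {G : Type*} [Group G] [Finite G] (H : Subgroup G) (hH : H ≠ ⊤) (heven : Even (Nat.card H)) : Cfsg.IsStronglyEmbedded H ↔ ((∀ t ∈ H, orderOf t = 2 → Subgroup.centralizer ({t} : Set G) ≤ H) ∧ (∀ t ∈ H, ∀ s ∈ H, orderOf t = 2 → orderOf s = 2 → IsConj t s → ∃ h ∈ H, h * t * h⁻¹ = s)) := by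
  rw [Helper2.stronglyEmbedded_iff H hH heven]
  constructor
  · intro h
    constructor
    · intro t ht ht2 c hc
      by_contra hcH
      apply h c hcH t ht ht2
      rw [Subgroup.mem_centralizer_iff] at hc
      have := hc t (Set.mem_singleton t)
      have e : c⁻¹ * t * c = t := by
        rw [mul_assoc, this, ← mul_assoc, inv_mul_cancel, one_mul]
      rw [e]; exact ht
    · intro t ht s hs ht2 hs2 hconj
      obtain ⟨g, hg⟩ := isConj_iff.1 hconj
      by_cases hgH : g ∈ H
      · exact ⟨g, hgH, hg⟩
      · exfalso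
        apply h g hgH s hs hs2
        rw [← hg]
        have : g⁻¹ * (g * t * g⁻¹) * g = t := by group
        rw [this]; exact ht
  · rintro ⟨h1, h2⟩ g hg s hs hs2 hgs
    have ht2 : orderOf (g⁻¹ * s * g) = 2 := by
      have := (MulAut.conj g⁻¹).orderOf_eq s
      rw [MulAut.conj_apply, inv_inv] at this
      rw [this]; exact hs2
    have hconj : IsConj (g⁻¹ * s * g) s := isConj_iff.2 ⟨g, by group⟩
    obtain ⟨h, hh, hhs⟩ := h2 _ hgs s hs ht2 hs2 hconj
    apply hg
    have hc : h * g⁻¹ ∈ Subgroup.centralizer ({s} : Set G) := by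
      rw [Subgroup.mem_centralizer_iff]
      intro y hy
      rw [Set.mem_singleton_iff] at hy
      subst hy
      calc y * (h * g⁻¹) = (h * (g⁻¹ * y * g) * h⁻¹) * (h * g⁻¹) := by rw [hhs]
        _ = h * g⁻¹ * y := by group
    have h3 := h1 s hs hs2 hc
    have h4 : g⁻¹ ∈ H := by
      have := H.mul_mem (H.inv_mem hh) h3
      rwa [inv_mul_cancel_left] at this
    simpa using H.inv_mem h4

end Cfsg.Agent.S0223
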