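import Cfsg.Agent.Helper2.StronglyEmbedded
import Cfsg.Statements.S0224
-- import your own Cfsg.Agent.* helpers here

set_option autoImplicit false
open Cfsg

namespace Cfsg.Agent.S0224

/-- Let H be a proper subgroup of even order of the finite group G. Then H is strongly embedded if and only if each involution of H fixes exactly one point (namely the coset H) in the action of G on the cosets of H. -/
theorem result {G : Type*} [Group G] [Finite G] (H : Subgroup G) (hH : H ≠ ⊤) (heven : Even (Nat.card H)) : Cfsg.IsStronglyEmbedded H ↔ ∀ t ∈ H, orderOf t = 2 → Nat.card {c : G ⧸ H // t • c = c} = 1 := by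
  rw [Helper2.stronglyEmbedded_iff H hH heven]
  have hfix : ∀ (t g : G), t • ((g : G) : G ⧸ H) = ((g : G) : G ⧸ H) ↔ g⁻¹ * t⁻¹ * g ∈ H := by
    intro t g
    have : t • ((g : G) : G ⧸ H) = ((t * g : G) : G ⧸ H) := rfl
    rw [this, QuotientGroup.eq, mul_inv_rev]
  constructor
  · intro h t ht ht2
    have hti := Helper2.inv_of_orderOf_two ht2
    rw [Nat.card_eq_one_iff_unique]
    constructor
    · constructor
      rintro ⟨a, ha⟩ ⟨b, hb⟩
      apply Subtype.ext
      show a = b
      induction a using QuotientGroup.induction_on with
      | H a =>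
        induction b using QuotientGroup.induction_on with
        | H b =>
          rw [hfix, hti] at ha hb
          have haH : a ∈ H := by
            by_contra hn
            exact h a hn t ht ht2 ha
          have hbH : b ∈ H := by
            by_contra hn
            exact h b hn t ht ht2 hb
          rw [QuotientGroup.eq]
          exact H.mul_mem (H.inv_mem haH) hbH
    · refine ⟨⟨((1 : G) : G ⧸ H), ?_⟩⟩
      rw [hfix, hti]
      simpa using ht
  · intro h g hg s hs hs2 hgs
    have hsi := Helper2.inv_of_orderOf_two hs2
    have h1 := h s hs hs2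
    rw [Nat.card_eq_one_iff_unique] at h1
    have hss := h1.1
    have e : (⟨((1 : G) : G ⧸ H), by rw [hfix, hsi]; simpa using hs⟩ : {c : G ⧸ H // s • c = c}) =
        ⟨((g : G) : G ⧸ H), by rw [hfix, hsi]; exact hgs⟩ := Subsingleton.elim _ _
    have e' : ((1 : G) : G ⧸ H) = ((g : G) : G ⧸ H) := congrArg Subtype.val e
    rw [QuotientGroup.eq] at e'
    apply hg
    simpa using e'

end Cfsg.Agent.S0224
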