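import Cfsg.Statements.S0647
-- import your own Cfsg.Agent.* helpers here

set_option autoImplicit false
open Cfsg

namespace Cfsg.Agent.S0647

/-- For a nonempty family of maximal abelian subgroups of a finite group, the intersection of the family is the centre of the subgroup it generates, which is also the full centralizer of that subgroup. -/
theorem result {S : Type*} [Group S] [Finite S] (𝒜 : Set (Subgroup S)) (hne : 𝒜.Nonempty) (hab : ∀ A ∈ 𝒜, IsMulCommutative A) (hmax : ∀ A ∈ 𝒜, ∀ B : Subgroup S, IsMulCommutative B → A ≤ B → B = A) : sInf 𝒜 = sSup 𝒜 ⊓ Subgroup.centralizer ((sSup 𝒜 : Subgroup S) : Set S) ∧ sInf 𝒜 = Subgroup.centralizer ((sSup 𝒜 : Subgroup S) : Set S) := by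
  have key1 : ∀ A ∈ 𝒜, Subgroup.centralizer (A : Set S) ≤ A := by
    intro A hA x hx
    have := hab A hA
    have hcomm : IsMulCommutative (Subgroup.closure ((A : Set S) ∪ {x})) := by
      apply Subgroup.isMulCommutative_closure
      rintro a (ha | ha) b (hb | hb)
      · exact setLike_mul_comm ha hb
      · rw [Set.mem_singleton_iff] at hb
        subst hb
        exact hx a ha
      · rw [Set.mem_singleton_iff] at ha
        subst ha
        exact (hx b hb).symm
      · rw [Set.mem_singleton_iff] at ha hb
        rw [ha, hb]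
    have hle : A ≤ Subgroup.closure ((A : Set S) ∪ {x}) := by
      intro a ha
      exact Subgroup.subset_closure (Or.inl ha)
    have heq := hmax A hA _ hcomm hle
    rw [← heq]
    exact Subgroup.subset_closure (Or.inr rfl)
  have key2 : Subgroup.centralizer ((sSup 𝒜 : Subgroup S) : Set S) ≤ sInf 𝒜 := by
    intro x hx
    rw [Subgroup.mem_sInf]
    intro A hA
    apply key1 A hA
    exact Subgroup.centralizer_le (show (A : Set S) ⊆ ((sSup 𝒜 : Subgroup S) : Set S) from
      SetLike.coe_subset_coe.mpr (le_sSup hA)) hx
  have key3 : sInf 𝒜 ≤ Subgroup.centralizer ((sSup 𝒜 : Subgroup S) : Set S) := by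
    intro x hx
    rw [Subgroup.mem_sInf] at hx
    have h1 : sSup 𝒜 ≤ Subgroup.centralizer ({x} : Set S) := by
      apply sSup_le
      intro A hA a ha
      have := hab A hA
      rw [Subgroup.mem_centralizer_singleton_iff]
      exact setLike_mul_comm ha (hx A hA)
    rw [Subgroup.mem_centralizer_iff]
    intro g hg
    have := h1 hg
    rw [Subgroup.mem_centralizer_singleton_iff] at this
    exact this
  have key4 : sInf 𝒜 ≤ sSup 𝒜 := by
    obtain ⟨A, hA⟩ := hne
    exact (sInf_le hA).trans (le_sSup hA)
  have e2 : sInf 𝒜 = Subgroup.centralizer ((sSup 𝒜 : Subgroup S) : Set S) := le_antisymm key3 key2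
  refine ⟨?_, e2⟩
  apply le_antisymm
  · exact le_inf key4 key3
  · exact inf_le_right.trans key2

end Cfsg.Agent.S0647
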