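import Cfsg.Statements.S0649
-- import your own Cfsg.Agent.* helpers here
import Mathlib.GroupTheory.Nilpotent
import Mathlib.Algebra.Group.Subgroup.Pointwise

set_option autoImplicit false
open Cfsg

namespace Cfsg.Agent.S0649

/-- In the Glauberman replacement situation, if B does not normalize A then some element of B normalizes N_S(A) without normalizing A. -/
theorem result {S : Type*} [Group S] [Finite S] {p : ℕ} [Fact p.Prime] (hS : IsPGroup p S) (B : Subgroup S) [B.Normal] (hB2 : p = 2 → IsMulCommutative B) (A : Subgroup S) (hA : IsMulCommutative A) (hBA : ⁅B, B⁆ ≤ A) (hnot : ¬ B ≤ Subgroup.normalizer (A : Set S)) : ∃ b ∈ B, b ∈ Subgroup.normalizer ((Subgroup.normalizer (A : Set S)) : Set S) ∧ b ∉ Subgroup.normalizer (A : Set S) := by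
  set N := Subgroup.normalizer (A : Set S) with hN
  set M := N ⊔ B with hM
  have hNM : N ≤ M := le_sup_left
  have hBM : B ≤ M := le_sup_right
  have hnil : Group.IsNilpotent M := (hS.to_subgroup M).isNilpotent
  have hnc : NormalizerCondition M := Group.normalizerCondition_of_isNilpotent
  have hlt : N.subgroupOf M < ⊤ := by
    rw [lt_top_iff_ne_top]
    intro htop
    rw [Subgroup.subgroupOf_eq_top] at htop
    exact hnot (hBM.trans htop)
  have hlt2 := hnc (N.subgroupOf M) hlt
  obtain ⟨x, hx1, hx2⟩ := SetLike.exists_of_lt hlt2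
  have hxM : (x : S) ∈ ((N ⊔ B : Subgroup S) : Set S) := x.2
  rw [Subgroup.mul_normal] at hxM
  obtain ⟨n, hn, b, hb, hnb⟩ := hxM
  have hn' : n ∈ N := hn
  have hb' : b ∈ B := hb
  rw [Subgroup.mem_normalizer_iff] at hx1
  have hbx : b = n⁻¹ * (x : S) := by rw [← hnb]; group
  refine ⟨b, hb', ?_, ?_⟩
  · rw [Subgroup.mem_normalizer_iff]
    intro h
    constructor
    · intro hh
      have h1 := (hx1 ⟨h, hNM hh⟩).mp (Subgroup.mem_subgroupOf.mpr hh)
      rw [Subgroup.mem_subgroupOf] at h1
      have h2 : b * h * b⁻¹ = n⁻¹ * ((x : S) * h * (x : S)⁻¹) * n := by rw [hbx]; group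
      rw [h2]
      exact N.mul_mem (N.mul_mem (N.inv_mem hn') h1) hn'
    · intro hh
      have h2 : (x : S) * h * (x : S)⁻¹ = n * (b * h * b⁻¹) * n⁻¹ := by rw [← hnb]; group
      have h3 : (x : S) * h * (x : S)⁻¹ ∈ N := by
        rw [h2]
        exact N.mul_mem (N.mul_mem hn' hh) (N.inv_mem hn')
      have h4 : h ∈ M := by
        have : h = (x : S)⁻¹ * ((x : S) * h * (x : S)⁻¹) * (x : S) := by group
        rw [this]
        exact M.mul_mem (M.mul_mem (M.inv_mem x.2) (hNM h3)) x.2
      have h5 := (hx1 ⟨h, h4⟩).mpr (Subgroup.mem_subgroupOf.mpr h3)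
      exact Subgroup.mem_subgroupOf.mp h5
  · intro hbN
    apply hx2
    rw [Subgroup.mem_subgroupOf, ← hnb]
    exact N.mul_mem hn' hbN

end Cfsg.Agent.S0649
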