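import Cfsg.Statements.S0650
import Mathlib
import Cfsg.Agent.Helper1.Repl2
import Cfsg.Agent.Helper1.ZJBridge

set_option autoImplicit false
open Cfsg

namespace Cfsg.Agent.S0650

/-- The Glauberman replacement Theorem: from an abelian A ⊇ [B, B] not normalized by the normal subgroup B and a suitable b ∈ B one gets the abelian subgroup A* = (A ∩ b⁻¹Ab)[A, b] of the same order, containing [B, B], meeting B strictly more than A does but not containing B, mutually normalizing with A, with strictly larger normalizer containing b, and (p odd) of no larger exponent. -/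
theorem result {S : Type*} [Group S] [Finite S] {p : ℕ} [Fact p.Prime] (hS : IsPGroup p S) (B : Subgroup S) [B.Normal] (hB2 : p = 2 → IsMulCommutative B) (A : Subgroup S) (hA : IsMulCommutative A) (hBA : ⁅B, B⁆ ≤ A) (hnot : ¬ B ≤ Subgroup.normalizer (A : Set S)) (b : S) (hb : b ∈ B) (hbN : b ∈ Subgroup.normalizer ((Subgroup.normalizer (A : Set S)) : Set S)) (hbA : b ∉ Subgroup.normalizer (A : Set S)) : Nat.card ↥((A ⊓ A.map (MulAut.conj (b⁻¹)).toMonoidHom) ⊔ Subgroup.closure {g : S | ∃ a ∈ A, g = a * b⁻¹ * a⁻¹ * b}) = Nat.card A ∧ IsMulCommutative ↥((A ⊓ A.map (MulAut.conj (b⁻¹)).toMonoidHom) ⊔ Subgroup.closure {g : S | ∃ a ∈ A, g = a * b⁻¹ * a⁻¹ * b}) ∧ ⁅B, B⁆ ≤ ((A ⊓ A.map (MulAut.conj (b⁻¹)).toMonoidHom) ⊔ Subgroup.closure {g : S | ∃ a ∈ A, g = a * b⁻¹ * a⁻¹ * b}) ∧ A ⊓ B < ((A ⊓ A.map (MulAut.conj (b⁻¹)).toMonoidHom) ⊔ Subgroup.closure {g : S | ∃ a ∈ A, g = a * b⁻¹ * a⁻¹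 * b}) ⊓ B ∧ ((A ⊓ A.map (MulAut.conj (b⁻¹)).toMonoidHom) ⊔ Subgroup.closure {g : S | ∃ a ∈ A, g = a * b⁻¹ * a⁻¹ * b}) ⊓ B < B ∧ A ≤ Subgroup.normalizer (((A ⊓ A.map (MulAut.conj (b⁻¹)).toMonoidHom) ⊔ Subgroup.closure {g : S | ∃ a ∈ A, g = a * b⁻¹ * a⁻¹ * b} : Subgroup S) : Set S) ∧ ((A ⊓ A.map (MulAut.conj (b⁻¹)).toMonoidHom) ⊔ Subgroup.closure {g : S | ∃ a ∈ A, g = a * b⁻¹ * a⁻¹ * b}) ≤ Subgroup.normalizer (A : Set S) ∧ b ∈ Subgroup.normalizer (((A ⊓ A.map (MulAut.conj (b⁻¹)).toMonoidHom) ⊔ Subgroup.closure {g : S | ∃ a ∈ A, g = a * b⁻¹ * a⁻¹ * b} : Subgroup S) : Set S) ∧ Subgroup.normalizer (A : Set S) < Subgroup.normalizer (((A ⊓ A.map (MulAut.conj (b⁻¹)).toMonoidHom) ⊔ Subgroup.closure {g : S | ∃ a ∈ A, g = a * b⁻¹ * a⁻¹ * b} : Subgroup S) : Set S) ∧ (p ≠ 2 → Monoid.exponent ↥((A ⊓ A.map (MulAut.conj (b⁻¹)).toMonoidHom) ⊔ Subgroup.closure {g : S | ∃ a ∈ A, g = a * b⁻¹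 * a⁻¹ * b}) ∣ Monoid.exponent A) := by
  have hAc : ∀ x ∈ A, ∀ y ∈ A, x * y = y * x :=
    ((Cfsg.Agent.Helper1.isEAb_zero_iff A).mpr hA).1
  have hbinv : b⁻¹ ∈ Subgroup.normalizer
      ((Subgroup.normalizer (A : Set S) : Subgroup S) : Set S) := Subgroup.inv_mem _ hbN
  have hN2 : ∀ n ∈ Subgroup.normalizer (A : Set S),
      b * n * b⁻¹ ∈ Subgroup.normalizer (A : Set S) :=
    fun n hn => (Subgroup.mem_normalizer_iff.mp hbN n).mp hn
  have hN1 : ∀ n ∈ Subgroup.normalizer (A : Set S),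
      b⁻¹ * n * b ∈ Subgroup.normalizer (A : Set S) := by
    intro n hn
    have h1 := (Subgroup.mem_normalizer_iff.mp hbinv n).mp hn
    rwa [inv_inv] at h1
  have h : Cfsg.Agent.Helper1.ReplData p A B b :=
    ⟨hAc, hS.to_subgroup B,
      fun h2 => ((Cfsg.Agent.Helper1.isEAb_zero_iff B).mpr (hB2 h2)).1, hBA, hb,
      fun a ha => hN1 a (Subgroup.le_normalizer ha),
      fun a ha => hN2 a (Subgroup.le_normalizer ha)⟩
  obtain ⟨a₀, ha₀, hfa₀⟩ := Cfsg.Agent.Helper1.exists_gen_not_mem A b hbA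
  have hmem : a₀ * b⁻¹ * a₀⁻¹ * b ∈
      (Cfsg.Agent.Helper1.replI A b ⊔ Cfsg.Agent.Helper1.replF A b) ⊓ B :=
    Subgroup.mem_inf.mpr ⟨Subgroup.mem_sup_right
      (show a₀ * b⁻¹ * a₀⁻¹ * b ∈ Cfsg.Agent.Helper1.replF A b from
        Subgroup.subset_closure ⟨a₀, ha₀, rfl⟩), h.gen_mem a₀⟩
  have hbnot : b ∉ Cfsg.Agent.Helper1.replI A b ⊔ Cfsg.Agent.Helper1.replF A b :=
    fun hb' => hbA (h.star_le_normalizer hb')
  have c1 : Nat.card ↥(Cfsg.Agent.Helper1.replI A b ⊔ Cfsg.Agent.Helper1.replF A b)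
      = Nat.card A := le_antisymm h.card_star_le h.card_le
  have c2 : IsMulCommutative ↥(Cfsg.Agent.Helper1.replI A b ⊔ Cfsg.Agent.Helper1.replF A b) :=
    (Cfsg.Agent.Helper1.isEAb_zero_iff _).mp ⟨h.star_comm, fun a _ => pow_zero a⟩
  have c3 : ⁅B, B⁆ ≤ Cfsg.Agent.Helper1.replI A b ⊔ Cfsg.Agent.Helper1.replF A b :=
    h.der_le.trans le_sup_left
  have c4 : A ⊓ B < (Cfsg.Agent.Helper1.replI A b ⊔ Cfsg.Agent.Helper1.replF A b) ⊓ B :=
    lt_of_le_not_ge (le_inf (h.inf_le.trans le_sup_left) inf_le_right)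
      (fun hle => hfa₀ (Subgroup.mem_inf.mp (hle hmem)).1)
  have c5 : (Cfsg.Agent.Helper1.replI A b ⊔ Cfsg.Agent.Helper1.replF A b) ⊓ B < B :=
    lt_of_le_not_ge inf_le_right (fun hle => hbnot (Subgroup.mem_inf.mp (hle hb)).1)
  have c9 : Subgroup.normalizer (A : Set S) < Subgroup.normalizer
      ((Cfsg.Agent.Helper1.replI A b ⊔ Cfsg.Agent.Helper1.replF A b : Subgroup S) : Set S) :=
    lt_of_le_not_ge (h.normalizer_le_normalizer_star hN2)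
      (fun hle => hbA (hle h.b_mem_normalizer_star))
  exact ⟨c1, c2, c3, c4, c5, h.le_normalizer_star, h.star_le_normalizer,
    h.b_mem_normalizer_star, c9, fun hp2 => h.exponent_dvd hp2 (hS.to_subgroup A)⟩

end Cfsg.Agent.S0650
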