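import Cfsg.Statements.S0651
-- import your own Cfsg.Agent.* helpers here
import Cfsg.Agent.Helper9.ReplProp

set_option autoImplicit false
open Cfsg

namespace Cfsg.Agent.S0651

open Cfsg.Agent.Helper9

/-- For odd p and D normal in the p-group S, the abelian subgroups of D of largest order satisfy the replacement property: a class-2 normal subgroup B of S with a member containing [B, B] but not B normalizes some such member. -/
theorem result {S : Type*} [Group S] [Finite S] {p : ℕ} [Fact p.Prime] (hS : IsPGroup p S) (hp : p ≠ 2) (D : Subgroup S) [D.Normal] : ∀ (B : Subgroup S) [B.Normal], ⁅⁅B, B⁆, B⁆ = ⊥ → (∃ U ∈ (Set.image (fun A : Subgroup ↥D => A.map D.subtype) (Cfsg.maxAbelianSubgroups ↥D)), ⁅B, B⁆ ≤ U ∧ ¬ B ≤ U) → ∃ A ∈ (Set.image (fun A : Subgroup ↥D => A.map D.subtype) (Cfsg.maxAbelianSubgroups ↥D)), ⁅B, B⁆ ≤ A ∧ ¬ B ≤ A ∧ B ≤ Subgroup.normalizer (A : Set S) := by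
  intro B hBn _ hex
  obtain ⟨U, hU, h1, h2⟩ := hex
  have hU' : U ∈ Cfsg.Agent.Helper1.maxE 0 D := by
    obtain ⟨A', hA', rfl⟩ := hU
    rw [Cfsg.Agent.Helper1.maxAbelian_eq] at hA'
    exact Cfsg.Agent.Helper1.maxE_subtype_map D hA'
  obtain ⟨A, hA, h3, h4, h5⟩ := repl_property9 hS hp (Or.inl rfl) D B ⟨U, hU', h1, h2⟩
  refine ⟨A, ⟨A.subgroupOf D, ?_, Subgroup.map_subgroupOf_eq_of_le hA.1⟩, h3, h4, h5⟩
  rw [Cfsg.Agent.Helper1.maxAbelian_eq]
  exact Cfsg.Agent.Helper1.maxE_subgroupOf hA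

end Cfsg.Agent.S0651
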