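import Cfsg.Statements.S0655
-- import your own Cfsg.Agent.* helpers here

set_option autoImplicit false
open Cfsg

namespace Cfsg.Agent.S0655

/-- In a p-group the intersection of all elementary abelian subgroups of largest order is the subgroup generated by the elements of order dividing p in the centre (equivalently the centralizer) of the elementary-version Thompson subgroup. -/
theorem result {S : Type*} [Group S] [Finite S] {p : ℕ} [Fact p.Prime] (hS : IsPGroup p S) : sInf (Cfsg.maxElementaryAbelianSubgroups p S) = Cfsg.omegaCenterThompson p S ∧ Cfsg.omegaCenterThompson p S = Cfsg.omegaOne p (Subgroup.centralizer (Cfsg.thompsonSubgroup p S : Set S)) := by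
  have hfin : (Set.univ : Set (Subgroup S)).Finite := Set.toFinite _
  have hne : (Cfsg.maxElementaryAbelianSubgroups p S).Nonempty := by
    have hEfin : {A : Subgroup S | Cfsg.IsElementaryAbelian p A}.Finite := Set.toFinite _
    have hEne : {A : Subgroup S | Cfsg.IsElementaryAbelian p A}.Nonempty := by
      refine ⟨⊥, ?_, ?_⟩
      · infer_instance
      · intro a ha
        rw [Subgroup.mem_bot] at ha
        rw [ha, one_pow]
    obtain ⟨A, hA, hmaxA⟩ := Set.exists_max_image _ (fun A : Subgroup S => Nat.card A) hEfin hEne
    exact ⟨A, hA, fun B hB => hmaxA B hB⟩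
  have key1 : ∀ A ∈ Cfsg.maxElementaryAbelianSubgroups p S, ∀ x : S, x ^ p = 1 →
      x ∈ Subgroup.centralizer (A : Set S) → x ∈ A := by
    intro A hA x hxp hx
    obtain ⟨⟨hAc, hAp⟩, hAmax⟩ := hA
    have hcomm : IsMulCommutative (Subgroup.closure ((A : Set S) ∪ {x})) := by
      apply Subgroup.isMulCommutative_closure
      rintro a (ha | ha) b (hb | hb)
      · exact setLike_mul_comm ha hb
      · rw [Set.mem_singleton_iff] at hb
        subst hb
        exact hx a ha
      · rw [Set.mem_singleton_iff] at ha
        subst ha
        exact (hx b hb).symm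
      · rw [Set.mem_singleton_iff] at ha hb
        rw [ha, hb]
    have hpow : ∀ b ∈ Subgroup.closure ((A : Set S) ∪ {x}), b ^ p = 1 := by
      intro b hb
      induction hb using Subgroup.closure_induction with
      | mem y hy =>
        rcases hy with hy | hy
        · exact hAp y hy
        · rw [Set.mem_singleton_iff] at hy
          rw [hy]; exact hxp
      | one => exact one_pow p
      | mul y z hy hz ihy ihz =>
        have hyz : Commute y z := setLike_mul_comm hy hz
        rw [hyz.mul_pow, ihy, ihz, one_mul]
      | inv y hy ihy => rw [inv_pow, ihy, inv_one]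
    have hle : A ≤ Subgroup.closure ((A : Set S) ∪ {x}) := by
      intro a ha
      exact Subgroup.subset_closure (Or.inl ha)
    have hcard := hAmax _ ⟨hcomm, hpow⟩
    have heq := Subgroup.eq_of_le_of_card_ge hle hcard
    rw [heq]
    exact Subgroup.subset_closure (Or.inr rfl)
  have step1 : sInf (Cfsg.maxElementaryAbelianSubgroups p S) ≤ Cfsg.omegaCenterThompson p S := by
    intro x hx
    rw [Subgroup.mem_sInf] at hx
    obtain ⟨A₀, hA₀⟩ := hne
    apply Subgroup.subset_closure
    refine ⟨⟨?_, ?_⟩, ?_⟩
    · exact (le_sSup hA₀ : A₀ ≤ Cfsg.thompsonSubgroup p S) (hx A₀ hA₀)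
    · have h1 : Cfsg.thompsonSubgroup p S ≤ Subgroup.centralizer ({x} : Set S) := by
        apply sSup_le
        intro A hA a ha
        have := hA.1.1
        rw [Subgroup.mem_centralizer_singleton_iff]
        exact setLike_mul_comm ha (hx A hA)
      show x ∈ Subgroup.centralizer ((Cfsg.thompsonSubgroup p S : Subgroup S) : Set S)
      rw [Subgroup.mem_centralizer_iff]
      intro g hg
      have := h1 hg
      rw [Subgroup.mem_centralizer_singleton_iff] at this
      exact this
    · exact hA₀.1.2 x (hx A₀ hA₀)
  have step2 : Cfsg.omegaCenterThompson p S ≤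
      Cfsg.omegaOne p (Subgroup.centralizer (Cfsg.thompsonSubgroup p S : Set S)) := by
    apply Subgroup.closure_mono
    rintro x ⟨hx1, hx2⟩
    exact ⟨hx1.2, hx2⟩
  have step3 : Cfsg.omegaOne p (Subgroup.centralizer (Cfsg.thompsonSubgroup p S : Set S)) ≤
      sInf (Cfsg.maxElementaryAbelianSubgroups p S) := by
    unfold Cfsg.omegaOne
    rw [Subgroup.closure_le]
    rintro x ⟨hx1, hx2⟩
    rw [SetLike.mem_coe, Subgroup.mem_sInf]
    intro A hA
    apply key1 A hA x hx2
    exact Subgroup.centralizer_le (show (A : Set S) ⊆ ((Cfsg.thompsonSubgroup p S : Subgroup S) : Set S) from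
      SetLike.coe_subset_coe.mpr (le_sSup hA)) hx1
  exact ⟨le_antisymm step1 (step2.trans step3), le_antisymm step2 (step3.trans step1)⟩

end Cfsg.Agent.S0655
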