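import Cfsg.Statements.S0974
-- import your own Cfsg.Agent.* helpers here
import Cfsg.Agent.Helper13.ExcSimple

set_option autoImplicit false
open Cfsg

namespace Cfsg.Agent.S0974

/-- No finite simple group has order 3648 = 2^6 * 3 * 19. -/
theorem result {G : Type*} [Group G] [Finite G] [IsSimpleGroup G] : Nat.card G ≠ 3648 := by
  intro hG
  haveI hpf : Fact (Nat.Prime 19) := ⟨by norm_num⟩
  obtain ⟨P⟩ : Nonempty (Sylow 19 G) := inferInstance
  have hG' : Nat.card G = 19 ^ 1 * 192 := by rw [hG]; norm_num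
  have hPc : Nat.card (P : Subgroup G) = 19 := by
    have h := Cfsg.Agent.Helper23.card_sylow_of_card 19 1 192 hG' (by norm_num) P
    rw [pow_one] at h
    exact h
  have hP1 : Nat.card (P : Subgroup G) ≠ 1 := by rw [hPc]; norm_num
  have hP2 : Nat.card (P : Subgroup G) ≠ Nat.card G := by rw [hPc, hG]; norm_num
  have hn_dvd : Nat.card (Sylow 19 G) ∣ 192 :=
    Cfsg.Agent.Helper23.card_sylow_dvd_of_card 19 1 192 hG' (by norm_num)
  have hn_mod : Nat.card (Sylow 19 G) % 19 = 1 % 19 := card_sylow_modEq_one 19 G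
  have hn_ne := Cfsg.Agent.Helper23.card_sylow_ne_one_of_simple 19 P hP1 hP2
  have hn : Nat.card (Sylow 19 G) = 96 := by
    have hle : Nat.card (Sylow 19 G) ≤ 192 := Nat.le_of_dvd (by norm_num) hn_dvd
    obtain ⟨n, hnn⟩ : ∃ n : ℕ, n = Nat.card (Sylow 19 G) := ⟨_, rfl⟩
    rw [← hnn] at hn_dvd hn_mod hn_ne hle ⊢
    have hc : n = 1 ∨ n = 20 ∨ n = 39 ∨ n = 58 ∨ n = 77 ∨ n = 96 ∨ n = 115 ∨ n = 134 ∨ n = 153 ∨ n = 172 ∨ n = 191 := by omega
    rcases hc with h | h | h | h | h | h | h | h | h | h | h <;> rw [h] at hn_dvd <;> omega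
  obtain ⟨d₂, a₂, d, hd, ha₂, hd₂1, hcong, hd₂dvd, hsq, hsum⟩ :=
    Cfsg.Agent.Helper13.exc_simple_two (G := G) 19 192 (by rw [hG]) (by norm_num)
      (by rw [hn]) (by norm_num)
  rw [hG] at hd₂dvd hsq hd
  have hle : d₂ ≤ 60 := by
    by_contra hcon
    have h61 : 61 ≤ d₂ := by omega
    nlinarith
  have hpos : 0 < d₂ := Nat.pos_of_dvd_of_pos hd₂dvd (by norm_num)
  push_cast at hcong
  interval_cases d₂ <;> omega

end Cfsg.Agent.S0974
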