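import Cfsg.Statements.S0975
-- import your own Cfsg.Agent.* helpers here
import Cfsg.Agent.Helper13.ExcSimple

set_option autoImplicit false
open Cfsg

namespace Cfsg.Agent.S0975

/-- No finite simple group has order 3744 = 2^5 * 3^2 * 13. -/
theorem result {G : Type*} [Group G] [Finite G] [IsSimpleGroup G] : Nat.card G ≠ 3744 := by
  intro hG
  haveI hpf : Fact (Nat.Prime 13) := ⟨by norm_num⟩
  obtain ⟨P⟩ : Nonempty (Sylow 13 G) := inferInstance
  have hG' : Nat.card G = 13 ^ 1 * 288 := by rw [hG]; norm_num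
  have hPc : Nat.card (P : Subgroup G) = 13 := by
    have h := Cfsg.Agent.Helper23.card_sylow_of_card 13 1 288 hG' (by norm_num) P
    rw [pow_one] at h
    exact h
  have hP1 : Nat.card (P : Subgroup G) ≠ 1 := by rw [hPc]; norm_num
  have hP2 : Nat.card (P : Subgroup G) ≠ Nat.card G := by rw [hPc, hG]; norm_num
  have hn_dvd : Nat.card (Sylow 13 G) ∣ 288 :=
    Cfsg.Agent.Helper23.card_sylow_dvd_of_card 13 1 288 hG' (by norm_num)
  have hn_mod : Nat.card (Sylow 13 G) % 13 = 1 % 13 := card_sylow_modEq_one 13 G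
  have hn_ne := Cfsg.Agent.Helper23.card_sylow_ne_one_of_simple 13 P hP1 hP2
  have hn : Nat.card (Sylow 13 G) = 144 := by
    have hle : Nat.card (Sylow 13 G) ≤ 288 := Nat.le_of_dvd (by norm_num) hn_dvd
    obtain ⟨n, hnn⟩ : ∃ n : ℕ, n = Nat.card (Sylow 13 G) := ⟨_, rfl⟩
    rw [← hnn] at hn_dvd hn_mod hn_ne hle ⊢
    have hc : n = 1 ∨ n = 14 ∨ n = 27 ∨ n = 40 ∨ n = 53 ∨ n = 66 ∨ n = 79 ∨ n = 92 ∨ n = 105 ∨ n = 118 ∨ n = 131 ∨ n = 144 ∨ n = 157 ∨ n = 170 ∨ n = 183 ∨ n = 196 ∨ n = 209 ∨ n = 222 ∨ n = 235 ∨ n = 248 ∨ n = 261 ∨ n = 274 ∨ n = 287 := by omega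
    rcases hc with h | h | h | h | h | h | h | h | h | h | h | h | h | h | h | h | h | h | h | h | h | h | h <;> rw [h] at hn_dvd <;> omega
  obtain ⟨d₂, a₂, d, hd, ha₂, hd₂1, hcong, hd₂dvd, hsq, hsum⟩ :=
    Cfsg.Agent.Helper13.exc_simple_two (G := G) 13 288 (by rw [hG]) (by norm_num)
      (by rw [hn]) (by norm_num)
  rw [hG] at hd₂dvd hsq hd
  have hle : d₂ ≤ 61 := by
    by_contra hcon
    have h62 : 62 ≤ d₂ := by omega
    nlinarith
  have hpos : 0 < d₂ := Nat.pos_of_dvd_of_pos hd₂dvd (by norm_num)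
  have h12 : d₂ = 12 ∧ a₂ = -1 := by
    interval_cases d₂ <;> omega
  obtain ⟨h1, h2⟩ := h12
  rw [h1, h2] at hsum
  have hd11 : d = 11 := by omega
  rw [hd11] at hd
  omega

end Cfsg.Agent.S0975
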