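import Cfsg.Statements.S0979
-- import your own Cfsg.Agent.* helpers here
import Cfsg.Agent.Helper13.ExcSimple

set_option autoImplicit false
open Cfsg

namespace Cfsg.Agent.S0979

/-- No finite simple group has order 5472 = 2^5 * 3^2 * 19. -/
theorem result {G : Type*} [Group G] [Finite G] [IsSimpleGroup G] : Nat.card G ≠ 5472 := by
  intro hG
  haveI hpf : Fact (Nat.Prime 19) := ⟨by norm_num⟩
  obtain ⟨P⟩ : Nonempty (Sylow 19 G) := inferInstance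
  have hG' : Nat.card G = 19 ^ 1 * 288 := by rw [hG]; norm_num
  have hPc : Nat.card (P : Subgroup G) = 19 := by
    have h := Cfsg.Agent.Helper23.card_sylow_of_card 19 1 288 hG' (by norm_num) P
    rw [pow_one] at h
    exact h
  have hP1 : Nat.card (P : Subgroup G) ≠ 1 := by rw [hPc]; norm_num
  have hP2 : Nat.card (P : Subgroup G) ≠ Nat.card G := by rw [hPc, hG]; norm_num
  have hn_dvd : Nat.card (Sylow 19 G) ∣ 288 :=
    Cfsg.Agent.Helper23.card_sylow_dvd_of_card 19 1 288 hG' (by norm_num)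
  have hn_mod : Nat.card (Sylow 19 G) % 19 = 1 % 19 := card_sylow_modEq_one 19 G
  have hn_ne := Cfsg.Agent.Helper23.card_sylow_ne_one_of_simple 19 P hP1 hP2
  have hn : Nat.card (Sylow 19 G) = 96 := by
    have hle : Nat.card (Sylow 19 G) ≤ 288 := Nat.le_of_dvd (by norm_num) hn_dvd
    obtain ⟨n, hnn⟩ : ∃ n : ℕ, n = Nat.card (Sylow 19 G) := ⟨_, rfl⟩
    rw [← hnn] at hn_dvd hn_mod hn_ne hle ⊢
    have hc : n = 1 ∨ n = 20 ∨ n = 39 ∨ n = 58 ∨ n = 77 ∨ n = 96 ∨ n = 115 ∨ n = 134 ∨ n = 153 ∨ n = 172 ∨ n = 191 ∨ n = 210 ∨ n = 229 ∨ n = 248 ∨ n = 267 ∨ n = 286 := by omega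
    rcases hc with h | h | h | h | h | h | h | h | h | h | h | h | h | h | h | h <;> rw [h] at hn_dvd <;> omega
  obtain ⟨d₂, d₃, a₂, a₃, d, hd, ha₂, ha₃, hd₂1, hd₃1, hcong₂, hcong₃, hd₂dvd, hd₃dvd, hsq, hsum⟩ :=
    Cfsg.Agent.Helper13.exc_simple_three (G := G) 19 288 (by rw [hG]) (by norm_num)
      (by rw [hn]) (by norm_num)
  rw [hG] at hd₂dvd hd₃dvd hsq hd
  have hle₂ : d₂ ≤ 73 := by
    by_contra hcon
    have h74 : 74 ≤ d₂ := by omega
    nlinarith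
  have hle₃ : d₃ ≤ 73 := by
    by_contra hcon
    have h74 : 74 ≤ d₃ := by omega
    nlinarith
  have hpos₂ : 0 < d₂ := Nat.pos_of_dvd_of_pos hd₂dvd (by norm_num)
  have hpos₃ : 0 < d₃ := Nat.pos_of_dvd_of_pos hd₃dvd (by norm_num)
  clear hsq
  have h18₂ : d₂ = 18 ∧ a₂ = -1 := by
    clear hsum hcong₃ hd₃dvd hle₃ hpos₃ hd₃1 ha₃
    interval_cases d₂ <;> omega
  have h18₃ : d₃ = 18 ∧ a₃ = -1 := by
    clear hsum hcong₂ hd₂dvd hle₂ hpos₂ hd₂1 ha₂ h18₂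
    interval_cases d₃ <;> omega
  obtain ⟨h1, h2⟩ := h18₂
  obtain ⟨h3, h4⟩ := h18₃
  rw [h1, h2, h3, h4] at hsum
  have hd35 : d = 35 := by omega
  rw [hd35] at hd
  omega

end Cfsg.Agent.S0979
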