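import Mathlib
import Cfsg.Statements.S0994
import Cfsg.Agent.Helper23.SmallSimple

set_option autoImplicit false
open Cfsg

namespace Cfsg.Agent.S0994

/-- No finite simple group has order 1188 = 2^2 * 3^3 * 11. -/
theorem result {G : Type*} [Group G] [Finite G] [IsSimpleGroup G] : Nat.card G ≠ 1188 := by
  intro hG
  have h11 : Fact (Nat.Prime 11) := ⟨by norm_num⟩
  obtain ⟨P⟩ : Nonempty (Sylow 11 G) := inferInstance
  have hG' : Nat.card G = 11 ^ 1 * 108 := by rw [hG]; norm_num
  have hPc : Nat.card (P : Subgroup G) = 11 := by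
    have h := Cfsg.Agent.Helper23.card_sylow_of_card 11 1 108 hG' (by norm_num) P
    rw [pow_one] at h
    exact h
  have hP1 : Nat.card (P : Subgroup G) ≠ 1 := by rw [hPc]; norm_num
  have hP2 : Nat.card (P : Subgroup G) ≠ Nat.card G := by rw [hPc, hG]; norm_num
  have hn_dvd : Nat.card (Sylow 11 G) ∣ 108 :=
    Cfsg.Agent.Helper23.card_sylow_dvd_of_card 11 1 108 hG' (by norm_num)
  have hn_mod : Nat.card (Sylow 11 G) % 11 = 1 % 11 := card_sylow_modEq_one 11 G
  have hn_ne := Cfsg.Agent.Helper23.card_sylow_ne_one_of_simple 11 P hP1 hP2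
  have hn : Nat.card (Sylow 11 G) = 12 := by
    have key : ∀ n ∈ Nat.divisors 108, n % 11 = 1 % 11 → n = 1 ∨ n = 12 := by decide
    rcases key _ (Nat.mem_divisors.2 ⟨hn_dvd, by norm_num⟩) hn_mod with h | h
    · exact absurd h hn_ne
    · exact h
  have hN := Cfsg.Agent.Helper23.card_normalizer_sylow P
  rw [hn, hG] at hN
  have hPN := Cfsg.Agent.S4342.relIndex_mul_card_inf (P : Subgroup G)
    (Subgroup.normalizer ((P : Subgroup G) : Set G))
  rw [inf_of_le_left Subgroup.le_normalizer, hPc] at hPN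
  obtain ⟨hd2, hd1⟩ := Cfsg.Agent.Helper23.relIndex_centralizer_dvd_prime 11 P hPc
  have h9 : (P : Subgroup G).relIndex (Subgroup.normalizer ((P : Subgroup G) : Set G)) = 9 := by
    omega
  rw [h9] at hd1
  have h1 := Nat.eq_one_of_dvd_coprimes (by norm_num : Nat.Coprime 9 (11 - 1)) hd1 hd2
  exact Cfsg.Agent.Helper23.not_normalizer_le_centralizer_of_simple 11 P hP1 hP2
    (Subgroup.relIndex_eq_one.1 h1)

end Cfsg.Agent.S0994
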