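import Cfsg.Statements.S1249

set_option autoImplicit false
open Cfsg

namespace Cfsg.Agent.S1249

/-- Let P and Q be Sylow p-subgroups of the finite group G both containing the subgroup A. If A is strongly closed in P, then A is strongly closed in Q. -/
theorem result {G : Type*} [Group G] [Finite G] {p : ℕ} [Fact p.Prime] (P Q : Sylow p G) (A : Subgroup G) (hAQ : A ≤ Q) (hA : Cfsg.IsStronglyClosed A (P : Subgroup G)) : Cfsg.IsStronglyClosed A (Q : Subgroup G) := by
  obtain ⟨hAP, hsc⟩ := hA
  refine ⟨hAQ, ?_⟩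
  obtain ⟨h, hh⟩ := MulAction.exists_smul_eq G Q P
  have hQP : ∀ x ∈ Q, h * x * h⁻¹ ∈ P := by
    intro x hx
    rw [← hh]
    exact Subgroup.smul_mem_pointwise_smul x (MulAut.conj h) (Q : Subgroup G) hx
  -- conjugation by h maps A into A
  have hinj : ∀ a ∈ A, h * a * h⁻¹ ∈ A := fun a ha => hsc a ha h (hQP a (hAQ ha))
  -- hence onto A by finiteness
  let f : A → A := fun a => ⟨h * a.1 * h⁻¹, hinj a.1 a.2⟩
  have hf : Function.Injective f := by
    intro a b hab
    have : h * a.1 * h⁻¹ = h * b.1 * h⁻¹ := congrArg Subtype.val hab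
    exact Subtype.ext (mul_left_cancel (mul_right_cancel this))
  have hsurj : Function.Surjective f := Finite.surjective_of_injective hf
  intro x hx g hg
  have h1 : (h * g) * x * (h * g)⁻¹ ∈ A := by
    apply hsc x hx
    have : (h * g) * x * (h * g)⁻¹ = h * (g * x * g⁻¹) * h⁻¹ := by group
    rw [this]
    exact hQP _ hg
  obtain ⟨a, ha⟩ := hsurj ⟨_, h1⟩
  have : h * a.1 * h⁻¹ = (h * g) * x * (h * g)⁻¹ := congrArg Subtype.val ha
  have e : g * x * g⁻¹ = a.1 := by
    have : h * a.1 * h⁻¹ = h * (g * x * g⁻¹) * h⁻¹ := by rw [this]; group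
    exact (mul_left_cancel (mul_right_cancel this)).symm
  rw [e]; exact a.2

end Cfsg.Agent.S1249
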