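import Cfsg.Statements.S1250

set_option autoImplicit false
open Cfsg

namespace Cfsg.Agent.S1250

/-- Let S be a Sylow p-subgroup of the finite group G, A ≤ S strongly closed in S, and N a normal subgroup. Then the image of A in G ⧸ N is strongly closed in the image of S (which is a Sylow p-subgroup of G ⧸ N). -/
theorem result {G : Type*} [Group G] [Finite G] {p : ℕ} [Fact p.Prime] (S : Sylow p G) (A : Subgroup G) (hA : Cfsg.IsStronglyClosed A (S : Subgroup G)) (N : Subgroup G) [N.Normal] : Cfsg.IsStronglyClosed (A.map (QuotientGroup.mk' N)) ((S : Subgroup G).map (QuotientGroup.mk' N)) := by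
  obtain ⟨hAS, hsc⟩ := hA
  refine ⟨Subgroup.map_mono hAS, ?_⟩
  rintro _ ⟨a, ha, rfl⟩ gbar hmem
  obtain ⟨g, rfl⟩ := QuotientGroup.mk'_surjective N gbar
  obtain ⟨s, hs, hs'⟩ := hmem
  set v := g * a * g⁻¹ with hv
  have hvq : (QuotientGroup.mk' N) g * (QuotientGroup.mk' N) a * ((QuotientGroup.mk' N) g)⁻¹ = (QuotientGroup.mk' N) v := by
    simp [hv]
  rw [hvq] at hs' ⊢
  set H := (S : Subgroup G) ⊔ N with hH
  have hsn : s⁻¹ * v ∈ N := by
    have : (QuotientGroup.mk' N) (s⁻¹ * v) = 1 := by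
      rw [map_mul, map_inv, hs']; simp
    rwa [← MonoidHom.mem_ker, QuotientGroup.ker_mk'] at this
  have hvH : v ∈ H := by
    have : v = s * (s⁻¹ * v) := by group
    rw [this]
    exact Subgroup.mul_mem _ (Subgroup.mem_sup_left hs) (Subgroup.mem_sup_right hsn)
  have hYp : IsPGroup p (((S : Subgroup G).map (MulAut.conj g).toMonoidHom).subgroupOf H) :=
    (S.isPGroup'.map _).comap_subtype
  obtain ⟨Q, hQ⟩ := hYp.exists_le_sylow
  obtain ⟨h, hh⟩ := MulAction.exists_smul_eq H Q (S.subtype le_sup_left)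
  have hvQ : (⟨v, hvH⟩ : H) ∈ (Q : Subgroup H) := by
    apply hQ
    rw [Subgroup.mem_subgroupOf]
    exact ⟨a, hAS ha, by simp [hv]⟩
  have h1 : h * ⟨v, hvH⟩ * h⁻¹ ∈ ((S.subtype le_sup_left : Sylow p H) : Subgroup H) := by
    rw [← hh]
    exact Subgroup.smul_mem_pointwise_smul _ (MulAut.conj h) (Q : Subgroup H) hvQ
  rw [Sylow.coe_subtype, Subgroup.mem_subgroupOf] at h1
  have h1' : (h : G) * v * (h : G)⁻¹ ∈ (S : Subgroup G) := by simpa using h1
  obtain ⟨s', hs'S, n', hn', hsn'⟩ := Subgroup.mem_sup_of_normal_right.mp h.2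
  have h2 : n' * v * n'⁻¹ ∈ (S : Subgroup G) := by
    have : n' * v * n'⁻¹ = s'⁻¹ * ((h : G) * v * (h : G)⁻¹) * s' := by
      rw [← hsn']; group
    rw [this]
    exact Subgroup.mul_mem _ (Subgroup.mul_mem _ (Subgroup.inv_mem _ hs'S) h1') hs'S
  have h3 : (n' * g) * a * (n' * g)⁻¹ ∈ A := by
    apply hsc a ha
    have : (n' * g) * a * (n' * g)⁻¹ = n' * v * n'⁻¹ := by rw [hv]; group
    rw [this]; exact h2
  refine ⟨_, h3, ?_⟩
  have hn1 : (QuotientGroup.mk' N) n' = 1 := by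
    rw [← MonoidHom.mem_ker, QuotientGroup.ker_mk']; exact hn'
  rw [hv]
  simp only [map_mul, map_inv, hn1, one_mul, inv_one, mul_one]

end Cfsg.Agent.S1250
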