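import Cfsg.Statements.S1251
import Cfsg.Agent.Helper8.ZStarGen
import Cfsg.Agent.Lead.Fusion
import Mathlib

set_option autoImplicit false
open Cfsg

namespace Cfsg.Agent.S1251

/-- a `p`-subgroup is conjugate into any given Sylow `p`-subgroup. -/
theorem conj_into_sylow {G : Type*} [Group G] [Finite G] {p : ℕ} [Fact p.Prime] (S : Sylow p G)
    (Q : Subgroup G) (hQ : IsPGroup p Q) : ∃ g : G, ∀ y ∈ Q, g⁻¹ * y * g ∈ (S : Subgroup G) := by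
  obtain ⟨S', hS'⟩ := hQ.exists_le_sylow
  obtain ⟨g, rfl⟩ := MulAction.exists_smul_eq G S S'
  refine ⟨g, fun y hy => ?_⟩
  exact (Cfsg.Agent.Lead.mem_smul_sylow S g y).1 (hS' hy)

/-- decomposition of the join when one factor normalizes the other. -/
theorem sup_decomp {G : Type*} [Group G] (H A : Subgroup G)
    (hAH : A ≤ Subgroup.normalizer (H : Set G)) :
    ∀ x ∈ H ⊔ A, ∃ h ∈ H, ∃ α ∈ A, x = h * α := by
  intro x hx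
  rw [Subgroup.sup_eq_closure] at hx
  induction hx using Subgroup.closure_induction with
  | mem x hx =>
    rcases hx with hx | hx
    · exact ⟨x, hx, 1, A.one_mem, (mul_one x).symm⟩
    · exact ⟨1, H.one_mem, x, hx, (one_mul x).symm⟩
  | one => exact ⟨1, H.one_mem, 1, A.one_mem, (mul_one 1).symm⟩
  | mul x y _ _ hx hy =>
    obtain ⟨h₁, hh₁, α₁, hα₁, rfl⟩ := hx
    obtain ⟨h₂, hh₂, α₂, hα₂, rfl⟩ := hy
    have hn : α₁ * h₂ * α₁⁻¹ ∈ H := (Subgroup.mem_normalizer_iff.1 (hAH hα₁) h₂).1 hh₂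
    refine ⟨h₁ * (α₁ * h₂ * α₁⁻¹), H.mul_mem hh₁ hn, α₁ * α₂, A.mul_mem hα₁ hα₂, ?_⟩
    group
  | inv x _ hx =>
    obtain ⟨h, hh, α, hα, rfl⟩ := hx
    have hn : α⁻¹ * h⁻¹ * α⁻¹⁻¹ ∈ H :=
      (Subgroup.mem_normalizer_iff.1 (hAH (A.inv_mem hα)) h⁻¹).1 (H.inv_mem hh)
    refine ⟨α⁻¹ * h⁻¹ * α⁻¹⁻¹, hn, α⁻¹, A.inv_mem hα, ?_⟩
    group

/-- Let S be a Sylow 2-subgroup of the finite group G and A ≤ S strongly closed in S. If H is a subgroup normalized by A with no nontrivial normal subgroup of odd order and A ∩ H = 1, then A ≤ C_G(H). -/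
theorem result {G : Type*} [Group G] [Finite G] (S : Sylow 2 G) (A : Subgroup G) (hA : Cfsg.IsStronglyClosed A (S : Subgroup G)) (H : Subgroup G) (hAH : A ≤ Subgroup.normalizer (H : Set G)) (hO : Cfsg.oddCore ↥H = ⊥) (hdisj : A ⊓ H = ⊥) : A ≤ Subgroup.centralizer (H : Set G) := by
  classical
  obtain ⟨hAS, hsc⟩ := hA
  have hnorm : ∀ b ∈ A, ∀ k ∈ H, b * k * b⁻¹ ∈ H := fun b hb k hk =>
    (Subgroup.mem_normalizer_iff.1 (hAH hb) k).1 hk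
  have hAp : IsPGroup 2 A := S.isPGroup'.to_le hAS
  -- `X = H ⊔ A` and a Sylow 2-subgroup `T` of `X` containing `A`
  obtain ⟨X, hXdef⟩ : ∃ X : Subgroup G, X = H ⊔ A := ⟨_, rfl⟩
  have hHX : H ≤ X := hXdef ▸ le_sup_left
  have hAX : A ≤ X := hXdef ▸ le_sup_right
  have hXdec : ∀ x ∈ X, ∃ h ∈ H, ∃ α ∈ A, x = h * α := by
    intro x hx; rw [hXdef] at hx; exact sup_decomp H A hAH x hx
  obtain ⟨T, hT⟩ := (hAp.comap_subtype (K := X)).exists_le_sylow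
  have hAT : ∀ b (hb : b ∈ A), (⟨b, hAX hb⟩ : ↥X) ∈ (T : Subgroup ↥X) := fun b hb =>
    hT (Subgroup.mem_subgroupOf.2 hb)
  -- `T` is conjugate into `S`
  have hTp : IsPGroup 2 ((T : Subgroup ↥X).map X.subtype) := T.isPGroup'.map X.subtype
  obtain ⟨g, hg⟩ := conj_into_sylow S _ hTp
  have hgT : ∀ t : ↥X, t ∈ (T : Subgroup ↥X) → g⁻¹ * (t : G) * g ∈ (S : Subgroup G) :=
    fun t ht => hg _ (Subgroup.mem_map_of_mem X.subtype ht)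
  -- `g` normalizes `A`
  have hgA : ∀ b ∈ A, g⁻¹ * b * g ∈ A := by
    intro b hb
    have h1 : g⁻¹ * b * g ∈ (S : Subgroup G) := hgT ⟨b, hAX hb⟩ (hAT b hb)
    have h2 := hsc b hb g⁻¹ (by rw [inv_inv]; exact h1)
    rwa [inv_inv] at h2
  have hgA' : ∀ c ∈ A, g * c * g⁻¹ ∈ A := by
    intro c hc
    have hfinj : Function.Injective
        (fun b : ↥A => (⟨g⁻¹ * (b : G) * g, hgA b b.2⟩ : ↥A)) := by
      intro b₁ b₂ h
      have h' : g⁻¹ * (b₁ : G) * g = g⁻¹ * (b₂ : G) * g := congrArg Subtype.val h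
      exact Subtype.ext (mul_left_cancel (mul_right_cancel h'))
    obtain ⟨b, hb⟩ := (Finite.injective_iff_surjective.1 hfinj) ⟨c, hc⟩
    have hb' : g⁻¹ * (b : G) * g = c := congrArg Subtype.val hb
    have h3 : g * c * g⁻¹ = (b : G) := by rw [← hb']; group
    rw [h3]; exact b.2
  -- strong closure of `A` in `T`
  have hscT : ∀ b ∈ A, ∀ w : G, ∀ hw : w * b * w⁻¹ ∈ X,
      (⟨w * b * w⁻¹, hw⟩ : ↥X) ∈ (T : Subgroup ↥X) → w * b * w⁻¹ ∈ A := by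
    intro b hb w hw hwT
    have h1 : g⁻¹ * (w * b * w⁻¹) * g ∈ (S : Subgroup G) := hgT _ hwT
    have h2 : (g⁻¹ * w) * b * (g⁻¹ * w)⁻¹ ∈ (S : Subgroup G) := by
      have h0 : (g⁻¹ * w) * b * (g⁻¹ * w)⁻¹ = g⁻¹ * (w * b * w⁻¹) * g := by group
      rw [h0]; exact h1
    have h3 := hsc b hb (g⁻¹ * w) h2
    have h4 := hgA' _ h3
    have h5 : g * ((g⁻¹ * w) * b * (g⁻¹ * w)⁻¹) * g⁻¹ = w * b * w⁻¹ := by group
    rw [h5] at h4; exact h4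
  have hinter : ∀ x, x ∈ A → x ∈ H → x = 1 := by
    intro x hxA hxH
    have h0 : x ∈ A ⊓ H := ⟨hxA, hxH⟩
    rw [hdisj] at h0
    exact Subgroup.mem_bot.1 h0
  have hconjX : ∀ b ∈ A, ∀ k ∈ H, k * b * k⁻¹ ∈ X := fun b hb k hk =>
    X.mul_mem (X.mul_mem (hHX hk) (hAX hb)) (X.inv_mem (hHX hk))
  have hiv : ∀ b (hb : b ∈ A) k (hk : k ∈ H),
      (⟨k * b * k⁻¹, hconjX b hb k hk⟩ : ↥X) ∈ (T : Subgroup ↥X) → k * b * k⁻¹ = b := by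
    intro b hb k hk hT'
    have h1 : k * b * k⁻¹ ∈ A := hscT b hb k _ hT'
    have h2 : k * b * k⁻¹ * b⁻¹ ∈ H := by
      have h0 : k * b * k⁻¹ * b⁻¹ = k * (b * k⁻¹ * b⁻¹) := by group
      rw [h0]
      exact H.mul_mem hk (hnorm b hb _ (H.inv_mem hk))
    have h3 := hinter _ (A.mul_mem h1 (A.inv_mem hb)) h2
    exact mul_inv_eq_one.1 h3
  -- now fix `a ∈ A` and `h₀ ∈ H`
  intro a ha
  rw [Subgroup.mem_centralizer_iff]
  intro h₀ hh₀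
  have hZA : Subgroup.zpowers a ≤ A := (Subgroup.zpowers_le).2 ha
  obtain ⟨Y, hYdef⟩ : ∃ Y : Subgroup G, Y = H ⊔ Subgroup.zpowers a := ⟨_, rfl⟩
  have hHY : H ≤ Y := hYdef ▸ le_sup_left
  have haY : a ∈ Y := by
    rw [hYdef]
    exact (le_sup_right : Subgroup.zpowers a ≤ H ⊔ Subgroup.zpowers a) (Subgroup.mem_zpowers a)
  have hYX : Y ≤ X := by rw [hYdef, hXdef]; exact sup_le_sup_left hZA H
  have hYdec : ∀ y ∈ Y, ∃ k ∈ H, ∃ α ∈ Subgroup.zpowers a, y = k * α := by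
    intro y hy; rw [hYdef] at hy
    exact sup_decomp H (Subgroup.zpowers a) (hZA.trans hAH) y hy
  -- a Sylow 2-subgroup `P` of `Y` containing `a`
  have hZp : IsPGroup 2 (Subgroup.zpowers a) := hAp.to_le hZA
  obtain ⟨P, hP⟩ := (hZp.comap_subtype (K := Y)).exists_le_sylow
  have haP : (⟨a, haY⟩ : ↥Y) ∈ (P : Subgroup ↥Y) :=
    hP (Subgroup.mem_subgroupOf.2 (Subgroup.mem_zpowers a))
  -- `P` is conjugate into `T` inside `X`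
  have hPp : IsPGroup 2 ((P : Subgroup ↥Y).map (Subgroup.inclusion hYX)) := P.isPGroup'.map _
  obtain ⟨w, hw⟩ := conj_into_sylow T _ hPp
  have hwP : ∀ y : ↥Y, y ∈ (P : Subgroup ↥Y) →
      w⁻¹ * (Subgroup.inclusion hYX y) * w ∈ (T : Subgroup ↥X) := fun y hy =>
    hw _ (Subgroup.mem_map_of_mem _ hy)
  obtain ⟨h, hh, α, hα, hwdec⟩ := hXdec (w : G) w.2
  have hhP : ∀ y (hy : y ∈ Y), (⟨y, hy⟩ : ↥Y) ∈ (P : Subgroup ↥Y) →
      ∀ hX' : h⁻¹ * y * h ∈ X, (⟨h⁻¹ * y * h, hX'⟩ : ↥X) ∈ (T : Subgroup ↥X) := by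
    intro y hy hyP hX'
    have h1 := hwP ⟨y, hy⟩ hyP
    have h2 : (⟨α, hAX hα⟩ : ↥X) * (w⁻¹ * (Subgroup.inclusion hYX ⟨y, hy⟩) * w) *
        (⟨α, hAX hα⟩ : ↥X)⁻¹ ∈ (T : Subgroup ↥X) :=
      Subgroup.mul_mem _ (Subgroup.mul_mem _ (hAT α hα) h1) (Subgroup.inv_mem _ (hAT α hα))
    have h3 : (⟨h⁻¹ * y * h, hX'⟩ : ↥X) = (⟨α, hAX hα⟩ : ↥X) *
        (w⁻¹ * (Subgroup.inclusion hYX ⟨y, hy⟩) * w) * (⟨α, hAX hα⟩ : ↥X)⁻¹ := by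
      apply Subtype.ext
      show h⁻¹ * y * h = α * ((w : G)⁻¹ * y * (w : G)) * α⁻¹
      rw [hwdec]; group
    rw [h3]; exact h2
  -- weak closure of the elements of `A ∩ P` under `H`
  have hwc1 : ∀ c (hcA : c ∈ A) (hcY : c ∈ Y), (⟨c, hcY⟩ : ↥Y) ∈ (P : Subgroup ↥Y) →
      ∀ k (hk : k ∈ H) (hkY : k * c * k⁻¹ ∈ Y),
      (⟨k * c * k⁻¹, hkY⟩ : ↥Y) ∈ (P : Subgroup ↥Y) → k * c * k⁻¹ = c := by
    intro c hcA hcY hcP k hk hkY hkP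
    have hX1 : h⁻¹ * (k * c * k⁻¹) * h ∈ X :=
      X.mul_mem (X.mul_mem (X.inv_mem (hHX hh)) (hYX hkY)) (hHX hh)
    have hX2 : h⁻¹ * c * h ∈ X :=
      X.mul_mem (X.mul_mem (X.inv_mem (hHX hh)) (hAX hcA)) (hHX hh)
    have hT1 := hhP _ hkY hkP hX1
    have hT2 := hhP _ hcY hcP hX2
    have e1 : (h⁻¹ * k) * c * (h⁻¹ * k)⁻¹ = c := by
      apply hiv c hcA (h⁻¹ * k) (H.mul_mem (H.inv_mem hh) hk)
      have h0 : (⟨(h⁻¹ * k) * c * (h⁻¹ * k)⁻¹,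
          hconjX _ hcA _ (H.mul_mem (H.inv_mem hh) hk)⟩ : ↥X) =
          ⟨h⁻¹ * (k * c * k⁻¹) * h, hX1⟩ := Subtype.ext (by group)
      rw [h0]; exact hT1
    have e2 : h⁻¹ * c * h⁻¹⁻¹ = c := by
      apply hiv c hcA h⁻¹ (H.inv_mem hh)
      have h0 : (⟨h⁻¹ * c * h⁻¹⁻¹, hconjX _ hcA _ (H.inv_mem hh)⟩ : ↥X) =
          ⟨h⁻¹ * c * h, hX2⟩ := Subtype.ext (by group)
      rw [h0]; exact hT2
    calc k * c * k⁻¹ = h * ((h⁻¹ * k) * c * (h⁻¹ * k)⁻¹) * h⁻¹ := by group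
      _ = h * c * h⁻¹ := by rw [e1]
      _ = h * (h⁻¹ * c * h⁻¹⁻¹) * h⁻¹ := by rw [e2]
      _ = c := by group
  -- weak closure of the powers of `a` in `P` with respect to `Y`
  have hwc : ∀ (i : ℕ) (y : ↥Y), y * (⟨a, haY⟩ : ↥Y) ^ i * y⁻¹ ∈ (P : Subgroup ↥Y) →
      y * (⟨a, haY⟩ : ↥Y) ^ i * y⁻¹ = (⟨a, haY⟩ : ↥Y) ^ i := by
    intro i y hy
    obtain ⟨k, hk, β, hβ, hydec⟩ := hYdec (y : G) y.2
    obtain ⟨j, hj⟩ := Subgroup.mem_zpowers_iff.1 hβ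
    have hcomm : β * a ^ i * β⁻¹ = a ^ i := by
      have hc : Commute β (a ^ i) := by
        rw [← hj]; exact ((Commute.refl a).zpow_left j).pow_right i
      rw [hc.eq, mul_assoc, mul_inv_cancel, mul_one]
    have hval : (y : G) * a ^ i * (y : G)⁻¹ = k * a ^ i * k⁻¹ := by
      rw [hydec]
      generalize a ^ i = c at hcomm ⊢
      calc k * β * c * (k * β)⁻¹ = k * (β * c * β⁻¹) * k⁻¹ := by group
        _ = k * c * k⁻¹ := by rw [hcomm]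
    have hkY : k * a ^ i * k⁻¹ ∈ Y :=
      Y.mul_mem (Y.mul_mem (hHY hk) (Y.pow_mem haY i)) (Y.inv_mem (hHY hk))
    have heq : y * (⟨a, haY⟩ : ↥Y) ^ i * y⁻¹ = (⟨k * a ^ i * k⁻¹, hkY⟩ : ↥Y) :=
      Subtype.ext hval
    have hxi : (⟨a, haY⟩ : ↥Y) ^ i = (⟨a ^ i, Y.pow_mem haY i⟩ : ↥Y) := Subtype.ext rfl
    have haiP : (⟨a ^ i, Y.pow_mem haY i⟩ : ↥Y) ∈ (P : Subgroup ↥Y) := by
      rw [← hxi]; exact Subgroup.pow_mem _ haP i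
    rw [heq] at hy ⊢
    have h1 := hwc1 (a ^ i) (A.pow_mem ha i) (Y.pow_mem haY i) haiP k hk hkY hy
    rw [hxi]
    exact Subtype.ext h1
  have hz := Cfsg.Agent.Helper8.zstar_wc P (⟨a, haY⟩ : ↥Y) haP hwc
  have hz0 := hz ⟨h₀, hHY hh₀⟩
  -- the trace of `O(Y)` on `H` is a normal subgroup of odd order of `H`
  have hNn : ((Cfsg.oddCore ↥Y).comap (Subgroup.inclusion hHY)).Normal :=
    Subgroup.Normal.comap (Cfsg.pPrimeCore_normal 2 ↥Y) _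
  have hNodd : (Nat.card ((Cfsg.oddCore ↥Y).comap (Subgroup.inclusion hHY))).Coprime 2 := by
    have h1 : Nat.card ((Cfsg.oddCore ↥Y).comap (Subgroup.inclusion hHY)) ∣
        Nat.card (Cfsg.oddCore ↥Y) :=
      Subgroup.card_comap_dvd_of_injective _ _ (Subgroup.inclusion_injective hHY)
    exact Nat.Coprime.coprime_dvd_left h1 (Cfsg.Agent.Helper9.pPrimeCore_coprime 2)
  have hNle : (Cfsg.oddCore ↥Y).comap (Subgroup.inclusion hHY) ≤ Cfsg.oddCore ↥H :=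
    le_sSup ⟨hNn, hNodd⟩
  rw [hO] at hNle
  have hcH : a * h₀ * a⁻¹ * h₀⁻¹ ∈ H := H.mul_mem (hnorm a ha h₀ hh₀) (H.inv_mem hh₀)
  have hmem : (⟨a * h₀ * a⁻¹ * h₀⁻¹, hcH⟩ : ↥H) ∈
      (Cfsg.oddCore ↥Y).comap (Subgroup.inclusion hHY) := by
    rw [Subgroup.mem_comap]
    have h0 : Subgroup.inclusion hHY ⟨a * h₀ * a⁻¹ * h₀⁻¹, hcH⟩ =
        (⟨a, haY⟩ : ↥Y) * ⟨h₀, hHY hh₀⟩ * (⟨a, haY⟩ : ↥Y)⁻¹ * (⟨h₀, hHY hh₀⟩ : ↥Y)⁻¹ :=
      Subtype.ext rfl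
    rw [h0]; exact hz0
  have h1 := Subgroup.mem_bot.1 (hNle hmem)
  have h2 : a * h₀ * a⁻¹ * h₀⁻¹ = 1 := congrArg Subtype.val h1
  have h3 : a * h₀ * a⁻¹ = h₀ := mul_inv_eq_one.1 h2
  have h4 : a * h₀ = h₀ * a := mul_inv_eq_iff_eq_mul.1 h3
  exact h4.symm

end Cfsg.Agent.S1251
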