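import Cfsg.Statements.S1340
import Cfsg.Agent.Helper9.PComp3
import Cfsg.Agent.Helper9.Fitting
import Cfsg.Agent.Helper2.SLGen

set_option autoImplicit false
open Cfsg

namespace Cfsg.Agent.S1340

open Matrix

section blk

variable {F : Type*} [Field F] {m : ℕ}

/-- the block diagonal matrix `diag(a, A)` indexed by `Fin (m+1)` -/
def blk (a : F) (A : Matrix (Fin m) (Fin m) F) : Matrix (Fin (m + 1)) (Fin (m + 1)) F :=
  Matrix.of fun i j =>
    Fin.cases (Fin.cases a (fun _ => 0) j) (fun i' => Fin.cases 0 (fun j' => A i' j') j) i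

@[simp] theorem blk_zero_zero (a : F) (A : Matrix (Fin m) (Fin m) F) : blk a A 0 0 = a := by
  simp [blk]

@[simp] theorem blk_zero_succ (a : F) (A : Matrix (Fin m) (Fin m) F) (j : Fin m) :
    blk a A 0 j.succ = 0 := by
  simp [blk]

@[simp] theorem blk_succ_zero (a : F) (A : Matrix (Fin m) (Fin m) F) (i : Fin m) :
    blk a A i.succ 0 = 0 := by
  simp [blk]

@[simp] theorem blk_succ_succ (a : F) (A : Matrix (Fin m) (Fin m) F) (i j : Fin m) :
    blk a A i.succ j.succ = A i j := by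
  simp [blk]

theorem blk_mul (a b : F) (A B : Matrix (Fin m) (Fin m) F) :
    blk a A * blk b B = blk (a * b) (A * B) := by
  ext i j
  rw [Matrix.mul_apply, Fin.sum_univ_succ]
  refine Fin.cases ?_ (fun i' => ?_) i <;> refine Fin.cases ?_ (fun j' => ?_) j <;>
    simp [Matrix.mul_apply]

theorem blk_one : blk (1 : F) (1 : Matrix (Fin m) (Fin m) F) = 1 := by
  have h0 : ∀ j : Fin m, (0 : Fin (m + 1)) ≠ j.succ := fun j => (Fin.succ_ne_zero j).symm
  ext i j
  refine Fin.cases ?_ (fun i' => ?_) i <;> refine Fin.cases ?_ (fun j' => ?_) j <;>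
    simp [Matrix.one_apply, Fin.succ_ne_zero, h0]

theorem blk_inj {a b : F} {A B : Matrix (Fin m) (Fin m) F} (h : blk a A = blk b B) :
    a = b ∧ A = B := by
  refine ⟨?_, ?_⟩
  · have := congrFun (congrFun h 0) 0
    simpa using this
  · ext i j
    have := congrFun (congrFun h i.succ) j.succ
    simpa using this

theorem det_blk (a : F) (A : Matrix (Fin m) (Fin m) F) : (blk a A).det = a * A.det := by
  rw [Matrix.det_succ_row_zero, Fin.sum_univ_succ]
  have h0 : (blk a A).submatrix Fin.succ Fin.succ = A := by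
    ext i j
    simp
  simp [h0]

theorem mul_blk_apply_succ (M : Matrix (Fin (m + 1)) (Fin (m + 1)) F) (a : F) (i : Fin (m + 1))
    (j : Fin m) : (M * blk a (1 : Matrix (Fin m) (Fin m) F)) i j.succ = M i j.succ := by
  rw [Matrix.mul_apply, Fin.sum_univ_succ]
  simp [Matrix.one_apply]

theorem mul_blk_apply_zero (M : Matrix (Fin (m + 1)) (Fin (m + 1)) F) (a : F) (i : Fin (m + 1)) :
    (M * blk a (1 : Matrix (Fin m) (Fin m) F)) i 0 = M i 0 * a := by
  rw [Matrix.mul_apply, Fin.sum_univ_succ]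
  simp

theorem blk_mul_apply_zero (M : Matrix (Fin (m + 1)) (Fin (m + 1)) F) (a : F) (j : Fin (m + 1)) :
    (blk a (1 : Matrix (Fin m) (Fin m) F) * M) 0 j = a * M 0 j := by
  rw [Matrix.mul_apply, Fin.sum_univ_succ]
  simp

theorem blk_mul_apply_succ (M : Matrix (Fin (m + 1)) (Fin (m + 1)) F) (a : F) (i : Fin m)
    (j : Fin (m + 1)) : (blk a (1 : Matrix (Fin m) (Fin m) F) * M) i.succ j = M i.succ j := by
  rw [Matrix.mul_apply, Fin.sum_univ_succ]
  simp [Matrix.one_apply]

theorem comm_blk (h2 : (2 : F) ≠ 0) (M : Matrix (Fin (m + 1)) (Fin (m + 1)) F)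
    (h : M * blk (-1 : F) (1 : Matrix (Fin m) (Fin m) F)
      = blk (-1 : F) (1 : Matrix (Fin m) (Fin m) F) * M) :
    M = blk (M 0 0) (M.submatrix Fin.succ Fin.succ) := by
  have key : ∀ x : F, 2 * x = 0 → x = 0 := by
    intro x hx
    rcases mul_eq_zero.mp hx with h | h
    · exact absurd h h2
    · exact h
  ext i j
  refine Fin.cases ?_ (fun i' => ?_) i <;> refine Fin.cases ?_ (fun j' => ?_) j
  · simp
  · have h1 := congrFun (congrFun h 0) j'.succ
    rw [mul_blk_apply_succ, blk_mul_apply_zero] at h1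
    rw [blk_zero_succ]
    exact key _ (by linear_combination h1)
  · have h1 := congrFun (congrFun h i'.succ) 0
    rw [mul_blk_apply_zero, blk_mul_apply_succ] at h1
    rw [blk_succ_zero]
    exact key _ (by linear_combination (-1 : F) * h1)
  · simp

/-- the involution `diag(-1, 1, ..., 1)` -/
def tinv (F : Type*) [Field F] (m : ℕ) : GL (Fin (m + 1)) F :=
  ⟨blk (-1) 1, blk (-1) 1, by rw [blk_mul]; simp [blk_one], by rw [blk_mul]; simp [blk_one]⟩

/-- the embedding `A ↦ diag(1, A)` of `SL_m` into `GL_{m+1}` -/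
def emb (F : Type*) [Field F] (m : ℕ) :
    Matrix.SpecialLinearGroup (Fin m) F →* GL (Fin (m + 1)) F where
  toFun A := ⟨blk 1 A.1, blk 1 (A⁻¹).1,
    by rw [blk_mul, ← Matrix.SpecialLinearGroup.coe_mul, mul_inv_cancel]; simp [blk_one],
    by rw [blk_mul, ← Matrix.SpecialLinearGroup.coe_mul, inv_mul_cancel]; simp [blk_one]⟩
  map_one' := Units.ext (by simp [blk_one])
  map_mul' A B := Units.ext (by simp [blk_mul])

theorem emb_val (A : Matrix.SpecialLinearGroup (Fin m) F) :
    ((emb F m A : GL (Fin (m + 1)) F) : Matrix (Fin (m + 1)) (Fin (m + 1)) F) = blk 1 A.1 := rfl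

theorem tinv_val : ((tinv F m : GL (Fin (m + 1)) F) : Matrix (Fin (m + 1)) (Fin (m + 1)) F)
    = blk (-1) 1 := rfl

theorem emb_mem (A : Matrix.SpecialLinearGroup (Fin m) F) :
    emb F m A ∈ Subgroup.centralizer ({tinv F m} : Set (GL (Fin (m + 1)) F)) := by
  rw [Subgroup.mem_centralizer_iff]
  intro h hh
  rw [Set.mem_singleton_iff] at hh
  subst hh
  apply Units.ext
  rw [Units.val_mul, Units.val_mul, emb_val, tinv_val, blk_mul, blk_mul]
  simp

/-- the embedding into the centralizer of the involution -/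
def phi (F : Type*) [Field F] (m : ℕ) : Matrix.SpecialLinearGroup (Fin m) F →*
    ↥(Subgroup.centralizer ({tinv F m} : Set (GL (Fin (m + 1)) F))) :=
  (emb F m).codRestrict _ emb_mem

theorem phi_val (A : Matrix.SpecialLinearGroup (Fin m) F) :
    (((phi F m A : ↥(Subgroup.centralizer ({tinv F m} : Set (GL (Fin (m + 1)) F)))) :
      GL (Fin (m + 1)) F) : Matrix (Fin (m + 1)) (Fin (m + 1)) F) = blk 1 A.1 := rfl

theorem phi_injective : Function.Injective (phi F m) := by
  intro A B h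
  have h' : blk (1 : F) A.1 = blk 1 B.1 := by
    rw [← phi_val, ← phi_val, h]
  exact Subtype.ext (blk_inj h').2

theorem cent_blk (h2 : (2 : F) ≠ 0)
    (g : ↥(Subgroup.centralizer ({tinv F m} : Set (GL (Fin (m + 1)) F)))) :
    ∃ (a : F) (D : Matrix (Fin m) (Fin m) F),
      ((g : GL (Fin (m + 1)) F) : Matrix (Fin (m + 1)) (Fin (m + 1)) F) = blk a D := by
  have h0 := (Subgroup.mem_centralizer_iff.mp g.2) (tinv F m) (Set.mem_singleton _)
  have h' := congrArg Units.val h0
  rw [Units.val_mul, Units.val_mul, tinv_val] at h'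
  exact ⟨_, _, comm_blk h2 _ h'.symm⟩

theorem phi_range_normal (h2 : (2 : F) ≠ 0) : (phi F m).range.Normal := by
  constructor
  rintro _ ⟨A, rfl⟩ g
  obtain ⟨a, D, hD⟩ := cent_blk h2 g
  obtain ⟨a', D', hD'⟩ := cent_blk h2 g⁻¹
  have hmul : blk a D * blk a' D' = blk 1 1 := by
    rw [← hD, ← hD', blk_one, ← Units.val_mul, ← Subgroup.coe_mul, mul_inv_cancel,
      Subgroup.coe_one, Units.val_one]
  rw [blk_mul] at hmul
  obtain ⟨haa, hDD⟩ := blk_inj hmul
  have hdet : (D * A.1 * D').det = 1 := by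
    rw [Matrix.det_mul, Matrix.det_mul, A.2, mul_one, ← Matrix.det_mul, hDD, Matrix.det_one]
  refine ⟨(⟨D * A.1 * D', hdet⟩ : Matrix.SpecialLinearGroup (Fin m) F), ?_⟩
  apply Subtype.ext
  apply Units.ext
  have e1 : (((phi F m (⟨D * A.1 * D', hdet⟩ : Matrix.SpecialLinearGroup (Fin m) F) :
      ↥(Subgroup.centralizer ({tinv F m} : Set (GL (Fin (m + 1)) F)))) :
      GL (Fin (m + 1)) F) : Matrix (Fin (m + 1)) (Fin (m + 1)) F) = blk 1 (D * A.1 * D') := rfl
  have e2 : (((g * phi F m A * g⁻¹ :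
      ↥(Subgroup.centralizer ({tinv F m} : Set (GL (Fin (m + 1)) F)))) :
      GL (Fin (m + 1)) F) : Matrix (Fin (m + 1)) (Fin (m + 1)) F)
      = ((g : GL (Fin (m + 1)) F) : Matrix (Fin (m + 1)) (Fin (m + 1)) F) * blk 1 A.1 *
        (((g⁻¹ : ↥(Subgroup.centralizer ({tinv F m} : Set (GL (Fin (m + 1)) F)))) :
          GL (Fin (m + 1)) F) : Matrix (Fin (m + 1)) (Fin (m + 1)) F) := rfl
  refine e1.trans (Eq.trans ?_ e2.symm)
  rw [hD, hD', blk_mul, blk_mul, mul_one, haa]

/-- a diagonal vector with two entries `-1` -/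
def dvec (F : Type*) [Field F] (k : ℕ) : Fin (k + 2) → F :=
  Fin.cons (-1) (Fin.cons (-1) (fun _ => 1))

theorem dvec_mul (k : ℕ) (i : Fin (k + 2)) : dvec F k i * dvec F k i = 1 := by
  refine Fin.cases ?_ (fun i' => ?_) i
  · simp [dvec]
  · refine Fin.cases ?_ (fun j => ?_) i'
    · simp [dvec]
    · simp [dvec]

theorem dvec_prod (k : ℕ) : ∏ i, dvec F k i = 1 := by
  simp [Fin.prod_univ_succ, dvec]

/-- an involution of `SL_{k+2}` -/
def inv0 (F : Type*) [Field F] (k : ℕ) : Matrix.SpecialLinearGroup (Fin (k + 2)) F :=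
  ⟨Matrix.diagonal (dvec F k), by rw [Matrix.det_diagonal]; exact dvec_prod k⟩

theorem inv0_sq (k : ℕ) : inv0 F k * inv0 F k = 1 := by
  apply Subtype.ext
  rw [Matrix.SpecialLinearGroup.coe_mul]
  show Matrix.diagonal (dvec F k) * Matrix.diagonal (dvec F k) = 1
  rw [Matrix.diagonal_mul_diagonal]
  have : (fun i => dvec F k i * dvec F k i) = fun _ => 1 := funext (dvec_mul k)
  rw [this]
  exact Matrix.diagonal_one

theorem inv0_ne (k : ℕ) (hneg : (-1 : F) ≠ 1) : inv0 F k ≠ 1 := by
  intro h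
  have h' : Matrix.diagonal (dvec F k) 0 0 = (1 : Matrix (Fin (k + 2)) (Fin (k + 2)) F) 0 0 :=
    congrArg (fun x : Matrix.SpecialLinearGroup (Fin (k + 2)) F => x.1 0 0) h
  rw [Matrix.diagonal_apply_eq, Matrix.one_apply_eq] at h'
  apply hneg
  simpa [dvec] using h'

theorem field_cond4 (hF : 4 ≤ Nat.card F) : ∃ a : F, a ≠ 0 ∧ a ^ 2 ≠ 1 := by
  have : Finite F := (Nat.card_pos_iff.1 (by omega)).2
  obtain ⟨x, hx⟩ : IsCyclic Fˣ := by infer_instance
  refine ⟨x, Units.ne_zero x, fun h ↦ ?_⟩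
  grw [Nat.card_eq_card_units_add_one F, ← orderOf_eq_card_of_forall_mem_zpowers hx,
    orderOf_le_of_pow_eq_one zero_lt_two (Units.ext <| by simpa using h)] at hF
  omega

end blk

/-- Let F be a finite field of odd order and n ≥ 3 with (n, |F|) ≠ (3, 3). Then GL(n, F) has a non-central involution t such that C(t) / O(C(t)) has a component. -/
theorem result {F : Type*} [Field F] [Fintype F] [DecidableEq F] (hF : Odd (Fintype.card F)) (n : ℕ) (hn : 3 ≤ n) (h33 : ¬ (n = 3 ∧ Fintype.card F = 3)) : ∃ t : Matrix.GeneralLinearGroup (Fin n) F, orderOf t = 2 ∧ t ∉ Subgroup.center (Matrix.GeneralLinearGroup (Fin n) F) ∧ Cfsg.HasComponent (↥(Subgroup.centralizer ({t} : Set (Matrix.GeneralLinearGroup (Fin n) F))) ⧸ Cfsg.oddCore ↥(Subgroup.centralizer ({t} : Set (Matrix.GeneralLinearGroup (Fin n) F)))) := by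
  classical
  obtain ⟨k, rfl⟩ : ∃ k, n = k + 2 + 1 := ⟨n - 3, by omega⟩
  have hchar : ringChar F ≠ 2 := by
    intro h
    rw [FiniteField.even_card_iff_char_two] at h
    rcases hF with ⟨r, hr⟩
    omega
  have h2 : (2 : F) ≠ 0 := Ring.two_ne_zero hchar
  have hneg : (-1 : F) ≠ 1 := Ring.neg_one_ne_one_of_char_ne_two hchar
  have hL : IsQuasisimple (Matrix.SpecialLinearGroup (Fin (k + 2)) F) := by
    by_cases hk : k = 0
    · subst hk
      have hcard : 4 ≤ Nat.card F := by
        rw [Nat.card_eq_fintype_card]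
        have h1 : Fintype.card F ≠ 3 := fun h => h33 ⟨rfl, h⟩
        have h1' : 1 < Fintype.card F := Fintype.one_lt_card
        rcases hF with ⟨r, hr⟩
        omega
      obtain ⟨a, ha, hasq⟩ := field_cond4 hcard
      exact ⟨⟨Matrix.SL2.commutator_eq_top ha hasq⟩,
        Matrix.ProjectiveSpecialLinearGroup.rank_two_simple hcard⟩
    · have h3 : 3 ≤ Fintype.card (Fin (k + 2)) := by rw [Fintype.card_fin]; omega
      exact ⟨⟨Helper2.SL_commutator_eq_top h3⟩, Helper2.PSL_simple_of_three_le h3⟩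
  refine ⟨tinv F (k + 2), ?_, ?_, ?_⟩
  · refine orderOf_eq_prime ?_ ?_
    · apply Units.ext
      rw [pow_two, Units.val_mul, tinv_val, blk_mul]
      simp [blk_one]
    · intro h
      have h00 : (blk (-1 : F) (1 : Matrix (Fin (k + 2)) (Fin (k + 2)) F)) 0 0
          = (1 : Matrix (Fin (k + 2 + 1)) (Fin (k + 2 + 1)) F) 0 0 :=
        congrArg (fun x : GL (Fin (k + 2 + 1)) F => x.val 0 0) h
      rw [blk_zero_zero, Matrix.one_apply_eq] at h00
      exact hneg h00
  · intro hc
    have hne : (0 : Fin (k + 2 + 1)) ≠ Fin.succ 0 := (Fin.succ_ne_zero _).symm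
    have hdet : (Matrix.transvection (0 : Fin (k + 2 + 1)) (Fin.succ 0) (1 : F)).det ≠ 0 := by
      rw [Matrix.det_transvection_of_ne _ _ hne]
      exact one_ne_zero
    have hcomm := Subgroup.mem_center_iff.mp hc
      (Matrix.GeneralLinearGroup.mkOfDetNeZero _ hdet)
    have h' : Matrix.transvection (0 : Fin (k + 2 + 1)) (Fin.succ 0) (1 : F) * blk (-1) 1
        = blk (-1) 1 * Matrix.transvection (0 : Fin (k + 2 + 1)) (Fin.succ 0) (1 : F) :=
      congrArg Units.val hcomm
    have hb := comm_blk h2 _ h'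
    have h01 := congrFun (congrFun hb 0) (Fin.succ 0)
    rw [blk_zero_succ] at h01
    have h1 : Matrix.transvection (0 : Fin (k + 2 + 1)) (Fin.succ 0) (1 : F) 0 (Fin.succ 0) = 1 := by
      simp [Matrix.transvection]
    rw [h1] at h01
    exact one_ne_zero h01
  · have hker : ((QuotientGroup.mk' (Cfsg.oddCore
        ↥(Subgroup.centralizer ({tinv F (k + 2)} : Set (GL (Fin (k + 2 + 1)) F))))).comp
        (phi F (k + 2))).ker ≠ ⊤ := by
      intro h
      have h1 : inv0 F k ∈ ((QuotientGroup.mk' (Cfsg.oddCore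
        ↥(Subgroup.centralizer ({tinv F (k + 2)} : Set (GL (Fin (k + 2 + 1)) F))))).comp
        (phi F (k + 2))).ker := by rw [h]; exact Subgroup.mem_top _
      rw [MonoidHom.mem_ker, MonoidHom.comp_apply, QuotientGroup.mk'_apply,
        QuotientGroup.eq_one_iff] at h1
      have hord : orderOf (phi F (k + 2) (inv0 F k)) = 2 := by
        refine orderOf_eq_prime ?_ ?_
        · rw [pow_two, ← map_mul, inv0_sq, map_one]
        · intro h
          exact inv0_ne k hneg (phi_injective (h.trans (map_one _).symm))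
      have hdvd : 2 ∣ Nat.card ↥(Cfsg.oddCore
          ↥(Subgroup.centralizer ({tinv F (k + 2)} : Set (GL (Fin (k + 2 + 1)) F)))) := by
        have := Subgroup.orderOf_dvd_natCard _ h1
        rwa [hord] at this
      have hcop : (Nat.card ↥(Cfsg.oddCore
          ↥(Subgroup.centralizer ({tinv F (k + 2)} : Set (GL (Fin (k + 2 + 1)) F))))).Coprime 2 :=
        Helper9.pPrimeCore_coprime 2
      have := Nat.Coprime.eq_one_of_dvd hcop.symm hdvd
      omega
    have hLq := Helper9.quasi_quotient hL _ hker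
    have hK := Helper9.quasi_of_mulEquiv (QuotientGroup.quotientKerEquivRange _) hLq
    have hnorm : ((QuotientGroup.mk' (Cfsg.oddCore
        ↥(Subgroup.centralizer ({tinv F (k + 2)} : Set (GL (Fin (k + 2 + 1)) F))))).comp
        (phi F (k + 2))).range.Normal := by
      rw [← MonoidHom.map_range]
      exact (phi_range_normal h2).map _ (QuotientGroup.mk'_surjective _)
    exact ⟨_, hnorm.isSubnormal, hK⟩

end Cfsg.Agent.S1340
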