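import Cfsg.Statements.S1449
import Cfsg.Agent.Helper10.Rank2Act
-- import your own Cfsg.Agent.* helpers here

set_option autoImplicit false
open Cfsg

namespace Cfsg.Agent.S1449



/-- Let G be a finite group, p an odd prime, R a p-subgroup with no elementary abelian subgroup of order p ^ 3, and A a solvable subgroup of odd order normalizing R with A ∩ C_G(R) = 1. Then the derived subgroup [A, A] is a p-group. -/
theorem result {G : Type*} [Group G] [Finite G] (p : ℕ) [Fact p.Prime] (hp : p ≠ 2) (R A : Subgroup G) (hR : IsPGroup p R) (hr : Cfsg.PRankLE p 2 R)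
    (hA : (A ≤ Subgroup.normalizer (R : Set G))) (hAs : Group.IsSolvable A) (hAodd : Odd (Nat.card A)) (hfaith : A ⊓ Subgroup.centralizer (R : Set G) = ⊥) :
    IsPGroup p ↥⁅A, A⁆ := by
  classical
  obtain ⟨ψ, hψ⟩ : ∃ ψ : A →* MulAut R,
      ∀ (a : A) (r : R), ((ψ a r : R) : G) = (a : G) * r * (a : G)⁻¹ :=
    ⟨(Subgroup.normalizerMonoidHom R).comp (Subgroup.inclusion hA), fun a r => rfl⟩
  have key := Cfsg.Agent.Helper10.rank2_derived_pgroup hp hR hr hAodd ψ
  intro g
  have h1 : (g : G) ∈ (commutator ↥A).map A.subtype := by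
    rw [Subgroup.map_subtype_commutator]; exact g.2
  obtain ⟨g', hg', hgg⟩ := h1
  obtain ⟨k, hk⟩ := key g' hg'
  refine ⟨k, ?_⟩
  apply Subtype.ext
  have h2 : ((g' ^ p ^ k : A) : G) ∈ A ⊓ Subgroup.centralizer (R : Set G) := by
    refine ⟨(g' ^ p ^ k).2, ?_⟩
    show ((g' ^ p ^ k : A) : G) ∈ Subgroup.centralizer (R : Set G)
    rw [Subgroup.mem_centralizer_iff]
    intro r hr'
    have h3 : ψ (g' ^ p ^ k) = 1 := by rw [map_pow, hk]
    have h4 := hψ (g' ^ p ^ k) ⟨r, hr'⟩
    rw [h3, MulAut.one_apply] at h4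
    exact (mul_inv_eq_iff_eq_mul.1 h4.symm).symm
  rw [hfaith, Subgroup.mem_bot] at h2
  have h5 : (g : G) = (g' : G) := hgg.symm
  rw [Subgroup.coe_pow, h5]
  simpa using h2

end Cfsg.Agent.S1449
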