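import Cfsg.Statements.S1484
import Cfsg.Agent.Helper10.MaxNil
-- import your own Cfsg.Agent.* helpers here

set_option autoImplicit false
open Cfsg

namespace Cfsg.Agent.S1484

theorem max_nil_map_conj {G : Type*} [Group G] {H : Subgroup G} (hH : Group.IsNilpotent H)
    (hmax : ∀ L : Subgroup G, Group.IsNilpotent L → H ≤ L → L = H) (g : G) :
    Group.IsNilpotent (H.map (MulAut.conj g).toMonoidHom) ∧
      ∀ L : Subgroup G, Group.IsNilpotent L → H.map (MulAut.conj g).toMonoidHom ≤ L →
        L = H.map (MulAut.conj g).toMonoidHom := by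
  refine ⟨Cfsg.Agent.S1483.nil_map_conj H hH g, ?_⟩
  intro L hL hle
  have h1 : H ≤ L.map (MulAut.conj g⁻¹).toMonoidHom := by
    have h2 := Subgroup.map_mono (f := (MulAut.conj g⁻¹).toMonoidHom) hle
    rw [Cfsg.Agent.Helper10.map_conj_inv_map_conj] at h2
    exact h2
  have h3 := hmax _ (Cfsg.Agent.S1483.nil_map_conj L hL g⁻¹) h1
  rw [← h3, Cfsg.Agent.S1483.map_conj_comp]


/-- Let G be a minimal simple group of odd order in which every non-identity element has nilpotent centralizer, and M₁, …, M_k maximal subgroups, pairwise non-conjugate, such that every maximal subgroup is conjugate to some M_i. Let H_i be the largest normal nilpotent Hall subgroup of M_i. Then the orders of the H_i are pairwise coprime, their product is the order of G, and every element of G is conjugate to an element of some H_i. -/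
theorem result {G : Type*} [Group G] [Finite G] (hG : Cfsg.IsMinSimpleOddOrder G) (hCN : Cfsg.IsCNGroup G) (k : ℕ) (Mrep : Fin k → Subgroup G) (hmax : ∀ i, IsCoatom (Mrep i))
    (hnc : ∀ i j, i ≠ j → ∀ g : G, Mrep j ≠ (Mrep i).map (MulAut.conj g).toMonoidHom) (hall : ∀ M : Subgroup G, IsCoatom M → ∃ i, ∃ g : G, M = (Mrep i).map (MulAut.conj g).toMonoidHom) :
    (∀ i j, i ≠ j → (Nat.card (Cfsg.fittingHallOf (Mrep i))).Coprime (Nat.card (Cfsg.fittingHallOf (Mrep j)))) ∧
      ∏ i, Nat.card (Cfsg.fittingHallOf (Mrep i)) = Nat.card G ∧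
      ∀ x : G, ∃ i, ∃ g : G, g * x * g⁻¹ ∈ Cfsg.fittingHallOf (Mrep i) := by
  classical
  haveI hsimp := hG.2.1
  have hdata : ∀ i, Group.IsNilpotent (Cfsg.fittingHallOf (Mrep i)) ∧
      (∀ L : Subgroup G, Group.IsNilpotent L → Cfsg.fittingHallOf (Mrep i) ≤ L →
        L = Cfsg.fittingHallOf (Mrep i)) ∧
      Subgroup.normalizer ((Cfsg.fittingHallOf (Mrep i) : Subgroup G) : Set G) = Mrep i := by
    intro i
    obtain ⟨E, hEM, hE1, hF1, hFnil, hFmax, hNF, -⟩ :=
      Cfsg.Agent.Helper10.coatom_frob hG hCN (hmax i)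
    exact ⟨hFnil, hFmax, hNF⟩
  have h3 : ∀ x : G, ∃ i, ∃ g : G, g * x * g⁻¹ ∈ Cfsg.fittingHallOf (Mrep i) := by
    intro x
    by_cases hx : x = 1
    · obtain ⟨M, hM, -⟩ : ∃ M : Subgroup G, IsCoatom M ∧ ⊥ ≤ M := by
        rcases eq_top_or_exists_le_coatom (⊥ : Subgroup G) with h | h
        · exact absurd h bot_ne_top
        · exact h
      obtain ⟨i, g, -⟩ := hall M hM
      refine ⟨i, 1, ?_⟩
      rw [hx, one_mul, mul_inv_cancel]
      exact one_mem _
    · obtain ⟨H, hH, hHmax, hcent⟩ := Cfsg.Agent.S1483.exists_max_nil hCN x hx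
      have hxH : x ∈ H := hcent (Cfsg.Agent.S1483.mem_cent_of_comm rfl)
      obtain ⟨M, hM, hHM, hNM⟩ := Cfsg.Agent.Helper10.max_nil_structure hG hCN hH hHmax
      obtain ⟨i, g, hMi⟩ := hall M hM
      obtain ⟨hFnil, hFmax, hNF⟩ := hdata i
      obtain ⟨hcn, hcmax⟩ := max_nil_map_conj hFnil hFmax g
      have hnorm : Subgroup.normalizer
          (((Cfsg.fittingHallOf (Mrep i)).map (MulAut.conj g).toMonoidHom : Subgroup G) : Set G)
          = M := by
        rw [← Subgroup.map_equiv_normalizer_eq, hNF, hMi]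
      have heq : (Cfsg.fittingHallOf (Mrep i)).map (MulAut.conj g).toMonoidHom =
          Cfsg.fittingHallOf M :=
        Cfsg.Agent.Helper10.max_nil_eq_fittingHallOf hG hCN hcn hcmax hM (le_of_eq hnorm)
      rw [hHM, ← heq] at hxH
      obtain ⟨y, hy, hyx⟩ := hxH
      refine ⟨i, g⁻¹, ?_⟩
      have h1 : g⁻¹ * x * g⁻¹⁻¹ = y := by
        rw [← hyx]
        show g⁻¹ * (g * y * g⁻¹) * g⁻¹⁻¹ = y
        group
      rw [h1]; exact hy
  have h1 : ∀ i j, i ≠ j → (Nat.card (Cfsg.fittingHallOf (Mrep i))).Coprime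
      (Nat.card (Cfsg.fittingHallOf (Mrep j))) := by
    intro i j hij
    obtain ⟨hFi, hFimax, hNi⟩ := hdata i
    obtain ⟨hFj, hFjmax, hNj⟩ := hdata j
    rcases Cfsg.Agent.S1483.conj_or_coprime hCN _ _ hFi hFimax hFj hFjmax with ⟨g, hg⟩ | hcop
    · exfalso
      apply hnc i j hij g
      rw [← hNj, hg, ← Subgroup.map_equiv_normalizer_eq, hNi]
    · exact hcop
  refine ⟨h1, ?_, h3⟩
  apply Nat.dvd_antisymm
  · have hgen : ∀ s : Finset (Fin k),
        ∏ i ∈ s, Nat.card (Cfsg.fittingHallOf (Mrep i)) ∣ Nat.card G := by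
      intro s
      induction s using Finset.induction_on with
      | empty => simp
      | insert a s ha ih =>
        rw [Finset.prod_insert ha]
        apply Nat.Coprime.mul_dvd_of_dvd_of_dvd _ (Subgroup.card_subgroup_dvd_card _) ih
        rw [Nat.coprime_prod_right_iff]
        intro i hi
        exact h1 a i (fun h => ha (by rw [h]; exact hi))
    exact hgen Finset.univ
  · rw [Nat.dvd_iff_prime_pow_dvd_dvd]
    intro p e hp hpe
    rcases Nat.eq_zero_or_pos e with he | he
    · rw [he, pow_zero]; exact one_dvd _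
    · haveI : Fact p.Prime := ⟨hp⟩
      have hpG : p ∣ Nat.card G := (dvd_pow_self p he.ne').trans hpe
      obtain ⟨x, hx⟩ := exists_prime_orderOf_dvd_card' p hpG
      obtain ⟨i, g, hgx⟩ := h3 x
      obtain ⟨hFi, hFimax, hNi⟩ := hdata i
      have hord : orderOf (g * x * g⁻¹) = p := by
        rw [← hx]
        exact orderOf_injective (MulAut.conj g).toMonoidHom (MulAut.conj g).injective x
      have hpF : p ∣ Nat.card (Cfsg.fittingHallOf (Mrep i)) := by
        rw [← hord]; exact Subgroup.orderOf_dvd_natCard _ hgx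
      have hhall : Nat.gcd (Nat.card (Cfsg.fittingHallOf (Mrep i)))
          (Cfsg.fittingHallOf (Mrep i)).index = 1 :=
        (Cfsg.Agent.S1477.result hCN _ hFi hFimax).1
      have hmul := Subgroup.card_mul_index (Cfsg.fittingHallOf (Mrep i))
      have hpi : ¬ p ∣ (Cfsg.fittingHallOf (Mrep i)).index := by
        intro h
        have h5 := Nat.dvd_gcd hpF h
        rw [hhall] at h5
        exact hp.one_lt.ne' (Nat.dvd_one.1 h5)
      have hcop : (p ^ e).Coprime (Cfsg.fittingHallOf (Mrep i)).index :=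
        Nat.Coprime.pow_left e ((Nat.Prime.coprime_iff_not_dvd hp).2 hpi)
      have hdvd : p ^ e ∣ Nat.card (Cfsg.fittingHallOf (Mrep i)) := by
        apply hcop.dvd_of_dvd_mul_right
        rw [hmul]; exact hpe
      exact hdvd.trans (Finset.dvd_prod_of_mem _ (Finset.mem_univ i))

end Cfsg.Agent.S1484
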