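import Cfsg.Statements.S1605
import Cfsg.Agent.Helper3.Rank.D05

set_option autoImplicit false
open scoped Pointwise
open Cfsg

namespace Cfsg.Agent.S1605

open Cfsg.Agent.Helper3

/-- the two-point stabiliser is transitive on the octads through the first point avoiding the
second (reference frame) -/
theorem ref_trans (y y' : Finset GolayPt) (hy : y ∈ octads) (hy' : y' ∈ octads)
    (h0 : gPt 0 ∈ y) (h5 : gPt 5 ∉ y) (h0' : gPt 0 ∈ y') (h5' : gPt 5 ∉ y') :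
    ∃ g ∈ gSub [] 33, g • y = y' :=
  rk_trans [] 33 5279 8 (fun m => m.testBit 0 && !m.testBit 5) (fun y => gPt 0 ∈ y ∧ gPt 5 ∉ y)
    (fun m => rk_and (rk_pt_mem 0 m (by norm_num)) (rk_pt_not_mem 5 m (by norm_num)))
    (fun g hg y h => ⟨(rk_mem_smul (rk_fix hg 0 (by norm_num) (by decide)) y).2 h.1,
      (not_congr (rk_mem_smul (rk_fix hg 5 (by norm_num) (by decide)) y)).2 h.2⟩)
    r05M r05K r05M_ok r05K_ok (by decide +kernel) (by decide +kernel) y y' hy ⟨h0, h5⟩ hy'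
    ⟨h0', h5'⟩

theorem aux (p q : GolayPt) (o : Finset GolayPt) (c : Equiv.Perm GolayPt) (hc : c ∈ M24)
    (hco : c • gSupp 5279 = o) (hcp : c (gPt 0) = p) (hcq : c (gPt 5) = q) (j N m : ℕ)
    (pS : List (ℕ × ℕ × List ℕ × List ℕ × List (List ℕ)))
    (hS : gProgOK [m, 5279] 33 pS = true)
    (hm : (Nat.blt m 16777216 && gIsCw m && Nat.beq (gPopc m) 8 &&
      ((m.testBit 0 && !m.testBit 5) && Nat.beq (gPopc (Nat.land m 5279)) j)) = true)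
    (hN : gCountLt 4096 (fun k => Nat.beq (gPopc (gCw k)) 8 &&
      (((gCw k).testBit 0 && !(gCw k).testBit 5) &&
        Nat.beq (gPopc (Nat.land (gCw k) 5279)) j)) = N)
    (hp : gProgProd 33 r05K = N * gProgProd 33 pS) :
    {x : Finset GolayPt | (x ∈ octads ∧ p ∈ x ∧ q ∉ x) ∧ (o ∩ x).card = j}.ncard = N ∧
      ∀ y y' : Finset GolayPt, y ∈ octads → y' ∈ octads → (p ∈ y ∧ q ∉ y) → (p ∈ y' ∧ q ∉ y') →
        (o ∩ y).card = j → (o ∩ y').card = j →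
        ∃ g ∈ gSub [5279] 33, (c * g * c⁻¹) • y = y' := by
  have e : {x : Finset GolayPt | (x ∈ octads ∧ p ∈ x ∧ q ∉ x) ∧ (o ∩ x).card = j} =
      {x : Finset GolayPt | x ∈ wordsOfWeight (golayCode : Set (GolayPt → ZMod 2)) 8 ∧
        (p ∈ x ∧ q ∉ x) ∧ (o ∩ x).card = j} := by
    ext y
    constructor
    · rintro ⟨⟨h1, h2, h3⟩, h4⟩
      exact ⟨h1, ⟨h2, h3⟩, h4⟩
    · rintro ⟨h1, ⟨h2, h3⟩, h4⟩
      exact ⟨⟨h1, h2, h3⟩, h4⟩
  rw [e]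
  exact rk_class 8 5279 33 j N m (fun m => m.testBit 0 && !m.testBit 5)
    (fun y => gPt 0 ∈ y ∧ gPt 5 ∉ y) (fun y => p ∈ y ∧ q ∉ y) c hc o hco
    (fun y => and_congr (rk_mem_smul hcp y) (not_congr (rk_mem_smul hcq y)))
    (fun m => rk_and (rk_pt_mem 0 m (by norm_num)) (rk_pt_not_mem 5 m (by norm_num)))
    (fun g hg y h => ⟨(rk_mem_smul (rk_fix hg 0 (by norm_num) (by decide)) y).2 h.1,
      (not_congr (rk_mem_smul (rk_fix hg 5 (by norm_num) (by decide)) y)).2 h.2⟩)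
    r05K pS r05K_ok hS hm hN hp

/-- The two-point stabiliser acts on the 176 octads through the first point avoiding the second with rank 3 and subdegrees 1, 70, 105 (intersections 8, 2, 4). -/
theorem result (p q : Cfsg.GolayPt) (hpq : p ≠ q) : {x : Finset Cfsg.GolayPt | (x ∈ Cfsg.octads ∧ p ∈ x ∧ q ∉ x)}.ncard = 176 ∧ (∀ o o' : Finset Cfsg.GolayPt, (o ∈ Cfsg.octads ∧ p ∈ o ∧ q ∉ o) → (o' ∈ Cfsg.octads ∧ p ∈ o' ∧ q ∉ o') → ∃ g : Equiv.Perm Cfsg.GolayPt, g ∈ Cfsg.M24 ∧ g p = p ∧ g q = q ∧ g • o = o') ∧ ∀ o : Finset Cfsg.GolayPt, (o ∈ Cfsg.octads ∧ p ∈ o ∧ q ∉ o) → {x : Finset Cfsg.GolayPt | (x ∈ Cfsg.octads ∧ p ∈ x ∧ q ∉ x) ∧ (o ∩ x).card = 2}.ncard = 70 ∧ {x : Finset Cfsg.GolayPt | (x ∈ Cfsg.octads ∧ p ∈ x ∧ q ∉ x) ∧ (o ∩ x).card = 4}.ncard = 105 ∧ ∀ o' o'' : Finset Cfsg.GolayPt, (o' ∈ Cfsg.octads ∧ p ∈ o' ∧ q ∉ o') → (o'' ∈ Cfsg.octads ∧ p ∈ o'' ∧ q ∉ o'') → (o ∩ o').card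 = (o ∩ o'').card → ∃ g : Equiv.Perm Cfsg.GolayPt, g ∈ Cfsg.M24 ∧ g p = p ∧ g q = q ∧ g • o = o ∧ g • o' = o'' := by
  obtain ⟨c1, hc1, hl⟩ := M24_trans_list [gPt 0, gPt 5] [p, q] (by decide +kernel)
    (by simp [hpq]) rfl (by simp)
  simp only [List.map_cons, List.map_nil, List.cons.injEq, and_true] at hl
  obtain ⟨h10, h15⟩ := hl
  have hci := M24.inv_mem hc1
  have tr : ∀ y : Finset GolayPt, (y ∈ octads ∧ p ∈ y ∧ q ∉ y) →
      c1⁻¹ • y ∈ octads ∧ gPt 0 ∈ c1⁻¹ • y ∧ gPt 5 ∉ c1⁻¹ • y := by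
    intro y hy
    refine ⟨smul_mem_octads hci hy.1, ?_, ?_⟩
    · have h1 := rk_mem_smul h10 (c1⁻¹ • y)
      rw [smul_inv_smul] at h1
      exact h1.1 hy.2.1
    · have h1 := rk_mem_smul h15 (c1⁻¹ • y)
      rw [smul_inv_smul] at h1
      exact fun h => hy.2.2 (h1.2 h)
  have frame : ∀ o : Finset GolayPt, (o ∈ octads ∧ p ∈ o ∧ q ∉ o) →
      ∃ c ∈ M24, c • gSupp 5279 = o ∧ c (gPt 0) = p ∧ c (gPt 5) = q := by
    intro o ho
    obtain ⟨t1, t2, t3⟩ := tr o ho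
    obtain ⟨g, hg, hgo⟩ := ref_trans (gSupp 5279) (c1⁻¹ • o) gO0_mem t1
      ((rk_pt_mem 0 5279 (by norm_num)).2 (by decide))
      ((rk_pt_not_mem 5 5279 (by norm_num)).2 (by decide)) t2 t3
    refine ⟨c1 * g, M24.mul_mem hc1 hg.1, ?_, ?_, ?_⟩
    · rw [mul_smul, hgo, smul_inv_smul]
    · rw [Equiv.Perm.mul_apply, rk_fix hg 0 (by norm_num) (by decide), h10]
    · rw [Equiv.Perm.mul_apply, rk_fix hg 5 (by norm_num) (by decide), h15]
  refine ⟨?_, ?_, ?_⟩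
  · exact rk_count 8 176 hc1 (fun m => m.testBit 0 && !m.testBit 5)
      (fun y => gPt 0 ∈ y ∧ gPt 5 ∉ y) (fun y => p ∈ y ∧ q ∉ y)
      (fun y => and_congr (rk_mem_smul h10 y) (not_congr (rk_mem_smul h15 y)))
      (fun m => rk_and (rk_pt_mem 0 m (by norm_num)) (rk_pt_not_mem 5 m (by norm_num)))
      (by decide +kernel)
  · intro o o' ho ho'
    obtain ⟨t1, t2, t3⟩ := tr o ho
    obtain ⟨t1', t2', t3'⟩ := tr o' ho'
    obtain ⟨g, hg, hgo⟩ := ref_trans (c1⁻¹ • o) (c1⁻¹ • o') t1 t1' t2 t3 t2' t3'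
    exact ⟨c1 * g * c1⁻¹, rk_conj_mem c1 g hc1 hg.1,
      rk_conj_pt c1 g _ _ h10 (rk_fix hg 0 (by norm_num) (by decide)),
      rk_conj_pt c1 g _ _ h15 (rk_fix hg 5 (by norm_num) (by decide)),
      by rw [mul_smul, mul_smul, hgo, smul_inv_smul]⟩
  · intro o ho
    obtain ⟨c, hc, hco, hcp, hcq⟩ := frame o ho
    have k2 := aux p q o c hc hco hcp hcq 2 70 175681 r05S2 r05S2_ok (by decide +kernel)
      (by decide +kernel) (by decide +kernel)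
    have k4 := aux p q o c hc hco hcp hcq 4 105 39257 r05S4 r05S4_ok (by decide +kernel)
      (by decide +kernel) (by decide +kernel)
    refine ⟨k2.1, k4.1, ?_⟩
    intro o' o'' ho' ho'' h
    have fin : ∀ g ∈ gSub [5279] 33, (c * g * c⁻¹) • o' = o'' →
        ∃ g : Equiv.Perm GolayPt, g ∈ M24 ∧ g p = p ∧ g q = q ∧ g • o = o ∧ g • o' = o'' :=
      fun g hg hgy => ⟨c * g * c⁻¹, rk_conj_mem c g hc hg.1,
        rk_conj_pt c g _ _ hcp (rk_fix hg 0 (by norm_num) (by decide)),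
        rk_conj_pt c g _ _ hcq (rk_fix hg 5 (by norm_num) (by decide)),
        rk_conj_set c g _ _ hco (rk_smul hg 5279 List.mem_cons_self), hgy⟩
    rcases octad_inter_card ho.1 ho'.1 with h0 | h0 | h0 | h0
    · exfalso
      have h1 : 0 < (o ∩ o').card :=
        Finset.card_pos.2 ⟨p, Finset.mem_inter.2 ⟨ho.2.1, ho'.2.1⟩⟩
      omega
    · obtain ⟨g, hg, hgy⟩ := k2.2 o' o'' ho'.1 ho''.1 ho'.2 ho''.2 h0 (by rw [← h, h0])
      exact fin g hg hgy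
    · obtain ⟨g, hg, hgy⟩ := k4.2 o' o'' ho'.1 ho''.1 ho'.2 ho''.2 h0 (by rw [← h, h0])
      exact fin g hg hgy
    · have h1 : o' = o := (octad_eq_of_inter ho.1 ho'.1 (by rw [h0]; norm_num)).symm
      have h2 : o'' = o := (octad_eq_of_inter ho.1 ho''.1 (by rw [← h, h0]; norm_num)).symm
      exact ⟨1, M24.one_mem, rfl, rfl, one_smul _ _, by rw [one_smul, h1, h2]⟩

end Cfsg.Agent.S1605
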