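import Cfsg.Statements.S1618
import Cfsg.Agent.Helper8.ZStarClaim
import Cfsg.Agent.Helper29.Fischer

set_option autoImplicit false
open Cfsg

namespace Cfsg.Agent.S1618

/-- A group generated by a class of involutions whose pairwise products (of distinct members) have p-power order for a fixed odd prime p has nilpotent derived subgroup. -/
theorem result {G : Type*} [Group G] [Finite G] (p : ℕ) (hp : p.Prime) (hodd : p ≠ 2) {D : Set G} (hinv : ∀ d ∈ D, orderOf d = 2) (hconj : ∃ d ∈ D, D = conjugatesOf d) (hgen : Subgroup.closure D = ⊤) (hprod : ∀ x ∈ D, ∀ y ∈ D, x ≠ y → ∃ k : ℕ, orderOf (x * y) = p ^ k) : Group.IsNilpotent ↥(commutator G) := by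
  classical
haveI : Fact p.Prime := ⟨hp⟩
obtain ⟨d, hdD, hDd⟩ := hconj
have hd2o : orderOf d = 2 := hinv d hdD
have hd2 : d * d = 1 := by rw [← pow_two, ← hd2o]; exact pow_orderOf_eq_one d
have hdinv : d⁻¹ = d := inv_eq_of_mul_eq_one_right hd2
have hmemD : ∀ g : G, g * d * g⁻¹ ∈ D := by
  intro g; rw [hDd]; exact isConj_iff.2 ⟨g, rfl⟩
have hDmem : ∀ e ∈ D, ∃ g : G, g * d * g⁻¹ = e := by
  intro e he; rw [hDd] at he; exact isConj_iff.1 he
have hiso : Cfsg.IsIsolatedInvolution d := by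
  refine ⟨hd2o, fun g hcomm => ?_⟩
  by_contra hne
  obtain ⟨k, hk⟩ := hprod d hdD (g * d * g⁻¹) (hmemD g) (fun h => hne h.symm)
  have he2 : (g * d * g⁻¹) * (g * d * g⁻¹) = 1 := by
    calc (g * d * g⁻¹) * (g * d * g⁻¹) = g * (d * d) * g⁻¹ := by group
      _ = 1 := by rw [hd2]; group
  have hsq : (d * (g * d * g⁻¹)) ^ 2 = 1 := by
    rw [pow_two]
    calc d * (g * d * g⁻¹) * (d * (g * d * g⁻¹))
        = d * ((g * d * g⁻¹) * d) * (g * d * g⁻¹) := by group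
      _ = d * (d * (g * d * g⁻¹)) * (g * d * g⁻¹) := by rw [← hcomm.eq]
      _ = (d * d) * ((g * d * g⁻¹) * (g * d * g⁻¹)) := by group
      _ = 1 := by rw [hd2, he2, one_mul]
  have hdvd : p ^ k ∣ 2 := by rw [← hk]; exact orderOf_dvd_of_pow_eq_one hsq
  have hk0 : k = 0 := by
    by_contra hk0
    have h1 : p ∣ 2 := (dvd_pow_self p hk0).trans hdvd
    exact hodd ((Nat.prime_dvd_prime_iff_eq hp Nat.prime_two).1 h1)
  rw [hk0, pow_zero, orderOf_eq_one_iff] at hk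
  apply hne
  have h3 := eq_inv_of_mul_eq_one_right hk
  rw [h3, hdinv]
obtain ⟨N, hNn, hNodd, hN⟩ := Cfsg.Agent.Helper8.zstar_main G d hiso
haveI := hNn
have hdN : d ∉ N := by
  intro hdN
  have h1 : orderOf (⟨d, hdN⟩ : N) = 2 := by rw [Subgroup.orderOf_mk]; exact hd2o
  have h2 : 2 ∣ Nat.card N := by rw [← h1]; exact orderOf_dvd_natCard _
  exact (Nat.not_even_iff_odd.2 hNodd) (even_iff_two_dvd.2 h2)
have hdNinv : ∀ x ∈ N, d * x * d ∈ N := by
  intro x hx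
  have h1 := hNn.conj_mem x hx d
  rwa [hdinv] at h1
have hDN : ∀ e ∈ D, e * d ∈ N := by
  intro e he
  obtain ⟨g, rfl⟩ := hDmem e he
  have h1 := N.inv_mem (hN g)
  have h2 : (d * g * d⁻¹ * g⁻¹)⁻¹ = g * d * g⁻¹ * d⁻¹ := by group
  rw [h2, hdinv] at h1
  exact h1
have hsplitN := Cfsg.Agent.Helper29.fis_split d hd2 D hgen N hdNinv hDN
have hidx2 : N.index = 2 := by
  rw [Subgroup.index_eq_two_iff]
  refine ⟨d, fun b => ?_⟩
  rcases hsplitN b with hb | hb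
  · right
    refine ⟨hb, fun hbd => hdN ?_⟩
    have h1 := N.mul_mem (N.inv_mem hb) hbd
    simpa using h1
  · left
    refine ⟨hb, fun hb' => hdN ?_⟩
    have h1 := N.mul_mem (N.inv_mem hb') hb
    simpa using h1
have hcommN : commutator G ≤ N := by
  haveI : Fact (Nat.Prime 2) := ⟨Nat.prime_two⟩
  have hcard : Nat.card (G ⧸ N) = 2 := by rw [← Subgroup.index_eq_card]; exact hidx2
  haveI : IsCyclic (G ⧸ N) := isCyclic_of_prime_card hcard
  letI : CommGroup (G ⧸ N) := IsCyclic.commGroup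
  have h1 := Abelianization.commutator_subset_ker (QuotientGroup.mk' N)
  rwa [QuotientGroup.ker_mk'] at h1
obtain ⟨φ, hφdef⟩ : ∃ φ : MulAut N, ∀ n : N, ((φ n : N) : G) = d * n * d⁻¹ :=
  ⟨MulAut.conjNormal d, fun n => MulAut.conjNormal_apply d n⟩
have hφφ : ∀ n : N, φ (φ n) = n := by
  intro n
  apply Subtype.ext
  rw [hφdef, hφdef, hdinv]
  calc d * (d * (n : G) * d) * d = (d * d) * n * (d * d) := by group
    _ = n := by rw [hd2, one_mul, mul_one]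
have hval : ∀ n : N, ((n * (φ n)⁻¹ : N) : G) = (n : G) * d * (n : G)⁻¹ * d := by
  intro n
  rw [Subgroup.coe_mul, Subgroup.coe_inv, hφdef]
  have h1 : (n : G) * (d * n * d⁻¹)⁻¹ = n * d * (n : G)⁻¹ * d⁻¹ := by group
  rw [h1, hdinv]
have H1 : ∀ x : N, ∃ k : ℕ, orderOf (x * (φ x)⁻¹) = p ^ k := by
  intro x
  rw [← Subgroup.orderOf_coe, hval]
  by_cases hxe : (x : G) * d * (x : G)⁻¹ = d
  · refine ⟨0, ?_⟩
    rw [hxe, hd2, orderOf_one, pow_zero]
  · exact hprod _ (hmemD x) d hdD hxe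
obtain ⟨P, hPp, hPinv, hPall⟩ := Cfsg.Agent.Helper29.fis_invol_aut hNodd φ hφφ p hp H1
obtain ⟨P', hP'⟩ : ∃ P' : Subgroup G, P' = P.map N.subtype := ⟨_, rfl⟩
have hP'mem : ∀ x : G, x ∈ P' ↔ ∃ hx : x ∈ N, (⟨x, hx⟩ : N) ∈ P := by
  intro x
  rw [hP', Subgroup.mem_map]
  constructor
  · rintro ⟨y, hy, rfl⟩
    exact ⟨y.2, hy⟩
  · rintro ⟨hx, hy⟩
    exact ⟨⟨x, hx⟩, hy, rfl⟩
have hP'N : P' ≤ N := fun x hx => ((hP'mem x).1 hx).1
have hdP' : ∀ x ∈ P', d * x * d ∈ P' := by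
  intro x hx
  obtain ⟨hxN, hxP⟩ := (hP'mem x).1 hx
  have h1 := hPinv _ hxP
  rw [hP'mem]
  refine ⟨hdNinv x hxN, ?_⟩
  have h2 : (⟨d * x * d, hdNinv x hxN⟩ : N) = φ ⟨x, hxN⟩ := by
    apply Subtype.ext
    rw [hφdef, hdinv]
  rw [h2]; exact h1
have hDP' : ∀ e ∈ D, e * d ∈ P' := by
  intro e he
  obtain ⟨g, rfl⟩ := hDmem e he
  obtain ⟨n, hn⟩ : ∃ n : N, g * d * g⁻¹ = (n : G) * d * (n : G)⁻¹ := by
    rcases hsplitN g with hg | hg
    · exact ⟨⟨g, hg⟩, rfl⟩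
    · refine ⟨⟨g * d, hg⟩, ?_⟩
      show g * d * g⁻¹ = (g * d) * d * (g * d)⁻¹
      rw [mul_inv_rev, hdinv]
      calc g * d * g⁻¹ = g * d * (d * d) * g⁻¹ := by rw [hd2, mul_one]
        _ = g * d * d * (d * g⁻¹) := by group
  rw [hn, hP'mem]
  have h1 := hPall n
  have hNmem : (n : G) * d * (n : G)⁻¹ * d ∈ N := by rw [← hval]; exact (n * (φ n)⁻¹).2
  refine ⟨hNmem, ?_⟩
  have h2 : (⟨(n : G) * d * (n : G)⁻¹ * d, hNmem⟩ : N) = n * (φ n)⁻¹ :=
    Subtype.ext (hval n).symm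
  rw [h2]; exact h1
have hsplitP := Cfsg.Agent.Helper29.fis_split d hd2 D hgen P' hdP' hDP'
have hNP : N ≤ P' := by
  intro x hx
  rcases hsplitP x with h | h
  · exact h
  · exfalso
    apply hdN
    have h1 := N.mul_mem (N.inv_mem hx) (hP'N h)
    simpa using h1
have hNp : IsPGroup p N := by
  have h1 : IsPGroup p P' := by rw [hP']; exact hPp.map N.subtype
  exact h1.to_le hNP
have hfin : IsPGroup p (commutator G) := hNp.to_le hcommN
exact hfin.isNilpotent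

end Cfsg.Agent.S1618
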