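import Mathlib
import Cfsg.Statements.S1896
import Cfsg.Agent.Helper23.MetaTwoB
import Cfsg.Agent.Helper11.TausskyAut

set_option autoImplicit false
open Cfsg

namespace Cfsg.Agent.S1896

/-- A finite metacyclic 2-group whose automorphism group is not a 2-group is isomorphic to the quaternion group of order 8 or to a homocyclic abelian group Z_{2^n} × Z_{2^n}. -/
theorem result {X : Type*} [Group X] [Finite X] (hX : IsPGroup 2 X)
    (hm : Cfsg.IsMetacyclic X) (hA : ¬ IsPGroup 2 (MulAut X)) :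
    Nonempty (X ≃* QuaternionGroup 2) ∨
      ∃ n : ℕ, Nonempty (X ≃* Multiplicative (ZMod (2 ^ n)) × Multiplicative (ZMod (2 ^ n))) := by
  classical
  have hex : ∃ (r : ℕ) (α : MulAut X), r.Prime ∧ r ≠ 2 ∧ α ^ r = 1 ∧ α ≠ 1 := by
    have h1 : ∃ g : MulAut X, ∀ k : ℕ, g ^ 2 ^ k ≠ 1 := by
      by_contra hcon
      apply hA
      intro g
      by_contra hg
      exact hcon ⟨g, fun k hk => hg ⟨k, hk⟩⟩
    obtain ⟨g, hg⟩ := h1
    rcases Nat.eq_two_pow_or_exists_odd_prime_and_dvd (orderOf g) with ⟨k, hk⟩ | ⟨r, hr, hrd, hodd⟩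
    · exfalso
      apply hg k
      rw [← hk]
      exact pow_orderOf_eq_one g
    · have hpos : 0 < orderOf g := orderOf_pos g
      have hord : orderOf (g ^ (orderOf g / r)) = r := orderOf_pow_orderOf_div hpos.ne' hrd
      refine ⟨r, g ^ (orderOf g / r), hr, ?_, ?_, ?_⟩
      · intro h2
        rw [h2] at hodd
        obtain ⟨k, hk⟩ := hodd
        omega
      · have h2 := pow_orderOf_eq_one (g ^ (orderOf g / r))
        rw [hord] at h2
        exact h2
      · intro h
        rw [h, orderOf_one] at hord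
        exact hr.one_lt.ne hord
  obtain ⟨r, α, hr, hr2, hαr, hα1⟩ := hex
  haveI : Fact r.Prime := ⟨hr⟩
  by_cases hc : ∀ x y : X, x * y = y * x
  · right
    exact Cfsg.Agent.Helper23.mt_abelian hX hm hc α r hr2 hαr hα1
  · left
    have h4 := Cfsg.Agent.Helper23.mt_nonabelian hX hm hc α r hr2 hαr hα1
    refine Cfsg.Agent.Helper11.aut_not_two_quaternion hX ?_ h4 hA
    intro hcm
    apply hc
    obtain ⟨⟨h⟩⟩ := hcm
    exact h

end Cfsg.Agent.S1896
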