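import Cfsg.Statements.S1907
-- import your own Cfsg.Agent.* helpers here
import Cfsg.Agent.Helper12.PPrimeP

set_option autoImplicit false
open Cfsg

namespace Cfsg.Agent.S1907

open Cfsg.Agent.Helper12 in
private theorem partA {G : Type*} [Group G] [Finite G] {p : ℕ} [Fact p.Prime] (P : Sylow p G)
    (y : G)
    (hy : y ∈ Subgroup.normalizer (((P : Subgroup G) ⊓ Cfsg.pPrimePCore p G : Subgroup G) : Set G))
    (hyo : ∃ k : ℕ, orderOf y = p ^ k) (d : G) (hd : d ∈ Cfsg.pPrimeCore p G)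
    (hdy : d⁻¹ * y * d ∈
      Subgroup.normalizer (((P : Subgroup G) ⊓ Cfsg.pPrimePCore p G : Subgroup G) : Set G)) :
    ∃ d₁ ∈ Cfsg.pPrimeCore p G ⊓ Subgroup.centralizer ({y} : Set G),
      ∃ d₂ ∈ Cfsg.pPrimeCore p G ⊓ Subgroup.centralizer
        (((P : Subgroup G) ⊓ Cfsg.pPrimePCore p G : Subgroup G) : Set G), d = d₁ * d₂ := by
  obtain ⟨k, hk⟩ := hyo
  have hDn : (Cfsg.pPrimeCore p G).Normal := inferInstance
  have hHp : IsPGroup p ((P : Subgroup G) ⊓ Cfsg.pPrimePCore p G : Subgroup G) :=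
    P.isPGroup'.to_le inf_le_left
  -- e = y⁻¹ d⁻¹ y d ∈ E
  have heD : y⁻¹ * d⁻¹ * y * d ∈ Cfsg.pPrimeCore p G := by
    have h1 := hDn.conj_mem d⁻¹ (Subgroup.inv_mem _ hd) y⁻¹
    rw [inv_inv] at h1
    exact Subgroup.mul_mem _ h1 hd
  have heN : y⁻¹ * d⁻¹ * y * d ∈
      Subgroup.normalizer (((P : Subgroup G) ⊓ Cfsg.pPrimePCore p G : Subgroup G) : Set G) := by
    have h1 := Subgroup.mul_mem _ (Subgroup.inv_mem _ hy) hdy
    have e : y⁻¹ * (d⁻¹ * y * d) = y⁻¹ * d⁻¹ * y * d := by group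
    rwa [e] at h1
  have heC : y⁻¹ * d⁻¹ * y * d ∈ Subgroup.centralizer
      (((P : Subgroup G) ⊓ Cfsg.pPrimePCore p G : Subgroup G) : Set G) :=
    pPrimeCore_inf_normalizer_le_centralizer hHp ⟨heD, heN⟩
  -- y normalizes E
  have hyE : ∀ c ∈ Cfsg.pPrimeCore p G ⊓ Subgroup.centralizer
      (((P : Subgroup G) ⊓ Cfsg.pPrimePCore p G : Subgroup G) : Set G),
      y * c * y⁻¹ ∈ Cfsg.pPrimeCore p G ⊓ Subgroup.centralizer
        (((P : Subgroup G) ⊓ Cfsg.pPrimePCore p G : Subgroup G) : Set G) := by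
    rintro c ⟨hc1, hc2⟩
    exact ⟨hDn.conj_mem c hc1 y, conj_mem_centralizer_of_mem_normalizer hy hc2⟩
  -- the coset d E
  have hcard : ¬ p ∣ Nat.card ((fun c => d * c) '' ((Cfsg.pPrimeCore p G ⊓ Subgroup.centralizer
      (((P : Subgroup G) ⊓ Cfsg.pPrimePCore p G : Subgroup G) : Set G) : Subgroup G) : Set G)) := by
    rw [Nat.card_image_of_injective (mul_right_injective d)]
    have h1 : Nat.card ↥(Cfsg.pPrimeCore p G ⊓ Subgroup.centralizer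
        (((P : Subgroup G) ⊓ Cfsg.pPrimePCore p G : Subgroup G) : Set G) : Subgroup G) ∣
        Nat.card ↥(Cfsg.pPrimeCore p G) := Subgroup.card_dvd_of_le inf_le_left
    have h2 : (Nat.card ↥(Cfsg.pPrimeCore p G)).Coprime p := card_pPrimeCore_coprime' p
    have h3 := Nat.Coprime.coprime_dvd_left h1 h2
    exact fun h => (Nat.Prime.coprime_iff_not_dvd Fact.out).mp h3.symm h
  have hinv : ∀ a ∈ ((fun c => d * c) '' ((Cfsg.pPrimeCore p G ⊓ Subgroup.centralizer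
      (((P : Subgroup G) ⊓ Cfsg.pPrimePCore p G : Subgroup G) : Set G) : Subgroup G) : Set G)),
      y * a * y⁻¹ ∈ ((fun c => d * c) '' ((Cfsg.pPrimeCore p G ⊓ Subgroup.centralizer
      (((P : Subgroup G) ⊓ Cfsg.pPrimePCore p G : Subgroup G) : Set G) : Subgroup G) : Set G)) := by
    rintro _ ⟨c, hc, rfl⟩
    refine ⟨(y * (y⁻¹ * d⁻¹ * y * d) * y⁻¹) * (y * c * y⁻¹),
      Subgroup.mul_mem _ (hyE _ ⟨heD, heC⟩) (hyE c hc), ?_⟩
    show d * ((y * (y⁻¹ * d⁻¹ * y * d) * y⁻¹) * (y * c * y⁻¹)) = y * (d * c) * y⁻¹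
    group
  obtain ⟨a, ⟨c₀, hc₀, rfl⟩, hfix⟩ := exists_conj_fixed y k hk _ (Set.toFinite _) hinv hcard
  refine ⟨d * c₀, ⟨Subgroup.mul_mem _ hd hc₀.1, ?_⟩, c₀⁻¹, Subgroup.inv_mem _ hc₀, by group⟩
  show d * c₀ ∈ Subgroup.centralizer ({y} : Set G)
  have hfix' : y * (d * c₀) * y⁻¹ = d * c₀ := hfix
  rw [Subgroup.mem_centralizer_iff]
  intro g hg
  rw [Set.mem_singleton_iff] at hg
  rw [hg]
  calc y * (d * c₀) = y * (d * c₀) * y⁻¹ * y := by group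
    _ = d * c₀ * y := by rw [hfix']

/-- Let P be a Sylow p-subgroup of a finite group G, H = P ∩ O_{p',p}(G), N = N_G(H) and D = O_{p'}(G). (a) If y is an element of p-power order of N and d ∈ D with d⁻¹ y d ∈ N, then d = d₁ d₂ with d₁ ∈ C_D(y) and d₂ ∈ C_D(H). (b) Two elements of P that are conjugate in G are conjugate in N. -/
theorem result {G : Type*} [Group G] [Finite G] {p : ℕ} [Fact p.Prime] (P : Sylow p G) :
    (∀ y ∈ Subgroup.normalizer (((P : Subgroup G) ⊓ Cfsg.pPrimePCore p G : Subgroup G) : Set G), (∃ k : ℕ, orderOf y = p ^ k) →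
      ∀ d ∈ Cfsg.pPrimeCore p G, d⁻¹ * y * d ∈ Subgroup.normalizer (((P : Subgroup G) ⊓ Cfsg.pPrimePCore p G : Subgroup G) : Set G) →
        ∃ d₁ ∈ Cfsg.pPrimeCore p G ⊓ Subgroup.centralizer ({y} : Set G),
          ∃ d₂ ∈ Cfsg.pPrimeCore p G ⊓ Subgroup.centralizer (((P : Subgroup G) ⊓ Cfsg.pPrimePCore p G : Subgroup G) : Set G), d = d₁ * d₂) ∧
    ∀ x y : G, x ∈ (P : Subgroup G) → y ∈ (P : Subgroup G) → IsConj x y →
      ∃ n ∈ Subgroup.normalizer (((P : Subgroup G) ⊓ Cfsg.pPrimePCore p G : Subgroup G) : Set G), n * x * n⁻¹ = y := by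
  open Cfsg.Agent.Helper12 in
  (
  refine ⟨fun y hy hyo d hd hdy => partA P y hy hyo d hd hdy, ?_⟩
  intro x y hx hy hxy
  obtain ⟨g, hg⟩ := isConj_iff.mp hxy
  obtain ⟨n, hn, d, hd, hgnd⟩ := frattini_pPP P g
  have hKn : (Cfsg.pPrimePCore p G).Normal := pPP_normal p G
  have hPN : (P : Subgroup G) ≤
      Subgroup.normalizer (((P : Subgroup G) ⊓ Cfsg.pPrimePCore p G : Subgroup G) : Set G) :=
    le_normalizer_inf_normal _ _
  have hdx : d * x * d⁻¹ ∈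
      Subgroup.normalizer (((P : Subgroup G) ⊓ Cfsg.pPrimePCore p G : Subgroup G) : Set G) := by
    have e : d * x * d⁻¹ = n⁻¹ * y * n := by
      rw [← hg, hgnd]; group
    rw [e]
    exact Subgroup.mul_mem _ (Subgroup.mul_mem _ (Subgroup.inv_mem _ hn) (hPN hy)) hn
  have hdx' : d⁻¹⁻¹ * x * d⁻¹ ∈
      Subgroup.normalizer (((P : Subgroup G) ⊓ Cfsg.pPrimePCore p G : Subgroup G) : Set G) := by
    rwa [inv_inv]
  obtain ⟨d₁, hd₁, d₂, hd₂, hdd⟩ := partA P x (hPN hx)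
    (exists_orderOf_eq_pow_of_mem P.isPGroup' hx) d⁻¹ (Subgroup.inv_mem _ hd) hdx'
  have hd₁x : x * d₁ = d₁ * x :=
    (Subgroup.mem_centralizer_iff.mp hd₁.2) x (Set.mem_singleton x)
  refine ⟨n * d₂⁻¹, Subgroup.mul_mem _ hn (Subgroup.inv_mem _
    (Subgroup.centralizer_le_normalizer _ hd₂.2)), ?_⟩
  have hd' : d = d₂⁻¹ * d₁⁻¹ := by
    have := congrArg (fun t => t⁻¹) hdd
    simpa using this
  rw [← hg, hgnd, hd']
  have e1 : d₁⁻¹ * x * d₁ = x := by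
    rw [mul_assoc, hd₁x]; group
  calc n * d₂⁻¹ * x * (n * d₂⁻¹)⁻¹ = n * d₂⁻¹ * (d₁⁻¹ * x * d₁) * (n * d₂⁻¹)⁻¹ := by rw [e1]
    _ = n * (d₂⁻¹ * d₁⁻¹) * x * (n * (d₂⁻¹ * d₁⁻¹))⁻¹ := by group
  )

end Cfsg.Agent.S1907
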