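import Cfsg.Statements.S1910
-- import your own Cfsg.Agent.* helpers here
import Cfsg.Agent.Helper12.Tight

set_option autoImplicit false
open Cfsg

namespace Cfsg.Agent.S1910

/-- Let Q be a tightly embedded subgroup of a finite group G, g an element outside N_G(Q), T a nontrivial Sylow 2-subgroup of Q^g ∩ N_G(Q), and S a Sylow 2-subgroup of QT containing T. Then T ∩ Q = 1, and N_S(T) is the direct product of T and N_S(T) ∩ Q, with N_S(T) ∩ Q isomorphic to T. -/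
theorem result {G : Type*} [Group G] [Finite G] (Q : Subgroup G) (hQ : Cfsg.IsTightlyEmbedded Q)
    (g : G) (hg : g ∉ Subgroup.normalizer (Q : Set G))
    (T : Subgroup G) (hT1 : T ≠ ⊥) (hT : T ≤ Q.map (MulAut.conj g).toMonoidHom ⊓ Subgroup.normalizer (Q : Set G))
    (hTsyl : IsPGroup 2 T ∧ ¬ 2 ∣ T.relIndex (Q.map (MulAut.conj g).toMonoidHom ⊓ Subgroup.normalizer (Q : Set G)))
    (S : Subgroup G) (hTS : T ≤ S) (hS : S ≤ Q ⊔ T) (hSsyl : IsPGroup 2 S ∧ ¬ 2 ∣ S.relIndex (Q ⊔ T)) :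
    T ⊓ Q = ⊥ ∧
      T ⊓ (S ⊓ Subgroup.normalizer (T : Set G) ⊓ Q) = ⊥ ∧
      ⁅T, S ⊓ Subgroup.normalizer (T : Set G) ⊓ Q⁆ = ⊥ ∧
      T ⊔ (S ⊓ Subgroup.normalizer (T : Set G) ⊓ Q) = S ⊓ Subgroup.normalizer (T : Set G) ∧
      Nonempty (↥(S ⊓ Subgroup.normalizer (T : Set G) ⊓ Q) ≃* T) := by
  open Cfsg.Agent.Helper12 in
  (
  classical
  have hQg : Q.map (MulAut.conj g).toMonoidHom = cjs g⁻¹ Q := map_conj_eq_cjs g Q
  rw [hQg] at hT hTsyl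
  have htf : TwoFree Q := twoFree_of_tight hQ
  have htf' : TwoFree (cjs g⁻¹ Q) := twoFree_cjs htf g⁻¹
  have h12 : ∀ e ∈ Q, e ∈ cjs g⁻¹ Q → (∃ k : ℕ, e ^ 2 ^ k = 1) → e = 1 := by
    intro e he he' h2
    by_contra hne
    rw [mem_cjs_iff] at he'
    have h3 := htf e he hne h2 g⁻¹ he'
    exact hg (by simpa using inv_mem h3)
  have h21 : ∀ e ∈ cjs g⁻¹ Q, e ∈ Q → (∃ k : ℕ, e ^ 2 ^ k = 1) → e = 1 :=
    fun e he he' h2 => h12 e he' he h2
  have hTK : T ≤ cjs g⁻¹ Q := hT.trans inf_le_left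
  have hTN : T ≤ Subgroup.normalizer (Q : Set G) := hT.trans inf_le_right
  obtain ⟨c1, c2, c3, c4, c5, c6⟩ :=
    tight_core htf' h12 ⟨g⁻¹, rfl⟩ hT1 hTK hTN hTsyl.1 hTS hS hSsyl.1 hSsyl.2
  refine ⟨c1, ?_, ?_, c3, ?_⟩
  · rw [eq_bot_iff]; exact (inf_le_inf_left T inf_le_right).trans c1.le
  · rw [Subgroup.commutator_eq_bot_iff_le_centralizer]
    intro t ht
    rw [Subgroup.mem_centralizer_iff]
    intro r hr
    exact (c2 t ht r hr).symm
  · apply c6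
    apply le_antisymm ?_ c5
    have hRp : IsPGroup 2 ↥(S ⊓ Subgroup.normalizer (T : Set G) ⊓ Q) :=
      hSsyl.1.to_le (inf_le_left.trans inf_le_left)
    have hR1 : S ⊓ Subgroup.normalizer (T : Set G) ⊓ Q ≠ ⊥ := by
      intro h
      rw [h, Subgroup.card_bot] at c5
      have h2 : Nat.card T = 1 := by
        have := Nat.card_pos (α := T)
        omega
      exact hT1 ((Subgroup.card_eq_one).mp h2)
    obtain ⟨S', hRS', hS', hS'p, hS'idx⟩ :=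
      exists_sylow_ge_of_le (H := cjs g⁻¹ Q ⊔ (S ⊓ Subgroup.normalizer (T : Set G) ⊓ Q)) hRp
        le_sup_right
    obtain ⟨-, -, -, d4, d5, -⟩ :=
      tight_core htf h21 ⟨g, (cjs_cjs_inv g Q).symm⟩ hR1 inf_le_right c4 hRp hRS' hS' hS'p hS'idx
    have hR'Y : S' ⊓ Subgroup.normalizer ((S ⊓ Subgroup.normalizer (T : Set G) ⊓ Q : Subgroup G) : Set G)
        ⊓ cjs g⁻¹ Q ≤ cjs g⁻¹ Q ⊓ Subgroup.normalizer (Q : Set G) := le_inf inf_le_right d4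
    have hR'p : IsPGroup 2 ↥(S' ⊓ Subgroup.normalizer
        ((S ⊓ Subgroup.normalizer (T : Set G) ⊓ Q : Subgroup G) : Set G) ⊓ cjs g⁻¹ Q) :=
      hS'p.to_le (inf_le_left.trans inf_le_left)
    obtain ⟨m, -, hm⟩ := exists_conj_le_of_relIndex hTsyl.1 hTsyl.2 hR'p hR'Y
    exact d5.trans (card_le_of_conj_mem hm)
  )

end Cfsg.Agent.S1910
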