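import Cfsg.Statements.S1921
-- import your own Cfsg.Agent.* helpers here
import Cfsg.Agent.Helper9.Layer3
import Cfsg.Agent.Helper12.SylSub

set_option autoImplicit false
open Cfsg

namespace Cfsg.Agent.S1921

/-- Let a be an involution of a finite group H and L a component of H with a L a⁻¹ ≠ L; put M = ⟨L, aLa⁻¹⟩ and let J be the subgroup generated by the elements x · a x a⁻¹ with x ∈ L (the diagonal). Then every element of M outside J·Z(M) generates M together with J. -/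
theorem result {H : Type*} [Group H] [Finite H] (a : H) (ha : orderOf a = 2) (L : Subgroup H) (hL : Cfsg.IsComponent L)
    (hLa : L.map (MulAut.conj a).toMonoidHom ≠ L) (x : H) (hxM : x ∈ L ⊔ L.map (MulAut.conj a).toMonoidHom)
    (hxJ : x ∉ Subgroup.closure {y : H | ∃ l ∈ L, y = l * (a * l * a⁻¹)} ⊔
      ((L ⊔ L.map (MulAut.conj a).toMonoidHom) ⊓ Subgroup.centralizer ((L ⊔ L.map (MulAut.conj a).toMonoidHom : Subgroup H) : Set H))) :
    Subgroup.closure {y : H | ∃ l ∈ L, y = l * (a * l * a⁻¹)} ⊔ Subgroup.zpowers x = L ⊔ L.map (MulAut.conj a).toMonoidHom := by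
  open Cfsg.Agent.Helper9 Cfsg.Agent.Helper12 in
  (
  have hLac : Cfsg.IsComponent (L.map (MulAut.conj a).toMonoidHom) :=
    component_map_equiv (MulAut.conj a) L hL
  have hcomm : ∀ u ∈ L, ∀ v ∈ L.map (MulAut.conj a).toMonoidHom, u * v = v * u :=
    (comm_eq_bot_iff L _).mp (components_commute hL hLac (Ne.symm hLa))
  have hJgen : ∀ l ∈ L, l * (a * l * a⁻¹) ∈ Subgroup.closure {y : H | ∃ l ∈ L, y = l * (a * l * a⁻¹)} :=
    fun l hl => Subgroup.subset_closure ⟨l, hl, rfl⟩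
  have hconj : ∀ l ∈ L, a * l * a⁻¹ ∈ L.map (MulAut.conj a).toMonoidHom :=
    fun l hl => ⟨l, hl, rfl⟩
  apply le_antisymm
  · apply sup_le
    · rw [Subgroup.closure_le]
      rintro _ ⟨l, hl, rfl⟩
      exact Subgroup.mul_mem_sup hl (hconj l hl)
    · exact Subgroup.zpowers_le.mpr hxM
  · obtain ⟨u, hu, v, hv, hxuv⟩ := mem_sup_of_commute hcomm hxM
    have hxY : x ∈ Subgroup.closure {y : H | ∃ l ∈ L, y = l * (a * l * a⁻¹)} ⊔ Subgroup.zpowers x :=
      le_sup_right (a := Subgroup.closure _) (Subgroup.mem_zpowers x)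
    have hJY : Subgroup.closure {y : H | ∃ l ∈ L, y = l * (a * l * a⁻¹)} ≤
        Subgroup.closure {y : H | ∃ l ∈ L, y = l * (a * l * a⁻¹)} ⊔ Subgroup.zpowers x := le_sup_left
    have hwLa : (a * u * a⁻¹)⁻¹ * v ∈ L.map (MulAut.conj a).toMonoidHom :=
      Subgroup.mul_mem _ (Subgroup.inv_mem _ (hconj u hu)) hv
    have hwY : (a * u * a⁻¹)⁻¹ * v ∈
        Subgroup.closure {y : H | ∃ l ∈ L, y = l * (a * l * a⁻¹)} ⊔ Subgroup.zpowers x := by
      have e : (a * u * a⁻¹)⁻¹ * v = (u * (a * u * a⁻¹))⁻¹ * x := by rw [hxuv]; group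
      rw [e]
      exact Subgroup.mul_mem _ (Subgroup.inv_mem _ (hJY (hJgen u hu))) hxY
    have hwZ : (a * u * a⁻¹)⁻¹ * v ∉ (L ⊔ L.map (MulAut.conj a).toMonoidHom) ⊓
        Subgroup.centralizer ((L ⊔ L.map (MulAut.conj a).toMonoidHom : Subgroup H) : Set H) := by
      intro hw
      apply hxJ
      have e : x = (u * (a * u * a⁻¹)) * ((a * u * a⁻¹)⁻¹ * v) := by rw [hxuv]; group
      rw [e]
      exact Subgroup.mul_mem_sup (hJgen u hu) hw
    -- N = Y ∩ La is normal in La
    have hNn : ((Subgroup.closure {y : H | ∃ l ∈ L, y = l * (a * l * a⁻¹)} ⊔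
        Subgroup.zpowers x).subgroupOf (L.map (MulAut.conj a).toMonoidHom)).Normal := by
      constructor
      rintro ⟨n, hn⟩ hnY ⟨g, hg⟩
      rw [Subgroup.mem_subgroupOf] at hnY ⊢
      show g * n * g⁻¹ ∈ _
      have hnY' : n ∈ Subgroup.closure {y : H | ∃ l ∈ L, y = l * (a * l * a⁻¹)} ⊔
          Subgroup.zpowers x := hnY
      obtain ⟨l, hl, rfl⟩ := hg
      have h1 : (l * (a * l * a⁻¹)) * n * (l * (a * l * a⁻¹))⁻¹ ∈
          Subgroup.closure {y : H | ∃ l ∈ L, y = l * (a * l * a⁻¹)} ⊔ Subgroup.zpowers x :=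
        Subgroup.mul_mem _ (Subgroup.mul_mem _ (hJY (hJgen l hl)) hnY')
          (Subgroup.inv_mem _ (hJY (hJgen l hl)))
      have h2 : (a * l * a⁻¹) * n * (a * l * a⁻¹)⁻¹ ∈ L.map (MulAut.conj a).toMonoidHom :=
        Subgroup.mul_mem _ (Subgroup.mul_mem _ (hconj l hl) hn) (Subgroup.inv_mem _ (hconj l hl))
      have h3 := hcomm l hl _ h2
      have e : (l * (a * l * a⁻¹)) * n * (l * (a * l * a⁻¹))⁻¹ =
          (a * l * a⁻¹) * n * (a * l * a⁻¹)⁻¹ := by
        calc (l * (a * l * a⁻¹)) * n * (l * (a * l * a⁻¹))⁻¹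
            = l * ((a * l * a⁻¹) * n * (a * l * a⁻¹)⁻¹) * l⁻¹ := by group
          _ = ((a * l * a⁻¹) * n * (a * l * a⁻¹)⁻¹) * l * l⁻¹ := by rw [h3]
          _ = (a * l * a⁻¹) * n * (a * l * a⁻¹)⁻¹ := by group
      rw [e] at h1
      exact h1
    have hLaY : L.map (MulAut.conj a).toMonoidHom ≤
        Subgroup.closure {y : H | ∃ l ∈ L, y = l * (a * l * a⁻¹)} ⊔ Subgroup.zpowers x := by
      rw [← Subgroup.subgroupOf_eq_top]
      by_contra hne
      have hcen := quasi_normal_le_center hLac.2 _ hNn hne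
      apply hwZ
      have hwc : (⟨(a * u * a⁻¹)⁻¹ * v, hwLa⟩ : ↥(L.map (MulAut.conj a).toMonoidHom)) ∈
          Subgroup.center ↥(L.map (MulAut.conj a).toMonoidHom) :=
        hcen (Subgroup.mem_subgroupOf.mpr hwY)
      refine ⟨le_sup_right (a := L) hwLa, ?_⟩
      have hle : L ⊔ L.map (MulAut.conj a).toMonoidHom ≤
          Subgroup.centralizer ({(a * u * a⁻¹)⁻¹ * v} : Set H) := by
        apply sup_le
        · intro l hl
          rw [mem_centralizer_singleton_iff']
          exact (hcomm l hl _ hwLa).symm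
        · intro g hg
          rw [mem_centralizer_singleton_iff']
          have h0 := Subgroup.mem_center_iff.mp hwc ⟨g, hg⟩
          exact (congrArg Subtype.val h0).symm
      show (a * u * a⁻¹)⁻¹ * v ∈ Subgroup.centralizer
        ((L ⊔ L.map (MulAut.conj a).toMonoidHom : Subgroup H) : Set H)
      rw [Subgroup.mem_centralizer_iff]
      intro m hm
      exact (mem_centralizer_singleton_iff'.mp (hle hm)).symm
    apply sup_le
    · intro l hl
      have e : l = (l * (a * l * a⁻¹)) * (a * l * a⁻¹)⁻¹ := by group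
      rw [e]
      exact Subgroup.mul_mem _ (hJY (hJgen l hl)) (Subgroup.inv_mem _ (hLaY (hconj l hl)))
    · exact hLaY
  )

end Cfsg.Agent.S1921
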