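import Cfsg.Statements.S1944
-- import your own Cfsg.Agent.* helpers here
import Cfsg.Agent.Helper12.Trace
import Cfsg.Agent.S1907

set_option autoImplicit false
open Cfsg

namespace Cfsg.Agent.S1944

/-- Let S be a Sylow p-subgroup of the finite group G and suppose that the centre Z(S) lies in O_{p',p}(G). The elements of S each of which is its only G-conjugate in S form a subgroup W of Z(S); W is then a direct factor of Z(S): there is a subgroup K of Z(S) with W ∩ K = 1 and WK = Z(S). -/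
theorem result {G : Type*} [Group G] [Finite G] {p : ℕ} [Fact p.Prime] (S : Sylow p G)
    (hZ : ((S : Subgroup G) ⊓ Subgroup.centralizer ((S : Subgroup G) : Set G)) ≤ Cfsg.pPrimePCore p G) :
    ∃ W K : Subgroup G, (∀ x : G, x ∈ W ↔ (x ∈ (S : Subgroup G) ∧ ∀ g : G, g * x * g⁻¹ ∈ (S : Subgroup G) → g * x * g⁻¹ = x)) ∧
      K ≤ ((S : Subgroup G) ⊓ Subgroup.centralizer ((S : Subgroup G) : Set G)) ∧ W ⊓ K = ⊥ ∧ W ⊔ K = ((S : Subgroup G) ⊓ Subgroup.centralizer ((S : Subgroup G) : Set G)) := by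
  open Cfsg.Agent.Helper12 in
  (
  have hKn : (Cfsg.pPrimePCore p G).Normal := pPP_normal p G
  have hSN : (S : Subgroup G) ≤ Subgroup.normalizer
      (((S : Subgroup G) ⊓ Cfsg.pPrimePCore p G : Subgroup G) : Set G) :=
    le_normalizer_inf_normal _ _
  have hZH : (S : Subgroup G) ⊓ Subgroup.centralizer ((S : Subgroup G) : Set G) ≤
      (S : Subgroup G) ⊓ Cfsg.pPrimePCore p G := le_inf inf_le_left hZ
  obtain ⟨K, hK1, hK2, hK3⟩ := exists_direct_factor S
    ((S : Subgroup G) ⊓ Cfsg.pPrimePCore p G) inf_le_left hSN hZH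
  refine ⟨_, K, ?_, hK1, hK2, hK3⟩
  intro x
  constructor
  · rintro ⟨⟨hxS, hxC⟩, hxN⟩
    refine ⟨hxS, fun g hg => ?_⟩
    obtain ⟨n, hn, hnx⟩ := (Cfsg.Agent.S1907.result S).2 x (g * x * g⁻¹) hxS hg
      (isConj_iff.mpr ⟨g, rfl⟩)
    rw [← hnx]
    have h1 := Subgroup.mem_centralizer_iff.mp hxN n hn
    rw [h1]
    group
  · rintro ⟨hxS, hx⟩
    have hxC : x ∈ Subgroup.centralizer ((S : Subgroup G) : Set G) := by
      rw [Subgroup.mem_centralizer_iff]
      intro s hs
      have h1 := hx s (Subgroup.mul_mem _ (Subgroup.mul_mem _ hs hxS) (Subgroup.inv_mem _ hs))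
      calc s * x = s * x * s⁻¹ * s := by group
        _ = x * s := by rw [h1]
    refine ⟨⟨hxS, hxC⟩, ?_⟩
    show x ∈ Subgroup.centralizer ((Subgroup.normalizer
      (((S : Subgroup G) ⊓ Cfsg.pPrimePCore p G : Subgroup G) : Set G) : Subgroup G) : Set G)
    rw [Subgroup.mem_centralizer_iff]
    intro n hn
    have hxH : x ∈ (S : Subgroup G) ⊓ Cfsg.pPrimePCore p G := hZH ⟨hxS, hxC⟩
    have h2 : n * x * n⁻¹ ∈ (S : Subgroup G) ⊓ Cfsg.pPrimePCore p G :=
      (Subgroup.mem_normalizer_iff.mp hn x).mp hxH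
    have h1 := hx n h2.1
    calc n * x = n * x * n⁻¹ * n := by group
      _ = x * n := by rw [h1]
  )

end Cfsg.Agent.S1944
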