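import Mathlib
import Cfsg.Statements.S1949
import Cfsg.Agent.S0640
import Cfsg.Agent.Helper12.PRes

set_option autoImplicit false
open Cfsg

namespace Cfsg.Agent.S1949

open scoped commutatorElement

theorem mul_pow_four {G : Type*} [Group G] (x y c : G) (hc : y * x = c * x * y)
    (hcx : c * x = x * c) (hcy : c * y = y * c) (hyp : y ^ 2 * x = x * y ^ 2) :
    (x * y) ^ 4 = x ^ 4 * y ^ 4 := by
  have hc2 : c ^ 2 = 1 := by
    have h1 := Cfsg.Agent.S0640.pow_mul_comm_of_central x y c hc hcy 2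
    rw [hyp, mul_assoc] at h1
    have h2 : c ^ 2 * (x * y ^ 2) = 1 * (x * y ^ 2) := by rw [one_mul]; exact h1.symm
    exact mul_right_cancel h2
  rw [Cfsg.Agent.S0640.mul_pow_class_two x y c hc hcx hcy 4]
  have h6 : ∑ i ∈ Finset.range 4, i = 2 * 3 := by simp [Finset.sum_range_succ]
  rw [h6, pow_mul, hc2, one_pow, mul_one]

theorem core {P : Type*} [Group P] [Finite P] {p : ℕ} [Fact p.Prime] (hP : IsPGroup p P)
    (G : Subgroup (MulAut P)) (hG : Cfsg.Inn P ≤ G)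
    (C : Subgroup P) (hCfix : ∀ φ : MulAut P, ∀ x ∈ C, φ x ∈ C)
    (hcen : ∀ a ∈ C, ∀ b : P, ∀ h ∈ C, h * (a * b * a⁻¹ * b⁻¹) = (a * b * a⁻¹ * b⁻¹) * h)
    (hCC : Subgroup.centralizer (C : Set P) ≤ C)
    (k : ℕ) (hk : 1 ≤ k)
    (hmulpow : ∀ a ∈ C, ∀ b ∈ C, (a * b) ^ (p ^ k) = a ^ (p ^ k) * b ^ (p ^ k)) :
    ∃ D : Subgroup P,
      (∀ α ∈ G, D.map α.toMonoidHom = D) ∧
      D ≤ Subgroup.closure {y : P | ∃ α ∈ Cfsg.pResidual p ↥G, ∃ x : P, y = x⁻¹ * (α : MulAut P) x} ∧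
      (∀ d ∈ D, d ^ (p ^ k) = 1) ∧
      ⁅D, (⊤ : Subgroup P)⁆ ≤ D ⊓ Subgroup.centralizer (D : Set P) ∧
      (∀ α ∈ G, (orderOf α).Coprime p → (∀ d ∈ D, α d = d) → α = 1) ∧
      ∀ A : Subgroup P, A ≤ D → IsMulCommutative ↥A →
        (∀ B : Subgroup P, A ≤ B → B ≤ D → IsMulCommutative ↥B → B = A) →
        A.Normal ∧ ∀ α ∈ G, (∀ a ∈ A, α a = a) → ∃ j : ℕ, orderOf α = p ^ j := by
  classical
  have hp : p.Prime := Fact.out
  have hLn : (Cfsg.pResidual p ↥G).Normal := Cfsg.Agent.Helper12.pRes_normal p ↥G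
  have hinn : ∀ g : P, MulAut.conj g ∈ G := fun g => hG (MonoidHom.mem_range.mpr ⟨g, rfl⟩)
  obtain ⟨D₀, hD₀def⟩ : ∃ D₀ : Subgroup P, D₀ = Subgroup.closure
      {y : P | ∃ α ∈ Cfsg.pResidual p ↥G, ∃ c ∈ C, y = c⁻¹ * (α : MulAut P) c} := ⟨_, rfl⟩
  have hD₀C : D₀ ≤ C := by
    rw [hD₀def, Subgroup.closure_le]
    rintro y ⟨α, _, c, hc, rfl⟩
    exact C.mul_mem (C.inv_mem hc) (hCfix _ c hc)
  have hD₀gen : ∀ α ∈ Cfsg.pResidual p ↥G, ∀ c ∈ C, c⁻¹ * (α : MulAut P) c ∈ D₀ := by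
    intro α hα c hc
    rw [hD₀def]
    exact Subgroup.subset_closure ⟨α, hα, c, hc, rfl⟩
  have hD₀le : D₀ ≤ Subgroup.closure
      {y : P | ∃ α ∈ Cfsg.pResidual p ↥G, ∃ x : P, y = x⁻¹ * (α : MulAut P) x} := by
    rw [hD₀def]
    apply Subgroup.closure_mono
    rintro y ⟨α, hα, c, _, rfl⟩
    exact ⟨α, hα, c, rfl⟩
  have hD₀fix : ∀ γ ∈ G, ∀ x ∈ D₀, γ x ∈ D₀ := by
    intro γ hγ x hx
    have hle : D₀ ≤ D₀.comap γ.toMonoidHom := by
      conv_lhs => rw [hD₀def]
      rw [Subgroup.closure_le]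
      rintro y ⟨α, hα, c, hc, rfl⟩
      show γ (c⁻¹ * (α : MulAut P) c) ∈ D₀
      have h1 : (⟨γ, hγ⟩ : ↥G) * α * (⟨γ, hγ⟩ : ↥G)⁻¹ ∈ Cfsg.pResidual p ↥G :=
        hLn.conj_mem α hα ⟨γ, hγ⟩
      have h2 := hD₀gen _ h1 (γ c) (hCfix γ c hc)
      have e1 : ((((⟨γ, hγ⟩ : ↥G) * α * (⟨γ, hγ⟩ : ↥G)⁻¹ : ↥G) : MulAut P)) (γ c)
          = γ ((α : MulAut P) c) := by
        show γ ((α : MulAut P) (γ⁻¹ (γ c))) = γ ((α : MulAut P) c)
        rw [MulAut.inv_apply_self]
      rw [e1] at h2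
      rw [map_mul, map_inv]
      exact h2
    exact hle hx
  obtain ⟨D, hDmem⟩ : ∃ D : Subgroup P, ∀ x, x ∈ D ↔ x ∈ D₀ ∧ x ^ (p ^ k) = 1 :=
    ⟨Cfsg.Agent.S0640.omegaSub D₀ (p ^ k) (fun a ha b hb => hmulpow a (hD₀C ha) b (hD₀C hb)),
      fun x => Iff.rfl⟩
  have hDD₀ : D ≤ D₀ := fun x hx => ((hDmem x).mp hx).1
  have hDC : D ≤ C := hDD₀.trans hD₀C
  have hDfix : ∀ γ ∈ G, ∀ x ∈ D, γ x ∈ D := by
    intro γ hγ x hx
    have hx' := (hDmem x).mp hx
    refine (hDmem _).mpr ⟨hD₀fix γ hγ x hx'.1, ?_⟩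
    rw [← map_pow, hx'.2, map_one]
  have hmapD : ∀ α ∈ G, D.map α.toMonoidHom = D := by
    intro α hα
    apply le_antisymm
    · rintro _ ⟨x, hx, rfl⟩
      exact hDfix α hα x hx
    · intro x hx
      refine ⟨α⁻¹ x, hDfix α⁻¹ (G.inv_mem hα) x hx, ?_⟩
      show α (α⁻¹ x) = x
      exact MulAut.apply_inv_self P α x
  have hcomm : ⁅D, (⊤ : Subgroup P)⁆ ≤ D ⊓ Subgroup.centralizer (D : Set P) := by
    rw [Subgroup.commutator_le]
    intro d hd g _
    rw [commutatorElement_def]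
    refine Subgroup.mem_inf.mpr ⟨?_, ?_⟩
    · have h1 : (MulAut.conj g) d⁻¹ ∈ D := hDfix _ (hinn g) _ (D.inv_mem hd)
      rw [MulAut.conj_apply] at h1
      have h2 := D.mul_mem hd h1
      have e : d * (g * d⁻¹ * g⁻¹) = d * g * d⁻¹ * g⁻¹ := by group
      rwa [e] at h2
    · rw [Subgroup.mem_centralizer_iff]
      intro h hh
      exact hcen d (hDC hd) g h (hDC hh)
  have hfaith : ∀ α ∈ G, (orderOf α).Coprime p → (∀ d ∈ D, α d = d) → α = 1 := by
    intro α hα hcop hfix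
    have hαq : α ^ orderOf α = 1 := pow_orderOf_eq_one α
    have hαL : (⟨α, hα⟩ : ↥G) ∈ Cfsg.pResidual p ↥G := by
      apply Cfsg.Agent.Helper12.mem_pRes_of_coprime
      rw [Subgroup.orderOf_mk]
      exact hcop
    have hall : ∀ j : ℕ, ∀ x ∈ D₀, x ^ (p ^ j) = 1 → α x = x := by
      intro j
      induction j with
      | zero =>
        intro x _ hx
        rw [pow_zero, pow_one] at hx
        rw [hx, map_one]
      | succ j ih =>
        intro x hxD hx
        have hxe : α (x ^ (p ^ k)) = x ^ (p ^ k) := by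
          apply ih _ (D₀.pow_mem hxD _)
          have h1 : p ^ k * p ^ j = p ^ (j + 1) * p ^ (k - 1) := by
            rw [← pow_add, ← pow_add]
            congr 1
            omega
          rw [← pow_mul, h1, pow_mul, hx, one_pow]
        obtain ⟨t, htdef⟩ : ∃ t : P, t = x⁻¹ * α x := ⟨_, rfl⟩
        have hxt : α x = x * t := by rw [htdef, mul_inv_cancel_left]
        have htD₀ : t ∈ D₀ := by
          rw [htdef]
          exact D₀.mul_mem (D₀.inv_mem hxD) (hD₀fix α hα x hxD)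
        have hte : t ^ (p ^ k) = 1 := by
          rw [htdef, hmulpow _ (hD₀C (D₀.inv_mem hxD)) _ (hD₀C (hD₀fix α hα x hxD)), inv_pow,
            ← map_pow, hxe, inv_mul_cancel]
        have htD : t ∈ D := (hDmem t).mpr ⟨htD₀, hte⟩
        have ht1 : t = 1 := Cfsg.Agent.S0640.aut_stab hcop α hαq x t hxt (hfix t htD) k hte
        rw [hxt, ht1, mul_one]
    have hfixD₀ : ∀ x ∈ D₀, α x = x := by
      intro x hx
      obtain ⟨j, hj⟩ := hP x
      exact hall j x hx hj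
    have hfixC : ∀ c ∈ C, α c = c := by
      intro c hc
      obtain ⟨t, htdef⟩ : ∃ t : P, t = c⁻¹ * α c := ⟨_, rfl⟩
      have hct : α c = c * t := by rw [htdef, mul_inv_cancel_left]
      have htD₀ : t ∈ D₀ := by
        rw [htdef]
        exact hD₀gen ⟨α, hα⟩ hαL c hc
      obtain ⟨j, hj⟩ := hP t
      have ht1 : t = 1 := Cfsg.Agent.S0640.aut_stab hcop α hαq c t hct (hfixD₀ t htD₀) j hj
      rw [hct, ht1, mul_one]
    ext g
    rw [MulAut.one_apply]
    obtain ⟨t, htdef⟩ : ∃ t : P, t = g⁻¹ * α g := ⟨_, rfl⟩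
    have hgt : α g = g * t := by rw [htdef, mul_inv_cancel_left]
    have htC : t ∈ Subgroup.centralizer (C : Set P) := by
      rw [Subgroup.mem_centralizer_iff]
      intro h hh
      have h1 : g * h * g⁻¹ ∈ C := by
        have h0 := hCfix (MulAut.conj g) h hh
        rwa [MulAut.conj_apply] at h0
      have h2 := hfixC _ h1
      rw [map_mul, map_mul, map_inv, hgt, hfixC h hh] at h2
      have h3 : g * (t * h) = g * (h * t) := by
        calc g * (t * h) = g * t * h * (g * t)⁻¹ * (g * t) := by group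
          _ = g * h * g⁻¹ * (g * t) := by rw [h2]
          _ = g * (h * t) := by group
      exact (mul_left_cancel h3).symm
    obtain ⟨j, hj⟩ := hP t
    have ht1 : t = 1 :=
      Cfsg.Agent.S0640.aut_stab hcop α hαq g t hgt (hfixC t (hCC htC)) j hj
    rw [hgt, ht1, mul_one]
  refine ⟨D, hmapD, hDD₀.trans hD₀le, fun d hd => ((hDmem d).mp hd).2, hcomm, hfaith, ?_⟩
  intro A hAD hAc hAmax
  have hAcomm : ∀ a ∈ A, ∀ b ∈ A, a * b = b * a := by
    intro a ha b hb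
    have h0 := hAc.is_comm.comm ⟨a, ha⟩ ⟨b, hb⟩
    exact congrArg Subtype.val h0
  have hself : ∀ x ∈ D, (∀ a ∈ A, a * x = x * a) → x ∈ A := by
    intro x hxD hx
    have hk' : ∀ u ∈ (A : Set P) ∪ {x}, ∀ v ∈ (A : Set P) ∪ {x}, u * v = v * u := by
      intro u hu v hv
      rcases hu with hu | hu <;> rcases hv with hv | hv
      · exact hAcomm u hu v hv
      · rw [Set.mem_singleton_iff.mp hv]; exact hx u hu
      · rw [Set.mem_singleton_iff.mp hu]; exact (hx v hv).symm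
      · rw [Set.mem_singleton_iff.mp hu, Set.mem_singleton_iff.mp hv]
    have hBc : IsMulCommutative ↥(Subgroup.closure ((A : Set P) ∪ {x})) :=
      Subgroup.isMulCommutative_closure hk'
    have hB := hAmax (Subgroup.closure ((A : Set P) ∪ {x}))
      (fun a ha => Subgroup.subset_closure (Or.inl ha))
      (by
        rw [Subgroup.closure_le]
        rintro u (hu | hu)
        · exact hAD hu
        · rw [Set.mem_singleton_iff.mp hu]; exact hxD) hBc
    rw [← hB]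
    exact Subgroup.subset_closure (Or.inr rfl)
  have hAn : A.Normal := by
    constructor
    intro a ha g
    have h1 : a⁻¹ * g * a⁻¹⁻¹ * g⁻¹ ∈ D ⊓ Subgroup.centralizer (D : Set P) := by
      have h0 := hcomm (Subgroup.commutator_mem_commutator (hAD (A.inv_mem ha))
        (Subgroup.mem_top g))
      rwa [commutatorElement_def] at h0
    have h2 : a⁻¹ * g * a⁻¹⁻¹ * g⁻¹ ∈ A := by
      apply hself _ (Subgroup.mem_inf.mp h1).1
      intro b hb
      exact (Subgroup.mem_centralizer_iff.mp (Subgroup.mem_inf.mp h1).2) b (hAD hb)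
    have h3 := A.mul_mem ha h2
    have e : a * (a⁻¹ * g * a⁻¹⁻¹ * g⁻¹) = g * a * g⁻¹ := by group
    rwa [e] at h3
  refine ⟨hAn, ?_⟩
  intro α hα hαA
  have hn : orderOf α ≠ 0 := (orderOf_pos α).ne'
  obtain ⟨e, m, hm, hnm⟩ := Nat.exists_eq_pow_mul_and_not_dvd hn p hp.ne_one
  have hβG : α ^ (p ^ e) ∈ G := G.pow_mem hα _
  have hβm : (α ^ (p ^ e)) ^ m = 1 := by
    rw [← pow_mul, ← hnm, pow_orderOf_eq_one]
  have hβcop : (orderOf (α ^ (p ^ e))).Coprime p := by
    have h1 : orderOf (α ^ (p ^ e)) ∣ m := orderOf_dvd_of_pow_eq_one hβm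
    have h2 : Nat.Coprime m p := Nat.Coprime.symm ((Nat.Prime.coprime_iff_not_dvd hp).mpr hm)
    exact Nat.Coprime.coprime_dvd_left h1 h2
  have hpowA : ∀ (i : ℕ) (a : P), a ∈ A → (α ^ i) a = a := by
    intro i
    induction i with
    | zero => intro a _; simp
    | succ i ih =>
      intro a ha
      rw [pow_succ, MulAut.mul_apply, hαA a ha, ih a ha]
  have hβD : ∀ d ∈ D, (α ^ (p ^ e)) d = d := by
    intro x hx
    obtain ⟨β, hβdef⟩ : ∃ β : MulAut P, β = α ^ (p ^ e) := ⟨_, rfl⟩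
    rw [← hβdef] at hβG hβcop ⊢
    have hβA : ∀ a ∈ A, β a = a := by
      intro a ha
      rw [hβdef]
      exact hpowA _ a ha
    obtain ⟨t, htdef⟩ : ∃ t : P, t = x⁻¹ * β x := ⟨_, rfl⟩
    have hxt : β x = x * t := by rw [htdef, mul_inv_cancel_left]
    have htD : t ∈ D := by
      rw [htdef]
      exact D.mul_mem (D.inv_mem hx) (hDfix β hβG x hx)
    have htA : t ∈ A := by
      apply hself t htD
      intro a ha
      have h1 : x * a * x⁻¹ ∈ A := hAn.conj_mem a ha x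
      have h2 := hβA _ h1
      rw [map_mul, map_mul, map_inv, hβA a ha, hxt] at h2
      have h3 : x * (t * a) = x * (a * t) := by
        calc x * (t * a) = x * t * a * (x * t)⁻¹ * (x * t) := by group
          _ = x * a * x⁻¹ * (x * t) := by rw [h2]
          _ = x * (a * t) := by group
      exact (mul_left_cancel h3).symm
    obtain ⟨j, hj⟩ := hP t
    have ht1 : t = 1 :=
      Cfsg.Agent.S0640.aut_stab hβcop β (pow_orderOf_eq_one β) x t hxt (hβA t htA) j hj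
    rw [hxt, ht1, mul_one]
  have hβ1 := hfaith _ hβG hβcop hβD
  have hdvd : orderOf α ∣ p ^ e := orderOf_dvd_of_pow_eq_one hβ1
  obtain ⟨j, _, hj⟩ := (Nat.dvd_prime_pow hp).mp hdvd
  exact ⟨j, hj⟩

/-- Let P be a finite p-group and G a group of automorphisms of P containing the inner automorphisms. Then there is a G-invariant subgroup D of P, contained in the subgroup generated by the elements x⁻¹α(x) with x in P and α in O^p(G), of exponent dividing p when p is odd and dividing 4 when p = 2, with [D, P] ≤ Z(D), such that every automorphism in G of order prime to p that fixes D elementwise is the identity; moreover every maximal abelian subgroup A of D is normal in P and every automorphism in G fixing A elementwise has p-power order. -/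
theorem result {P : Type*} [Group P] [Finite P] {p : ℕ} [Fact p.Prime] (hP : IsPGroup p P)
    (G : Subgroup (MulAut P)) (hG : Cfsg.Inn P ≤ G) :
    ∃ D : Subgroup P,
      (∀ α ∈ G, D.map α.toMonoidHom = D) ∧
      D ≤ Subgroup.closure {y : P | ∃ α ∈ Cfsg.pResidual p ↥G, ∃ x : P, y = x⁻¹ * (α : MulAut P) x} ∧
      (∀ d ∈ D, d ^ p = 1 ∨ (p = 2 ∧ d ^ 4 = 1)) ∧
      ⁅D, (⊤ : Subgroup P)⁆ ≤ D ⊓ Subgroup.centralizer (D : Set P) ∧
      (∀ α ∈ G, (orderOf α).Coprime p → (∀ d ∈ D, α d = d) → α = 1) ∧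
      ∀ A : Subgroup P, A ≤ D → IsMulCommutative ↥A →
        (∀ B : Subgroup P, A ≤ B → B ≤ D → IsMulCommutative ↥B → B = A) →
        A.Normal ∧ ∀ α ∈ G, (∀ a ∈ A, α a = a) → ∃ k : ℕ, orderOf α = p ^ k := by
  classical
  have hp : p.Prime := Fact.out
  obtain ⟨C, hCch, hΦ, hCP, hCC⟩ := Cfsg.Agent.Helper24.exists_critical_subgroup hP
  have hCfix : ∀ φ : MulAut P, ∀ x ∈ C, φ x ∈ C := by
    intro φ x hx
    have h1 := (Subgroup.characteristic_iff_le_comap.mp hCch) φ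
    exact h1 hx
  have hcommC : ∀ a ∈ C, ∀ b : P,
      a * b * a⁻¹ * b⁻¹ ∈ C ⊓ Subgroup.centralizer (C : Set P) := by
    intro a ha b
    have h1 : ⁅a, b⁆ ∈ ⁅C, (⊤ : Subgroup P)⁆ :=
      Subgroup.commutator_mem_commutator ha (Subgroup.mem_top b)
    rw [commutatorElement_def] at h1
    exact hCP h1
  have hcen : ∀ a ∈ C, ∀ b : P, ∀ h ∈ C,
      h * (a * b * a⁻¹ * b⁻¹) = (a * b * a⁻¹ * b⁻¹) * h := by
    intro a ha b h hh
    exact (Subgroup.mem_centralizer_iff.mp (Subgroup.mem_inf.mp (hcommC a ha b)).2) h hh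
  have hpowc : ∀ y ∈ C, ∀ h ∈ C, h * y ^ p = y ^ p * h := by
    intro y hy h hh
    have h1 : (⟨y, hy⟩ : C) ^ p ∈ frattini C := by
      rw [Cfsg.Agent.Helper1.mem_frattini_iff]
      intro M hM
      exact (Cfsg.Agent.Helper1.coatom_pgroup p (hP.to_subgroup C) M hM).2.2 _
    have h2 : y ^ p ∈ (frattini C).map C.subtype := by
      refine Subgroup.mem_map.mpr ⟨_, h1, ?_⟩
      simp
    exact (Subgroup.mem_centralizer_iff.mp (hΦ h2)) h hh
  by_cases hp2 : p = 2
  · have hmul : ∀ a ∈ C, ∀ b ∈ C, (a * b) ^ (p ^ 2) = a ^ (p ^ 2) * b ^ (p ^ 2) := by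
      intro a ha b hb
      obtain ⟨c, hcdef⟩ : ∃ c : P, c = b * a * b⁻¹ * a⁻¹ := ⟨_, rfl⟩
      have hc : b * a = c * a * b := by rw [hcdef]; group
      have hcc : ∀ h ∈ C, h * c = c * h := by
        intro h hh
        rw [hcdef]
        exact hcen b hb a h hh
      have hyp : b ^ 2 * a = a * b ^ 2 := by
        have h0 := hpowc b hb a ha
        rw [hp2] at h0
        exact h0.symm
      have h4 : p ^ 2 = 4 := by rw [hp2]; norm_num
      rw [h4]
      exact mul_pow_four a b c hc (hcc a ha).symm (hcc b hb).symm hyp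
    obtain ⟨D, h1, h2, h3, h4, h5, h6⟩ := core hP G hG C hCfix hcen hCC 2 (by norm_num) hmul
    refine ⟨D, h1, h2, ?_, h4, h5, h6⟩
    intro d hd
    right
    refine ⟨hp2, ?_⟩
    have h0 := h3 d hd
    have e4 : p ^ 2 = 4 := by rw [hp2]; norm_num
    rw [e4] at h0
    exact h0
  · have hmul : ∀ a ∈ C, ∀ b ∈ C, (a * b) ^ (p ^ 1) = a ^ (p ^ 1) * b ^ (p ^ 1) := by
      intro a ha b hb
      rw [pow_one]
      obtain ⟨c, hcdef⟩ : ∃ c : P, c = b * a * b⁻¹ * a⁻¹ := ⟨_, rfl⟩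
      have hc : b * a = c * a * b := by rw [hcdef]; group
      have hcc : ∀ h ∈ C, h * c = c * h := by
        intro h hh
        rw [hcdef]
        exact hcen b hb a h hh
      exact Cfsg.Agent.S0640.mul_pow_p p hp hp2 a b c hc (hcc a ha).symm (hcc b hb).symm
        (hpowc b hb a ha).symm
    obtain ⟨D, h1, h2, h3, h4, h5, h6⟩ := core hP G hG C hCfix hcen hCC 1 le_rfl hmul
    refine ⟨D, h1, h2, ?_, h4, h5, h6⟩
    intro d hd
    left
    have h0 := h3 d hd
    rwa [pow_one] at h0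

end Cfsg.Agent.S1949
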