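import Mathlib
import Cfsg.Statements.S2277
import Cfsg.Agent.Helper1.Coprime2

set_option autoImplicit false
open Cfsg

namespace Cfsg.Agent.S2277

universe u

/-! ### Abstract commutative part -/

theorem indep3 {A : Type*} [CommGroup A] (c z : A ≃* A)
    (hcz : ∀ x, c (z x) = z (c x))
    (f1 : ∀ w, z w = w → w = 1) (f2 : ∀ w, z (z w) = w → w = 1)
    (w0 w1 w2 : A) (h0 : c w0 = w0) (h1 : c w1 = z w1) (h2 : c w2 = z (z w2))
    (hs : w0 * w1 * w2 = 1) : w0 = 1 ∧ w1 = 1 ∧ w2 = 1 := by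
  have hs1 : w0 * z w1 * z (z w2) = 1 := by
    have h := congrArg c hs
    simpa only [map_mul, map_one, h0, h1, h2] using h
  have hs2 : w0 * z (z w1) * z (z (z (z w2))) = 1 := by
    have h := congrArg c hs1
    simpa only [map_mul, map_one, hcz, h0, h1, h2] using h
  have E1 : z w1 * z (z w2) = w1 * w2 :=
    mul_left_cancel (a := w0) (by rw [← mul_assoc, ← mul_assoc, hs1, hs])
  have E2 : z (z w1) * z (z (z (z w2))) = z w1 * z (z w2) :=
    mul_left_cancel (a := w0) (by rw [← mul_assoc, ← mul_assoc, hs2, hs1])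
  have E3 : z (z w1) * z (z (z w2)) = z w1 * z w2 := by
    have h := congrArg z E1
    simpa only [map_mul] using h
  have h5 : (z (z w1) * z (z (z (z w2)))) * (z w1 * z w2)
      = (z w1 * z (z w2)) * (z (z w1) * z (z (z w2))) := by
    rw [E2, E3]
  have E4 : z (z (z (z w2))) * z w2 = z (z w2) * z (z (z w2)) := by
    apply mul_left_cancel (a := z (z w1) * z w1)
    calc z (z w1) * z w1 * (z (z (z (z w2))) * z w2)
        = (z (z w1) * z (z (z (z w2)))) * (z w1 * z w2) := mul_mul_mul_comm _ _ _ _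
      _ = (z w1 * z (z w2)) * (z (z w1) * z (z (z w2))) := h5
      _ = z (z w1) * z w1 * (z (z w2) * z (z (z w2))) := by
          rw [mul_mul_mul_comm, mul_comm (z w1) (z (z w1))]
  have ht : z (z (z (z w2) * (z w2)⁻¹)) = z (z w2) * (z w2)⁻¹ := by
    have e4 : z (z (z (z w2))) = z (z w2) * z (z (z w2)) * (z w2)⁻¹ := eq_mul_inv_of_mul_eq E4
    rw [map_mul, map_mul, map_inv, map_inv, e4, mul_right_comm, mul_inv_cancel_right]
  have t1 : z (z w2) * (z w2)⁻¹ = 1 := f2 _ ht
  have hb : z (z w2) = z w2 := mul_inv_eq_one.mp t1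
  have hw2 : w2 = 1 := f1 _ (z.injective hb)
  have hw1 : w1 = 1 := by
    apply f1
    simpa only [hw2, map_one, mul_one] using E1
  have hw0 : w0 = 1 := by simpa only [hw1, hw2, mul_one] using hs
  exact ⟨hw0, hw1, hw2⟩

theorem cube {A : Type*} [CommGroup A] [Finite A] (c z e : A ≃* A)
    (hcz : ∀ x, c (z x) = z (c x)) (hez : ∀ x, e (z x) = z (e x))
    (hce : ∀ x, c (e x) = z (e (c x)))
    (f1 : ∀ w, z w = w → w = 1) (f2 : ∀ w, z (z w) = w → w = 1) :
    (Nat.card {w : A // c w = w}) ^ 3 ≤ Nat.card A := by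
  have hf : Function.Injective
      (fun t : {w : A // c w = w} × {w : A // c w = w} × {w : A // c w = w} =>
        (t.1 : A) * e (t.2.1 : A) * e (e (t.2.2 : A))) := by
    rintro ⟨⟨a, ha⟩, ⟨b, hb⟩, ⟨d, hd⟩⟩ ⟨⟨a', ha'⟩, ⟨b', hb'⟩, ⟨d', hd'⟩⟩ h
    have h' : a * e b * e (e d) = a' * e b' * e (e d') := h
    have key := indep3 c z hcz f1 f2 (a * a'⁻¹) (e (b * b'⁻¹)) (e (e (d * d'⁻¹)))
      (by rw [map_mul c, map_inv c, ha, ha'])
      (by rw [hce, map_mul c, map_inv c, hb, hb'])
      (by rw [hce, hce, hez, map_mul c, map_inv c, hd, hd'])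
      (by
        have h1 : a * a'⁻¹ * e (b * b'⁻¹) * e (e (d * d'⁻¹))
            = (a * e b * e (e d)) * (a' * e b' * e (e d'))⁻¹ := by
          simp only [map_mul, map_inv, mul_inv]
          rw [mul_mul_mul_comm a a'⁻¹ (e b) (e b')⁻¹,
            mul_mul_mul_comm (a * e b) (a'⁻¹ * (e b')⁻¹) (e (e d)) (e (e d'))⁻¹]
        rw [h1, h', mul_inv_cancel])
    obtain ⟨k0, k1, k2⟩ := key
    have e1 : a = a' := mul_inv_eq_one.mp k0
    have e2 : b = b' := mul_inv_eq_one.mp ((map_eq_one_iff e e.injective).mp k1)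
    have e3 : d = d' :=
      mul_inv_eq_one.mp ((map_eq_one_iff e e.injective).mp ((map_eq_one_iff e e.injective).mp k2))
    subst e1 e2 e3
    rfl
  have hcard := Nat.card_le_card_of_injective _ hf
  rw [Nat.card_prod, Nat.card_prod] at hcard
  calc (Nat.card {w : A // c w = w}) ^ 3
      = Nat.card {w : A // c w = w} *
          (Nat.card {w : A // c w = w} * Nat.card {w : A // c w = w}) := by ring
    _ ≤ Nat.card A := hcard

/-! ### Bridge to a normal abelian subgroup -/

open scoped IsMulCommutative in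
theorem cubeG {G : Type*} [Group G] [Finite G] (N : Subgroup G) [N.Normal]
    (hab : ∀ a ∈ N, ∀ b ∈ N, a * b = b * a) (c e z : G)
    (hcz : c * z = z * c) (hez : e * z = z * e) (hce : c * e = z * e * c)
    (f1 : ∀ w ∈ N, z * w = w * z → w = 1) (f2 : ∀ w ∈ N, z * z * w = w * (z * z) → w = 1) :
    (Nat.card {w : N // MulAut.conjNormal c w = w}) ^ 3 ≤ Nat.card N := by
  have hCZ : (MulAut.conjNormal c : MulAut N) * MulAut.conjNormal z
      = MulAut.conjNormal z * MulAut.conjNormal c := by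
    have h1 : (MulAut.conjNormal (c * z) : MulAut N) = MulAut.conjNormal (z * c) := by rw [hcz]
    rwa [map_mul, map_mul] at h1
  have hEZ : (MulAut.conjNormal e : MulAut N) * MulAut.conjNormal z
      = MulAut.conjNormal z * MulAut.conjNormal e := by
    have h1 : (MulAut.conjNormal (e * z) : MulAut N) = MulAut.conjNormal (z * e) := by rw [hez]
    rwa [map_mul, map_mul] at h1
  have hCE : (MulAut.conjNormal c : MulAut N) * MulAut.conjNormal e
      = MulAut.conjNormal z * MulAut.conjNormal e * MulAut.conjNormal c := by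
    have h1 : (MulAut.conjNormal (c * e) : MulAut N) = MulAut.conjNormal (z * e * c) := by rw [hce]
    rwa [map_mul, map_mul, map_mul] at h1
  have g1 : ∀ w : N, MulAut.conjNormal z w = w → w = 1 := by
    intro w hw
    have h1 : z * (w : G) * z⁻¹ = (w : G) :=
      (MulAut.conjNormal_apply z w).symm.trans (congrArg (fun t : N => (t : G)) hw)
    exact Subtype.ext (f1 w w.2 (mul_inv_eq_iff_eq_mul.mp h1))
  have g2 : ∀ w : N, MulAut.conjNormal z (MulAut.conjNormal z w) = w → w = 1 := by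
    intro w hw
    have e1 : ((MulAut.conjNormal z (MulAut.conjNormal z w) : N) : G)
        = z * (z * (w : G) * z⁻¹) * z⁻¹ := by
      rw [MulAut.conjNormal_apply, MulAut.conjNormal_apply]
    have h1 : z * (z * (w : G) * z⁻¹) * z⁻¹ = (w : G) :=
      e1.symm.trans (congrArg (fun t : N => (t : G)) hw)
    have h2 : z * z * (w : G) = w * (z * z) := by
      calc z * z * (w : G) = z * (z * (w : G) * z⁻¹) * z⁻¹ * (z * z) := by group
        _ = w * (z * z) := by rw [h1]
    exact Subtype.ext (f2 w w.2 h2)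
  haveI : IsMulCommutative N := isMulCommutative_iff.mpr (fun a b => Subtype.ext (hab a a.2 b b.2))
  exact cube (A := ↥N) (MulAut.conjNormal c) (MulAut.conjNormal z) (MulAut.conjNormal e)
    (fun x => congrArg (fun f : MulAut N => f x) hCZ)
    (fun x => congrArg (fun f : MulAut N => f x) hEZ)
    (fun x => congrArg (fun f : MulAut N => f x) hCE)
    g1 g2

/-! ### Elementary group lemmas -/

theorem eq_one_of_pow {G : Type*} [Group G] (p : ℕ) (N : Subgroup G)
    (hN : (Nat.card N).Coprime p) (t : G) (htN : t ∈ N) (k : ℕ) (h2 : t ^ (p ^ k) = 1) :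
    t = 1 := by
  have h3 : t ^ Nat.card N = 1 := by
    have h := pow_card_eq_one' (G := N) (x := ⟨t, htN⟩)
    exact congrArg Subtype.val h
  have ha := orderOf_dvd_of_pow_eq_one h2
  have hb := orderOf_dvd_of_pow_eq_one h3
  have hcop : Nat.Coprime (Nat.card N) (p ^ k) := Nat.Coprime.pow_right k hN
  have h4 : orderOf t ∣ 1 := by
    have := Nat.dvd_gcd hb ha
    rwa [hcop.gcd_eq_one] at this
  exact orderOf_eq_one_iff.mp (Nat.dvd_one.mp h4)

theorem inter_triv {G : Type*} [Group G] (p : ℕ) (P N : Subgroup G) (hP : IsPGroup p P)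
    (hN : (Nat.card N).Coprime p) (t : G) (htP : t ∈ P) (htN : t ∈ N) : t = 1 := by
  obtain ⟨k, hk⟩ := hP ⟨t, htP⟩
  have h2 : t ^ (p ^ k) = 1 := by
    have := congrArg (fun s : P => (s : G)) hk
    simpa using this
  exact eq_one_of_pow p N hN t htN k h2

theorem comm_of_conj_mem {G : Type*} [Group G] (P N : Subgroup G) [hNn : N.Normal]
    (htriv : ∀ t, t ∈ P → t ∈ N → t = 1) (b c : G) (hb : b ∈ N) (hc : c ∈ P)
    (h : b * c * b⁻¹ ∈ P) : b * c = c * b := by
  have h1 : b * c * b⁻¹ * c⁻¹ ∈ P := P.mul_mem h (P.inv_mem hc)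
  have h2 : b * c * b⁻¹ * c⁻¹ ∈ N := by
    have h3 : c * b⁻¹ * c⁻¹ ∈ N := hNn.conj_mem b⁻¹ (N.inv_mem hb) c
    have h4 : b * c * b⁻¹ * c⁻¹ = b * (c * b⁻¹ * c⁻¹) := by group
    rw [h4]
    exact N.mul_mem hb h3
  have h5 := htriv _ h1 h2
  exact mul_inv_eq_iff_eq_mul.mp (mul_inv_eq_one.mp h5)

theorem toF {G : Type*} [Group G] [Finite G] (p : ℕ) [Fact p.Prime] (P : Sylow p G)
    (N : Subgroup G) [N.Normal] (hN : (Nat.card N).Coprime p) (hNP : N ⊔ (P : Subgroup G) = ⊤)
    (x c d : G) (hx : x ∈ N) (hc : c ∈ (P : Subgroup G)) (hd : d ∈ (P : Subgroup G))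
    (h : IsPGroup p ↥(Subgroup.closure ({x * c * x⁻¹, d} : Set G))) :
    ∃ a ∈ N, ∃ b ∈ N, a * d = d * a ∧ b * c = c * b ∧ x = a * b := by
  have htriv : ∀ t, t ∈ (P : Subgroup G) → t ∈ N → t = 1 :=
    fun t h1 h2 => inter_triv p (P : Subgroup G) N P.isPGroup' hN t h1 h2
  obtain ⟨S, hS⟩ := h.exists_le_sylow
  obtain ⟨g, hg⟩ := MulAction.exists_smul_eq G P S
  have hg' : g ∈ N ⊔ (P : Subgroup G) := by rw [hNP]; exact Subgroup.mem_top g
  rw [← SetLike.mem_coe, Subgroup.normal_mul, Set.mem_mul] at hg'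
  obtain ⟨n, hn, u, hu, rfl⟩ := hg'
  have hmem : ∀ y, y ∈ Subgroup.closure ({x * c * x⁻¹, d} : Set G) →
      n⁻¹ * y * n ∈ (P : Subgroup G) := by
    intro y hy
    have h1 : y ∈ (S : Subgroup G) := hS hy
    rw [← hg, Sylow.coe_subgroup_smul, Cfsg.Agent.Helper1.mem_conj_smul] at h1
    have h2 : u * ((n * u)⁻¹ * y * (n * u)) * u⁻¹ ∈ (P : Subgroup G) :=
      (P : Subgroup G).mul_mem ((P : Subgroup G).mul_mem hu h1) ((P : Subgroup G).inv_mem hu)
    have h3 : u * ((n * u)⁻¹ * y * (n * u)) * u⁻¹ = n⁻¹ * y * n := by group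
    rwa [h3] at h2
  have hd1 : n⁻¹ * d * n ∈ (P : Subgroup G) :=
    hmem d (Subgroup.subset_closure (by simp))
  have hc1 : n⁻¹ * (x * c * x⁻¹) * n ∈ (P : Subgroup G) :=
    hmem _ (Subgroup.subset_closure (by simp))
  have had : n⁻¹ * d = d * n⁻¹ := by
    apply comm_of_conj_mem (P : Subgroup G) N htriv n⁻¹ d (N.inv_mem hn) hd
    rwa [inv_inv]
  have had' : n * d = d * n := by
    calc n * d = n * (d * n⁻¹) * n := by group
      _ = n * (n⁻¹ * d) * n := by rw [had]
      _ = d * n := by group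
  have hbc : (n⁻¹ * x) * c = c * (n⁻¹ * x) := by
    apply comm_of_conj_mem (P : Subgroup G) N htriv (n⁻¹ * x) c (N.mul_mem (N.inv_mem hn) hx) hc
    have h4 : n⁻¹ * x * c * (n⁻¹ * x)⁻¹ = n⁻¹ * (x * c * x⁻¹) * n := by group
    rw [h4]
    exact hc1
  exact ⟨n, hn, n⁻¹ * x, N.mul_mem (N.inv_mem hn) hx, had', hbc, by group⟩

theorem z2_exists {G : Type*} [Group G] [Finite G] (p : ℕ) [Fact p.Prime] (P : Subgroup G)
    (hP : IsPGroup p P) (hnab : ¬ ∀ a ∈ P, ∀ b ∈ P, a * b = b * a) :
    ∃ e ∈ P, (∃ g ∈ P, g * e ≠ e * g) ∧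
      ∀ g ∈ P, ∀ u ∈ P, u * (g * e * g⁻¹ * e⁻¹) = (g * e * g⁻¹ * e⁻¹) * u := by
  have hcen : ∃ g₀ : P, g₀ ∉ Subgroup.center P := by
    by_contra hall
    apply hnab
    intro a ha b hb
    have h1 : (⟨a, ha⟩ : P) ∈ Subgroup.center P := by
      by_contra h2
      exact hall ⟨_, h2⟩
    have h3 := Subgroup.mem_center_iff.mp h1 ⟨b, hb⟩
    exact (congrArg Subtype.val h3).symm
  obtain ⟨g₀, hg₀⟩ := hcen
  have hQ : IsPGroup p (P ⧸ Subgroup.center P) := hP.to_quotient (Subgroup.center P)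
  have hne : (QuotientGroup.mk g₀ : P ⧸ Subgroup.center P) ≠ 1 :=
    fun h => hg₀ ((QuotientGroup.eq_one_iff g₀).mp h)
  haveI : Nontrivial (P ⧸ Subgroup.center P) := ⟨⟨_, _, hne⟩⟩
  haveI := hQ.center_nontrivial
  obtain ⟨⟨eb, heb⟩, hne1⟩ := exists_ne (1 : Subgroup.center (P ⧸ Subgroup.center P))
  obtain ⟨e', rfl⟩ := QuotientGroup.mk_surjective eb
  have he1 : (QuotientGroup.mk e' : P ⧸ Subgroup.center P) ≠ 1 :=
    fun h => hne1 (Subtype.ext h)
  refine ⟨(e' : G), e'.2, ?_, ?_⟩
  · by_contra hcon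
    apply he1
    rw [QuotientGroup.eq_one_iff, Subgroup.mem_center_iff]
    intro g
    by_contra hne'
    exact hcon ⟨g, g.2, fun heq => hne' (Subtype.ext heq)⟩
  · intro g hg u hu
    have h2 : (QuotientGroup.mk (⟨g, hg⟩ : P) : P ⧸ Subgroup.center P) * QuotientGroup.mk e'
        = QuotientGroup.mk e' * QuotientGroup.mk (⟨g, hg⟩ : P) :=
      Subgroup.mem_center_iff.mp heb _
    have h1 : (QuotientGroup.mk ((⟨g, hg⟩ : P) * e' * (⟨g, hg⟩ : P)⁻¹ * e'⁻¹) :
        P ⧸ Subgroup.center P) = 1 := by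
      rw [QuotientGroup.mk_mul, QuotientGroup.mk_mul, QuotientGroup.mk_mul, QuotientGroup.mk_inv,
        QuotientGroup.mk_inv, h2]
      group
    rw [QuotientGroup.eq_one_iff] at h1
    have h3 := Subgroup.mem_center_iff.mp h1 ⟨u, hu⟩
    exact congrArg Subtype.val h3

theorem exists_ne_one_of_closure {G : Type*} [Group G] (C : Set G) (P : Subgroup G)
    (hC : Subgroup.closure C = P) (u : G) (hu : u ∈ P) (hu1 : u ≠ 1) : ∃ c ∈ C, c ≠ 1 := by
  by_contra h
  have hle : Subgroup.closure C ≤ ⊥ := by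
    rw [Subgroup.closure_le]
    intro c hc
    rw [SetLike.mem_coe, Subgroup.mem_bot]
    by_contra hc1
    exact h ⟨c, hc, hc1⟩
  rw [hC] at hle
  exact hu1 (Subgroup.mem_bot.mp (hle hu))

theorem exists_not_comm_of_closure {G : Type*} [Group G] (C : Set G) (P : Subgroup G)
    (hC : Subgroup.closure C = P) (e g : G) (hg : g ∈ P) (hge : g * e ≠ e * g) :
    ∃ c ∈ C, c * e ≠ e * c := by
  by_contra h
  have hle : Subgroup.closure C ≤ Subgroup.centralizer ({e} : Set G) := by
    rw [Subgroup.closure_le]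
    intro c hc
    rw [SetLike.mem_coe, Subgroup.mem_centralizer_iff]
    intro e' he'
    rw [Set.mem_singleton_iff.mp he']
    by_contra hc1
    exact h ⟨c, hc, fun h2 => hc1 h2.symm⟩
  rw [hC] at hle
  have h3 := Subgroup.mem_centralizer_iff.mp (hle hg) e (Set.mem_singleton e)
  exact hge h3.symm

theorem fpf_central {G : Type*} [Group G] (P N : Subgroup G) [hNn : N.Normal]
    (hNP : N ⊔ P = ⊤) (hab : ∀ a ∈ N, ∀ b ∈ N, a * b = b * a)
    (hmin : ∀ M : Subgroup G, M.Normal → M ≤ N → M = ⊥ ∨ M = N)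
    (hfaith : ∀ u ∈ P, (∀ x ∈ N, u * x = x * u) → u = 1)
    (y : G) (hy : y ∈ P) (hyc : ∀ u ∈ P, u * y = y * u) (hy1 : y ≠ 1) :
    ∀ w ∈ N, y * w = w * y → w = 1 := by
  have hMn : (N ⊓ Subgroup.centralizer ({y} : Set G)).Normal := by
    constructor
    intro w hw g
    rw [Subgroup.mem_inf, Subgroup.mem_centralizer_iff] at hw
    obtain ⟨hwN, hwy⟩ := hw
    have hwy' : y * w = w * y := hwy y (Set.mem_singleton y)
    have hg : g ∈ N ⊔ P := by rw [hNP]; exact Subgroup.mem_top g
    rw [← SetLike.mem_coe, Subgroup.normal_mul, Set.mem_mul] at hg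
    obtain ⟨n, hn, u, hu, rfl⟩ := hg
    have h1 : u * w * u⁻¹ ∈ N := hNn.conj_mem w hwN u
    have h2 : n * u * w * (n * u)⁻¹ = u * w * u⁻¹ := by
      have h3 : n * (u * w * u⁻¹) = (u * w * u⁻¹) * n := hab n hn _ h1
      calc n * u * w * (n * u)⁻¹ = n * (u * w * u⁻¹) * n⁻¹ := by group
        _ = (u * w * u⁻¹) * n * n⁻¹ := by rw [h3]
        _ = u * w * u⁻¹ := by group
    rw [h2, Subgroup.mem_inf, Subgroup.mem_centralizer_iff]
    refine ⟨h1, ?_⟩
    intro y' hy'
    rw [Set.mem_singleton_iff.mp hy']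
    have hc1 : Commute y u := (hyc u hu).symm
    have hc2 : Commute y w := hwy'
    exact ((hc1.mul_right hc2).mul_right hc1.inv_right).eq
  intro w hwN hwy
  rcases hmin _ hMn inf_le_left with h | h
  · have hw : w ∈ N ⊓ Subgroup.centralizer ({y} : Set G) := by
      rw [Subgroup.mem_inf, Subgroup.mem_centralizer_iff]
      refine ⟨hwN, ?_⟩
      intro y' hy'
      rw [Set.mem_singleton_iff.mp hy']
      exact hwy
    rw [h] at hw
    exact Subgroup.mem_bot.mp hw
  · exfalso
    apply hy1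
    apply hfaith y hy
    intro x hx
    have hx' : x ∈ N ⊓ Subgroup.centralizer ({y} : Set G) := by rw [h]; exact hx
    rw [Subgroup.mem_inf, Subgroup.mem_centralizer_iff] at hx'
    exact hx'.2 y (Set.mem_singleton y)

/-! ### The irreducible faithful case -/

theorem final_case {G : Type*} [Group G] [Finite G] (p : ℕ) [Fact p.Prime] (hp3 : 3 ≤ p)
    (P : Subgroup G) (hP : IsPGroup p P) (N : Subgroup G) [N.Normal] (hNP : N ⊔ P = ⊤)
    (hab : ∀ a ∈ N, ∀ b ∈ N, a * b = b * a)
    (hmin : ∀ M : Subgroup G, M.Normal → M ≤ N → M = ⊥ ∨ M = N)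
    (hfaith : ∀ u ∈ P, (∀ x ∈ N, u * x = x * u) → u = 1)
    (C D : Set G) (hC : Subgroup.closure C = P) (hD : Subgroup.closure D = P)
    (hF : ∀ c ∈ C, ∀ d ∈ D, ∀ x ∈ N, ∃ a ∈ N, ∃ b ∈ N,
      a * d = d * a ∧ b * c = c * b ∧ x = a * b) :
    ∀ u ∈ P, u = 1 := by
  by_contra hcon
  have hNbot : N ≠ ⊥ := by
    intro hN
    apply hcon
    intro u hu
    apply hfaith u hu
    intro x hx
    rw [hN, Subgroup.mem_bot] at hx
    rw [hx, mul_one, one_mul]
  obtain ⟨u0, hu0, hu01⟩ : ∃ u ∈ P, u ≠ 1 := by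
    by_contra h
    apply hcon
    intro u hu
    by_contra hu1
    exact h ⟨u, hu, hu1⟩
  have hfpf := fpf_central P N hNP hab hmin hfaith
  have hCP : ∀ c ∈ C, c ∈ P := fun c hc => by rw [← hC]; exact Subgroup.subset_closure hc
  have hDP : ∀ d ∈ D, d ∈ P := fun d hd => by rw [← hD]; exact Subgroup.subset_closure hd
  by_cases hPab : ∀ a ∈ P, ∀ b ∈ P, a * b = b * a
  · obtain ⟨x0, hx0N, hx01⟩ : ∃ x0 ∈ N, x0 ≠ 1 := by
      by_contra h
      apply hNbot
      rw [Subgroup.eq_bot_iff_forall]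
      intro x hx
      by_contra hx1
      exact h ⟨x, hx, hx1⟩
    obtain ⟨c, hc, hc1⟩ := exists_ne_one_of_closure C P hC u0 hu0 hu01
    obtain ⟨d, hd, hd1⟩ := exists_ne_one_of_closure D P hD u0 hu0 hu01
    obtain ⟨a, haN, b, hbN, had, hbc, hxab⟩ := hF c hc d hd x0 hx0N
    have ha1 : a = 1 :=
      hfpf d (hDP d hd) (fun u hu => hPab u hu d (hDP d hd)) hd1 a haN had.symm
    have hb1 : b = 1 :=
      hfpf c (hCP c hc) (fun u hu => hPab u hu c (hCP c hc)) hc1 b hbN hbc.symm
    apply hx01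
    rw [hxab, ha1, hb1, mul_one]
  · obtain ⟨e, heP, ⟨g, hgP, hge⟩, hez⟩ := z2_exists p P hP hPab
    obtain ⟨c, hc, hce⟩ := exists_not_comm_of_closure C P hC e g hgP hge
    obtain ⟨d, hd, hde⟩ := exists_not_comm_of_closure D P hD e g hgP hge
    have key : ∀ c ∈ P, c * e ≠ e * c →
        (Nat.card {w : N // MulAut.conjNormal c w = w}) ^ 3 ≤ Nat.card N := by
      intro c hcP hce
      obtain ⟨z, hz⟩ : ∃ z, z = c * e * c⁻¹ * e⁻¹ := ⟨_, rfl⟩
      have hzP : z ∈ P := by
        rw [hz]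
        exact P.mul_mem (P.mul_mem (P.mul_mem hcP heP) (P.inv_mem hcP)) (P.inv_mem heP)
      have hzc : ∀ u ∈ P, u * z = z * u := by
        intro u hu
        rw [hz]
        exact hez c hcP u hu
      have hz1 : z ≠ 1 := by
        intro h1
        apply hce
        rw [hz] at h1
        exact mul_inv_eq_iff_eq_mul.mp (mul_inv_eq_one.mp h1)
      have hzz1 : z * z ≠ 1 := by
        intro h1
        apply hz1
        have h2 : orderOf z ∣ 2 := orderOf_dvd_of_pow_eq_one (by rw [pow_two]; exact h1)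
        obtain ⟨k, hk⟩ := hP ⟨z, hzP⟩
        have hk' : z ^ (p ^ k) = 1 := by
          have := congrArg (fun s : P => (s : G)) hk
          simpa using this
        have h3 : orderOf z ∣ p ^ k := orderOf_dvd_of_pow_eq_one hk'
        have hcop : Nat.Coprime 2 (p ^ k) :=
          Nat.Coprime.pow_right k
            ((Nat.coprime_primes Nat.prime_two (Fact.out : p.Prime)).mpr (by omega))
        have h4 : orderOf z ∣ 1 := by
          have := Nat.dvd_gcd h2 h3
          rwa [hcop.gcd_eq_one] at this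
        exact orderOf_eq_one_iff.mp (Nat.dvd_one.mp h4)
      have f1 := hfpf z hzP hzc hz1
      have f2 : ∀ w ∈ N, z * z * w = w * (z * z) → w = 1 :=
        hfpf (z * z) (P.mul_mem hzP hzP)
          (fun u hu => (Commute.mul_right (hzc u hu) (hzc u hu)).eq) hzz1
      exact cubeG N hab c e z (hzc c hcP) (hzc e heP) (by rw [hz]; group) f1 f2
    have hα := key c (hCP c hc) hce
    have hβ := key d (hDP d hd) hde
    have hsurj : Function.Surjective
        (fun t : {w : N // MulAut.conjNormal d w = w} × {w : N // MulAut.conjNormal c w = w} =>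
          (t.1 : N) * (t.2 : N)) := by
      intro x
      obtain ⟨a, haN, b, hbN, had, hbc, hxab⟩ := hF c hc d hd x x.2
      refine ⟨(⟨⟨a, haN⟩, ?_⟩, ⟨⟨b, hbN⟩, ?_⟩), ?_⟩
      · apply Subtype.ext
        rw [MulAut.conjNormal_apply]
        exact mul_inv_eq_iff_eq_mul.mpr had.symm
      · apply Subtype.ext
        rw [MulAut.conjNormal_apply]
        exact mul_inv_eq_iff_eq_mul.mpr hbc.symm
      · exact Subtype.ext hxab.symm
    have hle := Nat.card_le_card_of_surjective _ hsurj
    rw [Nat.card_prod] at hle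
    have hn2 : 2 ≤ Nat.card N := by
      have : 1 < Nat.card N := N.one_lt_card_iff_ne_bot.mpr hNbot
      omega
    obtain ⟨n, hn⟩ : ∃ n, n = Nat.card N := ⟨_, rfl⟩
    obtain ⟨α, hα'⟩ : ∃ α, α = Nat.card {w : N // MulAut.conjNormal c w = w} := ⟨_, rfl⟩
    obtain ⟨β, hβ'⟩ : ∃ β, β = Nat.card {w : N // MulAut.conjNormal d w = w} := ⟨_, rfl⟩
    rw [← hα', ← hn] at hα
    rw [← hβ', ← hn] at hβ
    rw [← hα', ← hβ', ← hn] at hle
    rw [← hn] at hn2
    have h3 : n ^ 3 ≤ n * n := by
      calc n ^ 3 ≤ (β * α) ^ 3 := Nat.pow_le_pow_left hle 3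
        _ = β ^ 3 * α ^ 3 := mul_pow β α 3
        _ ≤ n * n := Nat.mul_le_mul hβ hα
    have h4 : n * n * 2 ≤ n * n * n := Nat.mul_le_mul_left (n * n) hn2
    have h5 : n ^ 3 = n * n * n := by ring
    have h6 : 0 < n * n := Nat.mul_pos (by omega) (by omega)
    omega

/-! ### Transfer to quotients and subgroups -/

/-- The statement to be proved, for a fixed group. -/
abbrev Good (p : ℕ) (G : Type u) [Group G] : Prop :=
  ∀ (P : Sylow p G) (N : Subgroup G), N.Normal → (Nat.card N).Coprime p →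
    N ⊔ (P : Subgroup G) = ⊤ → ∀ (C D : Set G), Subgroup.closure C = (P : Subgroup G) →
    Subgroup.closure D = (P : Subgroup G) →
    (∀ x ∈ N, ∀ c ∈ C, ∀ d ∈ D, IsPGroup p ↥(Subgroup.closure ({x * c * x⁻¹, d} : Set G))) →
    ∀ u ∈ (P : Subgroup G), ∀ x ∈ N, u * x = x * u

theorem quot_transfer (p : ℕ) [Fact p.Prime] {G : Type u} [Group G] [Finite G] (K : Subgroup G)
    [K.Normal] (hK : Good p (G ⧸ K)) (P : Sylow p G) (N : Subgroup G) [hNn : N.Normal]
    (hN : (Nat.card N).Coprime p) (hNP : N ⊔ (P : Subgroup G) = ⊤) (C D : Set G)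
    (hC : Subgroup.closure C = (P : Subgroup G)) (hD : Subgroup.closure D = (P : Subgroup G))
    (h : ∀ x ∈ N, ∀ c ∈ C, ∀ d ∈ D,
      IsPGroup p ↥(Subgroup.closure ({x * c * x⁻¹, d} : Set G))) :
    ∀ u ∈ (P : Subgroup G), ∀ x ∈ N, u * x * u⁻¹ * x⁻¹ ∈ K := by
  have hsurj : Function.Surjective (QuotientGroup.mk' K) := QuotientGroup.mk'_surjective K
  have key := hK (P.mapSurjective hsurj) (N.map (QuotientGroup.mk' K)) (hNn.map _ hsurj)
    (Nat.Coprime.coprime_dvd_left (Subgroup.card_map_dvd N (QuotientGroup.mk' K)) hN)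
    (by rw [Sylow.coe_mapSurjective, ← Subgroup.map_sup, hNP,
      Subgroup.map_top_of_surjective _ hsurj])
    ((QuotientGroup.mk' K) '' C) ((QuotientGroup.mk' K) '' D)
    (by rw [Sylow.coe_mapSurjective, ← MonoidHom.map_closure, hC])
    (by rw [Sylow.coe_mapSurjective, ← MonoidHom.map_closure, hD])
    (by
      rintro x' ⟨x, hx, rfl⟩ c' ⟨c, hc, rfl⟩ d' ⟨d, hd, rfl⟩
      have h1 := h x hx c hc d hd
      have h2 : Subgroup.closure ({(QuotientGroup.mk' K) x * (QuotientGroup.mk' K) c *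
            ((QuotientGroup.mk' K) x)⁻¹, (QuotientGroup.mk' K) d} : Set (G ⧸ K))
          = (Subgroup.closure ({x * c * x⁻¹, d} : Set G)).map (QuotientGroup.mk' K) := by
        rw [MonoidHom.map_closure, Set.image_pair, map_mul, map_mul, map_inv]
      rw [h2]
      exact h1.map _)
  intro u hu x hx
  have h3 := key ((QuotientGroup.mk' K) u)
    (by rw [Sylow.coe_mapSurjective]; exact Subgroup.mem_map_of_mem _ hu)
    ((QuotientGroup.mk' K) x) (Subgroup.mem_map_of_mem _ hx)
  have h4 : (QuotientGroup.mk' K) (u * x * u⁻¹ * x⁻¹) = 1 := by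
    rw [map_mul, map_mul, map_mul, map_inv, map_inv, h3]
    group
  exact (QuotientGroup.eq_one_iff _).mp h4

theorem closure_preimage_subtype {G : Type*} [Group G] (H : Subgroup G) (C : Set G)
    (hCH : C ⊆ (H : Set G)) :
    Subgroup.closure (H.subtype ⁻¹' C) = (Subgroup.closure C).subgroupOf H := by
  apply Subgroup.map_injective H.subtype_injective
  rw [MonoidHom.map_closure, Subgroup.map_subgroupOf_eq_of_le ((Subgroup.closure_le H).mpr hCH)]
  congr 1
  ext y
  constructor
  · rintro ⟨⟨y', hy'H⟩, hy', rfl⟩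
    exact hy'
  · intro hy
    exact ⟨⟨y, hCH hy⟩, hy, rfl⟩

theorem sub_transfer (p : ℕ) [Fact p.Prime] {G : Type u} [Group G] [Finite G] (P : Sylow p G)
    (N : Subgroup G) (hN : (Nat.card N).Coprime p) (C D : Set G)
    (hC : Subgroup.closure C = (P : Subgroup G)) (hD : Subgroup.closure D = (P : Subgroup G))
    (h : ∀ x ∈ N, ∀ c ∈ C, ∀ d ∈ D,
      IsPGroup p ↥(Subgroup.closure ({x * c * x⁻¹, d} : Set G)))
    (R H : Subgroup G) (hRN : R ≤ N) (hPH : (P : Subgroup G) ≤ H) (hRH : R ≤ H)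
    (hHn : H ≤ Subgroup.normalizer (R : Set G)) (hHsup : H ≤ R ⊔ (P : Subgroup G))
    (hK : Good p ↥H) :
    ∀ u ∈ (P : Subgroup G), ∀ x ∈ R, u * x = x * u := by
  have hCH : C ⊆ (H : Set G) := fun c hc => hPH (by rw [← hC]; exact Subgroup.subset_closure hc)
  have hDH : D ⊆ (H : Set G) := fun d hd => hPH (by rw [← hD]; exact Subgroup.subset_closure hd)
  have key := hK (P.subtype hPH) (R.subgroupOf H)
    ((Subgroup.normal_subgroupOf_iff_le_normalizer hRH).mpr hHn)
    (by
      rw [Nat.card_congr (Subgroup.subgroupOfEquivOfLe hRH).toEquiv]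
      exact Nat.Coprime.coprime_dvd_left (Subgroup.card_dvd_of_le hRN) hN)
    (by
      rw [Sylow.coe_subtype, ← Subgroup.subgroupOf_sup hRH hPH, Subgroup.subgroupOf_eq_top]
      exact hHsup)
    (H.subtype ⁻¹' C) (H.subtype ⁻¹' D)
    (by rw [Sylow.coe_subtype, closure_preimage_subtype H C hCH, hC])
    (by rw [Sylow.coe_subtype, closure_preimage_subtype H D hDH, hD])
    (by
      intro x hx c hc d hd
      have h1 := h (x : G) (hRN (Subgroup.mem_subgroupOf.mp hx)) (c : G) hc (d : G) hd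
      have h2 : (Subgroup.closure ({x * c * x⁻¹, d} : Set H)).map H.subtype
          = Subgroup.closure ({(x : G) * (c : G) * (x : G)⁻¹, (d : G)} : Set G) := by
        rw [MonoidHom.map_closure, Set.image_pair]
        rfl
      have h3 : IsPGroup p ↥((Subgroup.closure ({x * c * x⁻¹, d} : Set H)).map H.subtype) := by
        rw [h2]
        exact h1
      exact h3.of_equiv
        (Subgroup.equivMapOfInjective _ H.subtype H.subtype_injective).symm)
  intro u hu x hx
  have h4 := key ⟨u, hPH hu⟩ (by rw [Sylow.coe_subtype]; exact Subgroup.mem_subgroupOf.mpr hu)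
    ⟨x, hRH hx⟩ (Subgroup.mem_subgroupOf.mpr hx)
  exact congrArg Subtype.val h4

theorem stab {G : Type*} [Group G] (p : ℕ) (N M : Subgroup G) (hMN : M ≤ N)
    (hN : (Nat.card N).Coprime p) (u x : G) (k : ℕ) (hu : u ^ (p ^ k) = 1)
    (hM : ∀ m ∈ M, u * m = m * u) (hx : u * x * u⁻¹ * x⁻¹ ∈ M) : u * x = x * u := by
  obtain ⟨m, hm⟩ : ∃ m, m = u * x * u⁻¹ * x⁻¹ := ⟨_, rfl⟩
  rw [← hm] at hx
  have hum : Commute u m := hM m hx
  have key : ∀ j : ℕ, u ^ j * x * (u ^ j)⁻¹ = m ^ j * x := by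
    intro j
    induction j with
    | zero => simp
    | succ j ih =>
      have hcomm : u * m ^ j = m ^ j * u := (hum.pow_right j).eq
      calc u ^ (j + 1) * x * (u ^ (j + 1))⁻¹ = u * (u ^ j * x * (u ^ j)⁻¹) * u⁻¹ := by
            rw [pow_succ']; group
        _ = u * (m ^ j * x) * u⁻¹ := by rw [ih]
        _ = (u * m ^ j) * (x * u⁻¹) := by simp only [mul_assoc]
        _ = m ^ j * u * (x * u⁻¹) := by rw [hcomm]
        _ = m ^ j * (u * x * u⁻¹ * x⁻¹) * x := by group
        _ = m ^ (j + 1) * x := by rw [← hm, ← pow_succ]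
  have h1 := key (p ^ k)
  rw [hu, one_mul, inv_one, mul_one] at h1
  have h2 : m ^ (p ^ k) = 1 := by
    have h3 : m ^ (p ^ k) * x = 1 * x := by rw [one_mul]; exact h1.symm
    exact mul_right_cancel h3
  have h5 : m = 1 := eq_one_of_pow p N hN m (hMN hx) k h2
  rw [hm] at h5
  exact mul_inv_eq_iff_eq_mul.mp (mul_inv_eq_one.mp h5)

/-! ### The induction -/

theorem main_aux (p : ℕ) [Fact p.Prime] (hp3 : 3 ≤ p) :
    ∀ (n : ℕ) (G : Type u) [Group G] [Finite G], Nat.card G = n → Good p G := by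
  intro n
  induction n using Nat.strong_induction_on with
  | _ n ih =>
    intro G _ _ hcard P N hNn hN hNP C D hC hD h
    haveI := hNn
    by_contra hcon
    have hPp : IsPGroup p (P : Subgroup G) := P.isPGroup'
    have hCP : ∀ c ∈ C, c ∈ (P : Subgroup G) :=
      fun c hc => by rw [← hC]; exact Subgroup.subset_closure hc
    have hDP : ∀ d ∈ D, d ∈ (P : Subgroup G) :=
      fun d hd => by rw [← hD]; exact Subgroup.subset_closure hd
    have htriv : ∀ t, t ∈ (P : Subgroup G) → t ∈ N → t = 1 :=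
      fun t h1 h2 => inter_triv p (P : Subgroup G) N hPp hN t h1 h2
    -- quotients
    have hQ : ∀ K : Subgroup G, K.Normal → K ≠ ⊥ →
        ∀ u ∈ (P : Subgroup G), ∀ x ∈ N, u * x * u⁻¹ * x⁻¹ ∈ K := by
      intro K hKn hK
      haveI := hKn
      have hlt : Nat.card (G ⧸ K) < n := by
        rw [← hcard, Subgroup.card_eq_card_quotient_mul_card_subgroup K]
        have h1 : 0 < Nat.card (G ⧸ K) := Nat.card_pos
        have h2 : 1 < Nat.card K := K.one_lt_card_iff_ne_bot.mpr hK
        exact lt_mul_of_one_lt_right h1 h2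
      exact quot_transfer p K (ih _ hlt (G ⧸ K) rfl) P N hN hNP C D hC hD h
    -- invariant subgroups
    have hS : ∀ R : Subgroup G, R ≤ N → (P : Subgroup G) ≤ Subgroup.normalizer (R : Set G) →
        R ≠ N → ∀ u ∈ (P : Subgroup G), ∀ x ∈ R, u * x = x * u := by
      intro R hRN hPR hRne
      have hHn : R ⊔ (P : Subgroup G) ≤ Subgroup.normalizer (R : Set G) :=
        sup_le Subgroup.le_normalizer hPR
      have hne : R ⊔ (P : Subgroup G) ≠ ⊤ := by
        intro htop
        apply hRne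
        have hRn : R.Normal := by
          have h' := hHn
          rw [htop] at h'
          exact Subgroup.normalizer_eq_top_iff.mp (top_le_iff.mp h')
        haveI := hRn
        apply le_antisymm hRN
        intro x hx
        have hx' : x ∈ R ⊔ (P : Subgroup G) := by rw [htop]; exact Subgroup.mem_top x
        rw [← SetLike.mem_coe, Subgroup.normal_mul, Set.mem_mul] at hx'
        obtain ⟨r, hr, v, hv, rfl⟩ := hx'
        have hvN : v ∈ N := by
          have h1 : v = r⁻¹ * (r * v) := by group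
          rw [h1]
          exact N.mul_mem (N.inv_mem (hRN hr)) hx
        rw [htriv v hv hvN, mul_one]
        exact hr
      have hlt : Nat.card ↥(R ⊔ (P : Subgroup G)) < n := by
        rw [← hcard]
        exact lt_of_le_of_ne (Subgroup.card_le_card_group _)
          (fun h => hne ((Subgroup.card_eq_iff_eq_top _).mp h))
      exact sub_transfer p P N hN C D hC hD h R (R ⊔ (P : Subgroup G)) hRN le_sup_right
        le_sup_left hHn le_rfl (ih _ hlt ↥(R ⊔ (P : Subgroup G)) rfl)
    -- faithful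
    have hfaith : ∀ u ∈ (P : Subgroup G), (∀ x ∈ N, u * x = x * u) → u = 1 := by
      intro u hu hux
      by_contra hu1
      have hKn : ((P : Subgroup G) ⊓ Subgroup.centralizer (N : Set G)).Normal := by
        constructor
        intro t ht g
        rw [Subgroup.mem_inf, Subgroup.mem_centralizer_iff] at ht
        obtain ⟨htP, htc⟩ := ht
        have hg : g ∈ N ⊔ (P : Subgroup G) := by rw [hNP]; exact Subgroup.mem_top g
        rw [← SetLike.mem_coe, Subgroup.normal_mul, Set.mem_mul] at hg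
        obtain ⟨n', hn', v, hv, rfl⟩ := hg
        have h1 : v * t * v⁻¹ ∈ (P : Subgroup G) :=
          (P : Subgroup G).mul_mem ((P : Subgroup G).mul_mem hv htP) ((P : Subgroup G).inv_mem hv)
        have h2 : ∀ y ∈ N, y * (v * t * v⁻¹) = (v * t * v⁻¹) * y := by
          intro y hy
          have h3 : v⁻¹ * y * v ∈ N := by
            have h3' := hNn.conj_mem y hy v⁻¹
            rwa [inv_inv] at h3'
          have h4 := htc _ h3
          calc y * (v * t * v⁻¹) = v * ((v⁻¹ * y * v) * t) * v⁻¹ := by group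
            _ = v * (t * (v⁻¹ * y * v)) * v⁻¹ := by rw [h4]
            _ = (v * t * v⁻¹) * y := by group
        have h5 : n' * v * t * (n' * v)⁻¹ = v * t * v⁻¹ := by
          have h6 := h2 n' hn'
          calc n' * v * t * (n' * v)⁻¹ = n' * (v * t * v⁻¹) * n'⁻¹ := by group
            _ = (v * t * v⁻¹) * n' * n'⁻¹ := by rw [h6]
            _ = v * t * v⁻¹ := by group
        rw [h5, Subgroup.mem_inf, Subgroup.mem_centralizer_iff]
        exact ⟨h1, h2⟩
      have hKne : (P : Subgroup G) ⊓ Subgroup.centralizer (N : Set G) ≠ ⊥ := by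
        intro hbot
        apply hu1
        have hmem : u ∈ (P : Subgroup G) ⊓ Subgroup.centralizer (N : Set G) := by
          rw [Subgroup.mem_inf, Subgroup.mem_centralizer_iff]
          exact ⟨hu, fun y hy => (hux y hy).symm⟩
        rw [hbot] at hmem
        exact Subgroup.mem_bot.mp hmem
      apply hcon
      intro u' hu' x hx
      have h1 := hQ _ hKn hKne u' hu' x hx
      rw [Subgroup.mem_inf] at h1
      have h2 : u' * x * u'⁻¹ * x⁻¹ ∈ N := by
        have h3 : u' * x * u'⁻¹ ∈ N := hNn.conj_mem x hx u'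
        exact N.mul_mem h3 (N.inv_mem hx)
      have h4 := htriv _ h1.1 h2
      exact mul_inv_eq_iff_eq_mul.mp (mul_inv_eq_one.mp h4)
    -- minimal normal
    have hminN : ∀ M : Subgroup G, M.Normal → M ≤ N → M = ⊥ ∨ M = N := by
      intro M hMn hMN
      by_contra hM
      rw [not_or] at hM
      obtain ⟨hM1, hM2⟩ := hM
      apply hcon
      intro u hu x hx
      obtain ⟨k, hk⟩ := hPp ⟨u, hu⟩
      have hk' : u ^ (p ^ k) = 1 := by
        have h1 := congrArg (fun s : (P : Subgroup G) => (s : G)) hk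
        simpa using h1
      have hPM : (P : Subgroup G) ≤ Subgroup.normalizer (M : Set G) := by
        haveI := hMn
        rw [Subgroup.normalizer_eq_top]
        exact le_top
      exact stab p N M hMN hN u x k hk' (fun m hm => hS M hMN hPM hM2 u hu m hm)
        (hQ M hMn hM1 u hu x hx)
    have hNbot : N ≠ ⊥ := by
      intro hNb
      apply hcon
      intro u hu x hx
      rw [hNb, Subgroup.mem_bot] at hx
      rw [hx, mul_one, one_mul]
    -- N is a group of prime power order
    obtain ⟨X, hXdef⟩ : ∃ X : Subgroup G,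
        X = N ⊓ Subgroup.centralizer ((P : Subgroup G) : Set G) := ⟨_, rfl⟩
    have hXne : X ≠ N := by
      intro hX
      apply hcon
      intro u hu x hx
      have hx' : x ∈ X := by rw [hX]; exact hx
      rw [hXdef, Subgroup.mem_inf, Subgroup.mem_centralizer_iff] at hx'
      exact hx'.2 u hu
    have hXN : X ≤ N := by rw [hXdef]; exact inf_le_left
    have hXcard : Nat.card X ≠ Nat.card N := by
      intro hc
      exact hXne (Subgroup.eq_of_le_of_card_ge hXN (le_of_eq hc.symm))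
    obtain ⟨q, hq⟩ := Subgroup.card_dvd_of_le hXN
    have hq1 : q ≠ 1 := by
      intro h1
      rw [h1, mul_one] at hq
      exact hXcard hq.symm
    have hrp : (Nat.minFac q).Prime := Nat.minFac_prime hq1
    haveI : Fact (Nat.minFac q).Prime := ⟨hrp⟩
    haveI : Group.IsNilpotent (P : Subgroup G) := hPp.isNilpotent
    have hPnorm : (P : Subgroup G) ≤ Subgroup.normalizer (N : Set G) := by
      rw [Subgroup.normalizer_eq_top]
      exact le_top
    have hcopPN : (Nat.card (P : Subgroup G)).Coprime (Nat.card N) := by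
      obtain ⟨k, hk⟩ := hPp.exists_card_eq
      rw [hk]
      exact (Nat.Coprime.pow_right k hN).symm
    obtain ⟨R, hRN, hRcard, hPR⟩ := Cfsg.Agent.Helper1.inv_sylow_exists (P : Subgroup G) N hPnorm
      hcopPN (Or.inl inferInstance) (Nat.minFac q)
    obtain ⟨v, hv⟩ : ∃ v, v = (Nat.card N).factorization (Nat.minFac q) := ⟨_, rfl⟩
    rw [← hv] at hRcard
    have hRN' : R = N := by
      by_contra hRne
      have hRX : R ≤ X := by
        intro y hy
        rw [hXdef, Subgroup.mem_inf, Subgroup.mem_centralizer_iff]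
        exact ⟨hRN hy, fun u hu => hS R hRN hPR hRne u hu y hy⟩
      have h1 : Nat.card R ∣ Nat.card X := Subgroup.card_dvd_of_le hRX
      rw [hRcard] at h1
      have h2 : (Nat.minFac q) ^ (v + 1) ∣ Nat.card N := by
        rw [hq, pow_succ]
        exact Nat.mul_dvd_mul h1 (Nat.minFac_dvd q)
      have h3 := Nat.pow_succ_factorization_not_dvd (Nat.card_pos (α := N)).ne' hrp
      rw [← hv] at h3
      exact h3 h2
    have hNcard : Nat.card N = (Nat.minFac q) ^ v := by
      rw [← hRN']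
      exact hRcard
    have hNr : IsPGroup (Nat.minFac q) N := IsPGroup.of_card hNcard
    -- N is abelian
    have hab : ∀ a ∈ N, ∀ b ∈ N, a * b = b * a := by
      haveI : Nontrivial N := N.nontrivial_iff_ne_bot.mpr hNbot
      haveI := hNr.center_nontrivial
      obtain ⟨⟨z0, hz0⟩, hz0ne⟩ := exists_ne (1 : Subgroup.center N)
      have hZn : (N ⊓ Subgroup.centralizer (N : Set G)).Normal := by
        constructor
        intro t ht g
        rw [Subgroup.mem_inf, Subgroup.mem_centralizer_iff] at ht ⊢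
        obtain ⟨htN, htc⟩ := ht
        refine ⟨hNn.conj_mem t htN g, ?_⟩
        intro y hy
        have h3 : g⁻¹ * y * g ∈ N := by
          have h3' := hNn.conj_mem y hy g⁻¹
          rwa [inv_inv] at h3'
        have h4 := htc _ h3
        calc y * (g * t * g⁻¹) = g * ((g⁻¹ * y * g) * t) * g⁻¹ := by group
          _ = g * (t * (g⁻¹ * y * g)) * g⁻¹ := by rw [h4]
          _ = (g * t * g⁻¹) * y := by group
      have hZne : N ⊓ Subgroup.centralizer (N : Set G) ≠ ⊥ := by
        intro hbot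
        apply hz0ne
        have hmem : (z0 : G) ∈ N ⊓ Subgroup.centralizer (N : Set G) := by
          rw [Subgroup.mem_inf, Subgroup.mem_centralizer_iff]
          refine ⟨z0.2, ?_⟩
          intro y hy
          exact congrArg Subtype.val (Subgroup.mem_center_iff.mp hz0 ⟨y, hy⟩)
        rw [hbot, Subgroup.mem_bot] at hmem
        exact Subtype.ext (Subtype.ext hmem)
      rcases hminN _ hZn inf_le_left with h1 | h1
      · exact absurd h1 hZne
      · intro a ha b hb
        have ha' : a ∈ N ⊓ Subgroup.centralizer (N : Set G) := by rw [h1]; exact ha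
        rw [Subgroup.mem_inf, Subgroup.mem_centralizer_iff] at ha'
        exact (ha'.2 b hb).symm
    have hF : ∀ c ∈ C, ∀ d ∈ D, ∀ x ∈ N, ∃ a ∈ N, ∃ b ∈ N,
        a * d = d * a ∧ b * c = c * b ∧ x = a * b :=
      fun c hc d hd x hx => toF p P N hN hNP x c d hx (hCP c hc) (hDP d hd) (h x hx c hc d hd)
    have hfin := final_case p hp3 (P : Subgroup G) hPp N hNP hab hminN hfaith C D hC hD hF
    apply hcon
    intro u hu x hx
    rw [hfin u hu, one_mul, mul_one]

/-- Let p ≥ 3 be prime and G a finite group with a Sylow p-subgroup P and a normal p-complement N (N normal, of order prime to p, with NP = G). Suppose P is generated by a subset C and also by a subset D, and that ⟨x c x⁻¹, d⟩ is a p-group for all x ∈ N, c ∈ C, d ∈ D. Then P centralizes N, so that G = N × P. -/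
theorem result {G : Type*} [Group G] [Finite G] (p : ℕ) [Fact p.Prime] (hp3 : 3 ≤ p) (P : Sylow p G)
    (N : Subgroup G) [N.Normal] (hN : (Nat.card N).Coprime p) (hNP : N ⊔ (P : Subgroup G) = ⊤)
    (C D : Set G) (hC : Subgroup.closure C = (P : Subgroup G)) (hD : Subgroup.closure D = (P : Subgroup G))
    (h : ∀ x ∈ N, ∀ c ∈ C, ∀ d ∈ D, IsPGroup p ↥(Subgroup.closure ({x * c * x⁻¹, d} : Set G))) :
    ⁅(P : Subgroup G), N⁆ = ⊥ := by
  have key := main_aux p hp3 (Nat.card G) G rfl P N inferInstance hN hNP C D hC hD h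
  rw [Subgroup.commutator_eq_bot_iff_le_centralizer]
  intro u hu
  rw [Subgroup.mem_centralizer_iff]
  intro x hx
  exact (key u hu x hx).symm

end Cfsg.Agent.S2277
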