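import Mathlib
import Cfsg.Statements.S2430
import Cfsg.Agent.Helper14.TorusB
-- import your own Cfsg.Agent.* helpers here

set_option autoImplicit false
open Cfsg

namespace Cfsg.Agent.S2430

open Cfsg.Agent.Helper14.TorusB Cfsg.Agent.Helper14.Torus

theorem index_mul {F : Type*} [Field F] [Fintype F]
    (T : Subgroup (Matrix.SpecialLinearGroup (Fin 2) F)) (m : ℕ) (hm : Nat.card T = m) :
    T.index * m = Fintype.card F * (Fintype.card F ^ 2 - 1) := by
  rw [← hm, Subgroup.index_mul_card, card_SL2]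

theorem sq_sub_one (q : ℕ) (hq : 2 ≤ q) : q ^ 2 - 1 = (q - 1) * (q + 1) := by
  obtain ⟨k, rfl⟩ := Nat.exists_eq_add_of_le hq
  have h : (2 + k) ^ 2 = (2 + k - 1) * (2 + k + 1) + 1 := by
    have : 2 + k - 1 = k + 1 := by omega
    rw [this]; ring
  omega

/-- In SL₂(q), q odd, a Sylow ℓ-subgroup for an odd prime ℓ dividing q − 1 (resp. q + 1) has cyclic centraliser of order q − 1 (resp. q + 1) and normaliser of order 2(q − 1) (resp. 2(q + 1)). -/
theorem result {F : Type*} [Field F] [Fintype F] (hodd : Odd (Fintype.card F)) (ℓ : ℕ) [Fact ℓ.Prime] (hℓ : ℓ ≠ 2)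
    (P : Sylow ℓ (Matrix.SpecialLinearGroup (Fin 2) F)) :
    (ℓ ∣ Fintype.card F - 1 →
      Nat.card (Subgroup.centralizer ((P : Subgroup (Matrix.SpecialLinearGroup (Fin 2) F)) : Set (Matrix.SpecialLinearGroup (Fin 2) F))) = Fintype.card F - 1 ∧
      IsCyclic (Subgroup.centralizer ((P : Subgroup (Matrix.SpecialLinearGroup (Fin 2) F)) : Set (Matrix.SpecialLinearGroup (Fin 2) F))) ∧
      Nat.card (Subgroup.normalizer ((P : Subgroup (Matrix.SpecialLinearGroup (Fin 2) F)) : Set (Matrix.SpecialLinearGroup (Fin 2) F))) = 2 * (Fintype.card F - 1)) ∧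
    (ℓ ∣ Fintype.card F + 1 →
      Nat.card (Subgroup.centralizer ((P : Subgroup (Matrix.SpecialLinearGroup (Fin 2) F)) : Set (Matrix.SpecialLinearGroup (Fin 2) F))) = Fintype.card F + 1 ∧
      IsCyclic (Subgroup.centralizer ((P : Subgroup (Matrix.SpecialLinearGroup (Fin 2) F)) : Set (Matrix.SpecialLinearGroup (Fin 2) F))) ∧
      Nat.card (Subgroup.normalizer ((P : Subgroup (Matrix.SpecialLinearGroup (Fin 2) F)) : Set (Matrix.SpecialLinearGroup (Fin 2) F))) = 2 * (Fintype.card F + 1)) := by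
  classical
  obtain ⟨p, hp⟩ := CharP.exists F
  have hpp : Fact p.Prime := ⟨CharP.char_is_prime F p⟩
  have hℓprime : ℓ.Prime := Fact.out
  have hq : 2 ≤ Fintype.card F := Fintype.one_lt_card
  have hpq : p ∣ Fintype.card F := by
    obtain ⟨k, -, hk⟩ := FiniteField.card F p
    rw [hk]
    exact dvd_pow_self p k.ne_zero
  have hℓ2 : ¬ ℓ ∣ 2 := fun h => hℓ ((Nat.prime_dvd_prime_iff_eq hℓprime Nat.prime_two).mp h)
  have hℓ1 : ¬ ℓ ∣ 1 := fun h => hℓprime.one_lt.ne' (Nat.dvd_one.mp h)
  constructor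
  · intro hdvd
    have hT := torus_split (F := F)
    have hidx := index_mul _ _ hT.2.1
    rw [sq_sub_one _ hq] at hidx
    have hℓq : ¬ ℓ ∣ Fintype.card F := by
      intro h
      have h2 : ℓ ∣ Fintype.card F - (Fintype.card F - 1) := Nat.dvd_sub h hdvd
      have h3 : Fintype.card F - (Fintype.card F - 1) = 1 := by omega
      rw [h3] at h2
      exact hℓ1 h2
    have hℓq1 : ¬ ℓ ∣ Fintype.card F + 1 := by
      intro h
      have h2 : ℓ ∣ Fintype.card F + 1 - (Fintype.card F - 1) := Nat.dvd_sub h hdvd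
      have h3 : Fintype.card F + 1 - (Fintype.card F - 1) = 2 := by omega
      rw [h3] at h2
      exact hℓ2 h2
    have hidx2 : ((diag : (F)ˣ →* Matrix.SpecialLinearGroup (Fin 2) F).range).index
        = Fintype.card F * (Fintype.card F + 1) := by
      have h4 : ((diag : (F)ˣ →* Matrix.SpecialLinearGroup (Fin 2) F).range).index
          * (Fintype.card F - 1)
          = (Fintype.card F * (Fintype.card F + 1)) * (Fintype.card F - 1) := by
        rw [hidx]; ring
      exact Nat.eq_of_mul_eq_mul_right (by omega) h4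
    have hnd : ¬ ℓ ∣ ((diag : (F)ˣ →* Matrix.SpecialLinearGroup (Fin 2) F).range).index := by
      rw [hidx2]
      intro h
      rcases (Nat.Prime.dvd_mul hℓprime).mp h with h | h
      · exact hℓq h
      · exact hℓq1 h
    have hℓp : ℓ ≠ p := by
      rintro rfl
      exact hℓq hpq
    exact sylow_torus hodd p ℓ hℓ _ _ hT hdvd hnd hℓp P
  · intro hdvd
    obtain ⟨T, hT⟩ := torus_nonsplit (F := F)
    have hidx := index_mul _ _ hT.2.1
    rw [sq_sub_one _ hq] at hidx
    have hℓq : ¬ ℓ ∣ Fintype.card F := by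
      intro h
      have h2 : ℓ ∣ Fintype.card F + 1 - Fintype.card F := Nat.dvd_sub hdvd h
      have h3 : Fintype.card F + 1 - Fintype.card F = 1 := by omega
      rw [h3] at h2
      exact hℓ1 h2
    have hℓq1 : ¬ ℓ ∣ Fintype.card F - 1 := by
      intro h
      have h2 : ℓ ∣ Fintype.card F + 1 - (Fintype.card F - 1) := Nat.dvd_sub hdvd h
      have h3 : Fintype.card F + 1 - (Fintype.card F - 1) = 2 := by omega
      rw [h3] at h2
      exact hℓ2 h2
    have hidx2 : T.index = Fintype.card F * (Fintype.card F - 1) := by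
      have h4 : T.index * (Fintype.card F + 1)
          = (Fintype.card F * (Fintype.card F - 1)) * (Fintype.card F + 1) := by
        rw [hidx]; ring
      exact Nat.eq_of_mul_eq_mul_right (by omega) h4
    have hnd : ¬ ℓ ∣ T.index := by
      rw [hidx2]
      intro h
      rcases (Nat.Prime.dvd_mul hℓprime).mp h with h | h
      · exact hℓq h
      · exact hℓq1 h
    have hℓp : ℓ ≠ p := by
      rintro rfl
      exact hℓq hpq
    exact sylow_torus hodd p ℓ hℓ _ _ hT hdvd hnd hℓp P

end Cfsg.Agent.S2430
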