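import Mathlib
import Cfsg.Statements.S2471
-- import your own Cfsg.Agent.* helpers here

set_option autoImplicit false
open Cfsg

namespace Cfsg.Agent.S2471

theorem disc_eq_zero_of_commute {F : Type*} [Field F] (M N : Matrix (Fin 2) (Fin 2) F)
    (htr : N 0 0 + N 1 1 = 0) (hdet : N 0 0 * N 1 1 - N 0 1 * N 1 0 = 0) (hN : N ≠ 0)
    (hc : M * N = N * M) : (M 0 0 - M 1 1) ^ 2 + 4 * M 0 1 * M 1 0 = 0 := by
  have e00 := congrFun (congrFun hc 0) 0
  have e01 := congrFun (congrFun hc 0) 1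
  have e10 := congrFun (congrFun hc 1) 0
  simp only [Matrix.mul_apply, Fin.sum_univ_two] at e00 e01 e10
  have h11 : N 1 1 = - N 0 0 := by linear_combination htr
  rw [h11] at hdet e01 e10
  have E0 : M 0 1 * N 1 0 - M 1 0 * N 0 1 = 0 := by linear_combination e00
  have E1 : (M 0 0 - M 1 1) * N 0 1 - 2 * M 0 1 * N 0 0 = 0 := by linear_combination e01
  have E2 : (M 0 0 - M 1 1) * N 1 0 - 2 * M 1 0 * N 0 0 = 0 := by linear_combination -e10
  have Q : N 0 0 ^ 2 + N 0 1 * N 1 0 = 0 := by linear_combination -hdet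
  have hx : ((M 0 0 - M 1 1) ^ 2 + 4 * M 0 1 * M 1 0) * N 0 0 ^ 2 = 0 := by
    linear_combination (M 0 0 - M 1 1) ^ 2 * Q - (M 0 0 - M 1 1) * N 1 0 * E1 - 2 * M 0 1 * N 0 0 * E2
  have hy : ((M 0 0 - M 1 1) ^ 2 + 4 * M 0 1 * M 1 0) * N 0 1 ^ 2 = 0 := by
    linear_combination 4 * M 0 1 ^ 2 * Q + ((M 0 0 - M 1 1) * N 0 1 + 2 * M 0 1 * N 0 0) * E1 - 4 * M 0 1 * N 0 1 * E0
  have hz : ((M 0 0 - M 1 1) ^ 2 + 4 * M 0 1 * M 1 0) * N 1 0 ^ 2 = 0 := by
    linear_combination 4 * M 1 0 ^ 2 * Q + ((M 0 0 - M 1 1) * N 1 0 + 2 * M 1 0 * N 0 0) * E2 + 4 * M 1 0 * N 1 0 * E0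
  by_contra hD
  have hx0 : N 0 0 = 0 := by
    rcases mul_eq_zero.mp hx with h | h
    · exact absurd h hD
    · exact pow_eq_zero_iff (two_ne_zero) |>.mp h
  have hy0 : N 0 1 = 0 := by
    rcases mul_eq_zero.mp hy with h | h
    · exact absurd h hD
    · exact pow_eq_zero_iff (two_ne_zero) |>.mp h
  have hz0 : N 1 0 = 0 := by
    rcases mul_eq_zero.mp hz with h | h
    · exact absurd h hD
    · exact pow_eq_zero_iff (two_ne_zero) |>.mp h
  apply hN
  ext i j
  fin_cases i <;> fin_cases j <;> simp [hx0, hy0, hz0, h11]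

theorem pow_char_scalar_of_disc {F : Type*} [Field F] (p : ℕ) [Fact p.Prime] [CharP F p] (h2 : (2 : F) ≠ 0)
    (M : Matrix (Fin 2) (Fin 2) F) (hD : (M 0 0 - M 1 1) ^ 2 + 4 * M 0 1 * M 1 0 = 0) :
    M ^ p = (((M 0 0 + M 1 1) / 2) ^ p) • (1 : Matrix (Fin 2) (Fin 2) F) := by
  have hp : p.Prime := Fact.out
  set a0 : F := (M 0 0 + M 1 1) / 2 with ha0
  have hM : M = a0 • (1 : Matrix (Fin 2) (Fin 2) F) + (M - a0 • (1 : Matrix (Fin 2) (Fin 2) F)) := by
    abel
  have hsq : (M - a0 • (1 : Matrix (Fin 2) (Fin 2) F)) ^ 2 = 0 := by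
    rw [pow_two]
    ext i j
    fin_cases i <;> fin_cases j <;>
      simp [Matrix.mul_apply, Fin.sum_univ_two, ha0] <;> field_simp <;>
      first | linear_combination hD | linear_combination -hD | ring
  have hpow : (M - a0 • (1 : Matrix (Fin 2) (Fin 2) F)) ^ p = 0 :=
    pow_eq_zero_of_le hp.two_le hsq
  have hcomm : Commute (a0 • (1 : Matrix (Fin 2) (Fin 2) F)) (M - a0 • (1 : Matrix (Fin 2) (Fin 2) F)) := by
    apply Commute.smul_left
    exact Commute.one_left _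
  rw [hM, add_pow_char_of_commute p hcomm, hpow, add_zero, smul_pow, one_pow]


/-- In PSL(2,q) with q odd, the characteristic p is isolated from 2 in the prime graph: for F a finite field of odd characteristic p with at least 5 elements, PSL(2,F) has no element of order 2p. -/
theorem result {F : Type*} [Field F] [Fintype F] (p : ℕ) [Fact p.Prime] [CharP F p] (hp : p ≠ 2) (h5 : 5 ≤ Fintype.card F) (g : Matrix.ProjectiveSpecialLinearGroup (Fin 2) F) :
    orderOf g ≠ 2 * p := by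
  classical
  intro hord
  have hp' : p.Prime := Fact.out
  have h2 : (2 : F) ≠ 0 := by
    intro h
    have h' : ((2 : ℕ) : F) = 0 := by exact_mod_cast h
    rw [CharP.cast_eq_zero_iff F p] at h'
    exact hp ((Nat.prime_dvd_prime_iff_eq hp' Nat.prime_two).mp h')
  obtain ⟨G, rfl⟩ := QuotientGroup.mk_surjective g
  have hcen : ∀ (A : Matrix.SpecialLinearGroup (Fin 2) F) (s : F), s ^ 2 = 1 →
      (A : Matrix (Fin 2) (Fin 2) F) = s • (1 : Matrix (Fin 2) (Fin 2) F) →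
      A ∈ Subgroup.center (Matrix.SpecialLinearGroup (Fin 2) F) := by
    intro A s hs hA
    rw [Matrix.SpecialLinearGroup.mem_center_iff]
    refine ⟨s, by simpa using hs, ?_⟩
    rw [hA]
    ext i j
    fin_cases i <;> fin_cases j <;> simp
  have hpow_mem : ∀ k : ℕ, ((QuotientGroup.mk G : Matrix.ProjectiveSpecialLinearGroup (Fin 2) F)) ^ k = 1 ↔
      G ^ k ∈ Subgroup.center (Matrix.SpecialLinearGroup (Fin 2) F) := by
    intro k
    rw [← QuotientGroup.mk_pow, QuotientGroup.eq_one_iff]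
  have h2p : G ^ (2 * p) ∈ Subgroup.center (Matrix.SpecialLinearGroup (Fin 2) F) :=
    (hpow_mem _).mp (hord ▸ pow_orderOf_eq_one _)
  obtain ⟨r, hr, hrG⟩ := Matrix.SpecialLinearGroup.mem_center_iff.mp h2p
  have hr2 : r ^ 2 = 1 := by simpa using hr
  have hM2p : (G : Matrix (Fin 2) (Fin 2) F) ^ (2 * p) = r • (1 : Matrix (Fin 2) (Fin 2) F) := by
    rw [← Matrix.SpecialLinearGroup.coe_pow, ← hrG]
    ext i j
    fin_cases i <;> fin_cases j <;> simp
  have hodd : Odd p := hp'.eq_two_or_odd'.resolve_left hp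
  obtain ⟨k, hk⟩ := hodd
  have hH'p : (r • (G : Matrix (Fin 2) (Fin 2) F) ^ 2) ^ p = 1 := by
    rw [smul_pow, ← pow_mul, hM2p, smul_smul, ← pow_succ, hk]
    have : r ^ (2 * k + 1 + 1) = 1 := by
      have : 2 * k + 1 + 1 = 2 * (k + 1) := by ring
      rw [this, pow_mul, hr2, one_pow]
    rw [this, one_smul]
  have hNp : (r • (G : Matrix (Fin 2) (Fin 2) F) ^ 2 - 1) ^ p = 0 := by
    rw [sub_pow_char_of_commute p (Commute.one_right _), hH'p, one_pow, sub_self]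
  have hnil : IsNilpotent (r • (G : Matrix (Fin 2) (Fin 2) F) ^ 2 - 1) := ⟨p, hNp⟩
  have htr : (r • (G : Matrix (Fin 2) (Fin 2) F) ^ 2 - 1).trace = 0 :=
    (Matrix.isNilpotent_trace_of_isNilpotent hnil).eq_zero
  have hdet : (r • (G : Matrix (Fin 2) (Fin 2) F) ^ 2 - 1).det = 0 := by
    have h1 : (r • (G : Matrix (Fin 2) (Fin 2) F) ^ 2 - 1).det ^ p = 0 := by
      rw [← Matrix.det_pow, hNp, Matrix.det_zero]
    exact pow_eq_zero_iff hp'.ne_zero |>.mp h1
  rw [Matrix.trace_fin_two] at htr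
  rw [Matrix.det_fin_two] at hdet
  have hcomm : (G : Matrix (Fin 2) (Fin 2) F) * (r • (G : Matrix (Fin 2) (Fin 2) F) ^ 2 - 1) =
      (r • (G : Matrix (Fin 2) (Fin 2) F) ^ 2 - 1) * (G : Matrix (Fin 2) (Fin 2) F) :=
    ((((Commute.refl (G : Matrix (Fin 2) (Fin 2) F)).pow_right 2).smul_right r).sub_right (Commute.one_right _)).eq
  by_cases hN : r • (G : Matrix (Fin 2) (Fin 2) F) ^ 2 - 1 = 0
  · have hM2 : (G : Matrix (Fin 2) (Fin 2) F) ^ 2 = r • (1 : Matrix (Fin 2) (Fin 2) F) := by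
      have h1 : r • (G : Matrix (Fin 2) (Fin 2) F) ^ 2 = 1 := sub_eq_zero.mp hN
      calc (G : Matrix (Fin 2) (Fin 2) F) ^ 2 = (r ^ 2) • (G : Matrix (Fin 2) (Fin 2) F) ^ 2 := by rw [hr2, one_smul]
        _ = r • (r • (G : Matrix (Fin 2) (Fin 2) F) ^ 2) := by rw [pow_two, mul_smul]
        _ = r • (1 : Matrix (Fin 2) (Fin 2) F) := by rw [h1]
    have h3 : G ^ 2 ∈ Subgroup.center (Matrix.SpecialLinearGroup (Fin 2) F) :=
      hcen (G ^ 2) r hr2 (by rw [Matrix.SpecialLinearGroup.coe_pow]; exact hM2)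
    have h4 := orderOf_dvd_of_pow_eq_one ((hpow_mem 2).mpr h3)
    rw [hord] at h4
    have h5 := Nat.le_of_dvd (by norm_num) h4
    have h6 := hp'.two_le
    omega
  · have hD := disc_eq_zero_of_commute (G : Matrix (Fin 2) (Fin 2) F) _ htr hdet hN hcomm
    have hMp := pow_char_scalar_of_disc p h2 (G : Matrix (Fin 2) (Fin 2) F) hD
    have ha0 : (((G : Matrix (Fin 2) (Fin 2) F) 0 0 + (G : Matrix (Fin 2) (Fin 2) F) 1 1) / 2) ^ 2 = 1 := by
      have hdetM : (G : Matrix (Fin 2) (Fin 2) F) 0 0 * (G : Matrix (Fin 2) (Fin 2) F) 1 1 -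
          (G : Matrix (Fin 2) (Fin 2) F) 0 1 * (G : Matrix (Fin 2) (Fin 2) F) 1 0 = 1 := by
        rw [← Matrix.det_fin_two]
        exact G.det_coe
      field_simp
      linear_combination hD + 4 * hdetM
    have h3 : G ^ p ∈ Subgroup.center (Matrix.SpecialLinearGroup (Fin 2) F) :=
      hcen (G ^ p) ((((G : Matrix (Fin 2) (Fin 2) F) 0 0 + (G : Matrix (Fin 2) (Fin 2) F) 1 1) / 2) ^ p) (by rw [pow_right_comm, ha0, one_pow])
        (by rw [Matrix.SpecialLinearGroup.coe_pow]; exact hMp)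
    have h4 := orderOf_dvd_of_pow_eq_one ((hpow_mem p).mpr h3)
    rw [hord] at h4
    have h5 := Nat.le_of_dvd hp'.pos h4
    have h6 := hp'.two_le
    omega

end Cfsg.Agent.S2471
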