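import Cfsg.Statements.S2455
import Mathlib
import Cfsg.Agent.Helper14.SL2Conj
import Cfsg.Agent.S2471
-- import your own Cfsg.Agent.* helpers here

set_option autoImplicit false
open Cfsg

namespace Cfsg.Agent.S2455

open Cfsg.Agent.Helper14.Mat2 Cfsg.Agent.Helper14.SL2Odd Cfsg.Agent.Helper14.PSL2
  Cfsg.Agent.Helper14.SL2Conj

/-- A strong covering result in the direction of Thompson's conjecture (non-identity elements) for PSL(2,q), q odd: let F be a finite field of odd characteristic p with at least 5 elements and let x ∈ PSL(2,F) have order greater than 2 and not divisible by p (so x is not unipotent). Then every non-identity element of PSL(2,F) is a product of two conjugates of x. -/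
theorem result {F : Type*} [Field F] [Fintype F] (p : ℕ) [Fact p.Prime] [CharP F p] (hp : p ≠ 2) (h5 : 5 ≤ Fintype.card F)
    (x : Matrix.ProjectiveSpecialLinearGroup (Fin 2) F) (hx2 : 2 < orderOf x) (hxp : ¬ p ∣ orderOf x) : ∀ g : Matrix.ProjectiveSpecialLinearGroup (Fin 2) F, g ≠ 1 → ∃ u v : Matrix.ProjectiveSpecialLinearGroup (Fin 2) F, g = (u * x * u⁻¹) * (v * x * v⁻¹) := by
  classical
  have hpp : p.Prime := Fact.out
  have hodd : Odd (Fintype.card F) := by
    obtain ⟨n, -, hq⟩ := FiniteField.card F p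
    rw [hq]
    exact Odd.pow (hpp.odd_of_ne_two hp)
  have h2 := two_ne_zero_of_odd hodd
  obtain ⟨X, rfl⟩ := QuotientGroup.mk_surjective x
  have hCH := sq_eq X
  have ht0 : (X : Matrix (Fin 2) (Fin 2) F).trace ≠ 0 := by
    intro h0
    rw [h0, zero_smul, zero_sub] at hCH
    have h1 : (QuotientGroup.mk X : Matrix.ProjectiveSpecialLinearGroup (Fin 2) F) ^ 2 = 1 :=
      mk_pow_eq_one_of_scalar X 2 (-1) (by rw [hCH]; simp)
    have := orderOf_le_of_pow_eq_one (by norm_num) h1
    omega
  have ht4 : (X : Matrix (Fin 2) (Fin 2) F).trace ^ 2 ≠ 4 := by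
    intro h4
    have hdet := X.det_coe
    rw [Matrix.det_fin_two] at hdet
    rw [Matrix.trace_fin_two] at h4
    have hD : ((X : Matrix (Fin 2) (Fin 2) F) 0 0 - (X : Matrix (Fin 2) (Fin 2) F) 1 1) ^ 2 +
        4 * (X : Matrix (Fin 2) (Fin 2) F) 0 1 * (X : Matrix (Fin 2) (Fin 2) F) 1 0 = 0 := by
      linear_combination h4 - 4 * hdet
    have hpow := Cfsg.Agent.S2471.pow_char_scalar_of_disc p h2 (X : Matrix (Fin 2) (Fin 2) F) hD
    have h1 : (QuotientGroup.mk X : Matrix.ProjectiveSpecialLinearGroup (Fin 2) F) ^ p = 1 :=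
      mk_pow_eq_one_of_scalar X p _ hpow
    have hdvd := orderOf_dvd_of_pow_eq_one h1
    rcases (Nat.dvd_prime hpp).1 hdvd with h | h
    · omega
    · exact hxp (by rw [h])
  intro g hg
  obtain ⟨G, rfl⟩ := QuotientGroup.mk_surjective g
  exact covering_of_pair X G (nonscalar_of_mk_ne_one G hg)
    (fun N hN => isConj_of_trace_eq hodd X N hN.symm ht4)
    (fun τ d => exists_pair hodd _ τ d ht0)

end Cfsg.Agent.S2455
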