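import Cfsg.Statements.S2475
import Mathlib
import Cfsg.Agent.Helper14.Torus
import Cfsg.Agent.S2471
-- import your own Cfsg.Agent.* helpers here

set_option autoImplicit false
open Cfsg

namespace Cfsg.Agent.S2475

open Cfsg.Agent.Helper14.Mat2 Cfsg.Agent.Helper14.SL2Odd Cfsg.Agent.Helper14.PSL2
  Cfsg.Agent.Helper14.SL2Conj Cfsg.Agent.Helper14.Torus

theorem key {F : Type*} [Field F] [Fintype F] (p : ℕ) [Fact p.Prime] [CharP F p]
    (X : Matrix.SpecialLinearGroup (Fin 2) F) :
    (QuotientGroup.mk X : Matrix.ProjectiveSpecialLinearGroup (Fin 2) F) ^ p = 1 ∨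
      X ^ (Fintype.card F - 1) = 1 ∨ X ^ (Fintype.card F + 1) = 1 := by
  classical
  have hCH := sq_eq X
  by_cases hroot : ∃ a : F, a ^ 2 - (X : Matrix (Fin 2) (Fin 2) F).trace * a + 1 = 0
  · obtain ⟨a, ha⟩ := hroot
    have ha0 : a ≠ 0 := by
      rintro rfl
      simp at ha
    have htr : (X : Matrix (Fin 2) (Fin 2) F).trace = a + a⁻¹ := by
      field_simp
      linear_combination -ha
    by_cases ha2 : a ^ 2 = 1
    · left
      have hainv : a⁻¹ = a := by
        field_simp
        linear_combination -ha2
      by_cases h2 : (2 : F) = 0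
      · have hp2 : p = 2 := by
          have h3 : ((2 : ℕ) : F) = 0 := by exact_mod_cast h2
          have h4 := (CharP.cast_eq_zero_iff F p 2).1 h3
          exact ((Nat.prime_dvd_prime_iff_eq (Fact.out : p.Prime) Nat.prime_two).1 h4)
        rw [hp2]
        have ht0 : (X : Matrix (Fin 2) (Fin 2) F).trace = 0 := by
          rw [htr, hainv]
          linear_combination a * h2
        rw [ht0, zero_smul, zero_sub] at hCH
        exact mk_pow_eq_one_of_scalar X 2 (-1) (by rw [hCH]; simp)
      · have hdet := X.det_coe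
        rw [Matrix.det_fin_two] at hdet
        have h4 : (X : Matrix (Fin 2) (Fin 2) F).trace ^ 2 = 4 := by
          rw [htr, hainv]
          linear_combination 4 * ha2
        rw [Matrix.trace_fin_two] at h4
        have hD : ((X : Matrix (Fin 2) (Fin 2) F) 0 0 - (X : Matrix (Fin 2) (Fin 2) F) 1 1) ^ 2 +
            4 * (X : Matrix (Fin 2) (Fin 2) F) 0 1 * (X : Matrix (Fin 2) (Fin 2) F) 1 0 = 0 := by
          linear_combination h4 - 4 * hdet
        have hpow := Cfsg.Agent.S2471.pow_char_scalar_of_disc p h2
          (X : Matrix (Fin 2) (Fin 2) F) hD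
        exact mk_pow_eq_one_of_scalar X p _ hpow
    · right; left
      have hc := isConj_of_trace_split a ha0 ha2 X (diag (Units.mk0 a ha0)) htr
        (by rw [trace_diag]; rfl)
      obtain ⟨c, hc⟩ := isConj_iff.1 hc
      have h1 : (diag (Units.mk0 a ha0) : Matrix.SpecialLinearGroup (Fin 2) F) ^
          (Fintype.card F - 1) = 1 := by
        rw [← map_pow]
        have : (Units.mk0 a ha0) ^ (Fintype.card F - 1) = 1 := by
          apply Units.ext
          rw [Units.val_pow_eq_pow_val, Units.val_mk0, Units.val_one]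
          exact FiniteField.pow_card_sub_one_eq_one a ha0
        rw [this, map_one]
      rw [← hc, conj_pow] at h1
      calc X ^ (Fintype.card F - 1) = c⁻¹ * (c * X ^ (Fintype.card F - 1) * c⁻¹) * c := by group
        _ = 1 := by rw [h1]; group
  · right; right
    push Not at hroot
    have hpow := pow_card_add_one p X hroot
    apply Subtype.ext
    rw [Matrix.SpecialLinearGroup.coe_pow, hpow, Matrix.SpecialLinearGroup.coe_one]

theorem Ps_pow {F : Type*} [Field F] (k : ℕ) :
    (Ps (1 : F)) ^ k = Ps (k : F) := by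
  induction k with
  | zero =>
    apply Subtype.ext
    rw [pow_zero, coe_Ps, Matrix.SpecialLinearGroup.coe_one]
    ext i j
    fin_cases i <;> fin_cases j <;> simp
  | succ k ih =>
    rw [pow_succ, ih]
    apply Subtype.ext
    rw [Matrix.SpecialLinearGroup.coe_mul, coe_Ps, coe_Ps, coe_Ps]
    ext i j
    fin_cases i <;> fin_cases j <;> simp [Matrix.mul_apply, Fin.sum_univ_two] <;> try ring

theorem exists_order_p {F : Type*} [Field F] (p : ℕ) [Fact p.Prime] [CharP F p] :
    ∃ x : Matrix.ProjectiveSpecialLinearGroup (Fin 2) F, orderOf x = p := by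
  refine ⟨QuotientGroup.mk (Ps (1 : F)), ?_⟩
  apply orderOf_eq_prime
  · rw [← QuotientGroup.mk_pow, Ps_pow, CharP.cast_eq_zero]
    have : Ps (0 : F) = 1 := by
      apply Subtype.ext
      rw [coe_Ps, Matrix.SpecialLinearGroup.coe_one]
      ext i j
      fin_cases i <;> fin_cases j <;> simp
    rw [this]
    rfl
  · intro h
    have h1 := nonscalar_of_mk_ne_one (Ps (1 : F))
    by_contra _
    rw [QuotientGroup.eq_one_iff, Matrix.SpecialLinearGroup.mem_center_iff] at h
    obtain ⟨r, -, hs⟩ := h
    have h2 := congrFun (congrFun hs 0) 1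
    rw [coe_Ps] at h2
    simp at h2

/-- The set of element orders of PSL(2,q): let F be a finite field of characteristic p with q ≥ 4 elements and d = gcd(2, q − 1). The orders of elements of PSL(2,F) are exactly the divisors of p, of (q − 1)/d and of (q + 1)/d. -/
theorem result {F : Type*} [Field F] [Fintype F] (p : ℕ) [Fact p.Prime] [CharP F p] (h4 : 4 ≤ Fintype.card F) :
    Set.range (orderOf : Matrix.ProjectiveSpecialLinearGroup (Fin 2) F → ℕ) =
      {m : ℕ | m ∣ p ∨ m ∣ (Fintype.card F - 1) / Nat.gcd 2 (Fintype.card F - 1) ∨ m ∣ (Fintype.card F + 1) / Nat.gcd 2 (Fintype.card F - 1)} := by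
  classical
  have hpp : p.Prime := Fact.out
  obtain ⟨n, -, hq⟩ := FiniteField.card F p
  have hq1 : 1 < Fintype.card F := Fintype.one_lt_card
  by_cases hp2 : p = 2
  · -- characteristic two
    subst hp2
    have h20 : (2 : F) = 0 := CharTwo.two_eq_zero
    have heven : 2 ∣ Fintype.card F := by
      rw [hq]
      exact dvd_pow_self 2 n.ne_zero
    have hgcd : Nat.gcd 2 (Fintype.card F - 1) = 1 := by
      have : Odd (Fintype.card F - 1) := by
        rw [Nat.odd_iff]
        omega
      exact Nat.coprime_two_left.2 this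
    rw [hgcd, Nat.div_one, Nat.div_one]
    have hinj : Function.Injective
        (QuotientGroup.mk' (Subgroup.center (Matrix.SpecialLinearGroup (Fin 2) F))) := by
      rw [← MonoidHom.ker_eq_bot_iff, QuotientGroup.ker_mk', Subgroup.eq_bot_iff_forall]
      intro g hg
      rw [Matrix.SpecialLinearGroup.mem_center_iff] at hg
      obtain ⟨r, hr, hs⟩ := hg
      simp only [Fintype.card_fin] at hr
      have hr1 : r = 1 := by
        have : (r - 1) ^ 2 = 0 := by linear_combination hr - r * h20 + h20
        exact sub_eq_zero.mp (pow_eq_zero_iff (two_ne_zero) |>.mp this)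
      apply Subtype.ext
      rw [← hs, hr1, map_one, Matrix.SpecialLinearGroup.coe_one]
    apply Set.eq_of_subset_of_subset
    · rintro _ ⟨x, rfl⟩
      obtain ⟨X, rfl⟩ := QuotientGroup.mk_surjective x
      rcases key 2 X with h | h | h
      · left
        exact orderOf_dvd_of_pow_eq_one h
      · right; left
        apply orderOf_dvd_of_pow_eq_one
        rw [← QuotientGroup.mk_pow, h]
        rfl
      · right; right
        apply orderOf_dvd_of_pow_eq_one
        rw [← QuotientGroup.mk_pow, h]
        rfl
    · rintro m (hm | hm | hm)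
      · rcases (Nat.dvd_prime Nat.prime_two).1 hm with rfl | rfl
        · exact ⟨1, orderOf_one⟩
        · exact exists_order_p 2
      · obtain ⟨Y, hY⟩ := exists_orderOf_of_dvd_card_sub_one (F := F) m hm
        refine ⟨QuotientGroup.mk Y, ?_⟩
        rw [← hY]
        exact orderOf_injective _ hinj Y
      · obtain ⟨Y, hY⟩ := exists_orderOf_of_dvd_card_add_one (F := F) 2 m hm
        refine ⟨QuotientGroup.mk Y, ?_⟩
        rw [← hY]
        exact orderOf_injective _ hinj Y
  · -- odd characteristic
    have hodd : Odd (Fintype.card F) := by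
      rw [hq]
      exact Odd.pow (hpp.odd_of_ne_two hp2)
    have h2 := two_ne_zero_of_odd hodd
    have hmod : Fintype.card F % 2 = 1 := Nat.odd_iff.1 hodd
    have hgcd : Nat.gcd 2 (Fintype.card F - 1) = 2 := Nat.gcd_eq_left (by omega)
    rw [hgcd]
    have e1 : 2 * ((Fintype.card F - 1) / 2) = Fintype.card F - 1 := by omega
    have e2 : 2 * ((Fintype.card F + 1) / 2) = Fintype.card F + 1 := by omega
    apply Set.eq_of_subset_of_subset
    · rintro _ ⟨x, rfl⟩
      obtain ⟨X, rfl⟩ := QuotientGroup.mk_surjective x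
      rcases key p X with h | h | h
      · left
        exact orderOf_dvd_of_pow_eq_one h
      · right; left
        apply orderOf_dvd_of_pow_eq_one
        rw [mk_pow_eq_one_iff h2, e1, h]
      · right; right
        apply orderOf_dvd_of_pow_eq_one
        rw [mk_pow_eq_one_iff h2, e2, h]
    · rintro m (hm | hm | hm)
      · rcases (Nat.dvd_prime hpp).1 hm with h | h
        · rw [h]
          exact ⟨1, orderOf_one⟩
        · rw [h]
          exact exists_order_p p
      · obtain ⟨Y, hY⟩ := exists_orderOf_of_dvd_card_sub_one (F := F) (2 * m)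
          (by rw [← e1]; exact Nat.mul_dvd_mul_left 2 hm)
        exact ⟨QuotientGroup.mk Y, orderOf_mk_of_two_mul h2 Y m hY⟩
      · obtain ⟨Y, hY⟩ := exists_orderOf_of_dvd_card_add_one (F := F) p (2 * m)
          (by rw [← e2]; exact Nat.mul_dvd_mul_left 2 hm)
        exact ⟨QuotientGroup.mk Y, orderOf_mk_of_two_mul h2 Y m hY⟩

end Cfsg.Agent.S2475
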