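import Cfsg.Statements.S2477
import Mathlib
import Cfsg.Agent.Helper14.AltOrders
-- import your own Cfsg.Agent.* helpers here

set_option autoImplicit false
open Cfsg

namespace Cfsg.Agent.S2477

theorem achv_check : ∀ x ∈ Cfsg.Agent.Helper14.AltOrders.achv 5 10, x.2 = false →
    x.1 ∈ [1, 2, 3, 4, 5, 6, 7, 8, 9, 10, 12, 15, 21] := by
  decide +kernel

/-- The set of element orders of the alternating group of degree 10 is {1, 2, 3, 4, 5, 6, 7, 8, 9, 10, 12, 15, 21}. -/
theorem result : Set.range (orderOf : alternatingGroup (Fin 10) → ℕ) = {1, 2, 3, 4, 5, 6, 7, 8, 9, 10, 12, 15, 21} := by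

  ext k
  rw [Cfsg.Agent.Helper14.AltOrders.mem_range_orderOf_iff]
  constructor
  · rintro ⟨m, hsum, h2, hev, rfl⟩
    have hcard : Multiset.card m ≤ 5 := by
      have h : Multiset.card m • 2 ≤ m.sum := Multiset.card_nsmul_le_sum h2
      simp only [smul_eq_mul] at h
      omega
    have hmem := Cfsg.Agent.Helper14.AltOrders.mem_achv m 5 10 hcard hsum h2
    rw [Nat.even_iff] at hev
    have hd : decide ((m.sum + Multiset.card m) % 2 = 1) = false := by simp [hev]
    rw [hd] at hmem
    have h := achv_check _ hmem rfl
    simp only [List.mem_cons, List.not_mem_nil, or_false] at h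
    simp only [Set.mem_insert_iff, Set.mem_singleton_iff]
    exact h
  · intro hk
    simp only [Set.mem_insert_iff, Set.mem_singleton_iff] at hk
    rcases hk with rfl | rfl | rfl | rfl | rfl | rfl | rfl | rfl | rfl | rfl | rfl | rfl | rfl
    · exact ⟨0, by decide, by decide, by decide, by decide⟩
    · exact ⟨{2, 2}, by decide, by decide, by decide, by decide⟩
    · exact ⟨{3}, by decide, by decide, by decide, by decide⟩
    · exact ⟨{4, 2}, by decide, by decide, by decide, by decide⟩
    · exact ⟨{5}, by decide, by decide, by decide, by decide⟩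
    · exact ⟨{3, 2, 2}, by decide, by decide, by decide, by decide⟩
    · exact ⟨{7}, by decide, by decide, by decide, by decide⟩
    · exact ⟨{8, 2}, by decide, by decide, by decide, by decide⟩
    · exact ⟨{9}, by decide, by decide, by decide, by decide⟩
    · exact ⟨{5, 2, 2}, by decide, by decide, by decide, by decide⟩
    · exact ⟨{4, 3, 2}, by decide, by decide, by decide, by decide⟩
    · exact ⟨{5, 3}, by decide, by decide, by decide, by decide⟩
    · exact ⟨{7, 3}, by decide, by decide, by decide, by decide⟩

end Cfsg.Agent.S2477
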