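import Cfsg.Statements.S2507
import Mathlib
import Cfsg.Agent.Helper14.Mat2
-- import your own Cfsg.Agent.* helpers here

set_option autoImplicit false
open Cfsg

namespace Cfsg.Agent.S2507

open Cfsg.Agent.Helper14.Mat2

theorem index_centralizer {G : Type*} [Group G] (g : G) :
    (Subgroup.centralizer ({g} : Set G)).index = Nat.card {h : G // IsConj g h} := by
  unfold Subgroup.index
  apply Nat.card_congr
  refine Equiv.ofBijective (fun q => Quotient.liftOn' q
    (fun x => (⟨x * g * x⁻¹, isConj_iff.2 ⟨x, rfl⟩⟩ : {h : G // IsConj g h})) ?_) ⟨?_, ?_⟩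
  · intro a b hab
    rw [QuotientGroup.leftRel_apply, Subgroup.mem_centralizer_iff] at hab
    have h := hab g (Set.mem_singleton g)
    apply Subtype.ext
    show a * g * a⁻¹ = b * g * b⁻¹
    calc a * g * a⁻¹ = a * (g * (a⁻¹ * b)) * b⁻¹ := by group
      _ = a * (a⁻¹ * b * g) * b⁻¹ := by rw [h]
      _ = b * g * b⁻¹ := by group
  · intro q1 q2
    induction q1 using QuotientGroup.induction_on with | _ a => ?_
    induction q2 using QuotientGroup.induction_on with | _ b => ?_
    intro h
    have h1 : a * g * a⁻¹ = b * g * b⁻¹ := congrArg Subtype.val h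
    apply QuotientGroup.eq.2
    rw [Subgroup.mem_centralizer_iff]
    intro x hx
    rw [Set.mem_singleton_iff] at hx
    subst hx
    calc x * (a⁻¹ * b) = a⁻¹ * (a * x * a⁻¹) * b := by group
      _ = a⁻¹ * (b * x * b⁻¹) * b := by rw [h1]
      _ = a⁻¹ * b * x := by group
  · rintro ⟨h, hh⟩
    obtain ⟨c, hc⟩ := isConj_iff.1 hh
    exact ⟨QuotientGroup.mk c, Subtype.ext hc⟩

theorem card_isConj_equiv {G G' : Type*} [Group G] [Group G'] (e : G ≃* G') (g : G) :
    Nat.card {h : G' // IsConj (e g) h} = Nat.card {h : G // IsConj g h} := by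
  apply Nat.card_congr
  symm
  refine Equiv.subtypeEquiv e.toEquiv ?_
  intro h
  constructor
  · intro hc
    exact (e : G →* G').map_isConj hc
  · intro hc
    have h1 := (e.symm : G' →* G).map_isConj hc
    simpa using h1

section field

variable {F : Type*} [Field F]

theorem count_pairs [Fintype F] [DecidableEq F] (k : F) :
    ∑ b : F, ∑ c : F, (if b * c = k then 1 else 0 : ℕ) =
      (if k = 0 then Fintype.card F else 0) + (Fintype.card F - 1) := by
  rw [← Finset.add_sum_erase Finset.univ _ (Finset.mem_univ (0 : F))]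
  congr 1
  · simp only [zero_mul]
    by_cases h : k = 0
    · subst h
      simp
    · rw [if_neg h]
      simp [Ne.symm h]
  · rw [← Finset.card_univ, ← Finset.card_erase_of_mem (Finset.mem_univ (0 : F)),
      Finset.card_eq_sum_ones]
    apply Finset.sum_congr rfl
    intro b hb
    have hb0 : b ≠ 0 := Finset.ne_of_mem_erase hb
    have h1 : ∀ c, (b * c = k) ↔ (c = k / b) := fun c => by rw [eq_div_iff hb0, mul_comm]
    simp only [h1]
    rw [Finset.sum_ite_eq' Finset.univ (k / b) (fun _ => (1 : ℕ))]
    simp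

theorem count_triples [Fintype F] [DecidableEq F] (k : F → F) :
    (Finset.univ.filter (fun p : F × F × F => p.2.1 * p.2.2 = k p.1)).card =
      Fintype.card F * (Finset.univ.filter (fun a => k a = 0)).card +
        Fintype.card F * (Fintype.card F - 1) := by
  rw [Finset.card_filter, Fintype.sum_prod_type]
  simp only [Fintype.sum_prod_type, count_pairs]
  rw [Finset.sum_add_distrib, Finset.sum_const, Finset.card_univ, smul_eq_mul,
    ← Finset.sum_filter, Finset.sum_const, smul_eq_mul, mul_comm]

theorem count_trace [Fintype F] [DecidableEq F] (t : F) :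
    (Finset.univ.filter (fun h : Matrix.SpecialLinearGroup (Fin 2) F =>
        (h : Matrix (Fin 2) (Fin 2) F).trace = t)).card =
      Fintype.card F * (Finset.univ.filter (fun a : F => a * t - a ^ 2 - 1 = 0)).card +
        Fintype.card F * (Fintype.card F - 1) := by
  rw [← count_triples]
  refine Finset.card_bij' (fun h _ => ((h : Matrix (Fin 2) (Fin 2) F) 0 0,
      (h : Matrix (Fin 2) (Fin 2) F) 0 1, (h : Matrix (Fin 2) (Fin 2) F) 1 0))
    (fun p hp => (⟨!![p.1, p.2.1; p.2.2, t - p.1], by
        rw [Finset.mem_filter] at hp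
        rw [Matrix.det_fin_two_of]
        linear_combination -hp.2⟩ : Matrix.SpecialLinearGroup (Fin 2) F)) ?_ ?_ ?_ ?_
  · intro h hh
    rw [Finset.mem_filter] at hh ⊢
    refine ⟨Finset.mem_univ _, ?_⟩
    have hdet := h.det_coe
    rw [Matrix.det_fin_two] at hdet
    have htr := hh.2
    rw [Matrix.trace_fin_two] at htr
    show (h : Matrix (Fin 2) (Fin 2) F) 0 1 * (h : Matrix (Fin 2) (Fin 2) F) 1 0 =
      (h : Matrix (Fin 2) (Fin 2) F) 0 0 * t - (h : Matrix (Fin 2) (Fin 2) F) 0 0 ^ 2 - 1
    rw [← htr]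
    linear_combination -hdet
  · intro p hp
    refine Finset.mem_filter.2 ⟨Finset.mem_univ _, ?_⟩
    show (!![p.1, p.2.1; p.2.2, t - p.1] : Matrix (Fin 2) (Fin 2) F).trace = t
    rw [Matrix.trace_fin_two_of]
    ring
  · intro h hh
    rw [Finset.mem_filter] at hh
    have htr := hh.2
    rw [Matrix.trace_fin_two] at htr
    apply Matrix.SpecialLinearGroup.ext
    intro i j
    fin_cases i <;> fin_cases j
    · rfl
    · rfl
    · rfl
    · show t - (h : Matrix (Fin 2) (Fin 2) F) 0 0 = (h : Matrix (Fin 2) (Fin 2) F) 1 1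
      rw [← htr]
      ring
  · intro p hp
    rfl

theorem eq_one_of_scalar [CharP F 2] (g : Matrix.SpecialLinearGroup (Fin 2) F)
    (h10 : (g : Matrix (Fin 2) (Fin 2) F) 1 0 = 0) (h01 : (g : Matrix (Fin 2) (Fin 2) F) 0 1 = 0)
    (h00 : (g : Matrix (Fin 2) (Fin 2) F) 0 0 = (g : Matrix (Fin 2) (Fin 2) F) 1 1) : g = 1 := by
  have hdet := g.det_coe
  rw [Matrix.det_fin_two, h10, h01, mul_zero, sub_zero, ← h00] at hdet
  have ha : (g : Matrix (Fin 2) (Fin 2) F) 0 0 = 1 := by
    have h2 : (2 : F) = 0 := CharTwo.two_eq_zero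
    have : ((g : Matrix (Fin 2) (Fin 2) F) 0 0 - 1) ^ 2 = 0 := by
      linear_combination hdet - ((g : Matrix (Fin 2) (Fin 2) F) 0 0 - 1) * h2
    exact sub_eq_zero.mp (pow_eq_zero_iff (two_ne_zero) |>.mp this)
  apply Matrix.SpecialLinearGroup.ext
  intro i j
  fin_cases i <;> fin_cases j <;> simp [h10, h01, ← h00, ha]

theorem isConj_compSL_char_two [Fintype F] [CharP F 2] (g : Matrix.SpecialLinearGroup (Fin 2) F)
    (hg : g ≠ 1) : IsConj g (compSL (g : Matrix (Fin 2) (Fin 2) F).trace) := by
  have hns : (g : Matrix (Fin 2) (Fin 2) F) 1 0 ≠ 0 ∨ (g : Matrix (Fin 2) (Fin 2) F) 0 1 ≠ 0 ∨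
      (g : Matrix (Fin 2) (Fin 2) F) 0 0 ≠ (g : Matrix (Fin 2) (Fin 2) F) 1 1 := by
    by_contra hcon
    push Not at hcon
    exact hg (eq_one_of_scalar g hcon.1 hcon.2.1 hcon.2.2)
  obtain ⟨P, hP, hc⟩ := exists_conj_compSL g hns
  obtain ⟨s, hs⟩ := FiniteField.isSquare_of_char_two
    (CharP.ringChar_of_prime_eq_zero Nat.prime_two (CharTwo.two_eq_zero)) (P.det)⁻¹
  apply isConj_SL_of_mul_eq g _ (s • P)
  · rw [Matrix.det_smul, Fintype.card_fin, pow_two, ← hs, inv_mul_cancel₀ hP]
  · rw [Matrix.mul_smul, hc, Matrix.smul_mul]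

theorem compSL_ne_one (τ : F) : (compSL τ : Matrix.SpecialLinearGroup (Fin 2) F) ≠ 1 := by
  intro h
  have h2 := congrArg (fun M : Matrix.SpecialLinearGroup (Fin 2) F =>
    (M : Matrix (Fin 2) (Fin 2) F) 1 0) h
  simp [coe_compSL, comp_apply_one_zero] at h2

theorem trace_compSL (τ : F) :
    ((compSL τ : Matrix.SpecialLinearGroup (Fin 2) F) : Matrix (Fin 2) (Fin 2) F).trace = τ := by
  rw [coe_compSL, trace_comp]

/-- the class of a non-identity element is cut out by the trace. -/
theorem card_class [Fintype F] [DecidableEq F] [CharP F 2]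
    (g : Matrix.SpecialLinearGroup (Fin 2) F) (hg : g ≠ 1) :
    Nat.card {h : Matrix.SpecialLinearGroup (Fin 2) F // IsConj g h} =
      ((Finset.univ.filter (fun h : Matrix.SpecialLinearGroup (Fin 2) F =>
        (h : Matrix (Fin 2) (Fin 2) F).trace = (g : Matrix (Fin 2) (Fin 2) F).trace)).erase 1).card := by
  rw [Nat.card_eq_fintype_card, Fintype.card_subtype]
  congr 1
  ext h
  rw [Finset.mem_filter, Finset.mem_erase, Finset.mem_filter]
  constructor
  · rintro ⟨-, hc⟩
    refine ⟨?_, Finset.mem_univ _, (trace_eq_of_isConj_SL hc).symm⟩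
    rintro rfl
    exact hg (isConj_one_left.1 hc)
  · rintro ⟨h1, -, htr⟩
    refine ⟨Finset.mem_univ _, ?_⟩
    have e1 := isConj_compSL_char_two g hg
    have e2 := isConj_compSL_char_two h h1
    rw [htr] at e2
    exact e1.trans e2.symm

theorem roots_zero [Fintype F] [DecidableEq F] [CharP F 2] :
    (Finset.univ.filter (fun a : F => a * 0 - a ^ 2 - 1 = 0)).card = 1 := by
  have h2 : (2 : F) = 0 := CharTwo.two_eq_zero
  rw [Finset.card_eq_one]
  refine ⟨1, ?_⟩
  ext a
  rw [Finset.mem_filter, Finset.mem_singleton]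
  constructor
  · rintro ⟨-, h⟩
    have : (a - 1) ^ 2 = 0 := by linear_combination -h - a * h2
    exact sub_eq_zero.mp (pow_eq_zero_iff (two_ne_zero) |>.mp this)
  · rintro rfl
    refine ⟨Finset.mem_univ _, ?_⟩
    linear_combination -h2

theorem roots_nonzero [Fintype F] [DecidableEq F] [CharP F 2] (t : F) (ht : t ≠ 0) :
    (Finset.univ.filter (fun a : F => a * t - a ^ 2 - 1 = 0)).card = 0 ∨
      (Finset.univ.filter (fun a : F => a * t - a ^ 2 - 1 = 0)).card = 2 := by
  have h2 : (2 : F) = 0 := CharTwo.two_eq_zero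
  by_cases hex : ∃ a : F, a * t - a ^ 2 - 1 = 0
  · right
    obtain ⟨a, ha⟩ := hex
    have ha0 : a ≠ 0 := by
      rintro rfl
      simp at ha
    have hne : a ≠ a⁻¹ := by
      intro h
      have h1 : a * a = 1 := by
        nth_rewrite 2 [h]
        exact mul_inv_cancel₀ ha0
      have h3 : a * t = 0 := by linear_combination ha + h1 + h2
      rcases mul_eq_zero.1 h3 with h4 | h4
      · exact ha0 h4
      · exact ht h4
    rw [Finset.card_eq_two]
    refine ⟨a, a⁻¹, hne, ?_⟩
    ext b
    rw [Finset.mem_filter, Finset.mem_insert, Finset.mem_singleton]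
    have hainv : a * a⁻¹ = 1 := mul_inv_cancel₀ ha0
    constructor
    · rintro ⟨-, hb⟩
      have h3 : (b - a) * (b - a⁻¹) = 0 := by
        have h4 : t = a + a⁻¹ := by
          field_simp
          linear_combination ha
        rw [h4] at hb
        linear_combination -hb + hainv
      rcases mul_eq_zero.1 h3 with h4 | h4
      · left; exact sub_eq_zero.1 h4
      · right; exact sub_eq_zero.1 h4
    · rintro (rfl | rfl)
      · exact ⟨Finset.mem_univ _, ha⟩
      · refine ⟨Finset.mem_univ _, ?_⟩
        have h4 : t = a + a⁻¹ := by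
          field_simp
          linear_combination ha
        rw [h4]
        field_simp
        ring
  · left
    rw [Finset.card_eq_zero, Finset.filter_eq_empty_iff]
    intro a _ ha
    exact hex ⟨a, ha⟩

theorem class_sizes [Fintype F] [DecidableEq F] [CharP F 2]
    (g : Matrix.SpecialLinearGroup (Fin 2) F) :
    Nat.card {h : Matrix.SpecialLinearGroup (Fin 2) F // IsConj g h} ∈
      ({1, Fintype.card F * (Fintype.card F - 1), Fintype.card F ^ 2 - 1,
        Fintype.card F * (Fintype.card F + 1)} : Set ℕ) := by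
  have h2 : (2 : F) = 0 := CharTwo.two_eq_zero
  have hq : 1 ≤ Fintype.card F := Fintype.card_pos
  by_cases hg : g = 1
  · subst hg
    left
    rw [Nat.card_eq_fintype_card, Fintype.card_eq_one_iff]
    refine ⟨⟨1, IsConj.refl 1⟩, ?_⟩
    rintro ⟨h, hh⟩
    apply Subtype.ext
    exact (isConj_one_right.1 hh)
  · rw [card_class g hg]
    by_cases ht : (g : Matrix (Fin 2) (Fin 2) F).trace = 0
    · right; right; left
      rw [ht, Finset.card_erase_of_mem, count_trace, roots_zero]
      · obtain ⟨m, hm⟩ : ∃ m, Fintype.card F = m + 1 := ⟨Fintype.card F - 1, by omega⟩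
        rw [hm]
        simp only [Nat.add_sub_cancel]
        ring_nf
      · rw [Finset.mem_filter]
        refine ⟨Finset.mem_univ _, ?_⟩
        rw [Matrix.SpecialLinearGroup.coe_one, Matrix.trace_one, Fintype.card_fin]
        exact_mod_cast h2
    · rw [Finset.erase_eq_of_notMem, count_trace]
      · rcases roots_nonzero _ ht with h | h
        · right; left
          rw [h]
          simp
        · right; right; right
          show _ = _
          rw [h]
          obtain ⟨m, hm⟩ : ∃ m, Fintype.card F = m + 1 := ⟨Fintype.card F - 1, by omega⟩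
          rw [hm]
          simp only [Nat.add_sub_cancel]
          ring
      · rw [Finset.mem_filter]
        rintro ⟨-, h⟩
        rw [Matrix.SpecialLinearGroup.coe_one, Matrix.trace_one, Fintype.card_fin] at h
        apply ht
        rw [← h]
        exact_mod_cast h2

theorem exists_class_sizes [Fintype F] [DecidableEq F] [CharP F 2] (h4 : 4 ≤ Fintype.card F) :
    (∃ g : Matrix.SpecialLinearGroup (Fin 2) F,
      Nat.card {h : Matrix.SpecialLinearGroup (Fin 2) F // IsConj g h} = 1) ∧
    (∃ g : Matrix.SpecialLinearGroup (Fin 2) F,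
      Nat.card {h : Matrix.SpecialLinearGroup (Fin 2) F // IsConj g h} =
        Fintype.card F * (Fintype.card F - 1)) ∧
    (∃ g : Matrix.SpecialLinearGroup (Fin 2) F,
      Nat.card {h : Matrix.SpecialLinearGroup (Fin 2) F // IsConj g h} =
        Fintype.card F ^ 2 - 1) ∧
    (∃ g : Matrix.SpecialLinearGroup (Fin 2) F,
      Nat.card {h : Matrix.SpecialLinearGroup (Fin 2) F // IsConj g h} =
        Fintype.card F * (Fintype.card F + 1)) := by
  have h2 : (2 : F) = 0 := CharTwo.two_eq_zero
  have htr1 : ((1 : Matrix.SpecialLinearGroup (Fin 2) F) : Matrix (Fin 2) (Fin 2) F).trace = 0 := by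
    rw [Matrix.SpecialLinearGroup.coe_one, Matrix.trace_one, Fintype.card_fin]
    exact_mod_cast h2
  -- general computation for `compSL t`, `t ≠ 0`
  have key : ∀ t : F, t ≠ 0 →
      Nat.card {h : Matrix.SpecialLinearGroup (Fin 2) F // IsConj (compSL t) h} =
        Fintype.card F * (Finset.univ.filter (fun a : F => a * t - a ^ 2 - 1 = 0)).card +
          Fintype.card F * (Fintype.card F - 1) := by
    intro t ht
    rw [card_class _ (compSL_ne_one t), trace_compSL, Finset.erase_eq_of_notMem, count_trace]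
    rw [Finset.mem_filter]
    rintro ⟨-, h⟩
    exact ht (h.symm.trans htr1)
  refine ⟨?_, ?_, ?_, ?_⟩
  · refine ⟨1, ?_⟩
    rw [Nat.card_eq_fintype_card, Fintype.card_eq_one_iff]
    refine ⟨⟨1, IsConj.refl 1⟩, ?_⟩
    rintro ⟨h, hh⟩
    apply Subtype.ext
    exact (isConj_one_right.1 hh)
  · -- a trace without roots
    have hlt : (((Finset.univ.erase (0 : F)).erase 1).image (fun a => a + a⁻¹)).card <
        (Finset.univ.erase (0 : F)).card := by
      refine lt_of_le_of_lt Finset.card_image_le ?_
      rw [Finset.card_erase_of_mem, Finset.card_erase_of_mem (Finset.mem_univ _), Finset.card_univ]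
      · omega
      · rw [Finset.mem_erase]
        exact ⟨one_ne_zero, Finset.mem_univ _⟩
    obtain ⟨t, ht1, ht2⟩ := Finset.exists_mem_notMem_of_card_lt_card hlt
    have ht0 : t ≠ 0 := Finset.ne_of_mem_erase ht1
    refine ⟨compSL t, ?_⟩
    rw [key t ht0]
    have hroots : (Finset.univ.filter (fun a : F => a * t - a ^ 2 - 1 = 0)).card = 0 := by
      rw [Finset.card_eq_zero, Finset.filter_eq_empty_iff]
      intro a _ ha
      apply ht2
      have ha0 : a ≠ 0 := by
        rintro rfl
        simp at ha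
      have ha1 : a ≠ 1 := by
        rintro rfl
        apply ht0
        linear_combination ha + h2
      rw [Finset.mem_image]
      refine ⟨a, ?_, ?_⟩
      · rw [Finset.mem_erase, Finset.mem_erase]
        exact ⟨ha1, ha0, Finset.mem_univ _⟩
      · field_simp
        linear_combination -ha
    rw [hroots]
    simp
  · refine ⟨compSL 0, ?_⟩
    rw [card_class _ (compSL_ne_one 0), trace_compSL, Finset.card_erase_of_mem, count_trace,
      roots_zero]
    · obtain ⟨m, hm⟩ : ∃ m, Fintype.card F = m + 1 := ⟨Fintype.card F - 1, by omega⟩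
      rw [hm]
      simp only [Nat.add_sub_cancel]
      ring_nf
    · rw [Finset.mem_filter]
      exact ⟨Finset.mem_univ _, htr1⟩
  · -- a split trace
    have hcard : 2 < (Finset.univ : Finset F).card := by
      rw [Finset.card_univ]
      omega
    obtain ⟨a, -, ha0, ha1⟩ : ∃ a ∈ (Finset.univ : Finset F), a ≠ 0 ∧ a ≠ 1 := by
      by_contra hcon
      push Not at hcon
      have hsub : (Finset.univ : Finset F) ⊆ {0, 1} := by
        intro a ha
        rw [Finset.mem_insert, Finset.mem_singleton]
        by_cases h0 : a = 0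
        · left; exact h0
        · right; exact hcon a ha h0
      have := Finset.card_le_card hsub
      have h3 : ({0, 1} : Finset F).card ≤ 2 := Finset.card_le_two
      omega
    have hainv : a * a⁻¹ = 1 := mul_inv_cancel₀ ha0
    have ht0 : a + a⁻¹ ≠ 0 := by
      intro h
      apply ha1
      have h5 : a * (a + a⁻¹) = 0 := by rw [h, mul_zero]
      have : (a - 1) ^ 2 = 0 := by
        linear_combination h5 - hainv - a * h2
      exact sub_eq_zero.mp (pow_eq_zero_iff (two_ne_zero) |>.mp this)
    refine ⟨compSL (a + a⁻¹), ?_⟩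
    rw [key _ ht0]
    rcases roots_nonzero _ ht0 with h | h
    · exfalso
      rw [Finset.card_eq_zero, Finset.filter_eq_empty_iff] at h
      apply h (Finset.mem_univ a)
      linear_combination hainv
    · rw [h]
      obtain ⟨m, hm⟩ : ∃ m, Fintype.card F = m + 1 := ⟨Fintype.card F - 1, by omega⟩
      rw [hm]
      simp only [Nat.add_sub_cancel]
      ring

end field

/-- Let F be a finite field with q = 2^f ≥ 4 elements. The conjugacy class sizes of PSL(2,F) are exactly 1, q(q − 1), q² − 1 and q(q + 1). -/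
theorem result {F : Type*} [Field F] [Fintype F]
    (h2 : 2 ∣ Fintype.card F) (h4 : 4 ≤ Fintype.card F) :
    Set.range (fun g : (Matrix.ProjectiveSpecialLinearGroup (Fin 2) F) => (Subgroup.centralizer ({g} : Set (Matrix.ProjectiveSpecialLinearGroup (Fin 2) F))).index) =
      {1, Fintype.card F * (Fintype.card F - 1), Fintype.card F ^ 2 - 1, Fintype.card F * (Fintype.card F + 1)} := by
  classical
  haveI : CharP F 2 := by
    obtain ⟨p, hp⟩ := CharP.exists F
    haveI := hp
    haveI : Fact p.Prime := ⟨CharP.char_is_prime F p⟩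
    obtain ⟨n, -, hq⟩ := FiniteField.card F p
    rw [hq] at h2
    have h3 : 2 ∣ p := Nat.Prime.dvd_of_dvd_pow Nat.prime_two h2
    have h5 : 2 = p := (Nat.prime_dvd_prime_iff_eq Nat.prime_two (Fact.out : p.Prime)).1 h3
    rw [h5]
    exact hp
  -- the quotient map is an isomorphism
  have hinj : Function.Injective
      (QuotientGroup.mk' (Subgroup.center (Matrix.SpecialLinearGroup (Fin 2) F))) := by
    rw [← MonoidHom.ker_eq_bot_iff, QuotientGroup.ker_mk', Subgroup.eq_bot_iff_forall]
    intro g hg
    rw [Matrix.SpecialLinearGroup.mem_center_iff] at hg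
    obtain ⟨r, -, hr⟩ := hg
    apply eq_one_of_scalar g
    · rw [← hr]; simp
    · rw [← hr]; simp
    · rw [← hr]; simp
  let e : Matrix.SpecialLinearGroup (Fin 2) F ≃* Matrix.ProjectiveSpecialLinearGroup (Fin 2) F :=
    MulEquiv.ofBijective (QuotientGroup.mk' (Subgroup.center (Matrix.SpecialLinearGroup (Fin 2) F)))
      ⟨hinj, QuotientGroup.mk'_surjective _⟩
  have hidx : ∀ X : Matrix.SpecialLinearGroup (Fin 2) F,
      (Subgroup.centralizer ({e X} : Set (Matrix.ProjectiveSpecialLinearGroup (Fin 2) F))).index =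
        Nat.card {h : Matrix.SpecialLinearGroup (Fin 2) F // IsConj X h} := by
    intro X
    rw [index_centralizer, card_isConj_equiv]
  apply Set.eq_of_subset_of_subset
  · rintro _ ⟨g, rfl⟩
    obtain ⟨X, rfl⟩ := e.surjective g
    show (Subgroup.centralizer ({e X} : Set (Matrix.ProjectiveSpecialLinearGroup (Fin 2) F))).index ∈ _
    rw [hidx]
    exact class_sizes X
  · obtain ⟨⟨g1, hg1⟩, ⟨g2, hg2⟩, ⟨g3, hg3⟩, ⟨g4, hg4⟩⟩ := exists_class_sizes (F := F) h4
    rintro v (rfl | rfl | rfl | rfl)
    · exact ⟨e g1, by show (Subgroup.centralizer ({e g1} : Set _)).index = _; rw [hidx, hg1]⟩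
    · exact ⟨e g2, by show (Subgroup.centralizer ({e g2} : Set _)).index = _; rw [hidx, hg2]⟩
    · exact ⟨e g3, by show (Subgroup.centralizer ({e g3} : Set _)).index = _; rw [hidx, hg3]⟩
    · exact ⟨e g4, by show (Subgroup.centralizer ({e g4} : Set _)).index = _; rw [hidx, hg4]⟩

end Cfsg.Agent.S2507
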