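import Cfsg.Statements.S2503
import Mathlib
import Cfsg.Agent.Helper14.Torus
import Cfsg.Agent.S2507
-- import your own Cfsg.Agent.* helpers here

set_option autoImplicit false
open Cfsg

namespace Cfsg.Agent.S2503

open Cfsg.Agent.Helper14.PSL2 Cfsg.Agent.Helper14.SL2Conj Cfsg.Agent.Helper14.Torus

section core

variable {F : Type*} [Field F]

/-- the unipotent subgroup as a homomorphism -/
def PsHom : Multiplicative F →* Matrix.SpecialLinearGroup (Fin 2) F where
  toFun s := Ps (Multiplicative.toAdd s)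
  map_one' := by
    apply Subtype.ext
    rw [coe_Ps, Matrix.SpecialLinearGroup.coe_one]
    ext i j
    fin_cases i <;> fin_cases j <;> simp
  map_mul' a b := by
    apply Subtype.ext
    rw [Matrix.SpecialLinearGroup.coe_mul, coe_Ps, coe_Ps, coe_Ps]
    ext i j
    fin_cases i <;> fin_cases j <;> simp [Matrix.mul_apply, Fin.sum_univ_two, add_comm]

theorem PsHom_injective : Function.Injective (PsHom (F := F)) := by
  intro a b h
  have h1 := congrArg (fun M : Matrix.SpecialLinearGroup (Fin 2) F =>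
    (M : Matrix (Fin 2) (Fin 2) F) 0 1) h
  simp only [PsHom, MonoidHom.coe_mk, OneHom.coe_mk, coe_Ps, Matrix.of_apply, Matrix.cons_val_zero,
    Matrix.cons_val_one] at h1
  exact Multiplicative.toAdd.injective h1

/-- an element of `SL₂` fixing the first basis vector is unipotent upper triangular. -/
theorem eq_Ps_of_fix (M : Matrix.SpecialLinearGroup (Fin 2) F)
    (h : (M : Matrix (Fin 2) (Fin 2) F).mulVec ![1, 0] = ![1, 0]) :
    M = Ps ((M : Matrix (Fin 2) (Fin 2) F) 0 1) := by
  have h0 := congrFun h 0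
  have h1 := congrFun h 1
  simp [Matrix.mulVec, dotProduct, Fin.sum_univ_two] at h0 h1
  have hdet := M.det_coe
  rw [Matrix.det_fin_two, h0, h1, mul_zero, sub_zero, one_mul] at hdet
  apply Subtype.ext
  rw [coe_Ps]
  ext i j
  fin_cases i <;> fin_cases j <;> simp [h0, h1, hdet]

/-- an involution (or the identity) of `SL₂` in characteristic two has a fixed vector. -/
theorem exists_fixed [CharP F 2] (h : Matrix.SpecialLinearGroup (Fin 2) F)
    (ht : (h : Matrix (Fin 2) (Fin 2) F).trace = 0) :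
    ∃ w : Fin 2 → F, w ≠ 0 ∧ (h : Matrix (Fin 2) (Fin 2) F).mulVec w = w := by
  have h20 : (2 : F) = 0 := CharTwo.two_eq_zero
  have hdet := h.det_coe
  rw [Matrix.det_fin_two] at hdet
  rw [Matrix.trace_fin_two] at ht
  have hmv : ∀ (M : Matrix (Fin 2) (Fin 2) F) (u v : F),
      M.mulVec ![u, v] = ![M 0 0 * u + M 0 1 * v, M 1 0 * u + M 1 1 * v] := by
    intro M u v
    ext i
    fin_cases i <;> simp [Matrix.mulVec, dotProduct, Fin.sum_univ_two]
  by_cases hc : (h : Matrix (Fin 2) (Fin 2) F) 0 1 = 0 ∧ (h : Matrix (Fin 2) (Fin 2) F) 0 0 = 1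
  · refine ⟨![0, 1], ?_, ?_⟩
    · intro h0
      have := congrFun h0 1
      simp at this
    · rw [hmv]
      have e0 : (h : Matrix (Fin 2) (Fin 2) F) 0 0 * 0 + (h : Matrix (Fin 2) (Fin 2) F) 0 1 * 1 = 0 := by
        rw [hc.1]
        ring
      have e1 : (h : Matrix (Fin 2) (Fin 2) F) 1 0 * 0 + (h : Matrix (Fin 2) (Fin 2) F) 1 1 * 1 = 1 := by
        rw [hc.2] at ht
        linear_combination ht - h20
      rw [e0, e1]
  · refine ⟨![(h : Matrix (Fin 2) (Fin 2) F) 0 1, 1 - (h : Matrix (Fin 2) (Fin 2) F) 0 0], ?_, ?_⟩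
    · intro h0
      apply hc
      have e0 := congrFun h0 0
      have e1 := congrFun h0 1
      simp at e0 e1
      exact ⟨e0, by linear_combination -e1⟩
    · rw [hmv]
      have e0 : (h : Matrix (Fin 2) (Fin 2) F) 0 0 * (h : Matrix (Fin 2) (Fin 2) F) 0 1 +
          (h : Matrix (Fin 2) (Fin 2) F) 0 1 * (1 - (h : Matrix (Fin 2) (Fin 2) F) 0 0) =
          (h : Matrix (Fin 2) (Fin 2) F) 0 1 := by ring
      have e1 : (h : Matrix (Fin 2) (Fin 2) F) 1 0 * (h : Matrix (Fin 2) (Fin 2) F) 0 1 +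
          (h : Matrix (Fin 2) (Fin 2) F) 1 1 * (1 - (h : Matrix (Fin 2) (Fin 2) F) 0 0) =
          1 - (h : Matrix (Fin 2) (Fin 2) F) 0 0 := by
        linear_combination -hdet + ht - h20
      rw [e0, e1]

theorem core [Fintype F] [CharP F 2] :
    ∃ A B : Subgroup (Matrix.SpecialLinearGroup (Fin 2) F), IsCyclic A ∧
      Nat.card A = Fintype.card F + 1 ∧ IsMulCommutative B ∧ (∀ b ∈ B, b * b = 1) ∧
      Nat.card B = Fintype.card F ∧
      ∀ g : Matrix.SpecialLinearGroup (Fin 2) F, ∃ a ∈ A, ∃ b ∈ B, ∃ c ∈ A, g = a * b * c := by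
  classical
  obtain ⟨K, _, _, _, L, hL, hdet, hfr, hcard0, htrans⟩ := exists_quadratic_data (F := F) 2
  have h20 : (2 : F) = 0 := CharTwo.two_eq_zero
  have hq : 1 < Fintype.card F := Fintype.one_lt_card
  have hmem : ∀ x : Kˣ, x ∈ (Units.map (Algebra.norm F : K →* F)).ker ↔
      Algebra.norm F (x : K) = 1 := by
    intro x
    rw [MonoidHom.mem_ker, Units.ext_iff]
    rfl
  let ψ : (Units.map (Algebra.norm F : K →* F)).ker →* Matrix.SpecialLinearGroup (Fin 2) F :=
    { toFun := fun x => ⟨L ((x : Kˣ) : K), by rw [hdet]; exact (hmem _).1 x.2⟩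
      map_one' := by
        apply Subtype.ext
        show L (((1 : (Units.map (Algebra.norm F : K →* F)).ker) : Kˣ) : K) = 1
        rw [Subgroup.coe_one, Units.val_one, map_one]
      map_mul' := fun x y => by
        apply Subtype.ext
        show L (((x * y : (Units.map (Algebra.norm F : K →* F)).ker) : Kˣ) : K) =
          L ((x : Kˣ) : K) * L ((y : Kˣ) : K)
        rw [Subgroup.coe_mul, Units.val_mul, map_mul] }
  have hψ : Function.Injective ψ := by
    intro x y h
    have h1 : L ((x : Kˣ) : K) = L ((y : Kˣ) : K) := congrArg Subtype.val h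
    exact Subtype.ext (Units.ext (hL h1))
  have hmemA : ∀ (x : K) (Y : Matrix.SpecialLinearGroup (Fin 2) F),
      L x = (Y : Matrix (Fin 2) (Fin 2) F) → Y ∈ ψ.range := by
    intro x Y hxY
    have hn : Algebra.norm F x = 1 := by
      rw [← hdet, hxY]
      exact Y.det_coe
    have hx0 : x ≠ 0 := by
      rintro rfl
      rw [Algebra.norm_zero] at hn
      exact zero_ne_one hn
    exact ⟨⟨Units.mk0 x hx0, (hmem _).2 hn⟩, Subtype.ext hxY⟩
  have hdet0 : ∀ x : K, x ≠ 0 → (L x).det ≠ 0 := by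
    intro x hx h0
    have h1 : L x * L x⁻¹ = 1 := by rw [← map_mul, mul_inv_cancel₀ hx, map_one]
    have h2 := congrArg Matrix.det h1
    rw [Matrix.det_mul, h0, zero_mul, Matrix.det_one] at h2
    exact zero_ne_one h2
  -- normalising a non-zero element of `K` to determinant one
  have hnormalise : ∀ x : K, x ≠ 0 → ∃ (μ : F) (Y : Matrix.SpecialLinearGroup (Fin 2) F),
      Y ∈ ψ.range ∧ (Y : Matrix (Fin 2) (Fin 2) F) = μ • L x := by
    intro x hx
    obtain ⟨μ, hμ⟩ := FiniteField.isSquare_of_char_two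
      (CharP.ringChar_of_prime_eq_zero Nat.prime_two h20) ((L x).det)⁻¹
    have hd : (L (μ • x)).det = 1 := by
      rw [map_smul, Matrix.det_smul, Fintype.card_fin, pow_two, ← hμ, inv_mul_cancel₀ (hdet0 x hx)]
    exact ⟨μ, ⟨L (μ • x), hd⟩, hmemA (μ • x) _ rfl, map_smul L μ x⟩
  have hcardA : Nat.card ψ.range = Fintype.card F + 1 := by
    rw [Nat.card_congr (MonoidHom.ofInjective hψ).toEquiv.symm]
    have h1 := Subgroup.card_mul_index (Units.map (Algebra.norm F : K →* F)).ker
    rw [Subgroup.index_ker, MonoidHom.range_eq_top.2 (FiniteField.unitsMap_norm_surjective F K),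
      Subgroup.card_top, Nat.card_units, Nat.card_units, hcard0,
      Nat.card_eq_fintype_card (α := F)] at h1
    have hfac : Fintype.card F ^ 2 - 1 = (Fintype.card F + 1) * (Fintype.card F - 1) := by
      obtain ⟨m, hm⟩ : ∃ m, Fintype.card F = m + 1 := ⟨Fintype.card F - 1, by omega⟩
      rw [hm]
      simp only [Nat.add_sub_cancel]
      have : (m + 1) ^ 2 = (m + 1 + 1) * m + 1 := by ring
      omega
    rw [hfac] at h1
    exact Nat.eq_of_mul_eq_mul_right (by omega) h1
  refine ⟨ψ.range, PsHom.range, ?_, hcardA, inferInstance, ?_, ?_, ?_⟩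
  · exact isCyclic_of_surjective ψ.rangeRestrict ψ.rangeRestrict_surjective
  · rintro b ⟨s, rfl⟩
    rw [← map_mul]
    have : s * s = 1 := by
      apply Multiplicative.toAdd.injective
      rw [toAdd_mul, toAdd_one]
      exact CharTwo.add_self_eq_zero _
    rw [this, map_one]
  · rw [Nat.card_congr (MonoidHom.ofInjective PsHom_injective).toEquiv.symm,
      Nat.card_eq_fintype_card, Fintype.card_multiplicative]
  · intro g
    -- step 1: kill the trace
    have hker : LinearMap.ker ((Matrix.traceLinearMap (Fin 2) F F).comp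
        ((LinearMap.mulLeft F (g : Matrix (Fin 2) (Fin 2) F)).comp L.toLinearMap)) ≠ ⊥ := by
      apply LinearMap.ker_ne_bot_of_finrank_lt
      rw [Module.finrank_self, hfr]
      norm_num
    obtain ⟨κ, hκ, hκ0⟩ := (Submodule.ne_bot_iff _).1 hker
    have hκ' : ((g : Matrix (Fin 2) (Fin 2) F) * L κ).trace = 0 := by
      have := LinearMap.mem_ker.1 hκ
      exact this
    obtain ⟨μ, C, hCA, hC⟩ := hnormalise κ hκ0
    have hht : ((g * C : Matrix.SpecialLinearGroup (Fin 2) F) :
        Matrix (Fin 2) (Fin 2) F).trace = 0 := by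
      rw [Matrix.SpecialLinearGroup.coe_mul, hC, Matrix.mul_smul, Matrix.trace_smul, hκ',
        smul_zero]
    -- step 2: a fixed vector
    obtain ⟨w, hw0, hw⟩ := exists_fixed (g * C) hht
    obtain ⟨x, hx0, hx⟩ := htrans w hw0
    obtain ⟨ν, a, haA, ha⟩ := hnormalise x hx0
    have hfix : ((a⁻¹ * (g * C) * a : Matrix.SpecialLinearGroup (Fin 2) F) :
        Matrix (Fin 2) (Fin 2) F).mulVec ![1, 0] = ![1, 0] := by
      have e1 : (a : Matrix (Fin 2) (Fin 2) F).mulVec ![1, 0] = ν • w := by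
        rw [ha, Matrix.smul_mulVec, hx]
      have e2 : ((a⁻¹ : Matrix.SpecialLinearGroup (Fin 2) F) :
          Matrix (Fin 2) (Fin 2) F).mulVec (ν • w) = ![1, 0] := by
        rw [← e1, Matrix.mulVec_mulVec, ← Matrix.SpecialLinearGroup.coe_mul, inv_mul_cancel,
          Matrix.SpecialLinearGroup.coe_one, Matrix.one_mulVec]
      rw [Matrix.SpecialLinearGroup.coe_mul, Matrix.SpecialLinearGroup.coe_mul,
        ← Matrix.mulVec_mulVec, ← Matrix.mulVec_mulVec, e1, Matrix.mulVec_smul, hw, e2]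
    have hPs := eq_Ps_of_fix _ hfix
    refine ⟨a, haA, a⁻¹ * (g * C) * a, ⟨Multiplicative.ofAdd _, hPs.symm⟩, a⁻¹ * C⁻¹,
      Subgroup.mul_mem _ (Subgroup.inv_mem _ haA) (Subgroup.inv_mem _ hCA), ?_⟩
    group

end core

/-- Let F be a finite field with q = 2^t ≥ 4 elements and L = PSL(2,F). Then L has a cyclic subgroup A of order q + 1 and an elementary abelian 2-subgroup B of order q such that L = ABA: every element of L is a product a·b·a' with a, a' ∈ A and b ∈ B. -/
theorem result {F : Type*} [Field F] [Fintype F]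
    (h2 : 2 ∣ Fintype.card F) (h4 : 4 ≤ Fintype.card F) :
    ∃ A B : Subgroup (Matrix.ProjectiveSpecialLinearGroup (Fin 2) F),
      IsCyclic A ∧ Nat.card A = Fintype.card F + 1 ∧ IsMulCommutative B ∧ (∀ b ∈ B, b * b = 1) ∧
        Nat.card B = Fintype.card F ∧
        ∀ g : Matrix.ProjectiveSpecialLinearGroup (Fin 2) F, ∃ a ∈ A, ∃ b ∈ B, ∃ c ∈ A, g = a * b * c := by
  classical
  haveI : CharP F 2 := by
    obtain ⟨p, hp⟩ := CharP.exists F
    haveI := hp
    haveI : Fact p.Prime := ⟨CharP.char_is_prime F p⟩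
    obtain ⟨n, -, hq⟩ := FiniteField.card F p
    rw [hq] at h2
    have h3 : 2 ∣ p := Nat.Prime.dvd_of_dvd_pow Nat.prime_two h2
    have h5 : 2 = p := (Nat.prime_dvd_prime_iff_eq Nat.prime_two (Fact.out : p.Prime)).1 h3
    rw [h5]
    exact hp
  have hinj : Function.Injective
      (QuotientGroup.mk' (Subgroup.center (Matrix.SpecialLinearGroup (Fin 2) F))) := by
    rw [← MonoidHom.ker_eq_bot_iff, QuotientGroup.ker_mk', Subgroup.eq_bot_iff_forall]
    intro g hg
    rw [Matrix.SpecialLinearGroup.mem_center_iff] at hg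
    obtain ⟨r, -, hr⟩ := hg
    apply Cfsg.Agent.S2507.eq_one_of_scalar g
    · rw [← hr]; simp
    · rw [← hr]; simp
    · rw [← hr]; simp
  obtain ⟨A, B, hAc, hAcard, hBc, hB2, hBcard, hABA⟩ := core (F := F)
  refine ⟨A.map (QuotientGroup.mk' _), B.map (QuotientGroup.mk' _), ?_, ?_, inferInstance, ?_, ?_,
    ?_⟩
  · exact isCyclic_of_surjective (A.equivMapOfInjective _ hinj) (MulEquiv.surjective _)
  · rw [Subgroup.card_map_of_injective hinj, hAcard]
  · rintro _ ⟨b, hb, rfl⟩
    rw [← map_mul, hB2 b hb, map_one]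
  · rw [Subgroup.card_map_of_injective hinj, hBcard]
  · intro g
    obtain ⟨g, rfl⟩ := QuotientGroup.mk'_surjective _ g
    obtain ⟨a, ha, b, hb, c, hc, rfl⟩ := hABA g
    exact ⟨_, Subgroup.mem_map_of_mem _ ha, _, Subgroup.mem_map_of_mem _ hb, _,
      Subgroup.mem_map_of_mem _ hc, by rw [map_mul, map_mul]⟩

end Cfsg.Agent.S2503
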