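import Cfsg.Statements.S2508
import Mathlib
import Cfsg.Agent.Helper14.Torus
import Cfsg.Agent.S2507
import Cfsg.Agent.S2471
import Cfsg.Agent.S2301
-- import your own Cfsg.Agent.* helpers here

set_option autoImplicit false
open Cfsg

namespace Cfsg.Agent.S2508

open Cfsg.Agent.Helper14.Mat2 Cfsg.Agent.Helper14.SL2Odd Cfsg.Agent.Helper14.PSL2
  Cfsg.Agent.Helper14.SL2Conj Cfsg.Agent.Helper14.Torus

section aux

variable {F : Type*} [Field F]

local notation "SL2" => Matrix.SpecialLinearGroup (Fin 2) F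
local notation "PSL2" => Matrix.ProjectiveSpecialLinearGroup (Fin 2) F

theorem coe_negOne_mul (h : SL2) :
    ((negOne * h : SL2) : Matrix (Fin 2) (Fin 2) F) = -(h : Matrix (Fin 2) (Fin 2) F) := by
  rw [Matrix.SpecialLinearGroup.coe_mul, coe_negOne]
  ext i j
  fin_cases i <;> fin_cases j <;> simp [Matrix.mul_apply, Fin.sum_univ_two]

theorem negOne_comm (c : SL2) : negOne * c = c * negOne := by
  apply Subtype.ext
  rw [Matrix.SpecialLinearGroup.coe_mul, Matrix.SpecialLinearGroup.coe_mul, coe_negOne]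
  ext i j
  fin_cases i <;> fin_cases j <;> simp [Matrix.mul_apply, Fin.sum_univ_two]

theorem negOne_mul_negOne : (negOne : SL2) * negOne = 1 := by
  apply Subtype.ext
  rw [coe_negOne_mul, coe_negOne, Matrix.SpecialLinearGroup.coe_one]
  ext i j
  fin_cases i <;> fin_cases j <;> simp

theorem isConj_negOne_mul {X h : SL2} (hc : IsConj X h) : IsConj (negOne * X) (negOne * h) := by
  obtain ⟨c, rfl⟩ := isConj_iff.1 hc
  refine isConj_iff.2 ⟨c, ?_⟩
  calc c * (negOne * X) * c⁻¹ = (c * negOne) * X * c⁻¹ := by group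
    _ = (negOne * c) * X * c⁻¹ := by rw [negOne_comm]
    _ = negOne * (c * X * c⁻¹) := by group

theorem isConj_negOne_mul' {X h : SL2} (hc : IsConj (negOne * X) h) : IsConj X (negOne * h) := by
  have := isConj_negOne_mul hc
  rwa [← mul_assoc, negOne_mul_negOne, one_mul] at this

theorem negOne_mul_ne (h2 : (2 : F) ≠ 0) (h : SL2) : negOne * h ≠ h := by
  intro he
  have h1 : -(h : Matrix (Fin 2) (Fin 2) F) = (h : Matrix (Fin 2) (Fin 2) F) := by
    rw [← coe_negOne_mul, he]
  have e : ∀ i j, (h : Matrix (Fin 2) (Fin 2) F) i j = 0 := by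
    intro i j
    have h3 := congrFun (congrFun h1 i) j
    rw [Matrix.neg_apply] at h3
    have h4 : (2 : F) * (h : Matrix (Fin 2) (Fin 2) F) i j = 0 := by linear_combination -h3
    exact (mul_eq_zero.1 h4).resolve_left h2
  have hdet := h.det_coe
  rw [Matrix.det_fin_two, e 0 0, e 0 1, zero_mul, zero_mul, sub_zero] at hdet
  exact zero_ne_one hdet

/-- twice the class size in `PSL₂` is the size of the union of the classes of `X` and `-X`. -/
theorem two_mul_card_class [Fintype F] [DecidableEq F] (h2 : (2 : F) ≠ 0) (X : SL2) :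
    2 * Nat.card {y : PSL2 // IsConj (QuotientGroup.mk X : PSL2) y} =
      (Finset.univ.filter (fun h : SL2 => IsConj X h ∨ IsConj (negOne * X) h)).card := by
  classical
  haveI : Fintype PSL2 := Fintype.ofFinite _
  rw [Nat.card_eq_fintype_card, Fintype.card_subtype]
  have hmaps : ∀ h ∈ Finset.univ.filter (fun h : SL2 => IsConj X h ∨ IsConj (negOne * X) h),
      (QuotientGroup.mk h : PSL2) ∈
        Finset.univ.filter (fun y : PSL2 => IsConj (QuotientGroup.mk X : PSL2) y) := by
    intro h hh
    rw [Finset.mem_filter] at hh ⊢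
    refine ⟨Finset.mem_univ _, ?_⟩
    rcases hh.2 with hc | hc
    · exact isConj_mk_of_isConj hc
    · have h3 := isConj_mk_of_isConj hc
      rwa [mk_negOne_mul] at h3
  rw [Finset.card_eq_sum_card_fiberwise hmaps, Finset.sum_const_nat (m := 2), mul_comm]
  intro y hy
  rw [Finset.mem_filter] at hy
  obtain ⟨h₀, rfl⟩ := QuotientGroup.mk_surjective y
  have hK : IsConj X h₀ ∨ IsConj (negOne * X) h₀ := by
    obtain ⟨c, hc⟩ := isConj_iff.1 hy.2
    obtain ⟨c', rfl⟩ := QuotientGroup.mk_surjective c
    have h0 : (QuotientGroup.mk (c' * X * c'⁻¹) : PSL2) = QuotientGroup.mk h₀ := hc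
    obtain ⟨r, hr, hB⟩ := exists_scalar_of_mk_eq h0
    rcases hr with rfl | rfl
    · left
      refine isConj_iff.2 ⟨c', ?_⟩
      apply Subtype.ext
      rw [hB, one_smul]
    · right
      have h3 : negOne * (c' * X * c'⁻¹) = h₀ := by
        apply Subtype.ext
        rw [coe_negOne_mul, hB, neg_smul, one_smul]
      rw [← h3]
      exact isConj_negOne_mul (isConj_iff.2 ⟨c', rfl⟩)
  have hfib : (Finset.univ.filter (fun h : SL2 => IsConj X h ∨ IsConj (negOne * X) h)).filter
      (fun h => (QuotientGroup.mk h : PSL2) = QuotientGroup.mk h₀) = {h₀, negOne * h₀} := by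
    ext h
    rw [Finset.mem_filter, Finset.mem_filter, Finset.mem_insert, Finset.mem_singleton]
    constructor
    · rintro ⟨-, hm⟩
      obtain ⟨r, hr, hB⟩ := exists_scalar_of_mk_eq hm.symm
      rcases hr with rfl | rfl
      · left
        apply Subtype.ext
        rw [hB, one_smul]
      · right
        apply Subtype.ext
        rw [coe_negOne_mul, hB, neg_smul, one_smul]
    · rintro (rfl | rfl)
      · exact ⟨⟨Finset.mem_univ _, hK⟩, rfl⟩
      · refine ⟨⟨Finset.mem_univ _, ?_⟩, mk_negOne_mul _⟩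
        rcases hK with hc | hc
        · right
          exact isConj_negOne_mul hc
        · left
          exact isConj_negOne_mul' hc
  rw [hfib, Finset.card_pair (negOne_mul_ne h2 h₀).symm]

/-- number of roots of the characteristic polynomial of trace `t`, `t² ≠ 4`. -/
theorem roots_card [Fintype F] [DecidableEq F] (t : F) (ht : t ^ 2 ≠ 4) :
    ((∃ a : F, a * t - a ^ 2 - 1 = 0) →
      (Finset.univ.filter (fun a : F => a * t - a ^ 2 - 1 = 0)).card = 2) ∧
    ((¬ ∃ a : F, a * t - a ^ 2 - 1 = 0) →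
      (Finset.univ.filter (fun a : F => a * t - a ^ 2 - 1 = 0)).card = 0) := by
  constructor
  · rintro ⟨a, ha⟩
    have ha0 : a ≠ 0 := by
      rintro rfl
      simp at ha
    have hainv : a * a⁻¹ = 1 := mul_inv_cancel₀ ha0
    have hne : a ≠ a⁻¹ := by
      intro h
      have h1 : a * a = 1 := by
        nth_rewrite 2 [h]
        exact hainv
      apply ht
      have e1 : a * t - 2 = 0 := by linear_combination ha + h1
      linear_combination (a * t + 2) * e1 - t ^ 2 * h1
    have h4 : t = a + a⁻¹ := by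
      field_simp
      linear_combination ha
    rw [Finset.card_eq_two]
    refine ⟨a, a⁻¹, hne, ?_⟩
    ext b
    rw [Finset.mem_filter, Finset.mem_insert, Finset.mem_singleton]
    constructor
    · rintro ⟨-, hb⟩
      have h3 : (b - a) * (b - a⁻¹) = 0 := by
        rw [h4] at hb
        linear_combination -hb + hainv
      rcases mul_eq_zero.1 h3 with h5 | h5
      · left; exact sub_eq_zero.1 h5
      · right; exact sub_eq_zero.1 h5
    · rintro (rfl | rfl)
      · exact ⟨Finset.mem_univ _, ha⟩
      · refine ⟨Finset.mem_univ _, ?_⟩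
        rw [h4]
        field_simp
        ring
  · intro hno
    rw [Finset.card_eq_zero, Finset.filter_eq_empty_iff]
    intro a _ ha
    exact hno ⟨a, ha⟩

theorem roots_card_neg [Fintype F] [DecidableEq F] (t : F) (ht : t ^ 2 ≠ 4) :
    (Finset.univ.filter (fun a : F => a * (-t) - a ^ 2 - 1 = 0)).card =
      (Finset.univ.filter (fun a : F => a * t - a ^ 2 - 1 = 0)).card := by
  have ht' : (-t) ^ 2 ≠ 4 := by rwa [neg_sq]
  by_cases h : ∃ a : F, a * t - a ^ 2 - 1 = 0
  · rw [(roots_card t ht).1 h]
    apply (roots_card (-t) ht').1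
    obtain ⟨a, ha⟩ := h
    exact ⟨-a, by linear_combination ha⟩
  · rw [(roots_card t ht).2 h]
    apply (roots_card (-t) ht').2
    rintro ⟨a, ha⟩
    exact h ⟨-a, by linear_combination ha⟩

/-- the union of the classes of `X` and `-X` when `tr X ^ 2 ≠ 4`. -/
theorem union_eq_trace [Fintype F] [DecidableEq F] (hodd : Odd (Fintype.card F)) (X : SL2)
    (ht : (X : Matrix (Fin 2) (Fin 2) F).trace ^ 2 ≠ 4) :
    Finset.univ.filter (fun h : SL2 => IsConj X h ∨ IsConj (negOne * X) h) =
      Finset.univ.filter (fun h : SL2 =>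
        (h : Matrix (Fin 2) (Fin 2) F).trace = (X : Matrix (Fin 2) (Fin 2) F).trace ∨
          (h : Matrix (Fin 2) (Fin 2) F).trace = -(X : Matrix (Fin 2) (Fin 2) F).trace) := by
  ext h
  rw [Finset.mem_filter, Finset.mem_filter]
  constructor
  · rintro ⟨-, hc | hc⟩
    · exact ⟨Finset.mem_univ _, Or.inl (trace_eq_of_isConj_SL hc).symm⟩
    · refine ⟨Finset.mem_univ _, Or.inr ?_⟩
      rw [← trace_eq_of_isConj_SL hc, trace_negOne_mul]
  · rintro ⟨-, he | he⟩
    · exact ⟨Finset.mem_univ _, Or.inl (isConj_of_trace_eq hodd X h he.symm ht)⟩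
    · refine ⟨Finset.mem_univ _, Or.inr (isConj_of_trace_eq hodd (negOne * X) h ?_ ?_)⟩
      · rw [trace_negOne_mul, he]
      · rw [trace_negOne_mul, neg_sq]
        exact ht

/-- class size in `PSL₂` for trace `t` with `t² ≠ 4`, `t ≠ 0`. -/
theorem idx_of_trace [Fintype F] [DecidableEq F] (hodd : Odd (Fintype.card F)) (X : SL2)
    (ht : (X : Matrix (Fin 2) (Fin 2) F).trace ^ 2 ≠ 4)
    (ht0 : (X : Matrix (Fin 2) (Fin 2) F).trace ≠ 0) :
    Nat.card {y : PSL2 // IsConj (QuotientGroup.mk X : PSL2) y} =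
      Fintype.card F * (Finset.univ.filter (fun a : F =>
        a * (X : Matrix (Fin 2) (Fin 2) F).trace - a ^ 2 - 1 = 0)).card +
        Fintype.card F * (Fintype.card F - 1) := by
  have h2 := two_ne_zero_of_odd hodd
  have h1 := two_mul_card_class h2 X
  rw [union_eq_trace hodd X ht, Finset.filter_or, Finset.card_union_of_disjoint,
    Cfsg.Agent.S2507.count_trace, Cfsg.Agent.S2507.count_trace, roots_card_neg _ ht] at h1
  · omega
  · rw [Finset.disjoint_filter]
    intro h _ e1 e2
    apply ht0
    have h3 : (2 : F) * (X : Matrix (Fin 2) (Fin 2) F).trace = 0 := by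
      linear_combination e2 - e1
    exact (mul_eq_zero.1 h3).resolve_left h2

/-- class size in `PSL₂` for trace `0`. -/
theorem idx_of_trace_zero [Fintype F] [DecidableEq F] (hodd : Odd (Fintype.card F)) (X : SL2)
    (ht0 : (X : Matrix (Fin 2) (Fin 2) F).trace = 0) :
    2 * Nat.card {y : PSL2 // IsConj (QuotientGroup.mk X : PSL2) y} =
      Fintype.card F * (Finset.univ.filter (fun a : F => a * 0 - a ^ 2 - 1 = 0)).card +
        Fintype.card F * (Fintype.card F - 1) := by
  have h2 := two_ne_zero_of_odd hodd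
  have h4 : (4 : F) ≠ 0 := by
    intro h
    apply h2
    have : (2 : F) * 2 = 0 := by linear_combination h
    exact (mul_eq_zero.1 this).elim id id
  have ht : (X : Matrix (Fin 2) (Fin 2) F).trace ^ 2 ≠ 4 := by
    rw [ht0]
    intro h
    apply h4
    linear_combination -h
  have h1 := two_mul_card_class h2 X
  rw [union_eq_trace hodd X ht, ht0, neg_zero] at h1
  have h3 : Finset.univ.filter (fun h : SL2 => (h : Matrix (Fin 2) (Fin 2) F).trace = 0 ∨
      (h : Matrix (Fin 2) (Fin 2) F).trace = 0) =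
      Finset.univ.filter (fun h : SL2 => (h : Matrix (Fin 2) (Fin 2) F).trace = 0) := by
    ext h
    simp
  rw [h3, Cfsg.Agent.S2507.count_trace] at h1
  exact h1

theorem card_isConj_eq_carrier (Y : SL2) :
    Nat.card {h : SL2 // IsConj Y h} = Nat.card (ConjClasses.mk Y).carrier := by
  apply Nat.card_congr
  refine Equiv.subtypeEquivRight ?_
  intro h
  rw [ConjClasses.mem_carrier_iff_mk_eq, ConjClasses.mk_eq_mk_iff_isConj]
  exact ⟨fun hc => hc.symm, fun hc => hc.symm⟩

/-- class size in `SL₂` of a non-trivial element of trace `2`. -/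
theorem card_class_unipotent [Fintype F] [DecidableEq F] (p : ℕ) [Fact p.Prime] [CharP F p]
    (h2 : (2 : F) ≠ 0) (Y : SL2) (hY1 : Y ≠ 1)
    (htr : (Y : Matrix (Fin 2) (Fin 2) F).trace = 2) :
    Nat.card {h : SL2 // IsConj Y h} = (Fintype.card F ^ 2 - 1) / 2 := by
  have hdet := Y.det_coe
  rw [Matrix.det_fin_two] at hdet
  rw [Matrix.trace_fin_two] at htr
  have hD : ((Y : Matrix (Fin 2) (Fin 2) F) 0 0 - (Y : Matrix (Fin 2) (Fin 2) F) 1 1) ^ 2 +
      4 * (Y : Matrix (Fin 2) (Fin 2) F) 0 1 * (Y : Matrix (Fin 2) (Fin 2) F) 1 0 = 0 := by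
    linear_combination ((Y : Matrix (Fin 2) (Fin 2) F) 0 0 + (Y : Matrix (Fin 2) (Fin 2) F) 1 1 + 2) * htr
      - 4 * hdet
  have hpow := Cfsg.Agent.S2471.pow_char_scalar_of_disc p h2 (Y : Matrix (Fin 2) (Fin 2) F) hD
  have hone : ((Y : Matrix (Fin 2) (Fin 2) F) 0 0 + (Y : Matrix (Fin 2) (Fin 2) F) 1 1) / 2 = 1 := by
    rw [htr]
    exact div_self h2
  rw [hone, one_pow, one_smul] at hpow
  have hYp : Y ^ p = 1 := by
    apply Subtype.ext
    rw [Matrix.SpecialLinearGroup.coe_pow, hpow, Matrix.SpecialLinearGroup.coe_one]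
  have hord : orderOf Y = p := orderOf_eq_prime hYp hY1
  obtain ⟨b, hb, hc⟩ := Cfsg.Agent.S2301.conj_uel_of_order_p p Y hord
  have h12 : (1 : F) ≠ -1 := by
    intro h
    apply h2
    linear_combination h
  rw [card_isConj_eq_carrier, ← ConjClasses.mk_eq_mk_iff_isConj.2 hc,
    Cfsg.Agent.S2301.class_size b hb h12]

/-- class size in `PSL₂` of a non-trivial element with `tr ^ 2 = 4`. -/
theorem idx_of_unipotent [Fintype F] [DecidableEq F] (p : ℕ) [Fact p.Prime] [CharP F p]
    (hodd : Odd (Fintype.card F)) (X : SL2)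
    (ht : (X : Matrix (Fin 2) (Fin 2) F).trace ^ 2 = 4)
    (hX : (QuotientGroup.mk X : PSL2) ≠ 1) :
    Nat.card {y : PSL2 // IsConj (QuotientGroup.mk X : PSL2) y} = (Fintype.card F ^ 2 - 1) / 2 := by
  have h2 := two_ne_zero_of_odd hodd
  have h1 := two_mul_card_class h2 X
  have hXne : X ≠ 1 := by
    rintro rfl
    exact hX rfl
  have hnXne : negOne * X ≠ 1 := by
    intro h
    apply hX
    rw [← mk_negOne_mul, h]
    rfl
  -- the two classes have the same size
  have hsame : (Finset.univ.filter (fun h : SL2 => IsConj (negOne * X) h)).card =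
      (Finset.univ.filter (fun h : SL2 => IsConj X h)).card := by
    symm
    refine Finset.card_bij (fun h _ => negOne * h) ?_ ?_ ?_
    · intro h hh
      rw [Finset.mem_filter] at hh ⊢
      exact ⟨Finset.mem_univ _, isConj_negOne_mul hh.2⟩
    · intro a _ b _ hab
      exact mul_left_cancel hab
    · intro h hh
      rw [Finset.mem_filter] at hh
      refine ⟨negOne * h, ?_, ?_⟩
      · rw [Finset.mem_filter]
        exact ⟨Finset.mem_univ _, isConj_negOne_mul' hh.2⟩
      · rw [← mul_assoc, negOne_mul_negOne, one_mul]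
  have hdisj : Disjoint (Finset.univ.filter (fun h : SL2 => IsConj X h))
      (Finset.univ.filter (fun h : SL2 => IsConj (negOne * X) h)) := by
    rw [Finset.disjoint_filter]
    intro h _ e1 e2
    have t1 := trace_eq_of_isConj_SL e1
    have t2 := trace_eq_of_isConj_SL e2
    rw [trace_negOne_mul] at t2
    have h3 : (2 : F) * (X : Matrix (Fin 2) (Fin 2) F).trace = 0 := by
      linear_combination t1 - t2
    have h4 : (X : Matrix (Fin 2) (Fin 2) F).trace = 0 := (mul_eq_zero.1 h3).resolve_left h2
    rw [h4] at ht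
    have h5 : (2 : F) * 2 = 0 := by linear_combination -ht
    exact h2 ((mul_eq_zero.1 h5).elim id id)
  rw [Finset.filter_or, Finset.card_union_of_disjoint hdisj, hsame] at h1
  have hcard : (Finset.univ.filter (fun h : SL2 => IsConj X h)).card =
      (Fintype.card F ^ 2 - 1) / 2 := by
    have hfac : ((X : Matrix (Fin 2) (Fin 2) F).trace - 2) *
        ((X : Matrix (Fin 2) (Fin 2) F).trace + 2) = 0 := by linear_combination ht
    rcases mul_eq_zero.1 hfac with h | h
    · have htr : (X : Matrix (Fin 2) (Fin 2) F).trace = 2 := by linear_combination h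
      rw [← card_class_unipotent p h2 X hXne htr, Nat.card_eq_fintype_card, Fintype.card_subtype]
    · have htr : ((negOne * X : SL2) : Matrix (Fin 2) (Fin 2) F).trace = 2 := by
        rw [trace_negOne_mul]
        linear_combination -h
      rw [← hsame, ← card_class_unipotent p h2 (negOne * X) hnXne htr, Nat.card_eq_fintype_card,
        Fintype.card_subtype]
  rw [hcard] at h1
  omega

/-- an element of order `q + 1` has no eigenvalue, non-zero trace and `tr ^ 2 ≠ 4`. -/
theorem no_root_of_order [Fintype F] (p : ℕ) [Fact p.Prime] [CharP F p]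
    (hodd : Odd (Fintype.card F)) (h7 : 7 ≤ Fintype.card F) (Y : SL2)
    (hY : orderOf Y = Fintype.card F + 1) :
    (¬ ∃ a : F, a * (Y : Matrix (Fin 2) (Fin 2) F).trace - a ^ 2 - 1 = 0) ∧
      (Y : Matrix (Fin 2) (Fin 2) F).trace ≠ 0 ∧ (Y : Matrix (Fin 2) (Fin 2) F).trace ^ 2 ≠ 4 := by
  have hpp : p.Prime := Fact.out
  have h2 := two_ne_zero_of_odd hodd
  have hCH := sq_eq Y
  have hnoroot : ¬ ∃ a : F, a * (Y : Matrix (Fin 2) (Fin 2) F).trace - a ^ 2 - 1 = 0 := by
    rintro ⟨a, ha⟩
    have ha0 : a ≠ 0 := by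
      rintro rfl
      simp at ha
    have htr : (Y : Matrix (Fin 2) (Fin 2) F).trace = a + a⁻¹ := by
      field_simp
      linear_combination ha
    by_cases ha2 : a ^ 2 = 1
    · have hainv : a⁻¹ = a := by
        field_simp
        linear_combination -ha2
      have hdet := Y.det_coe
      rw [Matrix.det_fin_two] at hdet
      have h4 : (Y : Matrix (Fin 2) (Fin 2) F).trace ^ 2 = 4 := by
        rw [htr, hainv]
        linear_combination 4 * ha2
      rw [Matrix.trace_fin_two] at h4
      have hD : ((Y : Matrix (Fin 2) (Fin 2) F) 0 0 - (Y : Matrix (Fin 2) (Fin 2) F) 1 1) ^ 2 +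
          4 * (Y : Matrix (Fin 2) (Fin 2) F) 0 1 * (Y : Matrix (Fin 2) (Fin 2) F) 1 0 = 0 := by
        linear_combination h4 - 4 * hdet
      have hpow := Cfsg.Agent.S2471.pow_char_scalar_of_disc p h2
        (Y : Matrix (Fin 2) (Fin 2) F) hD
      have h1 := mk_pow_eq_one_of_scalar Y p _ hpow
      rw [mk_pow_eq_one_iff h2] at h1
      have hdvd := orderOf_dvd_of_pow_eq_one h1
      rw [hY] at hdvd
      obtain ⟨n, -, hq⟩ := FiniteField.card F p
      have hpq : p ∣ Fintype.card F := by
        rw [hq]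
        exact dvd_pow_self p n.ne_zero
      have hcop : Nat.Coprime (Fintype.card F + 1) p := by
        apply Nat.Coprime.symm
        rw [Nat.Prime.coprime_iff_not_dvd hpp]
        intro h
        have : p ∣ 1 := (Nat.dvd_add_right hpq).1 h
        exact hpp.one_lt.ne' (Nat.dvd_one.1 this)
      have h5 := hcop.dvd_of_dvd_mul_right hdvd
      have := Nat.le_of_dvd (by norm_num) h5
      omega
    · have hc := isConj_of_trace_split a ha0 ha2 Y (diag (Units.mk0 a ha0)) htr
        (by rw [trace_diag]; rfl)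
      obtain ⟨c, hc⟩ := isConj_iff.1 hc
      have h1 : (diag (Units.mk0 a ha0) : SL2) ^ (Fintype.card F - 1) = 1 := by
        rw [← map_pow]
        have : (Units.mk0 a ha0) ^ (Fintype.card F - 1) = 1 := by
          apply Units.ext
          rw [Units.val_pow_eq_pow_val, Units.val_mk0, Units.val_one]
          exact FiniteField.pow_card_sub_one_eq_one a ha0
        rw [this, map_one]
      rw [← hc, conj_pow] at h1
      have h3 : Y ^ (Fintype.card F - 1) = 1 := by
        calc Y ^ (Fintype.card F - 1) = c⁻¹ * (c * Y ^ (Fintype.card F - 1) * c⁻¹) * c := by group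
          _ = 1 := by rw [h1]; group
      have hdvd := orderOf_dvd_of_pow_eq_one h3
      rw [hY] at hdvd
      have := Nat.le_of_dvd (by omega) hdvd
      omega
  refine ⟨hnoroot, ?_, ?_⟩
  · intro h0
    rw [h0, zero_smul, zero_sub] at hCH
    have h4 : Y ^ 4 = 1 := by
      apply Subtype.ext
      rw [Matrix.SpecialLinearGroup.coe_pow, Matrix.SpecialLinearGroup.coe_one,
        show (4 : ℕ) = 2 * 2 by norm_num, pow_mul, hCH]
      simp
    have hdvd := orderOf_dvd_of_pow_eq_one h4
    rw [hY] at hdvd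
    have := Nat.le_of_dvd (by norm_num) hdvd
    omega
  · intro h4
    apply hnoroot
    refine ⟨(Y : Matrix (Fin 2) (Fin 2) F).trace / 2, ?_⟩
    field_simp
    linear_combination h4

/-- the diagonal element of a generator of `Fˣ`. -/
theorem exists_split [Fintype F] (hodd : Odd (Fintype.card F)) (h7 : 7 ≤ Fintype.card F) :
    ∃ Y : SL2, (∃ a : F, a * (Y : Matrix (Fin 2) (Fin 2) F).trace - a ^ 2 - 1 = 0) ∧
      (Y : Matrix (Fin 2) (Fin 2) F).trace ≠ 0 ∧ (Y : Matrix (Fin 2) (Fin 2) F).trace ^ 2 ≠ 4 := by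
  classical
  have h2 := two_ne_zero_of_odd hodd
  have hunits : Nat.card Fˣ = Fintype.card F - 1 := by
    rw [Nat.card_units, Nat.card_eq_fintype_card]
  obtain ⟨g, hg⟩ := IsCyclic.exists_ofOrder_eq_natCard (α := Fˣ)
  have hg0 : (g : F) ≠ 0 := g.ne_zero
  have hginv : (g : F) * (g : F)⁻¹ = 1 := mul_inv_cancel₀ hg0
  have hg4 : (g : F) ^ 4 ≠ 1 := by
    intro h
    have h1 : g ^ 4 = 1 := by
      apply Units.ext
      rw [Units.val_pow_eq_pow_val, h, Units.val_one]
    have hdvd := orderOf_dvd_of_pow_eq_one h1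
    rw [hg, hunits] at hdvd
    have := Nat.le_of_dvd (by norm_num) hdvd
    omega
  refine ⟨diag g, ⟨(g : F), ?_⟩, ?_, ?_⟩
  · rw [trace_diag]
    field_simp
    ring
  · rw [trace_diag]
    intro h0
    apply hg4
    have h1 : (g : F) ^ 2 = -1 := by
      have : (g : F) * ((g : F) + (g : F)⁻¹) = 0 := by rw [h0, mul_zero]
      linear_combination this - hginv
    calc (g : F) ^ 4 = ((g : F) ^ 2) ^ 2 := by ring
      _ = 1 := by rw [h1]; ring
  · rw [trace_diag]
    intro h4
    apply hg4
    have h1 : (g : F) ^ 2 = 1 := by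
      have h5 : ((g : F) - (g : F)⁻¹) ^ 2 = 0 := by linear_combination h4 - 4 * hginv
      have h6 : (g : F) - (g : F)⁻¹ = 0 := pow_eq_zero_iff (two_ne_zero) |>.mp h5
      have : (g : F) * ((g : F) - (g : F)⁻¹) = 0 := by rw [h6, mul_zero]
      linear_combination this + hginv
    calc (g : F) ^ 4 = ((g : F) ^ 2) ^ 2 := by ring
      _ = 1 := by rw [h1]; ring

end aux

/-- Let F be a finite field with q elements, q odd and q ≥ 7. If q ≡ 1 (mod 4) the conjugacy class sizes of PSL(2,F) are exactly 1, (q² − 1)/2, q(q + 1)/2, q(q − 1) and q(q + 1); if q ≡ 3 (mod 4) they are exactly 1, (q² − 1)/2, q(q − 1)/2, q(q + 1) and q(q − 1). -/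
theorem result {F : Type*} [Field F] [Fintype F]
    (hodd : ¬ 2 ∣ Fintype.card F) (h7 : 7 ≤ Fintype.card F) :
    (Fintype.card F % 4 = 1 →
      Set.range (fun g : (Matrix.ProjectiveSpecialLinearGroup (Fin 2) F) => (Subgroup.centralizer ({g} : Set (Matrix.ProjectiveSpecialLinearGroup (Fin 2) F))).index) =
        {1, (Fintype.card F ^ 2 - 1) / 2, Fintype.card F * (Fintype.card F + 1) / 2,
          Fintype.card F * (Fintype.card F - 1), Fintype.card F * (Fintype.card F + 1)}) ∧
    (Fintype.card F % 4 = 3 →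
      Set.range (fun g : (Matrix.ProjectiveSpecialLinearGroup (Fin 2) F) => (Subgroup.centralizer ({g} : Set (Matrix.ProjectiveSpecialLinearGroup (Fin 2) F))).index) =
        {1, (Fintype.card F ^ 2 - 1) / 2, Fintype.card F * (Fintype.card F - 1) / 2,
          Fintype.card F * (Fintype.card F + 1), Fintype.card F * (Fintype.card F - 1)}) := by
  classical
  have hodd' : Odd (Fintype.card F) := Nat.odd_iff.2 (by omega)
  have h2 := two_ne_zero_of_odd hodd'
  obtain ⟨p, hp⟩ := CharP.exists F
  haveI := hp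
  haveI : Fact p.Prime := ⟨CharP.char_is_prime F p⟩
  have hq1 : 1 ≤ Fintype.card F := by omega
  -- arithmetic
  have hA : Fintype.card F * 2 + Fintype.card F * (Fintype.card F - 1) =
      Fintype.card F * (Fintype.card F + 1) := by
    obtain ⟨m, hm⟩ : ∃ m, Fintype.card F = m + 1 := ⟨Fintype.card F - 1, by omega⟩
    rw [hm]
    simp only [Nat.add_sub_cancel]
    ring
  have hidx : ∀ X : Matrix.SpecialLinearGroup (Fin 2) F,
      (Subgroup.centralizer ({(QuotientGroup.mk X : Matrix.ProjectiveSpecialLinearGroup (Fin 2) F)} :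
        Set (Matrix.ProjectiveSpecialLinearGroup (Fin 2) F))).index =
      Nat.card {y : Matrix.ProjectiveSpecialLinearGroup (Fin 2) F //
        IsConj (QuotientGroup.mk X : Matrix.ProjectiveSpecialLinearGroup (Fin 2) F) y} :=
    fun X => Cfsg.Agent.S2507.index_centralizer _
  -- the value at trace zero
  have hzero : ∀ X : Matrix.SpecialLinearGroup (Fin 2) F,
      (X : Matrix (Fin 2) (Fin 2) F).trace = 0 →
      (Fintype.card F % 4 = 1 → Nat.card {y : Matrix.ProjectiveSpecialLinearGroup (Fin 2) F //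
        IsConj (QuotientGroup.mk X : Matrix.ProjectiveSpecialLinearGroup (Fin 2) F) y} =
          Fintype.card F * (Fintype.card F + 1) / 2) ∧
      (Fintype.card F % 4 = 3 → Nat.card {y : Matrix.ProjectiveSpecialLinearGroup (Fin 2) F //
        IsConj (QuotientGroup.mk X : Matrix.ProjectiveSpecialLinearGroup (Fin 2) F) y} =
          Fintype.card F * (Fintype.card F - 1) / 2) := by
    intro X ht0
    have h1 := idx_of_trace_zero hodd' X ht0
    have h04 : (0 : F) ^ 2 ≠ 4 := by
      intro h
      have h5 : (2 : F) * 2 = 0 := by linear_combination -h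
      exact h2 ((mul_eq_zero.1 h5).elim id id)
    constructor
    · intro hmod
      have hsq : IsSquare (-1 : F) := FiniteField.isSquare_neg_one_iff.2 (by omega)
      obtain ⟨a, ha⟩ := hsq
      rw [(roots_card (0 : F) h04).1 ⟨a, by linear_combination ha⟩, hA] at h1
      omega
    · intro hmod
      have hsq : ¬ IsSquare (-1 : F) := fun h => (FiniteField.isSquare_neg_one_iff.1 h) hmod
      rw [(roots_card (0 : F) h04).2 (by
        rintro ⟨a, ha⟩
        exact hsq ⟨a, by linear_combination ha⟩), mul_zero, zero_add] at h1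
      omega
  -- every class size is one of the listed values
  have hsub : ∀ X : Matrix.SpecialLinearGroup (Fin 2) F,
      Nat.card {y : Matrix.ProjectiveSpecialLinearGroup (Fin 2) F //
        IsConj (QuotientGroup.mk X : Matrix.ProjectiveSpecialLinearGroup (Fin 2) F) y} = 1 ∨
      Nat.card {y : Matrix.ProjectiveSpecialLinearGroup (Fin 2) F //
        IsConj (QuotientGroup.mk X : Matrix.ProjectiveSpecialLinearGroup (Fin 2) F) y} =
          (Fintype.card F ^ 2 - 1) / 2 ∨
      ((X : Matrix (Fin 2) (Fin 2) F).trace = 0) ∨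
      Nat.card {y : Matrix.ProjectiveSpecialLinearGroup (Fin 2) F //
        IsConj (QuotientGroup.mk X : Matrix.ProjectiveSpecialLinearGroup (Fin 2) F) y} =
          Fintype.card F * (Fintype.card F - 1) ∨
      Nat.card {y : Matrix.ProjectiveSpecialLinearGroup (Fin 2) F //
        IsConj (QuotientGroup.mk X : Matrix.ProjectiveSpecialLinearGroup (Fin 2) F) y} =
          Fintype.card F * (Fintype.card F + 1) := by
    intro X
    by_cases hX : (QuotientGroup.mk X : Matrix.ProjectiveSpecialLinearGroup (Fin 2) F) = 1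
    · left
      rw [hX, Nat.card_eq_one_iff_unique]
      refine ⟨⟨?_⟩, ⟨⟨1, IsConj.refl 1⟩⟩⟩
      rintro ⟨a, ha⟩ ⟨b, hb⟩
      apply Subtype.ext
      exact (isConj_one_right.1 ha).trans (isConj_one_right.1 hb).symm
    · by_cases ht4 : (X : Matrix (Fin 2) (Fin 2) F).trace ^ 2 = 4
      · right; left
        exact idx_of_unipotent p hodd' X ht4 hX
      · by_cases ht0 : (X : Matrix (Fin 2) (Fin 2) F).trace = 0
        · right; right; left
          exact ht0
        · right; right; right
          rw [idx_of_trace hodd' X ht4 ht0]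
          by_cases hr : ∃ a : F, a * (X : Matrix (Fin 2) (Fin 2) F).trace - a ^ 2 - 1 = 0
          · right
            rw [(roots_card _ ht4).1 hr, hA]
          · left
            rw [(roots_card _ ht4).2 hr, mul_zero, zero_add]
  -- existence
  have hex1 : ∃ g : Matrix.ProjectiveSpecialLinearGroup (Fin 2) F,
      (Subgroup.centralizer ({g} : Set (Matrix.ProjectiveSpecialLinearGroup (Fin 2) F))).index = 1 := by
    refine ⟨QuotientGroup.mk 1, ?_⟩
    rw [hidx, Nat.card_eq_one_iff_unique]
    refine ⟨⟨?_⟩, ⟨⟨1, IsConj.refl 1⟩⟩⟩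
    rintro ⟨a, ha⟩ ⟨b, hb⟩
    apply Subtype.ext
    have ha' : IsConj (1 : Matrix.ProjectiveSpecialLinearGroup (Fin 2) F) a := ha
    have hb' : IsConj (1 : Matrix.ProjectiveSpecialLinearGroup (Fin 2) F) b := hb
    exact (isConj_one_right.1 ha').trans (isConj_one_right.1 hb').symm
  have hex2 : ∃ g : Matrix.ProjectiveSpecialLinearGroup (Fin 2) F,
      (Subgroup.centralizer ({g} : Set (Matrix.ProjectiveSpecialLinearGroup (Fin 2) F))).index =
        (Fintype.card F ^ 2 - 1) / 2 := by
    refine ⟨QuotientGroup.mk (Ps (1 : F)), ?_⟩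
    rw [hidx]
    apply idx_of_unipotent p hodd'
    · rw [coe_Ps, Matrix.trace_fin_two_of]
      ring
    · intro h
      rw [QuotientGroup.eq_one_iff, Matrix.SpecialLinearGroup.mem_center_iff] at h
      obtain ⟨r, -, hs⟩ := h
      have h3 := congrFun (congrFun hs 0) 1
      rw [coe_Ps] at h3
      simp at h3
  have hex3 : ∃ X : Matrix.SpecialLinearGroup (Fin 2) F,
      (X : Matrix (Fin 2) (Fin 2) F).trace = 0 :=
    ⟨compSL 0, by rw [coe_compSL, trace_comp]⟩
  have hex4 : ∃ g : Matrix.ProjectiveSpecialLinearGroup (Fin 2) F,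
      (Subgroup.centralizer ({g} : Set (Matrix.ProjectiveSpecialLinearGroup (Fin 2) F))).index =
        Fintype.card F * (Fintype.card F - 1) := by
    obtain ⟨Y, hY⟩ := exists_orderOf_of_dvd_card_add_one (F := F) p (Fintype.card F + 1) dvd_rfl
    obtain ⟨hno, ht0, ht4⟩ := no_root_of_order p hodd' h7 Y hY
    refine ⟨QuotientGroup.mk Y, ?_⟩
    rw [hidx, idx_of_trace hodd' Y ht4 ht0, (roots_card _ ht4).2 hno, mul_zero, zero_add]
  have hex5 : ∃ g : Matrix.ProjectiveSpecialLinearGroup (Fin 2) F,
      (Subgroup.centralizer ({g} : Set (Matrix.ProjectiveSpecialLinearGroup (Fin 2) F))).index =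
        Fintype.card F * (Fintype.card F + 1) := by
    obtain ⟨Y, hr, ht0, ht4⟩ := exists_split (F := F) hodd' h7
    refine ⟨QuotientGroup.mk Y, ?_⟩
    rw [hidx, idx_of_trace hodd' Y ht4 ht0, (roots_card _ ht4).1 hr, hA]
  obtain ⟨g1, hg1⟩ := hex1
  obtain ⟨g2, hg2⟩ := hex2
  obtain ⟨X3, hX3⟩ := hex3
  obtain ⟨g4, hg4⟩ := hex4
  obtain ⟨g5, hg5⟩ := hex5
  constructor
  · intro hmod
    apply Set.eq_of_subset_of_subset
    · rintro _ ⟨g, rfl⟩
      obtain ⟨X, rfl⟩ := QuotientGroup.mk_surjective g
      show (Subgroup.centralizer ({(QuotientGroup.mk X :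
        Matrix.ProjectiveSpecialLinearGroup (Fin 2) F)} : Set _)).index ∈ _
      rw [hidx]
      rcases hsub X with h | h | h | h | h
      · left; exact h
      · right; left; exact h
      · right; right; left; exact (hzero X h).1 hmod
      · right; right; right; left; exact h
      · right; right; right; right; exact h
    · rintro v (rfl | rfl | rfl | rfl | rfl)
      · exact ⟨g1, hg1⟩
      · exact ⟨g2, hg2⟩
      · exact ⟨QuotientGroup.mk X3, by
          show (Subgroup.centralizer ({(QuotientGroup.mk X3 :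
            Matrix.ProjectiveSpecialLinearGroup (Fin 2) F)} : Set _)).index = _
          rw [hidx]; exact (hzero X3 hX3).1 hmod⟩
      · exact ⟨g4, hg4⟩
      · exact ⟨g5, hg5⟩
  · intro hmod
    apply Set.eq_of_subset_of_subset
    · rintro _ ⟨g, rfl⟩
      obtain ⟨X, rfl⟩ := QuotientGroup.mk_surjective g
      show (Subgroup.centralizer ({(QuotientGroup.mk X :
        Matrix.ProjectiveSpecialLinearGroup (Fin 2) F)} : Set _)).index ∈ _
      rw [hidx]
      rcases hsub X with h | h | h | h | h
      · left; exact h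
      · right; left; exact h
      · right; right; left; exact (hzero X h).2 hmod
      · right; right; right; right; exact h
      · right; right; right; left; exact h
    · rintro v (rfl | rfl | rfl | rfl | rfl)
      · exact ⟨g1, hg1⟩
      · exact ⟨g2, hg2⟩
      · exact ⟨QuotientGroup.mk X3, by
          show (Subgroup.centralizer ({(QuotientGroup.mk X3 :
            Matrix.ProjectiveSpecialLinearGroup (Fin 2) F)} : Set _)).index = _
          rw [hidx]; exact (hzero X3 hX3).2 hmod⟩
      · exact ⟨g5, hg5⟩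
      · exact ⟨g4, hg4⟩

end Cfsg.Agent.S2508
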