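import Cfsg.Statements.S2809
import Cfsg.Agent.Helper16.PCore

set_option autoImplicit false
open Cfsg

namespace Cfsg.Agent.S2809

/-- Let H be a finite group, p a prime, R a p-subgroup of H with C_H(R) ≤ R, and L a subgroup of N_H(R) acting nilpotently on R (some iterated commutator [R, L, …, L] is trivial). Then L is a p-group. -/
theorem result {H : Type*} [Group H] [Finite H] {p : ℕ} [Fact p.Prime] (R : Subgroup H) (hR : IsPGroup p ↥R) (hC : Subgroup.centralizer (R : Set H) ≤ R) (L : Subgroup H) (hL : L ≤ Subgroup.normalizer (R : Set H)) (hnil : ∃ n : ℕ, Cfsg.iterCommutator R L n = ⊥) : IsPGroup p ↥L := by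
  obtain ⟨n, hn⟩ := hnil
  have hRL : ∀ i, Cfsg.iterCommutator R L i ≤ R := by
    intro i
    induction i with
    | zero => exact le_refl _
    | succ i ih =>
      show ⁅Cfsg.iterCommutator R L i, L⁆ ≤ R
      exact (Subgroup.commutator_mono ih le_rfl).trans
        (Cfsg.Agent.Helper16.commutator_le_of_le_normalizer hL)
  apply Cfsg.Agent.Helper16.isPGroup_of_coprime_trivial
  intro x hx hxo
  have key : ∀ j, j ≤ n → ∀ a ∈ Cfsg.iterCommutator R L (n - j), a * x = x * a := by
    intro j
    induction j with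
    | zero =>
      intro _ a ha
      rw [Nat.sub_zero, hn, Subgroup.mem_bot] at ha
      rw [ha, one_mul, mul_one]
    | succ j ih =>
      intro hj a ha
      have hc : a * x * a⁻¹ * x⁻¹ ∈ Cfsg.iterCommutator R L (n - j) := by
        have e : n - j = (n - (j + 1)) + 1 := by omega
        rw [e]
        show _ ∈ ⁅Cfsg.iterCommutator R L (n - (j + 1)), L⁆
        exact Cfsg.Agent.Helper16.comm_mem_commutator ha hx
      apply Cfsg.Agent.Helper16.comm_of_coprime_step (p := p) x a hxo
      · exact ih (by omega) _ hc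
      · obtain ⟨k, hk⟩ := hR ⟨_, hRL _ hc⟩
        exact ⟨k, by simpa [Subtype.ext_iff] using hk⟩
  have hxc : x ∈ Subgroup.centralizer (R : Set H) := by
    rw [Subgroup.mem_centralizer_iff]
    intro a ha
    exact key n le_rfl a (by rw [Nat.sub_self]; exact ha)
  obtain ⟨k, hk⟩ := hR ⟨x, hC hxc⟩
  exact Cfsg.Agent.Helper16.eq_one_of_coprime_of_pow hxo (by simpa [Subtype.ext_iff] using hk)

end Cfsg.Agent.S2809
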