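import Cfsg.Statements.S2810
import Cfsg.Agent.Helper16.PCore

set_option autoImplicit false
open Cfsg

namespace Cfsg.Agent.S2810

/-- Let H be a finite group of characteristic p and L a subgroup of H centralizing every factor of some H-invariant chain 1 = A₀ ≤ A₁ ≤ … ≤ Aₙ = O_p(H) of normal subgroups (that is, [A_{i+1}, L] ≤ Aᵢ for each i). Then L ≤ O_p(H). -/
theorem result {H : Type*} [Group H] [Finite H] {p : ℕ} [Fact p.Prime] (hchar : Subgroup.centralizer (Cfsg.pCore p H : Set H) ≤ Cfsg.pCore p H) (L : Subgroup H) (n : ℕ) (A : Fin (n + 1) → Subgroup H) (h0 : A 0 = ⊥) (hn : A (Fin.last n) = Cfsg.pCore p H) (hmono : Monotone A) (hnorm : ∀ i, (A i).Normal) (hcent : ∀ i : Fin n, ⁅A i.succ, L⁆ ≤ A i.castSucc) : L ≤ Cfsg.pCore p H := by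
  let C : Subgroup H :=
    { carrier := {x | ∀ i : Fin n, ∀ a ∈ A i.succ, a * x * a⁻¹ * x⁻¹ ∈ A i.castSucc}
      one_mem' := by
        intro i a _
        have e : a * 1 * a⁻¹ * (1 : H)⁻¹ = 1 := by group
        rw [e]; exact (A _).one_mem
      mul_mem' := by
        intro x y hx hy i a ha
        have e : a * (x * y) * a⁻¹ * (x * y)⁻¹ =
            (a * x * a⁻¹ * x⁻¹) * (x * (a * y * a⁻¹ * y⁻¹) * x⁻¹) := by group
        rw [e]
        exact (A _).mul_mem (hx i a ha) ((hnorm _).conj_mem _ (hy i a ha) x)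
      inv_mem' := by
        intro x hx i a ha
        have e : a * x⁻¹ * a⁻¹ * x⁻¹⁻¹ = x⁻¹ * (a * x * a⁻¹ * x⁻¹)⁻¹ * x⁻¹⁻¹ := by group
        rw [e]
        exact (hnorm _).conj_mem _ ((A _).inv_mem (hx i a ha)) x⁻¹ }
  have hCmem : ∀ x, x ∈ C ↔ ∀ i : Fin n, ∀ a ∈ A i.succ, a * x * a⁻¹ * x⁻¹ ∈ A i.castSucc :=
    fun x => Iff.rfl
  have hCn : C.Normal := ⟨by
    intro x hx h
    rw [hCmem] at hx ⊢
    intro i a ha
    have ha' : h⁻¹ * a * h ∈ A i.succ := by
      have := (hnorm i.succ).conj_mem a ha h⁻¹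
      simpa using this
    have e : a * (h * x * h⁻¹) * a⁻¹ * (h * x * h⁻¹)⁻¹ =
        h * ((h⁻¹ * a * h) * x * (h⁻¹ * a * h)⁻¹ * x⁻¹) * h⁻¹ := by group
    rw [e]
    exact (hnorm _).conj_mem _ (hx i _ ha') h⟩
  have hCp : IsPGroup p C := by
    apply Cfsg.Agent.Helper16.isPGroup_of_coprime_trivial
    intro x hx hxo
    rw [hCmem] at hx
    have key : ∀ i : Fin (n + 1), ∀ a ∈ A i, a * x = x * a := by
      intro i
      induction i using Fin.induction with
      | zero => intro a ha; rw [h0, Subgroup.mem_bot] at ha; rw [ha, one_mul, mul_one]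
      | succ i ih =>
        intro a ha
        have hc := hx i a ha
        apply Cfsg.Agent.Helper16.comm_of_coprime_step (p := p) x a hxo
        · exact ih _ hc
        · have hcQ : a * x * a⁻¹ * x⁻¹ ∈ Cfsg.pCore p H := by
            rw [← hn]; exact hmono (Fin.le_last _) hc
          obtain ⟨k, hk⟩ := Cfsg.Agent.Helper16.pCore_isPGroup p H ⟨_, hcQ⟩
          exact ⟨k, by simpa [Subtype.ext_iff] using hk⟩
    have hxc : x ∈ Subgroup.centralizer (Cfsg.pCore p H : Set H) := by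
      rw [Subgroup.mem_centralizer_iff]
      intro a ha
      exact key (Fin.last n) a (by rw [hn]; exact ha)
    obtain ⟨k, hk⟩ := Cfsg.Agent.Helper16.pCore_isPGroup p H ⟨x, hchar hxc⟩
    exact Cfsg.Agent.Helper16.eq_one_of_coprime_of_pow hxo (by simpa [Subtype.ext_iff] using hk)
  refine le_trans ?_ (Cfsg.Agent.Helper16.le_pCore hCn hCp)
  intro l hl
  rw [hCmem]
  intro i a ha
  exact hcent i (Cfsg.Agent.Helper16.comm_mem_commutator ha hl)

end Cfsg.Agent.S2810
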