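import Cfsg.Statements.S2813
import Cfsg.Agent.Helper16.PCore

set_option autoImplicit false
open Cfsg

namespace Cfsg.Agent.S2813

/-- Let K be a subgroup of the finite group H with O_p(K) = 1 and Y a p-subgroup of N_H(K) with [K, Y, Y] = 1. Then [K, Y] = 1. -/
theorem result {H : Type*} [Group H] [Finite H] {p : ℕ} [Fact p.Prime] (K : Subgroup H) (hO : Cfsg.pCore p ↥K = ⊥) (Y : Subgroup H) (hY : IsPGroup p ↥Y) (hYK : Y ≤ Subgroup.normalizer (K : Set H)) (hq : ⁅⁅K, Y⁆, Y⁆ = ⊥) : ⁅K, Y⁆ = ⊥ := by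
  set A := ⁅K, Y⁆ with hA
  have hAK : A ≤ K := Cfsg.Agent.Helper16.commutator_le_of_le_normalizer hYK
  have hKA : K ≤ Subgroup.normalizer (A : Set H) :=
    Cfsg.Agent.Helper16.le_normalizer_commutator_left K Y
  have hAY : A ≤ Subgroup.centralizer (Y : Set H) :=
    Subgroup.commutator_eq_bot_iff_le_centralizer.mp hq
  have hAA : ⁅A, A⁆ = ⊥ := by
    have h1 : ⁅⁅Y, A⁆, K⁆ = ⊥ := by
      rw [Subgroup.commutator_comm Y A, hq]; exact Subgroup.commutator_bot_left (H₁ := K)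
    have h2 : ⁅⁅A, K⁆, Y⁆ = ⊥ := by
      rw [eq_bot_iff, ← hq]
      exact Subgroup.commutator_mono
        (Cfsg.Agent.Helper16.commutator_le_of_le_normalizer hKA) le_rfl
    exact Subgroup.commutator_commutator_eq_bot_of_rotate h1 h2
  have hAc : ∀ a ∈ A, ∀ b ∈ A, a * b = b * a := by
    have h := Subgroup.commutator_eq_bot_iff_le_centralizer.mp hAA
    intro a ha b hb
    exact Subgroup.mem_centralizer_iff.mp (h hb) a ha
  have hAp : ∀ a ∈ A, ∃ j : ℕ, a ^ (p ^ j) = 1 := by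
    intro a ha
    refine Cfsg.Agent.Helper16.commutator_induction
      (P := fun a => ∃ j : ℕ, a ^ (p ^ j) = 1) ?_ ?_ ?_ ?_ ha
    · intro k hk y hy
      obtain ⟨j, hj⟩ := hY ⟨y, hy⟩
      have hj' : y ^ (p ^ j) = 1 := by simpa [Subtype.ext_iff] using hj
      refine ⟨j, ?_⟩
      have hc : k * y * k⁻¹ * y⁻¹ ∈ A := Cfsg.Agent.Helper16.comm_mem_commutator hk hy
      have hcomm : Commute (k * y * k⁻¹ * y⁻¹) y :=
        (Subgroup.mem_centralizer_iff.mp (hAY hc) y hy).symm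
      have h1 : (k * y * k⁻¹) ^ (p ^ j) = 1 := by rw [conj_pow, hj']; group
      have h2 : k * y * k⁻¹ = (k * y * k⁻¹ * y⁻¹) * y := by group
      rw [h2, hcomm.mul_pow, hj', mul_one] at h1
      exact h1
    · exact ⟨0, one_pow _⟩
    · rintro x y hx hy ⟨i, hi⟩ ⟨j, hj⟩
      refine ⟨i + j, ?_⟩
      have hc : Commute x y := hAc x hx y hy
      have e1 : x ^ (p ^ (i + j)) = 1 := by rw [pow_add, pow_mul, hi, one_pow]
      have e2 : y ^ (p ^ (i + j)) = 1 := by rw [pow_add, mul_comm, pow_mul, hj, one_pow]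
      rw [hc.mul_pow, e1, e2, one_mul]
    · rintro x hx ⟨i, hi⟩
      exact ⟨i, by rw [inv_pow, hi, inv_one]⟩
  have hn : (A.subgroupOf K).Normal :=
    (Subgroup.normal_subgroupOf_iff_le_normalizer hAK).mpr hKA
  have hp' : IsPGroup p (A.subgroupOf K) := by
    rintro ⟨⟨a, haK⟩, ha⟩
    rw [Subgroup.mem_subgroupOf] at ha
    obtain ⟨j, hj⟩ := hAp a ha
    exact ⟨j, by simpa [Subtype.ext_iff] using hj⟩
  have h3 := Cfsg.Agent.Helper16.le_pCore hn hp'
  rw [hO, le_bot_iff, Subgroup.subgroupOf_eq_bot] at h3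
  exact h3.eq_bot_of_le hAK

end Cfsg.Agent.S2813
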