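import Cfsg.Statements.S2829
import Cfsg.Agent.Helper16.PCore

set_option autoImplicit false
open Cfsg

namespace Cfsg.Agent.S2829

/-- Every strongly p-irreducible finite group is p-irreducible. -/
theorem result {H : Type*} [Group H] [Finite H] {p : ℕ} [Fact p.Prime] (hH : Cfsg.IsStronglyPIrreducible p H) : Cfsg.IsPIrreducible p H := by
  obtain ⟨h1, h2⟩ := hH
  refine ⟨h1, ?_⟩
  intro N hN hNc
  apply h2 N hN
  intro hle
  apply hNc
  intro P
  have hQn : (Cfsg.pCore p H).Normal := Cfsg.Agent.Helper16.pCore_normal p H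
  have hDn : ((Cfsg.pCore p H).subgroupOf N).Normal := hQn.subgroupOf N
  have hDp : IsPGroup p ((Cfsg.pCore p H).subgroupOf N) :=
    (Cfsg.Agent.Helper16.pCore_isPGroup p H).comap_subtype
  have hDP : (Cfsg.pCore p H).subgroupOf N ≤ P := hDp.le_sylow_of_normal P
  refine ⟨fun x hx n => ?_⟩
  have e : n * x * n⁻¹ = (n * x * n⁻¹ * x⁻¹) * x := by group
  rw [e]
  refine Subgroup.mul_mem _ (hDP ?_) hx
  rw [Subgroup.mem_subgroupOf]
  have hc : (n : H) * (x : H) * (n : H)⁻¹ * (x : H)⁻¹ ∈ ⁅N, (⊤ : Subgroup H)⁆ :=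
    Cfsg.Agent.Helper16.comm_mem_commutator n.2 (Subgroup.mem_top _)
  have := hle hc
  simpa using this

end Cfsg.Agent.S2829
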