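import Cfsg.Statements.S2830
import Cfsg.Agent.Helper16.PIrreducible2

set_option autoImplicit false
open Cfsg

namespace Cfsg.Agent.S2830

/-- Let H act by conjugation on the elementary abelian p-subgroup V of a finite group G (H ≤ N(V)), with H p-irreducible and O^p(H) not centralizing V. Then C_H(V) is p-closed and C_T(V) ≤ O_p(H) for every p-subgroup T of H. If in addition O_p(H) centralizes V, then C_T(V) = T ∩ O_p(H) for every p-subgroup T of H, and V is p-reduced for H: O_p(H/C_H(V)) = 1. -/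
theorem result {G : Type*} [Group G] [Finite G] {p : ℕ} [Fact p.Prime] (V H : Subgroup G) (hV : Cfsg.IsElementaryAbelian p V) (hHV : H ≤ Subgroup.normalizer (V : Set G)) (hH : Cfsg.IsPIrreducible p ↥H) (hnc : ¬ (Cfsg.pResidual p ↥H).map H.subtype ≤ Subgroup.centralizer (V : Set G)) [hn : ((Subgroup.centralizer (V : Set G)).subgroupOf H).Normal] : Cfsg.IsPClosed p ↥(H ⊓ Subgroup.centralizer (V : Set G)) ∧ (∀ T : Subgroup G, T ≤ H → IsPGroup p ↥T → T ⊓ Subgroup.centralizer (V : Set G) ≤ Cfsg.pCoreOf p H) ∧ (Cfsg.pCoreOf p H ≤ Subgroup.centralizer (V : Set G) → (∀ T : Subgroup G, T ≤ H → IsPGroup p ↥T → T ⊓ Subgroup.centralizer (V : Set G) = T ⊓ Cfsg.pCoreOf p H) ∧ Cfsg.pCore p (↥H ⧸ (Subgroup.centralizer (V : Set G)).subgroupOf H) = ⊥) := by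
  have hnc' : ¬ Cfsg.pResidual p ↥H ≤ (Subgroup.centralizer (V : Set G)).subgroupOf H := by
    intro h
    apply hnc
    rw [Subgroup.map_le_iff_le_comap]
    exact h
  have hcl : Cfsg.IsPClosed p ↥((Subgroup.centralizer (V : Set G)).subgroupOf H) :=
    Cfsg.Agent.Helper16.pIrr_isPClosed_of_normal hH _ hnc'
  have hb : ∀ T : Subgroup G, T ≤ H → IsPGroup p ↥T →
      T ⊓ Subgroup.centralizer (V : Set G) ≤ Cfsg.pCoreOf p H := by
    intro T hTH hT x hx
    have h1 : (T ⊓ Subgroup.centralizer (V : Set G)).subgroupOf H ≤ Cfsg.pCore p ↥H := by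
      apply Cfsg.Agent.Helper16.le_pCore_of_pClosed_normal hcl
      · intro y hy
        exact Subgroup.mem_subgroupOf.mpr (Subgroup.mem_subgroupOf.mp hy).2
      · exact (hT.to_le inf_le_left).comap_subtype
    exact ⟨⟨x, hTH hx.1⟩, h1 (Subgroup.mem_subgroupOf.mpr hx), rfl⟩
  refine ⟨?_, hb, fun hO => ⟨fun T hTH hT => ?_, ?_⟩⟩
  · have e := Subgroup.inf_subgroupOf_left (Subgroup.centralizer (V : Set G)) H
    rw [← e] at hcl
    exact Cfsg.Agent.Helper16.isPClosed_of_mulEquiv (Subgroup.subgroupOfEquivOfLe inf_le_left) hcl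
  · apply le_antisymm
    · exact le_inf inf_le_left (hb T hTH hT)
    · exact inf_le_inf_left T hO
  · apply Cfsg.Agent.Helper16.pIrr_pCore_quotient hH _ hnc'
    intro y hy
    exact Subgroup.mem_subgroupOf.mpr (hO ⟨y, hy, rfl⟩)

end Cfsg.Agent.S2830
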