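import Cfsg.Statements.S2831
import Cfsg.Agent.Helper16.Minimal

set_option autoImplicit false
open Cfsg

namespace Cfsg.Agent.S2831

/-- Let H be a finite group with Sylow p-subgroup T such that H is T-minimal (H is generated by the conjugates of T and T lies in exactly one maximal subgroup of H). Then H is p-irreducible: H is not p-closed and O^p(H) lies in every normal subgroup of H that is not p-closed. -/
theorem result {H : Type*} [Group H] [Finite H] {p : ℕ} [Fact p.Prime] (T : Sylow p H) (hmin : Cfsg.IsMinimalOver (T : Subgroup H)) : Cfsg.IsPIrreducible p H := by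
  obtain ⟨hnc, M, ⟨hMc, hTM⟩, hMu⟩ := hmin
  have hMu' : ∀ K : Subgroup H, IsCoatom K ∧ (T : Subgroup H) ≤ K → K = M := hMu
  refine ⟨?_, ?_⟩
  · intro hcl
    have hTn : (T : Subgroup H).Normal := hcl T
    rw [Subgroup.normalClosure_eq_self] at hnc
    exact hMc.1 (top_le_iff.mp (hnc ▸ hTM))
  · intro N hN hNc
    by_cases hTN : (T : Subgroup H) ⊔ N = ⊤
    · exact Cfsg.Agent.Helper16.pResidual_le_of_isPGroup_quotient N
        (Cfsg.Agent.Helper16.isPGroup_quotient_of_sup_eq_top (T : Subgroup H) T.isPGroup' N hTN)
    · exfalso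
      apply hNc
      obtain ⟨M', hM'c, hM'⟩ :=
        (eq_top_or_exists_le_coatom ((T : Subgroup H) ⊔ N)).resolve_left hTN
      have hM'M : M' = M := hMu M' ⟨hM'c, le_sup_left.trans hM'⟩
      have hNM : N ≤ M := hM'M ▸ (le_sup_right.trans hM')
      intro P
      obtain ⟨Q, hQ⟩ := (P.isPGroup'.map N.subtype).exists_le_sylow
      obtain ⟨g, hg⟩ := MulAction.exists_smul_eq H T Q
      have hPQN : (P : Subgroup N).map N.subtype = (Q : Subgroup H) ⊓ N := by
        have h1 : ((Q : Subgroup H) ⊓ N).subgroupOf N = P := by
          apply P.3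
          · exact (Q.isPGroup'.to_inf_left).comap_subtype
          · intro x hx
            rw [Subgroup.mem_subgroupOf]
            exact ⟨hQ ⟨x, hx, rfl⟩, x.2⟩
        rw [← h1, Subgroup.subgroupOf_map_subtype, inf_assoc, inf_idem]
      have hR : Subgroup.normalizer (((P : Subgroup N).map N.subtype : Subgroup H) : Set H) = ⊤ := by
        by_contra hne
        obtain ⟨C, hCc, hRC⟩ := (eq_top_or_exists_le_coatom _).resolve_left hne
        have hQR : (Q : Subgroup H) ≤
            Subgroup.normalizer ((((P : Subgroup N).map N.subtype : Subgroup H)) : Set H) := by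
          rw [hPQN]
          refine le_trans (le_inf Subgroup.le_normalizer ?_)
            Subgroup.inf_normalizer_le_normalizer_inf
          rw [Subgroup.normalizer_eq_top]; exact le_top
        have hTC : (T : Subgroup H).map (MulAut.conj g).toMonoidHom ≤ C := by
          have e : (T : Subgroup H).map (MulAut.conj g).toMonoidHom = Q := by
            rw [← hg]; rfl
          rw [e]; exact hQR.trans hRC
        have hNC : N ≤ C := Cfsg.Agent.Helper16.normal_le_coatom_of_conj hMu' hN hNM g hCc hTC
        have hfr := Sylow.normalizer_sup_eq_top P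
        exact hCc.1 (top_le_iff.mp (hfr ▸ sup_le hRC hNC))
      have hPn : ((P : Subgroup N).map N.subtype).Normal := Subgroup.normalizer_eq_top_iff.mp hR
      refine ⟨fun x hx n => ?_⟩
      obtain ⟨y, hy, hyx⟩ := hPn.conj_mem (x : H) ⟨x, hx, rfl⟩ (n : H)
      have e : y = n * x * n⁻¹ := Subtype.ext (by simpa using hyx)
      rwa [← e]

end Cfsg.Agent.S2831
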