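import Cfsg.Statements.S2832
import Cfsg.Agent.Helper16.Minimal

set_option autoImplicit false
open Cfsg

namespace Cfsg.Agent.S2832

/-- Let H be a finite group with Sylow p-subgroup T such that H is T-minimal (generated by the conjugates of T, with T in exactly one maximal subgroup), and let N be a normal subgroup of H. Then either H/N is a p-group or H/N is minimal over the image of T in the same sense. -/
theorem result {H : Type*} [Group H] [Finite H] {p : ℕ} [Fact p.Prime] (T : Sylow p H) (hmin : Cfsg.IsMinimalOver (T : Subgroup H)) (N : Subgroup H) [N.Normal] : IsPGroup p (H ⧸ N) ∨ Cfsg.IsMinimalOver ((T : Subgroup H).map (QuotientGroup.mk' N)) := by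
  obtain ⟨hnc, M, ⟨hMc, hTM⟩, hMu⟩ := hmin
  have hsurj := QuotientGroup.mk'_surjective N
  by_cases hTN : (T : Subgroup H) ⊔ N = ⊤
  · left
    have h1 : (T : Subgroup H).map (QuotientGroup.mk' N) = ⊤ := by
      have := congrArg (Subgroup.map (QuotientGroup.mk' N)) hTN
      rw [Subgroup.map_sup, Subgroup.map_top_of_surjective _ hsurj, QuotientGroup.map_mk'_self,
        sup_bot_eq] at this
      exact this
    have hp : IsPGroup p ↥((T : Subgroup H).map (QuotientGroup.mk' N)) :=
      T.isPGroup'.map (QuotientGroup.mk' N)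
    rw [h1] at hp
    exact IsPGroup.of_equiv hp Subgroup.topEquiv
  · right
    obtain ⟨M', hM'c, hM'⟩ := (eq_top_or_exists_le_coatom ((T : Subgroup H) ⊔ N)).resolve_left hTN
    have hM'M : M' = M := hMu M' ⟨hM'c, le_sup_left.trans hM'⟩
    have hNM : N ≤ M := hM'M ▸ (le_sup_right.trans hM')
    have hker : (QuotientGroup.mk' N).ker ≤ M := by rw [QuotientGroup.ker_mk']; exact hNM
    refine ⟨?_, M.map (QuotientGroup.mk' N),
      ⟨Cfsg.Agent.Helper16.isCoatom_map_of_surjective _ hsurj hker hMc, Subgroup.map_mono hTM⟩, ?_⟩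
    · rw [Subgroup.coe_map, ← Subgroup.map_normalClosure _ _ hsurj, hnc,
        Subgroup.map_top_of_surjective _ hsurj]
    · rintro K ⟨hKc, hTK⟩
      have h1 : IsCoatom (K.comap (QuotientGroup.mk' N)) :=
        Subgroup.isCoatom_comap_of_surjective hsurj hKc
      have h2 : (T : Subgroup H) ≤ K.comap (QuotientGroup.mk' N) :=
        Subgroup.map_le_iff_le_comap.mp hTK
      have h3 := hMu _ ⟨h1, h2⟩
      rw [← h3, Subgroup.map_comap_eq_self_of_surjective hsurj]

end Cfsg.Agent.S2832
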