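import Cfsg.Statements.S2833
import Cfsg.Agent.Helper16.Comm

set_option autoImplicit false
open Cfsg

namespace Cfsg.Agent.S2833

/-- Let V be a subgroup of a finite group G normalized by the subgroup L, let X ≤ L and g ∈ L with [V, X, X] = 1 and L generated by X and gXg⁻¹. Put W = [V, L]. Then W = [V, X]·[V, gXg⁻¹], C_W(X) = [V, X], and C_W(L) = [V, X] ∩ [V, gXg⁻¹]. -/
theorem result {G : Type*} [Group G] [Finite G] (V L : Subgroup G) (hLV : L ≤ Subgroup.normalizer (V : Set G)) (X : Subgroup G) (hX : X ≤ L) (g : G) (hg : g ∈ L) (hq : ⁅⁅V, X⁆, X⁆ = ⊥) (hgen : X ⊔ X.map (MulAut.conj g).toMonoidHom = L) (W : Subgroup G) (hW : W = ⁅V, L⁆) : ⁅V, X⁆ ⊔ ⁅V, X.map (MulAut.conj g).toMonoidHom⁆ = W ∧ W ⊓ Subgroup.centralizer (X : Set G) = ⁅V, X⁆ ∧ W ⊓ Subgroup.centralizer (L : Set G) = ⁅V, X⁆ ⊓ ⁅V, X.map (MulAut.conj g).toMonoidHom⁆ := by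
  subst hW
  set Xg := X.map (MulAut.conj g).toMonoidHom with hXg
  have hXgL : Xg ≤ L := hgen ▸ le_sup_right
  set A := ⁅V, X⁆ with hA
  set B := ⁅V, Xg⁆ with hB
  have hVg : V.map (MulAut.conj g).toMonoidHom = V :=
    Subgroup.mem_normalizer_iff_map_conj_eq.mp (hLV hg)
  have hBA : B = A.map (MulAut.conj g).toMonoidHom := by
    rw [hA, Subgroup.map_commutator, hVg]
  have hAV : A ≤ V := Cfsg.Agent.Helper16.commutator_le_of_le_normalizer (hX.trans hLV)
  have hBV : B ≤ V := Cfsg.Agent.Helper16.commutator_le_of_le_normalizer (hXgL.trans hLV)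
  have hAW : A ≤ ⁅V, L⁆ := Subgroup.commutator_mono le_rfl hX
  have hBW : B ≤ ⁅V, L⁆ := Subgroup.commutator_mono le_rfl hXgL
  have hVA : V ≤ Subgroup.normalizer (A : Set G) :=
    Cfsg.Agent.Helper16.le_normalizer_commutator_left V X
  have hACX : A ≤ Subgroup.centralizer (X : Set G) :=
    Subgroup.commutator_eq_bot_iff_le_centralizer.mp hq
  have hBCX : B ≤ Subgroup.centralizer (Xg : Set G) := by
    apply Subgroup.commutator_eq_bot_iff_le_centralizer.mp
    rw [hBA, hXg, ← Subgroup.map_commutator, hq, Subgroup.map_bot]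
  have hXU : X ≤ Subgroup.normalizer ((A ⊔ B : Subgroup G) : Set G) := by
    apply Cfsg.Agent.Helper16.le_normalizer_of_conj_mem
    intro x hx u hu
    have huV : u ∈ V := (sup_le hAV hBV) hu
    have h1 : u⁻¹ * x * u⁻¹⁻¹ * x⁻¹ ∈ A :=
      Cfsg.Agent.Helper16.comm_mem_commutator (V.inv_mem huV) hx
    have e : x * u * x⁻¹ = u * (u⁻¹ * x * u⁻¹⁻¹ * x⁻¹) := by group
    rw [e]; exact Subgroup.mul_mem _ hu ((le_sup_left : A ≤ A ⊔ B) h1)
  have hXgU : Xg ≤ Subgroup.normalizer ((A ⊔ B : Subgroup G) : Set G) := by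
    apply Cfsg.Agent.Helper16.le_normalizer_of_conj_mem
    intro x hx u hu
    have huV : u ∈ V := (sup_le hAV hBV) hu
    have h1 : u⁻¹ * x * u⁻¹⁻¹ * x⁻¹ ∈ B :=
      Cfsg.Agent.Helper16.comm_mem_commutator (V.inv_mem huV) hx
    have e : x * u * x⁻¹ = u * (u⁻¹ * x * u⁻¹⁻¹ * x⁻¹) := by group
    rw [e]; exact Subgroup.mul_mem _ hu ((le_sup_right : B ≤ A ⊔ B) h1)
  have h1 : A ⊔ B = ⁅V, L⁆ := by
    apply le_antisymm (sup_le hAW hBW)
    rw [← hgen]
    exact Cfsg.Agent.Helper16.commutator_sup_le hXU hXgU le_sup_left le_sup_right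
  have h2 : ⁅V, L⁆ ⊓ Subgroup.centralizer (X : Set G) = A := by
    apply le_antisymm
    · rintro w ⟨hwW, hwC⟩
      rw [← h1] at hwW
      have hw' : w ∈ ((A ⊔ B : Subgroup G) : Set G) := hwW
      rw [Subgroup.coe_mul_of_right_le_normalizer_left A B (hBV.trans hVA)] at hw'
      obtain ⟨a, ha, b, hb, rfl⟩ := Set.mem_mul.mp hw'
      have hbX : b ∈ Subgroup.centralizer (X : Set G) := by
        have e : b = a⁻¹ * (a * b) := by group
        rw [e]; exact Subgroup.mul_mem _ (Subgroup.inv_mem _ (hACX ha)) hwC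
      have hbL : b ∈ Subgroup.centralizer (L : Set G) := by
        rw [← hgen]; exact Cfsg.Agent.Helper16.mem_centralizer_sup hbX (hBCX hb)
      have hbA : b ∈ A := by
        have hb' : b ∈ A.map (MulAut.conj g).toMonoidHom := hBA ▸ hb
        obtain ⟨a', ha', hab⟩ := hb'
        have hgb : g * b = b * g := Subgroup.mem_centralizer_iff.mp hbL g hg
        have h3 : g * a' * g⁻¹ = b := by simpa using hab
        have e : a' = b := by
          calc a' = g⁻¹ * (g * a' * g⁻¹) * g := by group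
            _ = g⁻¹ * b * g := by rw [h3]
            _ = g⁻¹ * (b * g) := by group
            _ = g⁻¹ * (g * b) := by rw [hgb]
            _ = b := by group
        rwa [← e]
      exact A.mul_mem ha hbA
    · exact le_inf hAW hACX
  refine ⟨h1, h2, ?_⟩
  apply le_antisymm
  · rintro w ⟨hwW, hwC⟩
    have hwA : w ∈ A := by
      rw [← h2]
      exact ⟨hwW, Subgroup.centralizer_le (SetLike.coe_subset_coe.mpr hX) hwC⟩
    refine ⟨hwA, ?_⟩
    rw [hBA]
    refine ⟨w, hwA, ?_⟩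
    have hgw : g * w = w * g := Subgroup.mem_centralizer_iff.mp hwC g hg
    show g * w * g⁻¹ = w
    rw [hgw]; group
  · rintro u ⟨huA, huB⟩
    refine ⟨hAW huA, ?_⟩
    rw [← hgen]; exact Cfsg.Agent.Helper16.mem_centralizer_sup (hACX huA) (hBCX huB)

end Cfsg.Agent.S2833
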