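import Cfsg.Statements.S2842
import Cfsg.Agent.Helper16.WeaklyClosed5

set_option autoImplicit false
open Cfsg

namespace Cfsg.Agent.S2842

/-- Let Q be a nontrivial p-subgroup of the finite group H that is a weakly closed subgroup with C_H(Q) ≤ Q, and Q ≤ L ≤ H. Suppose H has characteristic p, or more generally that C_H(y) has characteristic p for some nonidentity y ∈ C_{O_p(L)}(Q). Then [Q, C_H(O_p(L))] ≤ Q ∩ O_p(L), C_H(O_p(L)) is a p-group, and L has characteristic p. -/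
theorem result {H : Type*} [Group H] [Finite H] {p : ℕ} [Fact p.Prime] (Q : Subgroup H) (hQp : IsPGroup p ↥Q) (hQ1 : Q ≠ ⊥) (hwc : Cfsg.IsWeaklyClosedSubgroup p Q) (hCQ : Subgroup.centralizer ((Q : Subgroup H) : Set H) ≤ Q) (L : Subgroup H) (hQL : Q ≤ L) (hyp : Subgroup.centralizer (Cfsg.pCore p H : Set H) ≤ Cfsg.pCore p H ∨ ∃ y : H, y ≠ 1 ∧ y ∈ (Cfsg.pCoreOf p L) ⊓ Subgroup.centralizer ((Q : Subgroup H) : Set H) ∧ Subgroup.centralizer (Cfsg.pCore p ↥(Subgroup.centralizer ({y} : Set H)) : Set ↥(Subgroup.centralizer ({y} : Set H))) ≤ Cfsg.pCore p ↥(Subgroup.centralizer ({y} : Set H))) : ⁅Q, Subgroup.centralizer (((Cfsg.pCoreOf p L) : Subgroup H) : Set H)⁆ ≤ Q ⊓ (Cfsg.pCoreOf p L) ∧ IsPGroup p ↥(Subgroup.centralizer (((Cfsg.pCoreOf p L) : Subgroup H) : Set H)) ∧ Subgroup.centralizer (Cfsg.pCore p ↥L : Set ↥L) ≤ Cfsg.pCore p ↥L := by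
  have hkey : ∃ K : Subgroup H, Cfsg.Agent.Helper17.CharPA p K ∧ Q ≤ K ∧
      Subgroup.centralizer ((Cfsg.Agent.Helper17.pc p L : Subgroup H) : Set H) ≤ K ∧
      Cfsg.Agent.Helper17.CharPA p L := by
    rcases hyp with h | ⟨y, _, hy, hyK⟩
    · have hT : Cfsg.Agent.Helper17.CharPA p (⊤ : Subgroup H) :=
        Cfsg.Agent.Helper17.charPA_top_iff.mpr h
      exact ⟨⊤, hT, le_top, le_top,
        Cfsg.Agent.Helper16.charPA_of_wc_le hQp hwc hCQ hT hQL le_top⟩
    · have hK : Cfsg.Agent.Helper17.CharPA p (Subgroup.centralizer ({y} : Set H)) :=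
        (Cfsg.Agent.Helper17.charPA_iff _).mpr hyK
      obtain ⟨hyP, hyQ⟩ := Subgroup.mem_inf.mp hy
      have hQK : Q ≤ Subgroup.centralizer ({y} : Set H) := by
        intro q hq
        rw [Subgroup.mem_centralizer_iff]
        intro z hz
        rw [Set.mem_singleton_iff] at hz
        rw [hz]
        exact (Subgroup.mem_centralizer_iff.mp hyQ q hq).symm
      have hDK : Subgroup.centralizer ((Cfsg.Agent.Helper17.pc p L : Subgroup H) : Set H) ≤
          Subgroup.centralizer ({y} : Set H) :=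
        Subgroup.centralizer_le (Set.singleton_subset_iff.mpr hyP)
      have hLK : Cfsg.Agent.Helper17.CharPA p (L ⊓ Subgroup.centralizer ({y} : Set H)) :=
        Cfsg.Agent.Helper16.charPA_of_wc_le hQp hwc hCQ hK (le_inf hQL hQK) inf_le_right
      exact ⟨_, hK, hQK, hDK,
        Cfsg.Agent.Helper16.charPA_of_inf_centralizer_singleton hyP hLK⟩
  obtain ⟨K, hK, hQK, hDK, hL⟩ := hkey
  obtain ⟨h1, h2⟩ := Cfsg.Agent.Helper16.wc_centralizer_pc hQp hwc hCQ hK hQL hQK hDK hL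
  exact ⟨h1, h2, (Cfsg.Agent.Helper17.charPA_iff L).mp hL⟩

end Cfsg.Agent.S2842
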