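import Cfsg.Statements.S2844
import Cfsg.Agent.Helper16.Large

set_option autoImplicit false
open Cfsg

namespace Cfsg.Agent.S2844

/-- Let Q be a nontrivial large p-subgroup of the finite group H and Q• = O_p(N_H(Q)). Then for every g ∈ H outside N_H(Q): C_H(Q) ∩ C_H(gQg⁻¹) = 1, C_H(Q•) ∩ C_H(gQ•g⁻¹) = 1, Z(Q) ∩ Z(gQg⁻¹) = 1 and Z(Q•) ∩ Z(gQ•g⁻¹) = 1; moreover N_H(Q) = N_H(Q•) and Q• is large in H. -/
theorem result {H : Type*} [Group H] [Finite H] {p : ℕ} [Fact p.Prime] (Q : Subgroup H) (hQp : IsPGroup p ↥Q) (hQ1 : Q ≠ ⊥) (hL : Cfsg.IsLarge Q) (Qb : Subgroup H) (hQb : Qb = Cfsg.largeBullet p Q) : (∀ g : H, g ∉ Subgroup.normalizer ((Q : Subgroup H) : Set H) → Subgroup.centralizer ((Q : Subgroup H) : Set H) ⊓ Subgroup.centralizer ((((Q : Subgroup H).map (MulAut.conj (g : H)).toMonoidHom) : Subgroup H) : Set H) = ⊥ ∧ Subgroup.centralizer ((Qb : Subgroup H) : Set H) ⊓ Subgroup.centralizer ((((Qb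 : Subgroup H).map (MulAut.conj (g : H)).toMonoidHom) : Subgroup H) : Set H) = ⊥ ∧ (Q ⊓ Subgroup.centralizer ((Q : Subgroup H) : Set H)) ⊓ (((Q : Subgroup H).map (MulAut.conj (g : H)).toMonoidHom) ⊓ Subgroup.centralizer ((((Q : Subgroup H).map (MulAut.conj (g : H)).toMonoidHom) : Subgroup H) : Set H)) = ⊥ ∧ (Qb ⊓ Subgroup.centralizer ((Qb : Subgroup H) : Set H)) ⊓ (((Qb : Subgroup H).map (MulAut.conj (g : H)).toMonoidHom) ⊓ Subgroup.centralizer ((((Qb : Subgroup H).map (MulAut.conj (g : H)).toMonoidHom) : Subgroup H) : Set H)) = ⊥) ∧ Subgroup.normalizer ((Q : Subgroup H) : Set H) = Subgroup.normalizer ((Qb : Subgroup H) : Set H) ∧ Cfsg.IsLarge Qb := by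
  subst hQb
  have hLb := Cfsg.Agent.Helper16.isLarge_largeBullet hQp hQ1 hL
  have hNb := Cfsg.Agent.Helper16.normalizer_largeBullet hQp hQ1 hL
  have hbp : IsPGroup p ↥(Cfsg.largeBullet p Q) := Cfsg.Agent.Helper16.isPGroup_largeBullet Q
  have hb1 : Cfsg.largeBullet p Q ≠ ⊥ := fun h =>
    hQ1 (le_bot_iff.mp (h ▸ Cfsg.Agent.Helper16.le_largeBullet hQp))
  refine ⟨fun g hg => ?_, hNb, hLb⟩
  have hg' : g ∉ Subgroup.normalizer ((Cfsg.largeBullet p Q : Subgroup H) : Set H) := by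
    rw [← hNb]; exact hg
  have h1 := Cfsg.Agent.Helper16.large_centralizer_inf hQp hQ1 hL hg
  have h2 := Cfsg.Agent.Helper16.large_centralizer_inf hbp hb1 hLb hg'
  refine ⟨h1, h2, ?_, ?_⟩
  · exact le_bot_iff.mp (h1 ▸ inf_le_inf inf_le_right inf_le_right)
  · exact le_bot_iff.mp (h2 ▸ inf_le_inf inf_le_right inf_le_right)

end Cfsg.Agent.S2844
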