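import Cfsg.Statements.S2846
import Cfsg.Agent.Helper16.BasicProperty

set_option autoImplicit false
open Cfsg

namespace Cfsg.Agent.S2846

/-- Let Q be a nontrivial large p-subgroup of the finite group H, S a Sylow p-subgroup containing Q, and L a subgroup containing S with O_p(L) ≠ 1 and C_H(O_p(L)) ≤ O_p(L). Then there are a subgroup M containing S having the basic property (M ∈ 𝔐_H, writing Y_X for the largest p-reduced normal subgroup of X and 𝓛_H for the set of subgroups X with O_p(X) ≠ 1 and C_H(O_p(X)) ≤ O_p(X): M ∈ 𝓛_H, M·C_H(Y_M) is the only maximal member of 𝓛_H containing M and its largest p-reduced normal subgroup is again Y_M, C_M(Y_M) is p-closed, and the image of C_M(Y_M) in M/O_p(M) lies in the Frattini subgroup of M/O_p(M)) and a subgroup L* with S ≤ L* ≤ M, O_p(L*) ≠ 1, C_H(O_p(L*)) ≤ O_p(L*), such that L·C_H(Y_L) = L*·C_H(Y_L), the weak closures of Q in L and in L* agree and lie in that of M, and Y_L = Y_{L*}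 ≤ Y_M. If moreover Q is not normal in L, then Q is normal in neither L* nor M. -/
theorem result {H : Type*} [Group H] [Finite H] {p : ℕ} [Fact p.Prime] (Q : Subgroup H) (hQp : IsPGroup p ↥Q) (hQ1 : Q ≠ ⊥) (hLg : Cfsg.IsLarge Q) (S : Sylow p H) (hQS : Q ≤ (S : Subgroup H)) (L : Subgroup H) (hSL : (S : Subgroup H) ≤ L) (hL : L ∈ Cfsg.charPSubgroups p H) : ∃ M Ls : Subgroup H, (S : Subgroup H) ≤ M ∧ Cfsg.IsInFrakM p M ∧ (S : Subgroup H) ≤ Ls ∧ Ls ≤ M ∧ Ls ∈ Cfsg.charPSubgroups p H ∧ L ⊔ Subgroup.centralizer (((Cfsg.largestPReducedOf p L) : Subgroup H) : Set H) = Ls ⊔ Subgroup.centralizer (((Cfsg.largestPReducedOf p L) : Subgroup H) : Set H) ∧ Cfsg.weakClosure Q L = Cfsg.weakClosure Q Ls ∧ Cfsg.weakClosure Q Ls ≤ Cfsg.weakClosure Q M ∧ (Cfsg.largestPReducedOf p L) = (Cfsg.largestPReducedOf p Ls) ∧ (Cfsg.largestPReducedOf p Ls) ≤ (Cfsg.largestPReducedOf p M) ∧ (¬ L ≤ Subgroup.normalizer ((Q : Subgroup H) : Set H) → ¬ Ls ≤ Subgroup.normalizer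 ((Q : Subgroup H) : Set H) ∧ ¬ M ≤ Subgroup.normalizer ((Q : Subgroup H) : Set H)) := by
  have hwc := Cfsg.Agent.Helper16.large_wc hQp hQ1 hLg
  have hS1 : (S : Subgroup H) ≠ ⊥ := fun h => hQ1 (le_bot_iff.mp (h ▸ hQS))
  obtain ⟨M, Ls, h1, h2, h3, h4, h5, h6, h7, h8⟩ := Cfsg.Agent.Helper16.exists_basic S
    (fun N hTN hN1 => Cfsg.Agent.Helper16.large_parabolic_centralizer_le hQp hQ1 hLg
      ⟨S, hTN⟩ hN1) L hSL hL
  have hLc := Cfsg.Agent.Helper16.charP_of_mem_charPSubgroups hL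
  have hLsc := Cfsg.Agent.Helper16.charP_of_mem_charPSubgroups h5
  have hY1 : Cfsg.largestPReducedOf p L ≠ ⊥ :=
    Cfsg.Agent.Helper16.largestPReducedOf_ne_bot S hS1 hSL hLc
  have hYp : IsPGroup p ↥(Cfsg.largestPReducedOf p L) :=
    (Cfsg.Agent.Helper16.isPGroup_pCoreOf p L).to_le
      (Cfsg.Agent.Helper16.largestPReducedOf_le_pCoreOf hLc)
  have hLY : L ≤ Subgroup.normalizer ((Cfsg.largestPReducedOf p L : Subgroup H) : Set H) :=
    Cfsg.Agent.Helper16.le_normalizer_largestPReducedOf hLc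
  have hLsY : Ls ≤ Subgroup.normalizer ((Cfsg.largestPReducedOf p L : Subgroup H) : Set H) := by
    rw [← h6]; exact Cfsg.Agent.Helper16.le_normalizer_largestPReducedOf hLsc
  have hw1 := (Cfsg.Agent.Helper16.large_weakClosure_centralizer hQp hQ1 hLg (hQS.trans hSL)
    hYp hY1 hLY).1
  have hw2 := (Cfsg.Agent.Helper16.large_weakClosure_centralizer hQp hQ1 hLg (hQS.trans h3)
    hYp hY1 hLsY).1
  have hw : Cfsg.weakClosure Q L = Cfsg.weakClosure Q Ls := by
    rw [hw1, hw2, h8]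
  refine ⟨M, Ls, h1, h2, h3, h4, h5, h8, hw, Cfsg.Agent.Helper16.weakClosure_mono' h4, h6.symm,
    by rw [h6]; exact h7, ?_⟩
  intro hLQ
  have hA : ¬ Ls ≤ Subgroup.normalizer ((Q : Subgroup H) : Set H) := by
    intro hLsQ
    apply hLQ
    apply Cfsg.Agent.Helper16.le_normalizer_of_weakClosure_le (hQS.trans hSL)
    rw [hw]
    exact Cfsg.Agent.Helper16.weakClosure_le_of_le_normalizer hQp hwc hLsQ
  exact ⟨hA, fun hM => hA (h4.trans hM)⟩

end Cfsg.Agent.S2846
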