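import Cfsg.Statements.S2872
import Cfsg.Agent.Lead.TransferParity
import Cfsg.Agent.Lead.PGroup

set_option autoImplicit false
open Cfsg

namespace Cfsg.Agent.S2872

/-- Let S be a Sylow 2-subgroup of the finite group G. Then G has a proper normal subgroup of 2-power index (O²(G) ≠ G), or Ω₁(Z(S)) is contained in the Frattini subgroup of S, or N_G(S) acts nontrivially on Ω₁(Z(S)) by conjugation. -/
theorem result {G : Type*} [Group G] [Finite G] (S : Sylow 2 G) : Cfsg.pResidual 2 G ≠ ⊤ ∨ Cfsg.omegaOne 2 ((S : Subgroup G) ⊓ Subgroup.centralizer ((S : Subgroup G) : Set G)) ≤ (frattini ↥(S : Subgroup G)).map (S : Subgroup G).subtype ∨ ∃ g ∈ Subgroup.normalizer ((S : Subgroup G) : Set G), ∃ z ∈ Cfsg.omegaOne 2 ((S : Subgroup G) ⊓ Subgroup.centralizer ((S : Subgroup G) : Set G)), g * z * g⁻¹ ≠ z := by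
  classical
  by_contra hcon
  push Not at hcon
  obtain ⟨h1, h2, h3⟩ := hcon
  have hex : ∃ z : G, (z ∈ (S : Subgroup G) ⊓ Subgroup.centralizer ((S : Subgroup G) : Set G) ∧
      z ^ 2 = 1) ∧ z ∉ (frattini ↥(S : Subgroup G)).map (S : Subgroup G).subtype := by
    by_contra hno
    push Not at hno
    apply h2
    refine (Subgroup.closure_le _).mpr ?_
    intro x hx
    exact hno x hx
  obtain ⟨z, ⟨hzZ, hz2⟩, hzΦ⟩ := hex
  have hzS : z ∈ (S : Subgroup G) := (Subgroup.mem_inf.mp hzZ).1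
  have hzC := (Subgroup.mem_inf.mp hzZ).2
  have hzc : ∀ s ∈ (S : Subgroup G), s * z = z * s :=
    fun s hs => Subgroup.mem_centralizer_iff.mp hzC s hs
  have hzF : (⟨z, hzS⟩ : ↥(S : Subgroup G)) ∉ frattini ↥(S : Subgroup G) :=
    fun h => hzΦ ⟨⟨z, hzS⟩, h, rfl⟩
  have hexM : ∃ M : Subgroup ↥(S : Subgroup G), IsCoatom M ∧
      (⟨z, hzS⟩ : ↥(S : Subgroup G)) ∉ M := by
    by_contra hno
    push Not at hno
    apply hzF
    rw [frattini, Order.radical, Subgroup.mem_iInf]
    intro M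
    rw [Subgroup.mem_iInf]
    intro hM
    exact hno M hM
  obtain ⟨M, hM, hzM⟩ := hexM
  have hMi : M.index = 2 := Cfsg.Agent.Lead.coatom_index_of_isPGroup S.2 M hM
  have hQi : (M.map (S : Subgroup G).subtype).relIndex (S : Subgroup G) = 2 := by
    have e : (M.map (S : Subgroup G).subtype).subgroupOf (S : Subgroup G) = M :=
      Subgroup.comap_map_eq_self_of_injective (S : Subgroup G).subtype_injective _
    show ((M.map (S : Subgroup G).subtype).subgroupOf (S : Subgroup G)).index = 2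
    rw [e]; exact hMi
  have hzQ : z ∉ M.map (S : Subgroup G).subtype := by
    rintro ⟨m, hm, hmz⟩
    have : m = ⟨z, hzS⟩ := Subtype.ext hmz
    rw [this] at hm
    exact hzM hm
  have hzΩ : z ∈ Cfsg.omegaOne 2 ((S : Subgroup G) ⊓
      Subgroup.centralizer ((S : Subgroup G) : Set G)) :=
    Subgroup.subset_closure ⟨hzZ, hz2⟩
  obtain ⟨K, hKn, hKi, hzK⟩ := Cfsg.Agent.Lead.transfer_involution_parity S
    (M.map (S : Subgroup G).subtype) hQi z hz2 hzS hzc hzQ (fun g hg => h3 g hg z hzΩ)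
  have hle : Cfsg.pResidual 2 G ≤ K := by
    refine (Subgroup.closure_le _).mpr ?_
    intro g hg
    have hg' : (orderOf g).Coprime 2 := hg
    obtain ⟨k, hk⟩ := Nat.Coprime.odd_of_right hg'
    have e : g = (g ^ 2) ^ (k + 1) := by
      rw [← pow_mul, show 2 * (k + 1) = orderOf g + 1 by omega, pow_succ, pow_orderOf_eq_one,
        one_mul]
    show g ∈ K
    rw [e]
    exact K.pow_mem (Subgroup.sq_mem_of_index_two hKi g) _
  apply hzK
  apply hle
  rw [h1]; exact Subgroup.mem_top z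

end Cfsg.Agent.S2872
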