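import Cfsg.Statements.S2879
import Cfsg.Agent.Helper16.DQMain

set_option autoImplicit false
open Cfsg

namespace Cfsg.Agent.S2879

/-- Let G be a finite solvable group with O(G) = 1 whose Sylow 2-subgroup T is dihedral of order at least 8 or semidihedral, with G ≠ T and Z(T) normal in G. Then G has a normal subgroup isomorphic to SL₂(3). -/
theorem result {G : Type*} [Group G] [Finite G] (hsol : IsSolvable G) (hO : Cfsg.oddCore G = ⊥) (T : Sylow 2 G) (hT : (∃ n : ℕ, 4 ≤ n ∧ Nonempty (↥(T : Subgroup G) ≃* DihedralGroup n)) ∨ Cfsg.IsQuasiDihedral ↥(T : Subgroup G)) (hne : (T : Subgroup G) ≠ ⊤) (hZ : ((T : Subgroup G) ⊓ Subgroup.centralizer ((T : Subgroup G) : Set G)).Normal) : ∃ U : Subgroup G, U.Normal ∧ Nonempty (↥U ≃* Matrix.SpecialLinearGroup (Fin 2) (ZMod 3)) := by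
  rcases hT with ⟨n, hn, ⟨e⟩⟩ | hqd
  · obtain ⟨X, z, hD⟩ := Cfsg.Agent.Helper16.dq_of_dihedral T n hn e
    exact Cfsg.Agent.Helper16.dq_main hsol hO T X z hD hne hZ
  · obtain ⟨X, z, hD⟩ := Cfsg.Agent.Helper16.dq_of_quasi (T : Subgroup G) hqd
    exact Cfsg.Agent.Helper16.dq_main hsol hO T X z hD hne hZ

end Cfsg.Agent.S2879
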