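import Cfsg.Statements.S2881
-- import your own Cfsg.Agent.* helpers here
import Cfsg.Agent.Helper11.ExtraCount

set_option autoImplicit false
open Cfsg

namespace Cfsg.Agent.S2881

/-- Let E be an extraspecial 2-group of order 2^(2m+1) of plus type (containing an elementary abelian subgroup of order 2^(m+1)), and let ω be an automorphism of E of order 5 whose fixed points are exactly the centre of E. Then m is divisible by 4. -/
theorem result {E : Type*} [Group E] [Finite E] (m : ℕ) (hm : 1 ≤ m) (hE : Cfsg.IsExtraspecial 2 E) (hcard : Nat.card E = 2 ^ (2 * m + 1)) (hplus : ∃ A : Subgroup E, Cfsg.IsElementaryAbelian 2 A ∧ Nat.card A = 2 ^ (m + 1)) (ω : E ≃* E) (hω : orderOf ω = 5) (hfix : ∀ x : E, ω x = x ↔ x ∈ Subgroup.center E) : 4 ∣ m := by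
  classical
  haveI := Fintype.ofFinite E
  haveI : Fact (Nat.Prime 5) := ⟨by norm_num⟩
  obtain ⟨A, hA, hAc⟩ := hplus
  have hN4 := Cfsg.Agent.Helper11.extra_count_order4 m hE.1.2.2 hE.2 hcard A hA.1 hA.2 hAc
  have hω5 : ω ^ 5 = 1 := by
    rw [← hω]
    exact pow_orderOf_eq_one ω
  obtain ⟨f, hf⟩ : ∃ f : Function.End {x : E // orderOf x = 4}, ∀ x, (f x).1 = ω x.1 :=
    ⟨fun x => ⟨ω x.1, by rw [MulEquiv.orderOf_eq]; exact x.2⟩, fun x => rfl⟩
  have hpow : ∀ n : ℕ, ∀ x : {x : E // orderOf x = 4}, ((f ^ n) x).1 = (ω ^ n) x.1 := by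
    intro n
    induction n with
    | zero =>
      intro x
      rw [pow_zero, pow_zero]
      rfl
    | succ k ih =>
      intro x
      rw [pow_succ, pow_succ]
      show ((f ^ k) (f x)).1 = (ω ^ k) (ω x.1)
      rw [ih (f x), hf x]
  have hf5' : f ^ 5 = 1 := by
    funext x
    apply Subtype.ext
    rw [hpow 5 x, hω5]
    rfl
  have hf5 : f ^ 5 ^ 1 = 1 := by
    rw [pow_one]
    exact hf5'
  have hempty : IsEmpty ↥(Function.fixedPoints f) := by
    constructor
    rintro ⟨x, hx⟩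
    have h1 : f x = x := hx
    have h2 : ω x.1 = x.1 := by rw [← hf x, h1]
    have h3 : x.1 ∈ Subgroup.center E := (hfix x.1).mp h2
    have h4 : x.1 * x.1 = 1 := Cfsg.Agent.Helper11.center_sq_eq_one hE.2 h3
    have h5 : orderOf x.1 ∣ 2 := orderOf_dvd_of_pow_eq_one (by rw [pow_two]; exact h4)
    have h6 := Nat.le_of_dvd (by norm_num) h5
    have h7 := x.2
    omega
  have hmod := Equiv.Perm.card_fixedPoints_modEq (p := 5) (n := 1) hf5
  have hz : ∀ (inst : Fintype ↥(Function.fixedPoints f)),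
      @Fintype.card ↥(Function.fixedPoints f) inst = 0 :=
    fun inst => (@Fintype.card_eq_zero_iff _ inst).mpr hempty
  rw [hz] at hmod
  have h5 : 5 ∣ Fintype.card {x : E // orderOf x = 4} := (Nat.modEq_zero_iff_dvd).mp hmod
  rw [← Nat.card_eq_fintype_card, hN4] at h5
  have hfac : 2 ^ (2 * m) - 2 ^ m = 2 ^ m * (2 ^ m - 1) := by
    rw [Nat.mul_sub_one, ← pow_add, ← two_mul]
  rw [hfac] at h5
  have h5' : 5 ∣ 2 ^ m - 1 :=
    Nat.Coprime.dvd_of_dvd_mul_left (Nat.Coprime.pow_right m (by norm_num)) h5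
  have h2m : 2 ^ m % 5 = 1 := by
    have hpos : 1 ≤ 2 ^ m := Nat.one_le_two_pow
    obtain ⟨k, hk⟩ := h5'
    omega
  have hdecomp : 2 ^ m % 5 = 2 ^ (m % 4) % 5 := by
    conv_lhs => rw [← Nat.div_add_mod m 4, pow_add, pow_mul]
    rw [Nat.mul_mod, Nat.pow_mod]
    norm_num
  rw [hdecomp] at h2m
  have hr0 : m % 4 = 0 := by
    have hlt : m % 4 < 4 := Nat.mod_lt _ (by norm_num)
    generalize m % 4 = r at hlt h2m
    interval_cases r
    · rfl
    · norm_num at h2m
    · norm_num at h2m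
    · norm_num at h2m
  exact Nat.dvd_of_mod_eq_zero hr0

end Cfsg.Agent.S2881
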