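import Cfsg.Statements.S2968
import Cfsg.Agent.Helper17.Isolated

set_option autoImplicit false
open Cfsg

namespace Cfsg.Agent.S2968

open Cfsg.Agent.Helper17

/-- Let G be a finite group, p a prime, P a Sylow p-subgroup of G and x ∈ P an element of p-power order which is isolated in G (the only conjugate of x commuting with x is x itself). Then x lies in the centre of P, and the subgroup generated by x is both strongly closed and weakly closed in P with respect to G. -/
theorem result {G : Type*} [Group G] [Finite G] {p : ℕ} [Fact p.Prime] (P : Sylow p G) (x : G) (hxP : x ∈ (P : Subgroup G)) (hx : ∃ k : ℕ, orderOf x = p ^ k) (hiso : Cfsg.IsIsolated x) : x ∈ (P : Subgroup G) ⊓ Subgroup.centralizer ((P : Subgroup G) : Set G) ∧ Cfsg.IsStronglyClosed (Subgroup.zpowers x) (P : Subgroup G) ∧ Cfsg.IsWeaklyClosed (Subgroup.zpowers x) (P : Subgroup G) := by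
  obtain ⟨k, hk⟩ := hx
  have hcen : ∀ r ∈ (P : Subgroup G), r * x = x * r := isolated_central hiso P P.2 hxP
  have hzP : Subgroup.zpowers x ≤ (P : Subgroup G) := by
    rw [Subgroup.zpowers_le]; exact hxP
  refine ⟨Subgroup.mem_inf.mpr ⟨hxP, ?_⟩, ⟨hzP, ?_⟩, ⟨hzP, ?_⟩⟩
  · rw [Subgroup.mem_centralizer_iff]
    intro h hh
    exact hcen h hh
  · intro y hy g hgy
    obtain ⟨i, rfl⟩ := Subgroup.mem_zpowers_iff.mp hy
    set z := g * x ^ i * g⁻¹ with hz
    have hzx : z * x = x * z := hcen z hgy
    have hzpow : z = (g * x * g⁻¹) ^ i := by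
      rw [hz, conj_zpow]
    have hxN : x ∈ Subgroup.centralizer ({z} : Set G) :=
      Subgroup.mem_centralizer_singleton_iff.mpr hzx.symm
    have hgN : g * x * g⁻¹ ∈ Subgroup.centralizer ({z} : Set G) := by
      rw [Subgroup.mem_centralizer_singleton_iff, hzpow]
      exact ((Commute.refl (g * x * g⁻¹)).zpow_right i).eq
    obtain ⟨n, hnN, hn⟩ := isolated_conj k hk hiso _ hxN g hgN
    have hnz : n * z = z * n := Subgroup.mem_centralizer_singleton_iff.mp hnN
    have h1 : z = n * x ^ i * n⁻¹ := by
      rw [hzpow, hn, conj_zpow]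
    have h2 : z = x ^ i := by
      have : n⁻¹ * z * n = x ^ i := by rw [h1]; simp [mul_assoc]
      rw [← this, mul_assoc, ← hnz, ← mul_assoc, inv_mul_cancel, one_mul]
    rw [h2]
    exact Subgroup.zpow_mem_zpowers x i
  · intro g hg
    have hgx : g * x * g⁻¹ ∈ (P : Subgroup G) :=
      hg (conj_mem_map_conj _ g (Subgroup.mem_zpowers x))
    have h1 := hcen _ hgx
    have h2 := hiso g (Commute.symm h1)
    rw [MonoidHom.map_zpowers]
    change Subgroup.zpowers (g * x * g⁻¹) = Subgroup.zpowers x
    rw [h2]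

end Cfsg.Agent.S2968
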