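import Cfsg.Statements.S2970
import Cfsg.Agent.Helper17.Isolated
import Cfsg.Agent.Helper17.CyclicSylow

set_option autoImplicit false
open Cfsg

namespace Cfsg.Agent.S2970

open Cfsg.Agent.Helper17

/-- Let G be a finite group, p a prime and x ∈ G an element of p-power order which is isolated in G. Then the image of x in any quotient G ⧸ N is isolated in G ⧸ N; and if x ≠ 1 and the Sylow p-subgroups of G are cyclic, then G has a normal p-complement. -/
theorem result {G : Type*} [Group G] [Finite G] {p : ℕ} [Fact p.Prime] (x : G) (hx : ∃ k : ℕ, orderOf x = p ^ k) (hiso : Cfsg.IsIsolated x) : (∀ (N : Subgroup G) [N.Normal], Cfsg.IsIsolated (QuotientGroup.mk x : G ⧸ N)) ∧ (x ≠ 1 → (∀ P : Sylow p G, IsCyclic ↥(P : Subgroup G)) → Cfsg.HasNormalPComplement p G) := by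
  obtain ⟨k, hk⟩ := hx
  constructor
  · intro N _ gbar hcomm
    obtain ⟨g, rfl⟩ := QuotientGroup.mk_surjective gbar
    set L : Subgroup G := (Subgroup.centralizer ({(QuotientGroup.mk x : G ⧸ N)} : Set (G ⧸ N))).comap
      (QuotientGroup.mk' N) with hL
    have hxL : x ∈ L := by
      rw [hL, Subgroup.mem_comap, Subgroup.mem_centralizer_singleton_iff]
      rfl
    have hgL : g * x * g⁻¹ ∈ L := by
      rw [hL, Subgroup.mem_comap, Subgroup.mem_centralizer_singleton_iff]
      exact hcomm.eq.symm
    obtain ⟨l, hlL, hl⟩ := isolated_conj k hk hiso L hxL g hgL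
    have hl' : (QuotientGroup.mk l : G ⧸ N) * (QuotientGroup.mk x : G ⧸ N)
        = (QuotientGroup.mk x : G ⧸ N) * (QuotientGroup.mk l : G ⧸ N) := by
      rw [hL, Subgroup.mem_comap, Subgroup.mem_centralizer_singleton_iff] at hlL
      exact hlL
    have e : (QuotientGroup.mk g : G ⧸ N) * (QuotientGroup.mk x : G ⧸ N) * (QuotientGroup.mk g : G ⧸ N)⁻¹
        = (QuotientGroup.mk (g * x * g⁻¹) : G ⧸ N) := rfl
    rw [e, hl]
    change (QuotientGroup.mk l : G ⧸ N) * (QuotientGroup.mk x : G ⧸ N) * (QuotientGroup.mk l : G ⧸ N)⁻¹ = _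
    rw [hl', mul_inv_cancel_right]
  · intro hx1 hcyc
    obtain ⟨P, hP⟩ := (isPGroup_zpowers_of_orderOf x k hk).exists_le_sylow
    have hxP : x ∈ (P : Subgroup G) := hP (Subgroup.mem_zpowers x)
    have hN : Subgroup.normalizer ((P : Subgroup G) : Set G) ≤ Subgroup.centralizer ({x} : Set G) := by
      intro n hn
      have h1 : n * x * n⁻¹ ∈ (P : Subgroup G) := ((Subgroup.mem_normalizer_iff.mp hn) x).mp hxP
      have h2 := isolated_central hiso P P.2 hxP _ h1
      have h3 := hiso n (Commute.symm h2)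
      rw [Subgroup.mem_centralizer_singleton_iff]
      calc n * x = (n * x * n⁻¹) * n := by simp [mul_assoc]
        _ = x * n := by rw [h3]
    have hNC := normalizer_le_centralizer_of_cyclic P (hcyc P) x hxP hx1 hN
    exact ⟨P, (MonoidHom.transferSylow P hNC).ker, inferInstance,
      MonoidHom.ker_transferSylow_isComplement' P hNC⟩

end Cfsg.Agent.S2970
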