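import Cfsg.Statements.S2971
import Cfsg.Agent.S2970
import Cfsg.Agent.Helper17.PCore
import Cfsg.Agent.Helper24.NormalEA
import Mathlib

set_option autoImplicit false
open Cfsg

namespace Cfsg.Agent.S2971

open Cfsg.Agent.Helper17

/-- Let G be a finite group and p an odd prime such that G has p-rank at most 1 (no elementary abelian subgroup of order p²). If x ∈ G is an isolated element of order p, then x is central modulo the largest normal subgroup of G of order prime to p. -/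
theorem result {G : Type*} [Group G] [Finite G] {p : ℕ} [Fact p.Prime] (hp : p ≠ 2) (hrk : Cfsg.PRankLE p 1 G) (x : G) (hx : orderOf x = p) (hiso : Cfsg.IsIsolated x) : Cfsg.InZStar p x := by
  classical
  have hpp : p.Prime := Fact.out
  have hcyc : ∀ P : Sylow p G, IsCyclic ↥(P : Subgroup G) := by
    intro P
    by_contra hnc
    obtain ⟨A, -, hAe, hAcard⟩ := Cfsg.Agent.Helper24.exists_normal_elementary_sq hp P.isPGroup' hnc
    have h1 := hrk (A.map (P : Subgroup G).subtype) (by haveI := hAe.1; infer_instance) (by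
      rintro _ ⟨a, ha, rfl⟩
      have h2 := congrArg Subtype.val (hAe.2 a ha)
      simpa using h2)
    rw [Subgroup.card_map_of_injective (Subgroup.subtype_injective _), hAcard] at h1
    have h2 := hpp.one_lt
    nlinarith
  have hx1 : x ≠ 1 := by
    intro h
    rw [h, orderOf_one] at hx
    exact hpp.one_lt.ne hx
  obtain ⟨P, N, hN, hcomp⟩ := (Cfsg.Agent.S2970.result x ⟨1, by rw [hx, pow_one]⟩ hiso).2 hx1 hcyc
  haveI := hN
  have hcore := pPrimeCore_eq_of_normal_complement P N hcomp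
  intro g
  rw [hcore]
  have hdec : ∀ y : G, ∃ q ∈ (P : Subgroup G), (QuotientGroup.mk y : G ⧸ N) = QuotientGroup.mk q := by
    intro y
    obtain ⟨⟨⟨n, hn⟩, ⟨q, hq⟩⟩, hnq, -⟩ := hcomp.existsUnique y
    refine ⟨q, hq, ?_⟩
    simp only at hnq
    rw [← hnq, QuotientGroup.mk_mul, (QuotientGroup.eq_one_iff n).mpr hn, one_mul]
  obtain ⟨q₁, hq₁, e₁⟩ := hdec g
  obtain ⟨q₂, hq₂, e₂⟩ := hdec x
  haveI := hcyc P
  have hcomm : q₁ * q₂ = q₂ * q₁ := by
    have h := @mul_comm ↥(P : Subgroup G) (IsCyclic.commGroup).toCommMagma ⟨q₁, hq₁⟩ ⟨q₂, hq₂⟩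
    exact congrArg Subtype.val h
  apply (QuotientGroup.eq_one_iff _).mp
  have h1 : ((g * x * g⁻¹ * x⁻¹ : G) : G ⧸ N)
      = (q₁ : G ⧸ N) * q₂ * (q₁ : G ⧸ N)⁻¹ * (q₂ : G ⧸ N)⁻¹ := by
    rw [QuotientGroup.mk_mul, QuotientGroup.mk_mul, QuotientGroup.mk_mul, QuotientGroup.mk_inv,
      QuotientGroup.mk_inv, e₁, e₂]
  rw [h1, ← QuotientGroup.mk_mul, hcomm, QuotientGroup.mk_mul]
  group

end Cfsg.Agent.S2971
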