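import Cfsg.Statements.S3184
import Cfsg.Agent.Helper8.ZStarClaim
import Cfsg.Agent.Helper8.CharInv

set_option autoImplicit false
open Cfsg

namespace Cfsg.Agent.S3184

open Cfsg.Agent.Helper8 in
/-- Let G be a finite group in which the intersection of any two distinct Sylow 2-subgroups is contained in the centre of some Sylow 2-subgroup, and let S be a Sylow 2-subgroup. If C is a nontrivial cyclic characteristic subgroup of S, then the involution of C is central modulo the largest normal subgroup of odd order of G: each of its conjugates has the same image in G/O(G). -/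
theorem result {G : Type*} [Group G] [Finite G]
    (hCI : ∀ S T : Sylow 2 G, S ≠ T → ∃ U : Sylow 2 G,
      (S : Subgroup G) ⊓ (T : Subgroup G) ≤ (Subgroup.center ↥(U : Subgroup G)).map (U : Subgroup G).subtype)
    (S : Sylow 2 G) (C : Subgroup ↥(S : Subgroup G)) (hC : C ≠ ⊥) (hCc : IsCyclic ↥C) (hCh : C.Characteristic)
    (c : ↥(S : Subgroup G)) (hc : c ∈ C) (hc2 : orderOf c = 2) :
    ∀ g : G, (QuotientGroup.mk (s := Cfsg.oddCore G) (g * (c : G) * g⁻¹)) =
      QuotientGroup.mk (s := Cfsg.oddCore G) (c : G) := by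
  intro g
  have hiso := cc_isolated hCI S C hCc hCh c hc hc2
  have hc2' : orderOf (c : G) = 2 := by rw [Subgroup.orderOf_coe]; exact hc2
  have hI : Cfsg.IsIsolatedInvolution (c : G) :=
    ⟨hc2', fun g hcm => Cfsg.Agent.Helper2.isolated_eq_of_commute S (c : G) hc2' hiso g hcm.eq⟩
  obtain ⟨N, hN, hNodd, hNc⟩ := zstar_main G (c : G) hI
  have hle : N ≤ Cfsg.oddCore G := le_sSup ⟨hN, Nat.coprime_two_right.2 hNodd⟩
  rw [QuotientGroup.eq]
  have h1 := hle (hNc g)
  have hcc : (c : G) * (c : G) = 1 := Cfsg.Agent.Helper2.zstar_sq (c : G) hc2'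
  have hcinv : (c : G)⁻¹ = (c : G) := inv_eq_of_mul_eq_one_left hcc
  have h2 : (g * (c : G) * g⁻¹)⁻¹ * (c : G) = ((c : G) * g * (c : G)⁻¹ * g⁻¹)⁻¹ := by
    calc (g * (c : G) * g⁻¹)⁻¹ * (c : G) = g * (c : G)⁻¹ * g⁻¹ * (c : G) := by group
      _ = g * (c : G) * g⁻¹ * (c : G)⁻¹ := by simp only [hcinv]
      _ = ((c : G) * g * (c : G)⁻¹ * g⁻¹)⁻¹ := by group
  rw [h2]
  exact Subgroup.inv_mem _ h1

end Cfsg.Agent.S3184
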