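import Mathlib
import Cfsg.Statements.S3200
import Cfsg.Agent.S0143
import Cfsg.Agent.Helper1.Hall
import Cfsg.Agent.Helper1.Basic
import Cfsg.Agent.Helper18.Small

set_option autoImplicit false
open Cfsg

namespace Cfsg.Agent.S3200

open Cfsg.Agent.Helper18.Small

/-- For a normal subgroup `N`, the index of `C ⊓ N` in `N` divides the index of `C`. -/
theorem relIndex_dvd_index_of_normal' {G : Type*} [Group G] [Finite G] (C N : Subgroup G)
    [N.Normal] : C.relIndex N ∣ C.index := by
  have h1 := Subgroup.relIndex_mul_relIndex (C ⊓ N) C (N ⊔ C) inf_le_left le_sup_right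
  have h2 := Subgroup.relIndex_mul_relIndex (C ⊓ N) N (N ⊔ C) inf_le_right le_sup_left
  rw [Subgroup.inf_relIndex_left] at h1
  rw [Subgroup.inf_relIndex_right, Subgroup.relIndex_sup_left] at h2
  have h3 : N.relIndex C * C.relIndex (N ⊔ C) = N.relIndex C * C.relIndex N := by
    rw [h1, ← h2, mul_comm]
  have h4 : N.relIndex C ≠ 0 := by
    unfold Subgroup.relIndex
    exact Subgroup.index_ne_zero_of_finite
  have h5 : C.relIndex (N ⊔ C) = C.relIndex N := Nat.eq_of_mul_eq_mul_left (Nat.pos_of_ne_zero h4) h3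
  rw [← h5]
  exact Subgroup.relIndex_dvd_index_of_le le_sup_right

/-- A finite group with an abelian subgroup of 2-power index is solvable. -/
theorem solvable_of_abelian_index.{u} : ∀ (n : ℕ) (H : Type u) [Group H] [Finite H],
    Nat.card H = n → ∀ (C : Subgroup H), IsMulCommutative C → (∃ k : ℕ, C.index = 2 ^ k) →
    Group.IsSolvable H := by
  intro n
  induction n using Nat.strong_induction_on with
  | _ n ih =>
    intro H _ _ hc C hC ⟨k, hk⟩
    by_cases htriv : Subsingleton H
    · exact Group.isSolvable_of_comm (fun a b => Subsingleton.elim _ _)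
    rw [not_subsingleton_iff_nontrivial] at htriv
    by_cases hs : IsSimpleGroup H
    · by_cases hCb : C = ⊥
      · have hcard : Nat.card H = 2 ^ k := by
          rw [← hk, hCb, Subgroup.index_bot]
        have hf2 : Fact (Nat.Prime 2) := ⟨Nat.prime_two⟩
        have hp : IsPGroup 2 H := IsPGroup.of_card hcard
        have hnil : Group.IsNilpotent H := hp.isNilpotent
        infer_instance
      · obtain ⟨⟨c, hcC⟩, hc1'⟩ := (Subgroup.ne_bot_iff_exists_ne_one).mp hCb
        have hc1 : c ≠ 1 := fun h => hc1' (Subtype.ext h)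
        have hle : C ≤ Subgroup.centralizer ({c} : Set H) := by
          intro d hd
          rw [Subgroup.mem_centralizer_iff]
          intro y hy
          rw [Set.mem_singleton_iff] at hy
          rw [hy]
          have h1 := mul_comm' (⟨c, hcC⟩ : C) ⟨d, hd⟩
          exact congrArg Subtype.val h1
        have hdvd : (Subgroup.centralizer ({c} : Set H)).index ∣ 2 ^ k :=
          hk ▸ Subgroup.index_dvd_of_le hle
        obtain ⟨j, -, hj⟩ := (Nat.dvd_prime_pow Nat.prime_two).mp hdvd
        have hprime := Cfsg.Agent.S0143.result 2 j Nat.prime_two c hc1 hj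
        have hfp : Fact (Nat.card H).Prime := ⟨hprime⟩
        have hcyc : IsCyclic H := isCyclic_of_prime_card rfl
        have hcm := hcyc.isMulCommutative
        exact Group.isSolvable_of_comm (fun a b => mul_comm' a b)
    · obtain ⟨N, hN, hb, ht⟩ := exists_normal_of_not_simple hs
      have h1 : Nat.card N < n := hc ▸ card_lt_of_ne_top N ht
      have h2 : Nat.card (H ⧸ N) < n := by
        rw [← Subgroup.index_eq_card]; exact hc ▸ index_lt_of_ne_bot N hb
      have hN1 : Group.IsSolvable N := by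
        apply ih _ h1 N rfl (C.subgroupOf N) inferInstance
        have h3 : C.relIndex N ∣ C.index := relIndex_dvd_index_of_normal' C N
        rw [hk] at h3
        obtain ⟨j, -, hj⟩ := (Nat.dvd_prime_pow Nat.prime_two).mp h3
        exact ⟨j, hj⟩
      have hN2 : Group.IsSolvable (H ⧸ N) := by
        apply ih _ h2 (H ⧸ N) rfl (C.map (QuotientGroup.mk' N)) inferInstance
        have h3 : (C.map (QuotientGroup.mk' N)).index ∣ C.index :=
          Subgroup.index_map_dvd C (QuotientGroup.mk'_surjective N)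
        rw [hk] at h3
        obtain ⟨j, -, hj⟩ := (Nat.dvd_prime_pow Nat.prime_two).mp h3
        exact ⟨j, hj⟩
      exact solvable_of_normal N hN1 hN2

/-- A subgroup of odd order and 2-power index is a complement to every Sylow 2-subgroup. -/
theorem complement_of_odd {G : Type*} [Group G] [Finite G] (D : Subgroup G)
    (hD : Odd (Nat.card D)) (k : ℕ) (hk : D.index = 2 ^ k) (P : Sylow 2 G) :
    Subgroup.IsComplement' (P : Subgroup G) D := by
  have hf2 : Fact (Nat.Prime 2) := ⟨Nat.prime_two⟩
  have hG : Nat.card G = Nat.card D * 2 ^ k := by rw [← hk, Subgroup.card_mul_index]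
  have hcop : (Nat.card D).Coprime 2 := Nat.Coprime.symm (Nat.coprime_two_left.mpr hD)
  have hP : Nat.card (P : Subgroup G) = 2 ^ k := by
    rw [Sylow.card_eq_multiplicity, hG]
    congr 1
    rw [Nat.factorization_mul (Nat.card_pos.ne') (by positivity), Finsupp.add_apply,
      Nat.factorization_eq_zero_of_not_dvd hD.not_two_dvd_nat,
      Nat.Prime.factorization_pow Nat.prime_two]
    simp
  apply Subgroup.isComplement'_of_coprime
  · rw [hP, hG, mul_comm]
  · rw [hP]
    exact Nat.Coprime.pow_left k hcop.symm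

/-- Let H be a finite group in which a Sylow 2-subgroup has an abelian complement (an abelian subgroup meeting it trivially whose product with it is all of H). Then H is solvable, and every subgroup and every quotient group of H again has a Sylow 2-subgroup with an abelian complement. -/
theorem result {H : Type*} [Group H] [Finite H]
    (S : Sylow 2 H) (C : Subgroup H) (hC : IsMulCommutative ↥C) (hSC : Subgroup.IsComplement' (S : Subgroup H) C) :
    Group.IsSolvable H ∧
    (∀ L : Subgroup H, ∃ (P : Sylow 2 ↥L) (D : Subgroup ↥L), IsMulCommutative ↥D ∧ Subgroup.IsComplement' (P : Subgroup ↥L) D) ∧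
    (∀ (N : Subgroup H) [N.Normal], ∃ (P : Sylow 2 (H ⧸ N)) (D : Subgroup (H ⧸ N)),
      IsMulCommutative ↥D ∧ Subgroup.IsComplement' (P : Subgroup (H ⧸ N)) D) := by
  classical
  have hf2 : Fact (Nat.Prime 2) := ⟨Nat.prime_two⟩
  have hmul : Nat.card (S : Subgroup H) * Nat.card C = Nat.card H := hSC.card_mul_card
  obtain ⟨s, hs⟩ : ∃ s, Nat.card (S : Subgroup H) = 2 ^ s := ⟨_, S.card_eq_multiplicity⟩
  have hCidx : C.index = 2 ^ s := by
    have h1 := Subgroup.card_mul_index C
    have hpos : 0 < Nat.card C := Nat.card_pos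
    have h2 : Nat.card C * C.index = Nat.card C * 2 ^ s := by rw [h1, ← hmul, hs, mul_comm]
    exact Nat.eq_of_mul_eq_mul_left hpos h2
  have hCodd : Odd (Nat.card C) := by
    have h1 := Subgroup.card_mul_index (S : Subgroup H)
    have h2 : Nat.card C = (S : Subgroup H).index := by
      have hpos : 0 < Nat.card (S : Subgroup H) := Nat.card_pos
      exact Nat.eq_of_mul_eq_mul_left hpos (by rw [hmul, h1])
    have h3 : ¬ 2 ∣ (S : Subgroup H).index := S.not_dvd_index
    rw [h2, Nat.odd_iff]
    omega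
  have hsolv : Group.IsSolvable H := solvable_of_abelian_index _ H rfl C hC ⟨s, hCidx⟩
  have hHcard : Nat.card H = Nat.card C * 2 ^ s := by rw [← hmul, hs, mul_comm]
  have hcopC : (Nat.card C).Coprime (2 ^ s) :=
    Nat.Coprime.pow_right s (Nat.Coprime.symm (Nat.coprime_two_left.mpr hCodd))
  refine ⟨hsolv, ?_, ?_⟩
  · intro L
    have hLs : Group.IsSolvable L := inferInstance
    obtain ⟨P⟩ : Nonempty (Sylow 2 L) := inferInstance
    obtain ⟨a, ha⟩ : ∃ a : ℕ, a = (Nat.card L).factorization 2 := ⟨_, rfl⟩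
    obtain ⟨m, hm⟩ : ∃ m : ℕ, m = Nat.card L / 2 ^ a := ⟨_, rfl⟩
    have hL : Nat.card L = m * 2 ^ a := by
      rw [hm, ha, mul_comm]
      exact (Nat.ordProj_mul_ordCompl_eq_self (Nat.card L) 2).symm
    have hcop2 : Nat.Coprime 2 m := by
      rw [hm, ha]
      exact Nat.coprime_ordCompl Nat.prime_two Nat.card_pos.ne'
    have hmodd : Odd m := Nat.coprime_two_left.mp hcop2
    have hcop : m.Coprime (2 ^ a) := Nat.Coprime.pow_right a hcop2.symm
    obtain ⟨D, hD⟩ := Helper1.hall_exists m (2 ^ a) hL hcop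
    have hDidx : D.index = 2 ^ a := by
      have h1 := Subgroup.card_mul_index D
      rw [hD, hL] at h1
      exact Nat.eq_of_mul_eq_mul_left (Nat.pos_of_ne_zero (by rintro rfl; simp at hmodd)) h1
    refine ⟨P, D, ?_, complement_of_odd D (hD ▸ hmodd) a hDidx P⟩
    -- the image of `D` lies in a conjugate of `C`
    obtain ⟨K, hK⟩ : ∃ K : Subgroup H, K = D.map L.subtype := ⟨_, rfl⟩
    have hKcard : Nat.card K = m := by
      rw [hK, Subgroup.card_map_of_injective L.subtype_injective, hD]
    have hKcop : (Nat.card K).Coprime (2 ^ s) := by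
      rw [hKcard]; exact Nat.Coprime.pow_right s hcop2.symm
    obtain ⟨H₁, hH₁, hKH₁⟩ := Helper1.hall_dominance (Nat.card C) (2 ^ s) hHcard hcopC K hKcop
    obtain ⟨g, hg⟩ := Helper1.hall_conj (Nat.card C) (2 ^ s) hHcard hcopC C H₁ rfl hH₁
    have hH₁comm : ∀ x ∈ H₁, ∀ y ∈ H₁, x * y = y * x := by
      intro x hx y hy
      rw [← hg, Helper1.mem_conj_smul] at hx hy
      have h1 := mul_comm' (⟨_, hx⟩ : C) ⟨_, hy⟩
      have h2 : (g⁻¹ * x * g) * (g⁻¹ * y * g) = (g⁻¹ * y * g) * (g⁻¹ * x * g) :=
        congrArg Subtype.val h1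
      have e1 : x * y = g * ((g⁻¹ * x * g) * (g⁻¹ * y * g)) * g⁻¹ := by group
      have e2 : y * x = g * ((g⁻¹ * y * g) * (g⁻¹ * x * g)) * g⁻¹ := by group
      rw [e1, e2, h2]
    refine ⟨⟨fun d₁ d₂ => ?_⟩⟩
    apply Subtype.ext
    apply Subtype.ext
    have h1 : ((d₁ : L) : H) ∈ H₁ := hKH₁ (hK ▸ Subgroup.mem_map_of_mem L.subtype d₁.2)
    have h2 : ((d₂ : L) : H) ∈ H₁ := hKH₁ (hK ▸ Subgroup.mem_map_of_mem L.subtype d₂.2)
    exact hH₁comm _ h1 _ h2
  · intro N hN
    obtain ⟨P⟩ : Nonempty (Sylow 2 (H ⧸ N)) := inferInstance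
    obtain ⟨D, hD⟩ : ∃ D : Subgroup (H ⧸ N), D = C.map (QuotientGroup.mk' N) := ⟨_, rfl⟩
    have hDodd : Odd (Nat.card D) := by
      rw [hD]
      exact Odd.of_dvd_nat hCodd (Subgroup.card_map_dvd C (QuotientGroup.mk' N))
    have hDidx : D.index ∣ 2 ^ s := by
      rw [hD, ← hCidx]
      exact Subgroup.index_map_dvd C (QuotientGroup.mk'_surjective N)
    obtain ⟨j, -, hj⟩ := (Nat.dvd_prime_pow Nat.prime_two).mp hDidx
    refine ⟨P, D, ?_, complement_of_odd D hDodd j hj P⟩
    rw [hD]
    infer_instance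

end Cfsg.Agent.S3200
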