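import Cfsg.Statements.S3532
import Mathlib
import Cfsg.Agent.Helper19.Aff1
import Cfsg.Agent.S2475

set_option autoImplicit false
open Cfsg

namespace Cfsg.Agent.S3532

/-- Let q ≥ 4 be a prime power and L = PSL(2,q). There is a finite solvable group with the same set of element orders as L × L (so L × L is not determined by its spectrum). -/
theorem result {F : Type*} [Field F] [Fintype F] (hF : 4 ≤ Fintype.card F) :
    ∃ (H : Type) (_ : Group H) (_ : Finite H), Group.IsSolvable H ∧
      Set.range (orderOf : H → ℕ) = Set.range (orderOf : Matrix.ProjectiveSpecialLinearGroup (Fin 2) F × Matrix.ProjectiveSpecialLinearGroup (Fin 2) F → ℕ) := by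
  classical
  obtain ⟨p, hchar⟩ := CharP.exists F
  have hp : p.Prime := CharP.char_is_prime F p
  have hfact : Fact p.Prime := ⟨hp⟩
  obtain ⟨n, -, hq⟩ := FiniteField.card F p
  have hg1 : Nat.gcd 2 (Fintype.card F - 1) ∣ Fintype.card F - 1 := Nat.gcd_dvd_right _ _
  have hg2 : Nat.gcd 2 (Fintype.card F - 1) ∣ Fintype.card F + 1 := by
    have h2 : Nat.gcd 2 (Fintype.card F - 1) ∣ 2 := Nat.gcd_dvd_left _ _
    have h3 : Fintype.card F + 1 = (Fintype.card F - 1) + 2 := by omega
    rw [h3]
    exact dvd_add hg1 h2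
  have hn0 : (n : ℕ) ≠ 0 := n.ne_zero
  have hK1 : Nat.card (GaloisField p n) = Fintype.card F := by
    rw [GaloisField.card p n hn0, hq]
  have hK2 : Nat.card (GaloisField p (2 * n)) = Fintype.card F ^ 2 := by
    rw [GaloisField.card p (2 * n) (by positivity), hq, ← pow_mul, mul_comm]
  have hb : (Fintype.card F - 1) / Nat.gcd 2 (Fintype.card F - 1) ∣
      Nat.card (GaloisField p n) - 1 := by
    rw [hK1]
    exact Nat.div_dvd_of_dvd hg1
  have hc : (Fintype.card F + 1) / Nat.gcd 2 (Fintype.card F - 1) ∣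
      Nat.card (GaloisField p (2 * n)) - 1 := by
    rw [hK2]
    have h3 : Fintype.card F ^ 2 - 1 = (Fintype.card F + 1) * (Fintype.card F - 1) := by
      obtain ⟨k, hk⟩ : ∃ k, Fintype.card F = k + 1 := ⟨Fintype.card F - 1, by omega⟩
      rw [hk]
      simp only [Nat.add_sub_cancel]
      have h4 : (k + 1) ^ 2 = (k + 1 + 1) * k + 1 := by ring
      rw [h4, Nat.add_sub_cancel]
    rw [h3]
    exact Dvd.dvd.mul_right (Nat.div_dvd_of_dvd hg2) _
  refine ⟨Cfsg.Agent.Helper19.Aff1 (GaloisField p n)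
      ((Fintype.card F - 1) / Nat.gcd 2 (Fintype.card F - 1)) ×
    Cfsg.Agent.Helper19.Aff1 (GaloisField p (2 * n))
      ((Fintype.card F + 1) / Nat.gcd 2 (Fintype.card F - 1)),
    inferInstance, inferInstance, inferInstance, ?_⟩
  have hL := Cfsg.Agent.S2475.result (F := F) p hF
  rw [Cfsg.Agent.Helper19.range_orderOf_prod_grp, Cfsg.Agent.Helper19.range_orderOf_prod_grp, hL,
    Cfsg.Agent.Helper19.Aff1.range_orderOf p (Cfsg.Agent.Helper19.exists_unit_orderOf hb),
    Cfsg.Agent.Helper19.Aff1.range_orderOf p (Cfsg.Agent.Helper19.exists_unit_orderOf hc)]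
  exact Cfsg.Agent.Helper19.lcm_sets_eq p _ _

end Cfsg.Agent.S3532
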