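import Cfsg.Statements.S3554
-- import your own Cfsg.Agent.* helpers here

set_option autoImplicit false
open Cfsg

namespace Cfsg.Agent.S3554

/-- Let G act faithfully and transitively on a finite set and suppose G has a non-trivial cyclic normal subgroup. Then some element of G of prime order fixes no point. -/
theorem result {G Ω : Type*} [Group G] [Finite G] [MulAction G Ω] [FaithfulSMul G Ω] [Finite Ω]
    (htrans : MulAction.IsPretransitive G Ω) (C : Subgroup G) (hC : C.Normal) (hC1 : C ≠ ⊥) (hcyc : IsCyclic ↥C) :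
    ∃ g : G, (orderOf g).Prime ∧ ∀ ω : Ω, g • ω ≠ ω := by
  classical
  have : Finite ↥C := inferInstance
  obtain ⟨a, ha⟩ := hcyc.exists_generator
  have hN : orderOf (a : G) = Nat.card ↥C := by
    rw [Subgroup.orderOf_coe]
    exact orderOf_eq_card_of_forall_mem_zpowers ha
  have hN1 : Nat.card ↥C ≠ 1 := by
    intro h1
    apply hC1
    exact (Subgroup.card_eq_one).1 h1
  have hNpos : 0 < Nat.card ↥C := Nat.card_pos
  set N := Nat.card ↥C with hNdef
  set p := N.minFac with hpdef
  have hp : p.Prime := Nat.minFac_prime hN1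
  have hpN : p ∣ N := Nat.minFac_dvd N
  set x : G := (a : G) ^ (N / p) with hxdef
  have hdiv : N / p ∣ N := Nat.div_dvd_of_dvd hpN
  have hne : N / p ≠ 0 := by
    have := Nat.div_pos (Nat.le_of_dvd hNpos hpN) hp.pos
    omega
  have hx : orderOf x = p := by
    rw [hxdef, orderOf_pow_of_dvd hne (by rw [hN]; exact hdiv), hN]
    exact Nat.div_div_self hpN (by omega)
  have hconj : ∀ h : G, ∃ j : ℤ, h * x * h⁻¹ = x ^ j := by
    intro h
    have hmem : (⟨h * (a : G) * h⁻¹, hC.conj_mem a a.2 h⟩ : ↥C) ∈ Subgroup.zpowers a := ha _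
    obtain ⟨j, hj⟩ := Subgroup.mem_zpowers_iff.1 hmem
    have hj' : (a : G) ^ j = h * (a : G) * h⁻¹ := by
      have := congrArg (Subtype.val) hj
      simpa using this
    refine ⟨j, ?_⟩
    rw [hxdef, ← conj_pow, ← hj', ← zpow_natCast, ← zpow_natCast, ← zpow_mul, ← zpow_mul, mul_comm]
  refine ⟨x, by rw [hx]; exact hp, ?_⟩
  intro ω hω
  have hall : ∀ ω' : Ω, x • ω' = ω' := by
    intro ω'
    obtain ⟨h, rfl⟩ := MulAction.exists_smul_eq G ω ω'
    obtain ⟨j, hj⟩ := hconj h⁻¹
    have hxj : x ^ j • ω = ω := by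
      have : x ∈ MulAction.stabilizer G ω := hω
      exact (MulAction.stabilizer G ω).zpow_mem this j
    have : x * h = h * (h⁻¹ * x * h⁻¹⁻¹) := by group
    rw [← mul_smul, this, hj, mul_smul, hxj]
  have hx1 : x = 1 := by
    apply FaithfulSMul.eq_of_smul_eq_smul (α := Ω)
    intro ω'
    rw [hall ω', one_smul]
  rw [hx1, orderOf_one] at hx
  exact hp.ne_one hx.symm

end Cfsg.Agent.S3554
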