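import Cfsg.Statements.S3555
import Cfsg.Agent.Helper19.DerInv

set_option autoImplicit false
open Cfsg

namespace Cfsg.Agent.S3555

/-- Let G act faithfully and transitively on a finite set and suppose every element of G fixing no point is an involution. Then either G is an elementary abelian 2-group, or G is a Frobenius group whose Frobenius kernel is an elementary abelian 2-group: G has a Frobenius complement H, and the elements lying in no conjugate of H, together with the identity, pairwise commute and square to the identity. -/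
theorem result {G Ω : Type*} [Group G] [Finite G] [MulAction G Ω] [FaithfulSMul G Ω] [Finite Ω]
    (htrans : MulAction.IsPretransitive G Ω) (hinv : ∀ g : G, (∀ ω : Ω, g • ω ≠ ω) → orderOf g = 2) :
    (IsMulCommutative G ∧ ∀ g : G, g ^ 2 = 1) ∨
    (∃ H : Subgroup G, Cfsg.IsFrobeniusComplement H ∧
      (∀ x ∈ Cfsg.frobeniusKernel H, x ^ 2 = 1) ∧
      ∀ x ∈ Cfsg.frobeniusKernel H, ∀ y ∈ Cfsg.frobeniusKernel H, x * y = y * x) := by
  classical
  have hfG : Fintype G := Fintype.ofFinite G
  have hfΩ : Fintype Ω := Fintype.ofFinite Ω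
  by_cases hreg : ∀ g : G, g ≠ 1 → ∀ ω : Ω, g • ω ≠ ω
  · left
    have hsq : ∀ g : G, g ^ 2 = 1 := by
      intro g
      by_cases hg : g = 1
      · rw [hg, one_pow]
      · have h2 := hinv g (hreg g hg)
        rw [← h2]; exact pow_orderOf_eq_one g
    have hi : ∀ g : G, g⁻¹ = g := fun g =>
      inv_eq_of_mul_eq_one_left (by rw [← sq]; exact hsq g)
    refine ⟨⟨⟨fun a b => ?_⟩⟩, hsq⟩
    calc a * b = (a * b)⁻¹ := (hi _).symm
      _ = b⁻¹ * a⁻¹ := mul_inv_rev a b
      _ = b * a := by rw [hi a, hi b]
  · push Not at hreg
    obtain ⟨g0, hg0, α, hα⟩ := hreg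
    right
    have hne : Nonempty Ω := ⟨α⟩
    have hinv' : ∀ g : G, Cfsg.Agent.Helper19.fixCount Ω g = 0 → g * g = 1 := by
      intro g hg
      have h1 : ∀ ω : Ω, g • ω ≠ ω := by
        intro ω hω
        have hmem : ω ∈ Finset.univ.filter (fun ω : Ω => g • ω = ω) :=
          Finset.mem_filter.mpr ⟨Finset.mem_univ _, hω⟩
        unfold Cfsg.Agent.Helper19.fixCount at hg
        rw [Finset.card_eq_zero] at hg
        rw [hg] at hmem
        exact Finset.notMem_empty _ hmem
      have h2 := hinv g h1
      have h3 := pow_orderOf_eq_one g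
      rw [h2, sq] at h3; exact h3
    have htri := fun g => Cfsg.Agent.Helper19.fixCount_trichotomy htrans hinv' g
    have hfix2 : ∀ g : G, ∀ x y : Ω, x ≠ y → g • x = x → g • y = y → g = 1 := by
      intro g x y hxy hx hy
      have h2 : 2 ≤ Cfsg.Agent.Helper19.fixCount Ω g := by
        unfold Cfsg.Agent.Helper19.fixCount
        have hsub : ({x, y} : Finset Ω) ⊆ Finset.univ.filter (fun ω : Ω => g • ω = ω) := by
          intro z hz
          rw [Finset.mem_insert, Finset.mem_singleton] at hz
          rw [Finset.mem_filter]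
          rcases hz with rfl | rfl
          · exact ⟨Finset.mem_univ _, hx⟩
          · exact ⟨Finset.mem_univ _, hy⟩
        calc 2 = ({x, y} : Finset Ω).card := (Finset.card_pair hxy).symm
          _ ≤ _ := Finset.card_le_card hsub
      rcases htri g with h | h | h
      · omega
      · omega
      · apply FaithfulSMul.eq_of_smul_eq_smul (α := Ω)
        intro ω
        rw [one_smul]
        have huniv : Finset.univ.filter (fun ω : Ω => g • ω = ω) = Finset.univ :=
          Finset.eq_univ_of_card _ h
        have hmem : ω ∈ Finset.univ.filter (fun ω : Ω => g • ω = ω) := by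
          rw [huniv]; exact Finset.mem_univ _
        exact (Finset.mem_filter.mp hmem).2
    have hone : ∀ g : G, g ≠ 1 → ∀ x y : Ω, g • x = x → g • y = y → x = y := by
      intro g hg x y hx hy
      by_contra hxy
      exact hg (hfix2 g x y hxy hx hy)
    have hker : ∀ x ∈ Cfsg.frobeniusKernel (MulAction.stabilizer G α), x ≠ 1 →
        ∀ ω : Ω, x • ω ≠ ω := by
      intro x hx hx1 ω hω
      rcases hx with h | h
      · exact hx1 h
      · obtain ⟨g, rfl⟩ := MulAction.exists_smul_eq G α ω
        apply h g
        rw [Subgroup.mem_pointwise_smul_iff_inv_smul_mem]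
        have h6 : (g⁻¹ * x * g) • α = α := by
          rw [mul_smul, mul_smul, hω, inv_smul_smul]
        show ((MulAut.conj g)⁻¹ • x) • α = α
        simpa [MulAut.smul_def, MulAut.conj_inv_apply] using h6
    have hksq : ∀ x ∈ Cfsg.frobeniusKernel (MulAction.stabilizer G α), x * x = 1 := by
      intro x hx
      by_cases hx1 : x = 1
      · rw [hx1, one_mul]
      · have h1 := hinv x (hker x hx hx1)
        have h3 := pow_orderOf_eq_one x
        rw [h1, sq] at h3; exact h3
    refine ⟨MulAction.stabilizer G α, ⟨?_, ?_, ?_⟩, ?_, ?_⟩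
    · intro hbot
      have hmem : g0 ∈ MulAction.stabilizer G α := hα
      rw [hbot, Subgroup.mem_bot] at hmem
      exact hg0 hmem
    · intro htop
      apply hg0
      apply FaithfulSMul.eq_of_smul_eq_smul (α := Ω)
      intro ω
      obtain ⟨x, rfl⟩ := MulAction.exists_smul_eq G α ω
      have hx : x ∈ MulAction.stabilizer G α := htop ▸ Subgroup.mem_top x
      have hx' : x • α = α := hx
      rw [hx', one_smul]; exact hα
    · intro g hg
      rw [eq_bot_iff]
      intro x hx
      rw [Subgroup.mem_bot]
      obtain ⟨hx1, hx2⟩ := Subgroup.mem_inf.mp hx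
      have hx1' : x • α = α := hx1
      have hx2' : x • (g • α) = g • α := by
        rw [Subgroup.mem_pointwise_smul_iff_inv_smul_mem] at hx2
        have h5 : ((MulAut.conj g)⁻¹ • x) • α = α := hx2
        have h6 : (g⁻¹ * x * g) • α = α := by
          simpa [MulAut.smul_def, MulAut.conj_inv_apply] using h5
        rw [mul_smul, mul_smul, inv_smul_eq_iff] at h6
        exact h6
      by_contra hx1ne
      have h7 := hone x hx1ne α (g • α) hx1' hx2'
      exact hg (MulAction.mem_stabilizer_iff.mpr h7.symm)
    · intro x hx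
      rw [sq]; exact hksq x hx
    · intro x hx y hy
      by_cases hx1 : x = 1
      · rw [hx1, one_mul, mul_one]
      by_cases hy1 : y = 1
      · rw [hy1, one_mul, mul_one]
      by_cases hxy : x = y
      · rw [hxy]
      have hxx := hksq x hx
      have hyy := hksq y hy
      have hxi : x⁻¹ = x := inv_eq_of_mul_eq_one_left hxx
      have hyi : y⁻¹ = y := inv_eq_of_mul_eq_one_left hyy
      have hu1 : x * y ≠ 1 := by
        intro h
        apply hxy
        have h8 := eq_inv_of_mul_eq_one_left h
        rw [h8, hyi]
      have hder : ∀ ω : Ω, (x * y) • ω ≠ ω := by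
        intro γ hγ
        have h2 : (x * y) • (x • γ) = x • γ := by
          have h3 : (x * y)⁻¹ • γ = γ := by rw [inv_smul_eq_iff, hγ]
          rw [mul_inv_rev, hxi, hyi] at h3
          rw [mul_smul] at h3 ⊢
          rw [h3]
        have h4 := hone (x * y) hu1 γ (x • γ) hγ h2
        exact hker x hx hx1 γ h4.symm
      have h5 := hinv (x * y) hder
      have h6 := pow_orderOf_eq_one (x * y)
      rw [h5, sq] at h6
      calc x * y = (x * y)⁻¹ := (inv_eq_of_mul_eq_one_left h6).symm
        _ = y⁻¹ * x⁻¹ := mul_inv_rev x y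
        _ = y * x := by rw [hxi, hyi]

end Cfsg.Agent.S3555
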