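import Cfsg.Statements.S3669
import Cfsg.Agent.Helper19.Order60

set_option autoImplicit false
open Cfsg

namespace Cfsg.Agent.S3669

/-- The character degree graph of a finite group has as vertices the primes dividing some irreducible complex character degree, two distinct primes being joined when their product divides some irreducible character degree; two groups have the same character degree graph when they have the same vertices and the same joined pairs. A finite group of order 60 with the same character degree graph as the alternating group A₅ (whose character degrees are 1, 3, 4, 5, so the graph has vertices 2, 3, 5 and no edges) is isomorphic to A₅. -/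
theorem result {G : Type*} [Group G] [Finite G] (hcard : Nat.card G = 60)
    (hΓ : Cfsg.degreePrimes G = Cfsg.degreePrimes (alternatingGroup (Fin 5)) ∧ Cfsg.degreeGraph G = Cfsg.degreeGraph (alternatingGroup (Fin 5))) : Nonempty (G ≃* alternatingGroup (Fin 5)) := by
  classical
  by_cases hs : IsSimpleGroup G
  · exact Cfsg.Agent.S0494.result hcard
  · exfalso
    obtain ⟨χ5, h5, d5⟩ := Helper19.o60_exists_irr_dvd hΓ.1 5 (by norm_num) (by norm_num)
    obtain ⟨χ3, h3, d3⟩ := Helper19.o60_exists_irr_dvd hΓ.1 3 (by norm_num) (by norm_num)
    obtain ⟨χ2, h2, d2⟩ := Helper19.o60_exists_irr_dvd hΓ.1 2 (by norm_num) (by norm_num)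
    have ht1 : charDegree (fun _ : G => (1 : ℂ)) = 1 := Helper13.charDegree_of_eq (by simp)
    have hone := Helper2.isIrrCharacter_one_fun (G := G)
    have lt8 : ∀ χ : G → ℂ, IsIrrCharacter G χ → charDegree χ < 8 := by
      intro χ hχ
      have b := Helper19.o60_sq1 χ hχ
      rw [hcard] at b
      by_contra hc
      push Not at hc
      have := Nat.pow_le_pow_left hc 2
      omega
    have e5 : charDegree χ5 = 5 := by
      have := lt8 χ5 h5
      have := Helper24.irr_degree_pos h5
      omega
    have no6 : ∀ χ : G → ℂ, IsIrrCharacter G χ → charDegree χ ≠ 6 := by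
      intro χ hχ h6
      have := Helper19.o60_sq3 (fun _ => 1) χ5 χ hone h5 hχ (by rw [ht1, e5]; norm_num)
        (by rw [ht1, h6]; norm_num) (by rw [e5, h6]; norm_num)
      rw [ht1, e5, h6, hcard] at this
      norm_num at this
    have e3 : charDegree χ3 = 3 := by
      have := lt8 χ3 h3
      have := no6 χ3 h3
      have := Helper24.irr_degree_pos h3
      omega
    have e2 : charDegree χ2 = 2 ∨ charDegree χ2 = 4 := by
      have := lt8 χ2 h2
      have := no6 χ2 h2
      have := Helper24.irr_degree_pos h2
      omega
    have key : ∀ K : Subgroup G, K.Normal → K ≠ ⊥ → K ≠ ⊤ → Nat.card K = 2 := by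
      intro K hK hb ht
      haveI := hK
      exact Helper19.o60_normal_card_two hcard χ5 χ3 χ2 h5 h3 h2 e5 e3 e2 K hb ht
    obtain ⟨H, hHn, hb, ht⟩ : ∃ H : Subgroup G, H.Normal ∧ H ≠ ⊥ ∧ H ≠ ⊤ := by
      by_contra hno
      push Not at hno
      apply hs
      haveI : Nontrivial G := by
        rw [← Finite.one_lt_card_iff_nontrivial, hcard]
        norm_num
      exact ⟨fun H hH => or_iff_not_imp_left.mpr (hno H hH)⟩
    haveI := hHn
    have hH2 := key H hHn hb ht
    have hidx : H.index = 30 := by
      have := Subgroup.card_mul_index H
      rw [hcard, hH2] at this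
      omega
    haveI : Nontrivial (G ⧸ H) := by
      rw [← Finite.one_lt_card_iff_nontrivial, ← Subgroup.index_eq_card, hidx]
      norm_num
    haveI : IsSimpleGroup (G ⧸ H) := ⟨fun M hM => by
      by_contra hc
      push Not at hc
      have hcn : (M.comap (QuotientGroup.mk' H)).Normal := hM.comap _
      have hle : H ≤ M.comap (QuotientGroup.mk' H) := by
        have := MonoidHom.ker_le_comap (QuotientGroup.mk' H) M
        rwa [QuotientGroup.ker_mk'] at this
      have hb' : M.comap (QuotientGroup.mk' H) ≠ ⊥ := by
        intro h0
        rw [h0] at hle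
        exact hb (le_bot_iff.mp hle)
      have ht' : M.comap (QuotientGroup.mk' H) ≠ ⊤ := fun h0 =>
        hc.2 (Subgroup.comap_injective (QuotientGroup.mk'_surjective H)
          (h0.trans (Subgroup.comap_top _).symm))
      have h2' := key _ hcn hb' ht'
      have heq : H = M.comap (QuotientGroup.mk' H) :=
        Subgroup.eq_of_le_of_card_ge hle (by rw [h2', hH2])
      apply hc.1
      apply Subgroup.comap_injective (QuotientGroup.mk'_surjective H)
      rw [← heq, MonoidHom.comap_bot, QuotientGroup.ker_mk']⟩
    exact Helper19.o60_no_simple_30 (Q := G ⧸ H) (by rw [← Subgroup.index_eq_card, hidx])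

end Cfsg.Agent.S3669
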