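import Cfsg.Statements.S3808
-- import your own Cfsg.Agent.* helpers here
import Cfsg.Agent.Helper24.ExtraIndexP

set_option autoImplicit false
open Cfsg

namespace Cfsg.Agent.S3808

open Cfsg.Agent.Helper24

/-- Let S be a finite p-group with an extraspecial subgroup Q of index p. Then either Z(S) = Z(Q), or S = Q·Z(S) and Z(S) has order p². -/
theorem result {S : Type*} [Group S] [Finite S] (p : ℕ) [Fact p.Prime] (hS : IsPGroup p S) (Q : Subgroup S) (hQ : Cfsg.IsExtraspecial p ↥Q) (hQi : Q.index = p) :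
    Subgroup.center S = (Subgroup.center ↥Q).map Q.subtype ∨
      (Q ⊔ Subgroup.center S = ⊤ ∧ Nat.card (Subgroup.center S) = p ^ 2) := by
  classical
  have hpp : p.Prime := Fact.out
  haveI hQn : Q.Normal := normal_of_index_prime_of_isPGroup hS Q hQi
  obtain ⟨⟨hQp, hfr, hcomm⟩, hcardZ⟩ := hQ
  have hA : (Subgroup.center Q).map Q.subtype ≤ Subgroup.center S :=
    map_center_le_center hS Q hcardZ
  have hB : Subgroup.center S ⊓ Q ≤ (Subgroup.center Q).map Q.subtype := by
    intro z hz
    obtain ⟨hzc, hzQ⟩ := Subgroup.mem_inf.mp hz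
    refine Subgroup.mem_map.mpr ⟨⟨z, hzQ⟩, ?_, rfl⟩
    rw [Subgroup.mem_center_iff]
    intro g
    exact Subtype.ext (Subgroup.mem_center_iff.mp hzc g)
  by_cases hle : Subgroup.center S ≤ Q
  · left
    exact le_antisymm (fun z hz => hB (Subgroup.mem_inf.mpr ⟨hz, hle hz⟩)) hA
  · right
    obtain ⟨x, hxc, hxQ⟩ := SetLike.not_le_iff_exists.mp hle
    have hsup : Q ⊔ Subgroup.center S = ⊤ := by
      rw [eq_top_iff, ← closure_insert_eq_top Q hpp hQi hxQ, Subgroup.closure_le]
      intro y hy
      rcases Set.mem_insert_iff.mp hy with rfl | hyQ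
      · exact (le_sup_right : Subgroup.center S ≤ Q ⊔ Subgroup.center S) hxc
      · exact (le_sup_left : Q ≤ Q ⊔ Subgroup.center S) hyQ
    refine ⟨hsup, ?_⟩
    have hZeq : Q ⊓ Subgroup.center S = (Subgroup.center Q).map Q.subtype := by
      apply le_antisymm
      · rw [inf_comm]
        exact hB
      · exact le_inf (Subgroup.map_subtype_le _) hA
    have h1 := Subgroup.relIndex_mul_relIndex ⊥ (Q ⊓ Subgroup.center S) (Subgroup.center S)
      bot_le inf_le_right
    rw [Subgroup.relIndex_bot_left, Subgroup.relIndex_bot_left, Subgroup.inf_relIndex_right,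
      hZeq, Subgroup.card_subtype, hcardZ] at h1
    have h2 : Q.relIndex (Subgroup.center S) = p := by
      rw [← Subgroup.relIndex_sup_left, hsup, Subgroup.relIndex_top_right, hQi]
    rw [h2] at h1
    rw [← h1]
    ring

end Cfsg.Agent.S3808
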