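import Cfsg.Statements.S3809
-- import your own Cfsg.Agent.* helpers here
import Cfsg.Agent.Helper24.ExtraIndexP

set_option autoImplicit false
open Cfsg

namespace Cfsg.Agent.S3809

open Cfsg.Agent.Helper24

/-- Let S be a finite p-group with an extraspecial subgroup of index p. Then S has order p^(2+2n) for some n ≥ 1, derived length at most 3, and exponent dividing p³. -/
theorem result {S : Type*} [Group S] [Finite S] (p : ℕ) [Fact p.Prime] (hS : IsPGroup p S) (Q : Subgroup S) (hQ : Cfsg.IsExtraspecial p ↥Q) (hQi : Q.index = p) :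
    (∃ n : ℕ, 1 ≤ n ∧ Nat.card S = p ^ (2 + 2 * n)) ∧ derivedSeries S 3 = ⊥ ∧ ∀ x : S, x ^ (p ^ 3) = 1 := by
  classical
  have hpp : p.Prime := Fact.out
  haveI hQn : Q.Normal := normal_of_index_prime_of_isPGroup hS Q hQi
  obtain ⟨n, hn1, hn⟩ := extraspecial_card hQ
  obtain ⟨⟨hQp, hfr, hcomm⟩, hcardZ⟩ := hQ
  refine ⟨⟨n, hn1, ?_⟩, ?_, ?_⟩
  · rw [← Subgroup.card_mul_index Q, hn, hQi]
    ring
  · have h1 : derivedSeries S 1 ≤ Q := by
      rw [derivedSeries_succ, derivedSeries_zero, ← commutator_def]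
      exact commutator_le_of_index_prime Q hQi
    have h2 : derivedSeries S 2 ≤ (Subgroup.center Q).map Q.subtype := by
      rw [derivedSeries_succ, ← hcomm, Subgroup.map_subtype_commutator]
      exact Subgroup.commutator_mono h1 h1
    rw [derivedSeries_succ, eq_bot_iff]
    refine (Subgroup.commutator_mono h2 h2).trans ?_
    rw [le_bot_iff, Subgroup.commutator_eq_bot_iff_le_centralizer]
    intro z hz
    rw [Subgroup.mem_centralizer_iff]
    intro w hw
    obtain ⟨z', hz', rfl⟩ := hz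
    obtain ⟨w', hw', rfl⟩ := hw
    have h3 := Subgroup.mem_center_iff.mp hz' w'
    exact congrArg Subtype.val h3
  · intro x
    have hxQ : x ^ p ∈ Q := pow_mem_of_index_prime Q hQi x
    have h1 : (⟨x ^ p, hxQ⟩ : Q) ^ p ∈ Subgroup.center Q := by
      rw [← hfr]
      exact Cfsg.Agent.Lead.pow_mem_frattini hQp _
    have h2 : ((⟨x ^ p, hxQ⟩ : Q) ^ p) ^ p = 1 := by
      have h3 : (⟨(⟨x ^ p, hxQ⟩ : Q) ^ p, h1⟩ : Subgroup.center Q) ^
          Nat.card (Subgroup.center Q) = 1 := pow_card_eq_one'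
      rw [hcardZ] at h3
      exact congrArg Subtype.val h3
    have h4 := congrArg Subtype.val h2
    have h5 : p ^ 3 = p * p * p := by ring
    rw [h5, pow_mul, pow_mul]
    simpa using h4

end Cfsg.Agent.S3809
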