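import Cfsg.Statements.S3810
-- import your own Cfsg.Agent.* helpers here
import Cfsg.Agent.Helper24.ExtraIndexP

set_option autoImplicit false
open Cfsg

namespace Cfsg.Agent.S3810

open Cfsg.Agent.Helper24

/-- Let S be a finite p-group with an extraspecial subgroup of index p. Then S has an abelian subgroup of index p if and only if S has order p⁴. -/
theorem result {S : Type*} [Group S] [Finite S] (p : ℕ) [Fact p.Prime] (hS : IsPGroup p S) (Q : Subgroup S) (hQ : Cfsg.IsExtraspecial p ↥Q) (hQi : Q.index = p) :
    (∃ A : Subgroup S, IsMulCommutative ↥A ∧ A.index = p) ↔ Nat.card S = p ^ 4 := by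
  classical
  have hpp : p.Prime := Fact.out
  constructor
  · rintro ⟨A, hAc, hAi⟩
    haveI hAn : A.Normal := normal_of_index_prime_of_isPGroup hS A hAi
    obtain ⟨n, hn1, hn⟩ := extraspecial_card hQ
    have := Fintype.ofFinite Q
    have hQc : commutator Q ≠ ⊥ := by
      obtain ⟨⟨hQp, hfr, hcomm⟩, hcardZ⟩ := hQ
      intro hb
      rw [hcomm] at hb
      rw [hb, Subgroup.card_bot] at hcardZ
      exact hpp.one_lt.ne hcardZ
    obtain ⟨f, hf1⟩ := exists_nonlinear_irr hQc
    have hfdeg := extraspecial_irr_degree p n hQ hn f.2 hf1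
    have hcd : Cfsg.charDegree (f : Q → ℂ) = p ^ n := by
      have h1 := charDegree_spec (isCharacter_of_irr f.2)
      rw [hfdeg] at h1
      exact_mod_cast h1.symm
    have hBcomm : ∀ a b : A.subgroupOf Q, a * b = b * a := by
      intro a b
      have h1 := hAc.is_comm.comm ⟨((a : Q) : S), Subgroup.mem_subgroupOf.mp a.2⟩
        ⟨((b : Q) : S), Subgroup.mem_subgroupOf.mp b.2⟩
      apply Subtype.ext
      apply Subtype.ext
      have h2 : ((a : Q) : S) * ((b : Q) : S) = ((b : Q) : S) * ((a : Q) : S) :=
        congrArg Subtype.val h1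
      exact h2
    have hle := charDegree_le_index_of_comm (A.subgroupOf Q) hBcomm f.2
    rw [hcd] at hle
    have hdvd : (A.subgroupOf Q).index ∣ p := by
      have h2 := Subgroup.relIndex_dvd_index_of_normal A Q
      rwa [hAi] at h2
    have hle2 : (A.subgroupOf Q).index ≤ p := Nat.le_of_dvd hpp.pos hdvd
    have hn' : n = 1 := by
      have h3 : p ^ n ≤ p ^ 1 := by
        rw [pow_one]
        exact hle.trans hle2
      have h4 := (Nat.pow_le_pow_iff_right hpp.one_lt).mp h3
      omega
    rw [← Subgroup.card_mul_index Q, hn, hQi, hn']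
    ring
  · intro hcard
    exact exists_abelian_index_p_of_card_p4 p hcard

end Cfsg.Agent.S3810
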