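import Cfsg.Statements.S3811
import Mathlib
import Cfsg.Agent.Helper20.Conj
import Cfsg.Agent.Helper20.SylowAux
import Cfsg.Agent.S0065

set_option autoImplicit false
open Cfsg
set_option maxHeartbeats 1000000

namespace Cfsg.Agent.S3811

open Cfsg.Agent.Helper20

universe u

structure Soft {G : Type*} [Group G] (p : ℕ) (A : Subgroup G) : Prop where
  comm : ∀ a ∈ A, ∀ b ∈ A, a * b = b * a
  cent : Subgroup.centralizer (A : Set G) ≤ A
  idx : A.relIndex (Subgroup.normalizer (A : Set G)) = p

theorem eq_or_eq_of_relIndex_prime {G : Type*} [Group G] {p : ℕ} (hp : p.Prime)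
    {A M N : Subgroup G} (hAM : A ≤ M) (hMN : M ≤ N) (hidx : A.relIndex N = p) :
    M = A ∨ M = N := by
  have h := Subgroup.relIndex_mul_relIndex A M N hAM hMN
  rw [hidx] at h
  have hd : A.relIndex M ∣ p := ⟨_, h.symm⟩
  rcases (Nat.dvd_prime hp).mp hd with h1 | h1
  · left
    exact le_antisymm (Subgroup.relIndex_eq_one.mp h1) hAM
  · right
    rw [h1] at h
    have h2 : M.relIndex N = 1 := Nat.eq_of_mul_eq_mul_left hp.pos (h.trans (mul_one p).symm)
    exact le_antisymm hMN (Subgroup.relIndex_eq_one.mp h2)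

theorem exists_normalizer_not_mem {G : Type*} [Group G] [Finite G] {p : ℕ} [Fact p.Prime]
    (hG : IsPGroup p G) {H K : Subgroup G} (hHK : H ≤ K) (hne : H ≠ K) :
    ∃ k ∈ K, k ∉ H ∧ k ∈ Subgroup.normalizer (H : Set G) := by
  haveI : Group.IsNilpotent ↥K := (hG.to_subgroup K).isNilpotent
  have hlt : H.subgroupOf K < ⊤ := by
    rw [lt_top_iff_ne_top]
    intro h
    rw [Subgroup.subgroupOf_eq_top] at h
    exact hne (le_antisymm hHK h)
  have hnc := Group.normalizerCondition_of_isNilpotent (G := ↥K) (H.subgroupOf K) hlt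
  obtain ⟨y, hyN, hyT⟩ := SetLike.exists_of_lt hnc
  refine ⟨(y : G), y.2, ?_, ?_⟩
  · intro h
    exact hyT (by rw [Subgroup.mem_subgroupOf]; exact h)
  · rw [Subgroup.mem_normalizer_iff]
    intro t
    have hy' := Subgroup.mem_normalizer_iff.mp hyN
    constructor
    · intro ht
      have h3 := (hy' ⟨t, hHK ht⟩).mp (by rw [Subgroup.mem_subgroupOf]; exact ht)
      rw [Subgroup.mem_subgroupOf] at h3
      exact h3
    · intro ht
      have htK : t ∈ K := by
        have e : t = (y : G)⁻¹ * ((y : G) * t * (y : G)⁻¹) * (y : G) := by group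
        rw [e]
        exact K.mul_mem (K.mul_mem (K.inv_mem y.2) (hHK ht)) y.2
      have h3 := (hy' ⟨t, htK⟩).mpr (by rw [Subgroup.mem_subgroupOf]; exact ht)
      rw [Subgroup.mem_subgroupOf] at h3
      exact h3

theorem normalizer_le_of_ne {G : Type*} [Group G] [Finite G] {p : ℕ} [Fact p.Prime]
    (hG : IsPGroup p G) {A K : Subgroup G} (hA : Soft p A) (hAK : A ≤ K) (hne : K ≠ A) :
    Subgroup.normalizer (A : Set G) ≤ K := by
  obtain ⟨k, hkK, hkA, hkN⟩ := exists_normalizer_not_mem hG hAK (Ne.symm hne)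
  have hp : p.Prime := Fact.out
  have h1 : A ≤ K ⊓ Subgroup.normalizer (A : Set G) := le_inf hAK Subgroup.le_normalizer
  rcases eq_or_eq_of_relIndex_prime hp h1 inf_le_right hA.idx with h | h
  · exfalso
    apply hkA
    have h2 : k ∈ K ⊓ Subgroup.normalizer (A : Set G) := Subgroup.mem_inf.mpr ⟨hkK, hkN⟩
    rw [h] at h2
    exact h2
  · exact h.ge.trans inf_le_left

theorem center_le_of_soft {G : Type*} [Group G] {p : ℕ} {A : Subgroup G} (hA : Soft p A) :
    Subgroup.center G ≤ A :=
  (Subgroup.center_le_centralizer _).trans hA.cent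

theorem nontrivial_of_ne_top {G : Type*} [Group G] {K : Subgroup G} (hK : K ≠ ⊤) :
    Nontrivial G := by
  by_contra h
  rw [not_nontrivial_iff_subsingleton] at h
  haveI : Subsingleton G := h
  apply hK
  rw [eq_top_iff]
  intro x _
  have hx : x = 1 := Subsingleton.elim _ _
  rw [hx]
  exact K.one_mem

theorem card_of_mem_iff {G : Type*} [Group G] (s : Finset G) (H : Subgroup G)
    (h : ∀ g, g ∈ s ↔ g ∈ H) : s.card = Nat.card H := by
  rw [← Nat.card_eq_finsetCard]
  exact Nat.card_congr (Equiv.subtypeEquivRight h)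

theorem card_quot_lt {G : Type*} [Group G] [Finite G] (Z : Subgroup G) [Z.Normal] (hZ : Z ≠ ⊥) :
    Nat.card (G ⧸ Z) < Nat.card G := by
  have h1 := Subgroup.card_eq_card_quotient_mul_card_subgroup Z
  have h2 : 1 < Nat.card Z := by
    haveI : Nontrivial Z := (Subgroup.nontrivial_iff_ne_bot _).mpr hZ
    exact Finite.one_lt_card
  have h3 : 0 < Nat.card (G ⧸ Z) := Nat.card_pos
  rw [h1]
  nlinarith

theorem lemB {G : Type*} [Group G] [Finite G] {p : ℕ} [Fact p.Prime] (hG : IsPGroup p G)
    {A : Subgroup G} (hA : Soft p A) (hne : Subgroup.normalizer (A : Set G) ≠ ⊤) :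
    (Subgroup.normalizer (A : Set G)).relIndex
      (Subgroup.normalizer ((Subgroup.normalizer (A : Set G) : Subgroup G) : Set G)) = p := by
  classical
  haveI := Fintype.ofFinite G
  have hp : p.Prime := Fact.out
  obtain ⟨N1, hN1⟩ : ∃ N1 : Subgroup G, N1 = Subgroup.normalizer (A : Set G) := ⟨_, rfl⟩
  rw [← hN1]
  rw [← hN1] at hne
  have hidx : A.relIndex N1 = p := by rw [hN1]; exact hA.idx
  have hAN1 : A ≤ N1 := by rw [hN1]; exact Subgroup.le_normalizer
  obtain ⟨N2, hN2⟩ : ∃ N2 : Subgroup G, N2 = Subgroup.normalizer (N1 : Set G) := ⟨_, rfl⟩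
  rw [← hN2]
  have hN12 : N1 ≤ N2 := by rw [hN2]; exact Subgroup.le_normalizer
  have hN2conj : ∀ g ∈ N2, ∀ y, y ∈ N1 ↔ g⁻¹ * y * g ∈ N1 := by
    intro g hg y
    rw [hN2] at hg
    exact (Subgroup.mem_normalizer_iff''.mp hg) y
  have hN2conj' : ∀ g ∈ N2, ∀ y, y ∈ N1 ↔ g * y * g⁻¹ ∈ N1 := by
    intro g hg y
    rw [hN2] at hg
    exact (Subgroup.mem_normalizer_iff.mp hg) y
  obtain ⟨Z, hZ⟩ : ∃ Z : Subgroup G, Z = N1 ⊓ Subgroup.centralizer (N1 : Set G) := ⟨_, rfl⟩
  have hZmem : ∀ z, z ∈ Z ↔ z ∈ N1 ∧ ∀ n ∈ N1, n * z = z * n := by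
    intro z
    constructor
    · intro hz
      rw [hZ, Subgroup.mem_inf] at hz
      exact ⟨hz.1, fun n hn => (Subgroup.mem_centralizer_iff.mp hz.2) n hn⟩
    · rintro ⟨h1, h2⟩
      rw [hZ, Subgroup.mem_inf]
      exact ⟨h1, Subgroup.mem_centralizer_iff.mpr fun n hn => h2 n hn⟩
  have hZA : Z ≤ A := by
    intro z hz
    apply hA.cent
    rw [Subgroup.mem_centralizer_iff]
    intro a ha
    exact ((hZmem z).mp hz).2 a (hAN1 ha)
  have hZN1 : Z ≤ N1 := fun z hz => ((hZmem z).mp hz).1
  have hZinv : ∀ g ∈ N2, ∀ z ∈ Z, g⁻¹ * z * g ∈ Z := by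
    intro g hg z hz
    obtain ⟨hz1, hz2⟩ := (hZmem z).mp hz
    rw [hZmem]
    refine ⟨(hN2conj g hg z).mp hz1, ?_⟩
    intro n hn
    have hn' : g * n * g⁻¹ ∈ N1 := (hN2conj' g hg n).mp hn
    have h := hz2 _ hn'
    calc n * (g⁻¹ * z * g) = g⁻¹ * ((g * n * g⁻¹) * z) * g := by group
      _ = g⁻¹ * (z * (g * n * g⁻¹)) * g := by rw [h]
      _ = (g⁻¹ * z * g) * n := by group
  have hkey : ∀ u ∈ N2, u ∉ N1 → ∀ y ∈ A, u⁻¹ * y * u ∈ A → y ∈ Z := by
    intro u hu hu1 y hy hy'
    obtain ⟨B, hB⟩ : ∃ B : Subgroup G, B = A.map (MulAut.conj u).toMonoidHom := ⟨_, rfl⟩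
    have hBmem : ∀ b, b ∈ B ↔ u⁻¹ * b * u ∈ A := by
      intro b; rw [hB]; exact mem_map_conj A u b
    have hBN1 : B ≤ N1 := by
      intro b hb
      rw [hN2conj u hu b]
      exact hAN1 ((hBmem b).mp hb)
    have hBcomm : ∀ b ∈ B, ∀ c ∈ B, b * c = c * b := by
      intro b hb c hc
      have h := hA.comm _ ((hBmem b).mp hb) _ ((hBmem c).mp hc)
      calc b * c = u * ((u⁻¹ * b * u) * (u⁻¹ * c * u)) * u⁻¹ := by group
        _ = u * ((u⁻¹ * c * u) * (u⁻¹ * b * u)) * u⁻¹ := by rw [h]
        _ = c * b := by group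
    have hcardB : Nat.card B = Nat.card A := by rw [hB]; exact card_map_conj A u
    have hBne : ¬ B ≤ A := by
      intro hBA
      apply hu1
      rw [hN1]
      apply mem_normalizer_of_map_conj_eq
      rw [← hB]
      exact Subgroup.eq_of_le_of_card_ge hBA hcardB.ge
    have hsup : A ⊔ B = N1 := by
      rcases eq_or_eq_of_relIndex_prime hp (le_sup_left : A ≤ A ⊔ B) (sup_le hAN1 hBN1) hidx
        with h | h
      · exfalso
        have h2 : B ≤ A ⊔ B := le_sup_right
        rw [h] at h2
        exact hBne h2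
      · exact h
    rw [hZmem]
    refine ⟨hAN1 hy, ?_⟩
    have hyB : y ∈ B := (hBmem y).mpr hy'
    have hcent : A ⊔ B ≤ Subgroup.centralizer {y} := by
      apply sup_le
      · intro a ha
        rw [Subgroup.mem_centralizer_iff]
        intro h hh
        rw [Set.mem_singleton_iff] at hh
        rw [hh]
        exact hA.comm y hy a ha
      · intro b hb
        rw [Subgroup.mem_centralizer_iff]
        intro h hh
        rw [Set.mem_singleton_iff] at hh
        rw [hh]
        exact hBcomm y hyB b hb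
    intro n hn
    rw [← hsup] at hn
    have h := Subgroup.mem_centralizer_iff.mp (hcent hn) y (Set.mem_singleton y)
    exact h.symm
  obtain ⟨x, -, hx1, hx2⟩ := exists_normalizer_not_mem hG (le_top : N1 ≤ ⊤) hne
  rw [← hN2] at hx2
  obtain ⟨B, hB⟩ : ∃ B : Subgroup G, B = A.map (MulAut.conj x).toMonoidHom := ⟨_, rfl⟩
  have hBmem : ∀ b, b ∈ B ↔ x⁻¹ * b * x ∈ A := by
    intro b; rw [hB]; exact mem_map_conj A x b
  have hBN1 : B ≤ N1 := by
    intro b hb
    rw [hN2conj x hx2 b]
    exact hAN1 ((hBmem b).mp hb)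
  have hABZ : A ⊓ B ≤ Z := by
    intro y hy
    rw [Subgroup.mem_inf] at hy
    exact hkey x hx2 hx1 y hy.1 ((hBmem y).mp hy.2)
  have hcardB : Nat.card B = Nat.card A := by rw [hB]; exact card_map_conj A x
  have hBidx : B.relIndex N1 = p := by
    have h1 := card_mul_relIndex_of_le hBN1
    have h2 := card_mul_relIndex_of_le hAN1
    rw [hidx] at h2
    rw [hcardB, ← h2] at h1
    have hpos : 0 < Nat.card A := Nat.card_pos
    exact Nat.eq_of_mul_eq_mul_left hpos h1
  have hZidx : Z.relIndex N1 ≤ p * p := by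
    have h1 : (A ⊓ B).relIndex N1 ≤ A.relIndex N1 * B.relIndex N1 := Subgroup.relIndex_inf_le
    rw [hidx, hBidx] at h1
    have h2 : Z.relIndex N1 ≤ (A ⊓ B).relIndex N1 := by
      apply Subgroup.relIndex_le_of_le_left hABZ
      show ((A ⊓ B).subgroupOf N1).index ≠ 0
      exact Subgroup.index_ne_zero_of_finite
    exact h2.trans h1
  have hexa : ∃ a ∈ A, a ∉ Z := by
    by_contra hcon
    push Not at hcon
    apply hx1
    rw [hN1]
    apply mem_normalizer_of_map_conj_eq
    rw [← hB]
    have hBA : B ≤ A := by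
      intro b hb
      have h1 : x⁻¹ * b * x ∈ Z := hcon _ ((hBmem b).mp hb)
      have h2 := hZinv x⁻¹ (N2.inv_mem hx2) _ h1
      have e : x⁻¹⁻¹ * (x⁻¹ * b * x) * x⁻¹ = b := by group
      rw [e] at h2
      exact hZA h2
    exact Subgroup.eq_of_le_of_card_ge hBA hcardB.ge
  obtain ⟨a, haA, haZ⟩ := hexa
  have hfib : ∀ g ∈ N2, ∀ h ∈ N2, ∀ z ∈ Z, ∀ z' ∈ Z,
      g * a * g⁻¹ * z = h * a * h⁻¹ * z' → g⁻¹ * h ∈ N1 := by
    intro g hg h hh z hz z' hz' heq
    by_contra hcon
    apply haZ
    have hu : g⁻¹ * h ∈ N2 := N2.mul_mem (N2.inv_mem hg) hh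
    apply hkey (g⁻¹ * h) hu hcon a haA
    have e : (g⁻¹ * h)⁻¹ * a * (g⁻¹ * h) = a * (h⁻¹ * (z' * z⁻¹) * h) := by
      have e1 : g * a * g⁻¹ = h * a * h⁻¹ * z' * z⁻¹ := by
        rw [← heq]; group
      calc (g⁻¹ * h)⁻¹ * a * (g⁻¹ * h) = h⁻¹ * (g * a * g⁻¹) * h := by group
        _ = h⁻¹ * (h * a * h⁻¹ * z' * z⁻¹) * h := by rw [e1]
        _ = a * (h⁻¹ * (z' * z⁻¹) * h) := by group
    rw [e]
    exact A.mul_mem haA (hZA (hZinv h hh _ (Z.mul_mem hz' (Z.inv_mem hz))))
  obtain ⟨N2f, hN2f⟩ : ∃ s : Finset G, ∀ g, g ∈ s ↔ g ∈ N2 :=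
    ⟨Finset.univ.filter (· ∈ N2), fun g => by simp⟩
  obtain ⟨N1f, hN1f⟩ : ∃ s : Finset G, ∀ g, g ∈ s ↔ g ∈ N1 :=
    ⟨Finset.univ.filter (· ∈ N1), fun g => by simp⟩
  obtain ⟨Zf, hZf⟩ : ∃ s : Finset G, ∀ g, g ∈ s ↔ g ∈ Z :=
    ⟨Finset.univ.filter (· ∈ Z), fun g => by simp⟩
  have hcN2 : N2f.card = Nat.card N2 := card_of_mem_iff N2f N2 hN2f
  have hcN1 : N1f.card = Nat.card N1 := card_of_mem_iff N1f N1 hN1f
  have hcZ : Zf.card = Nat.card Z := card_of_mem_iff Zf Z hZf
  have hZsub : Zf ⊆ N1f := by
    intro z hz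
    rw [hN1f]
    rw [hZf] at hz
    exact hZN1 hz
  have hmaps : ∀ q ∈ N2f ×ˢ Zf, q.1 * a * q.1⁻¹ * q.2 ∈ N1f \ Zf := by
    intro q hq
    rw [Finset.mem_product, hN2f, hZf] at hq
    rw [Finset.mem_sdiff, hN1f, hZf]
    have h1 : q.1 * a * q.1⁻¹ ∈ N1 := (hN2conj' q.1 hq.1 a).mp (hAN1 haA)
    refine ⟨N1.mul_mem h1 (hZN1 hq.2), ?_⟩
    intro hcon
    apply haZ
    have h2 : q.1 * a * q.1⁻¹ ∈ Z := by
      have e : q.1 * a * q.1⁻¹ = (q.1 * a * q.1⁻¹ * q.2) * q.2⁻¹ := by group
      rw [e]
      exact Z.mul_mem hcon (Z.inv_mem hq.2)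
    have h3 := hZinv q.1 hq.1 _ h2
    have e : q.1⁻¹ * (q.1 * a * q.1⁻¹) * q.1 = a := by group
    rw [e] at h3
    exact h3
  have hcount := Finset.card_le_mul_card_image_of_maps_to
    (f := fun q : G × G => q.1 * a * q.1⁻¹ * q.2)
    (s := N2f ×ˢ Zf) (t := N1f \ Zf) hmaps (Nat.card N1) (by
      intro b _
      by_cases hne' : ∃ q0 ∈ N2f ×ˢ Zf, q0.1 * a * q0.1⁻¹ * q0.2 = b
      · obtain ⟨q0, hq0m, hq0e⟩ := hne'
        rw [Finset.mem_product, hN2f, hZf] at hq0m
        rw [← hcN1]
        apply Finset.card_le_card_of_injOn (fun q : G × G => q0.1⁻¹ * q.1)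
        · intro q hq
          rw [Finset.mem_coe, Finset.mem_filter, Finset.mem_product, hN2f, hZf] at hq
          rw [Finset.mem_coe, hN1f]
          exact hfib q0.1 hq0m.1 q.1 hq.1.1 q0.2 hq0m.2 q.2 hq.1.2 (hq0e.trans hq.2.symm)
        · intro q hq q' hq' heq
          rw [Finset.mem_coe, Finset.mem_filter, Finset.mem_product, hN2f, hZf] at hq hq'
          have h1 : q.1 = q'.1 := by
            have h0 : q0.1⁻¹ * q.1 = q0.1⁻¹ * q'.1 := heq
            exact mul_left_cancel h0
          have h2 : q.2 = q'.2 := by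
            have h3 : q.1 * a * q.1⁻¹ * q.2 = q'.1 * a * q'.1⁻¹ * q'.2 := hq.2.trans hq'.2.symm
            rw [← h1] at h3
            exact mul_left_cancel h3
          exact Prod.ext h1 h2
      · have hempty : ∀ q ∈ N2f ×ˢ Zf, ¬ (q.1 * a * q.1⁻¹ * q.2 = b) := by
          intro q hq h
          exact hne' ⟨q, hq, h⟩
        refine le_trans (le_of_eq ?_) (Nat.zero_le _)
        rw [Finset.card_eq_zero]
        exact Finset.filter_false_of_mem hempty)
  rw [Finset.card_product, Finset.card_sdiff_of_subset hZsub, hcN2, hcZ, hcN1] at hcount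
  have hm := card_mul_relIndex_of_le hN12
  have hz := card_mul_relIndex_of_le hZN1
  obtain ⟨nn, hnn⟩ := (hG.to_subgroup N2).index (N1.subgroupOf N2)
  have hmp : N1.relIndex N2 = p ^ nn := hnn
  have hczpos : 0 < Nat.card Z := Nat.card_pos
  have hN1pos : 0 < Nat.card N1 := Nat.card_pos
  have hN2pos : 0 < Nat.card N2 := Nat.card_pos
  have hmpos : 0 < N1.relIndex N2 := by
    apply Nat.pos_of_ne_zero
    intro h
    rw [h, mul_zero] at hm
    omega
  rw [← hm] at hcount
  have h2 : N1.relIndex N2 * Nat.card Z ≤ Nat.card N1 - Nat.card Z :=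
    Nat.le_of_mul_le_mul_left (by rw [← mul_assoc]; exact hcount) hN1pos
  have hX : 0 < N1.relIndex N2 * Nat.card Z := Nat.mul_pos hmpos hczpos
  have h3 : N1.relIndex N2 * Nat.card Z + Nat.card Z ≤ Nat.card N1 := by omega
  rw [← hz] at h3
  have h4 : Nat.card Z * (N1.relIndex N2 + 1) ≤ Nat.card Z * Z.relIndex N1 := by
    rw [mul_add, mul_one, mul_comm (Nat.card Z) (N1.relIndex N2)]
    exact h3
  have h5 : N1.relIndex N2 + 1 ≤ Z.relIndex N1 := Nat.le_of_mul_le_mul_left h4 hczpos
  have h6 : N1.relIndex N2 < p * p := by omega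
  have hmne1 : N1.relIndex N2 ≠ 1 := by
    intro h
    exact hx1 (Subgroup.relIndex_eq_one.mp h hx2)
  rw [hmp] at h6 hmne1 ⊢
  have hnn1 : nn = 1 := by
    have h7 : nn < 2 := by
      have h6' : p ^ nn < p ^ 2 := by rw [pow_two]; exact h6
      exact (Nat.pow_lt_pow_iff_right hp.one_lt).mp h6'
    have h8 : nn ≠ 0 := by
      intro h0
      apply hmne1
      rw [h0, pow_zero]
    omega
  rw [hnn1, pow_one]

theorem relIndex_normalizer_map {G H : Type*} [Group G] [Group H] (π : G →* H)
    (hπ : Function.Surjective π) (K : Subgroup G) (hker : π.ker ≤ K) :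
    (K.map π).relIndex (Subgroup.normalizer ((K.map π : Subgroup H) : Set H))
      = K.relIndex (Subgroup.normalizer (K : Set G)) := by
  have h1 : (K.map π).comap π = K := by
    rw [Subgroup.comap_map_eq]; exact sup_eq_left.mpr hker
  have h2 : (Subgroup.normalizer ((K.map π : Subgroup H) : Set H)).comap π
      = Subgroup.normalizer (K : Set G) := by
    rw [Subgroup.comap_normalizer_eq_of_surjective _ hπ, h1]
  have h3 := Subgroup.relIndex_comap (K.map π) π (Subgroup.normalizer (K : Set G))
  rw [h1] at h3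
  rw [h3, ← h2, Subgroup.map_comap_eq_self_of_surjective hπ]

theorem mem_normalizer_of_comm {G H : Type*} [Group G] [Group H] (π : G →* H) (A : Subgroup G)
    (hker : ∀ g, π g = 1 → g ∈ A) (g : G) (hg : ∀ a ∈ A, π a * π g = π g * π a) :
    g ∈ Subgroup.normalizer (A : Set G) := by
  rw [Subgroup.mem_normalizer_iff]
  intro h
  constructor
  · intro hh
    have h1 : π (g * h * g⁻¹ * h⁻¹) = 1 := by
      have h0 := hg h hh
      rw [map_mul, map_mul, map_mul, map_inv, map_inv, ← h0]
      group
    have e : g * h * g⁻¹ = (g * h * g⁻¹ * h⁻¹) * h := by group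
    rw [e]
    exact A.mul_mem (hker _ h1) hh
  · intro hh
    obtain ⟨k, hkdef⟩ : ∃ k, k = g * h * g⁻¹ := ⟨_, rfl⟩
    rw [← hkdef] at hh
    have hk := hg k hh
    have h1 : π (g⁻¹ * k * g * k⁻¹) = 1 := by
      rw [map_mul, map_mul, map_mul, map_inv, map_inv, mul_assoc (π g)⁻¹, hk]
      group
    have e : h = (g⁻¹ * k * g * k⁻¹) * k := by rw [hkdef]; group
    rw [e]
    exact A.mul_mem (hker _ h1) hh

theorem map_comm_of_sup {G H : Type*} [Group G] [Group H] (π : G →* H) (A N1 : Subgroup G)
    (x : G) (hN1 : N1 = A ⊔ Subgroup.zpowers x) (hA : ∀ a ∈ A, ∀ b ∈ A, a * b = b * a)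
    (hx : ∀ a ∈ A, π x * π a = π a * π x) :
    ∀ n ∈ N1, ∀ m ∈ N1, π n * π m = π m * π n := by
  have step : ∀ y : G, (∀ a ∈ A, π a * π y = π y * π a) → π x * π y = π y * π x →
      ∀ n ∈ N1, π n * π y = π y * π n := by
    intro y h1 h2 n hn
    have hle : A ⊔ Subgroup.zpowers x ≤ (Subgroup.centralizer {π y}).comap π := by
      apply sup_le
      · intro a ha
        rw [Subgroup.mem_comap, Subgroup.mem_centralizer_iff]
        intro h hh
        rw [Set.mem_singleton_iff] at hh
        rw [hh]
        exact (h1 a ha).symm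
      · rw [Subgroup.zpowers_le, Subgroup.mem_comap, Subgroup.mem_centralizer_iff]
        intro h hh
        rw [Set.mem_singleton_iff] at hh
        rw [hh]
        exact h2.symm
    rw [hN1] at hn
    have h3 := hle hn
    rw [Subgroup.mem_comap, Subgroup.mem_centralizer_iff] at h3
    exact (h3 (π y) (Set.mem_singleton _)).symm
  have hAN : ∀ a ∈ A, ∀ n ∈ N1, π n * π a = π a * π n := by
    intro a ha
    exact step a (fun b hb => by rw [← map_mul, ← map_mul, hA b hb a ha]) (hx a ha)
  have hxN : ∀ n ∈ N1, π n * π x = π x * π n :=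
    step x (fun a ha => (hx a ha).symm) rfl
  intro n hn m hm
  exact step m (fun a ha => (hAN a ha m hm).symm) ((hxN m hm).symm) n hn

theorem index_main {p : ℕ} [Fact p.Prime] : ∀ (n : ℕ) (G : Type u) [Group G] [Finite G],
    Nat.card G = n → IsPGroup p G → ∀ A : Subgroup G, Soft p A → ∀ K : Subgroup G, A ≤ K →
    K ≠ ⊤ → K.relIndex (Subgroup.normalizer (K : Set G)) = p := by
  intro n
  induction n using Nat.strong_induction_on with
  | _ n ih =>
    intro G _ _ hcard hG A hA K hAK hK
    have hp : p.Prime := Fact.out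
    by_cases hKA : K = A
    · rw [hKA]; exact hA.idx
    obtain ⟨N1, hN1⟩ : ∃ N1 : Subgroup G, N1 = Subgroup.normalizer (A : Set G) := ⟨_, rfl⟩
    have hN1K : N1 ≤ K := by rw [hN1]; exact normalizer_le_of_ne hG hA hAK hKA
    have hAN1 : A ≤ N1 := by rw [hN1]; exact Subgroup.le_normalizer
    have hidx : A.relIndex N1 = p := by rw [hN1]; exact hA.idx
    have hN1top : N1 ≠ ⊤ := by
      intro h
      apply hK
      rw [eq_top_iff, ← h]
      exact hN1K
    haveI : Nontrivial G := nontrivial_of_ne_top hK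
    obtain ⟨Zc, hZc⟩ : ∃ Zc : Subgroup G, Zc = Subgroup.center G := ⟨_, rfl⟩
    haveI hZcn : Zc.Normal := by rw [hZc]; infer_instance
    have hZcA : Zc ≤ A := by rw [hZc]; exact center_le_of_soft hA
    have hZcne : Zc ≠ ⊥ := by
      rw [hZc]
      haveI := hG.center_nontrivial
      exact (Subgroup.nontrivial_iff_ne_bot _).mp inferInstance
    have hcardlt : Nat.card (G ⧸ Zc) < n := by
      rw [← hcard]
      exact card_quot_lt Zc hZcne
    obtain ⟨π, hπ⟩ : ∃ π : G →* G ⧸ Zc, π = QuotientGroup.mk' Zc := ⟨_, rfl⟩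
    have hπsurj : Function.Surjective π := by rw [hπ]; exact QuotientGroup.mk'_surjective Zc
    have hker : π.ker = Zc := by rw [hπ]; exact QuotientGroup.ker_mk' Zc
    have hker1 : ∀ g, π g = 1 → g ∈ A := by
      intro g hg
      have h2 : g ∈ π.ker := MonoidHom.mem_ker.mpr hg
      rw [hker] at h2
      exact hZcA h2
    have hGq : IsPGroup p (G ⧸ Zc) := hG.to_quotient Zc
    obtain ⟨Cs, hCs⟩ : ∃ Cs : Subgroup G,
        Cs = (Subgroup.centralizer ((A.map π : Subgroup (G ⧸ Zc)) : Set (G ⧸ Zc))).comap π :=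
      ⟨_, rfl⟩
    have hCsmem : ∀ g, g ∈ Cs ↔ ∀ a ∈ A, π a * π g = π g * π a := by
      intro g
      rw [hCs, Subgroup.mem_comap, Subgroup.mem_centralizer_iff]
      constructor
      · intro h a ha
        exact h (π a) (Subgroup.mem_map_of_mem π ha)
      · intro h y hy
        obtain ⟨a, ha, rfl⟩ := hy
        exact h a ha
    have hACs : A ≤ Cs := by
      intro a ha
      rw [hCsmem]
      intro b hb
      rw [← map_mul, ← map_mul, hA.comm b hb a ha]
    have hCsN1 : Cs ≤ N1 := by
      intro g hg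
      rw [hN1]
      exact mem_normalizer_of_comm π A hker1 g ((hCsmem g).mp hg)
    have hkerK : π.ker ≤ K := hker.le.trans (hZcA.trans hAK)
    have hKmapne : K.map π ≠ ⊤ := by
      intro h
      apply hK
      have h1 : (K.map π).comap π = K := by
        rw [Subgroup.comap_map_eq]; exact sup_eq_left.mpr hkerK
      rw [← h1, h, Subgroup.comap_top]
    have hKtrans : (K.map π).relIndex
        (Subgroup.normalizer ((K.map π : Subgroup (G ⧸ Zc)) : Set (G ⧸ Zc)))
        = K.relIndex (Subgroup.normalizer (K : Set G)) :=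
      relIndex_normalizer_map π hπsurj K hkerK
    rw [← hKtrans]
    have hcentmap : Subgroup.centralizer ((A.map π : Subgroup (G ⧸ Zc)) : Set (G ⧸ Zc))
        = Cs.map π := by
      rw [hCs, Subgroup.map_comap_eq_self_of_surjective hπsurj]
    rcases eq_or_eq_of_relIndex_prime hp hACs hCsN1 hidx with hcase | hcase
    · have hsoft : Soft p (A.map π) := by
        refine ⟨?_, ?_, ?_⟩
        · rintro _ ⟨a, ha, rfl⟩ _ ⟨b, hb, rfl⟩
          rw [← map_mul, ← map_mul, hA.comm a ha b hb]
        · exact (hcentmap.trans (congrArg (Subgroup.map π) hcase)).le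
        · rw [relIndex_normalizer_map π hπsurj A (hker.le.trans hZcA)]
          exact hA.idx
      exact ih _ hcardlt (G ⧸ Zc) rfl hGq (A.map π) hsoft (K.map π) (Subgroup.map_mono hAK)
        hKmapne
    · have hexx : ∃ x ∈ N1, x ∉ A := by
        by_contra hcon
        push Not at hcon
        have h1 : A.relIndex N1 = 1 := Subgroup.relIndex_eq_one.mpr (fun y hy => hcon y hy)
        rw [hidx] at h1
        exact hp.one_lt.ne' h1
      obtain ⟨x, hxN1, hxA⟩ := hexx
      have hsupx : A ⊔ Subgroup.zpowers x = N1 := by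
        rcases eq_or_eq_of_relIndex_prime hp (le_sup_left : A ≤ A ⊔ Subgroup.zpowers x)
          (sup_le hAN1 (Subgroup.zpowers_le.mpr hxN1)) hidx with h | h
        · exfalso
          apply hxA
          have h2 : x ∈ A ⊔ Subgroup.zpowers x := Subgroup.mem_sup_right (Subgroup.mem_zpowers x)
          rw [h] at h2
          exact h2
        · exact h
      have hxcomm : ∀ a ∈ A, π x * π a = π a * π x := by
        intro a ha
        have h1 := (hCsmem x).mp (by rw [hcase]; exact hxN1) a ha
        exact h1.symm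
      have hNcomm := map_comm_of_sup π A N1 x hsupx.symm hA.comm hxcomm
      have hsoft : Soft p (N1.map π) := by
        refine ⟨?_, ?_, ?_⟩
        · rintro _ ⟨a, ha, rfl⟩ _ ⟨b, hb, rfl⟩
          exact hNcomm a ha b hb
        · have h1 : Subgroup.centralizer ((N1.map π : Subgroup (G ⧸ Zc)) : Set (G ⧸ Zc))
              ≤ Subgroup.centralizer ((A.map π : Subgroup (G ⧸ Zc)) : Set (G ⧸ Zc)) :=
            Subgroup.centralizer_le (SetLike.coe_subset_coe.mpr (Subgroup.map_mono hAN1))
          rw [hcentmap, hcase] at h1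
          exact h1
        · rw [relIndex_normalizer_map π hπsurj N1 (hker.le.trans (hZcA.trans hAN1)), hN1]
          exact lemB hG hA (by rw [← hN1]; exact hN1top)
      exact ih _ hcardlt (G ⧸ Zc) rfl hGq (N1.map π) hsoft (K.map π) (Subgroup.map_mono hN1K)
        hKmapne

theorem index_thm {G : Type u} [Group G] [Finite G] {p : ℕ} [Fact p.Prime] (hG : IsPGroup p G)
    {A : Subgroup G} (hA : Soft p A) {K : Subgroup G} (hAK : A ≤ K) (hK : K ≠ ⊤) :
    K.relIndex (Subgroup.normalizer (K : Set G)) = p :=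
  index_main (Nat.card G) G rfl hG A hA K hAK hK

theorem chain_thm {G : Type u} [Group G] [Finite G] {p : ℕ} [Fact p.Prime] (hG : IsPGroup p G)
    {A : Subgroup G} (hA : Soft p A) (K L : Subgroup G) (hAK : A ≤ K) (hAL : A ≤ L) :
    K ≤ L ∨ L ≤ K := by
  by_contra hcon
  rw [not_or] at hcon
  obtain ⟨hKL, hLK⟩ := hcon
  have hp : p.Prime := Fact.out
  obtain ⟨I, hI⟩ : ∃ I : Subgroup G, I = K ⊓ L := ⟨_, rfl⟩
  have hIK : I ≤ K := by rw [hI]; exact inf_le_left
  have hIL : I ≤ L := by rw [hI]; exact inf_le_right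
  have hAI : A ≤ I := by rw [hI]; exact le_inf hAK hAL
  have hIneK : I ≠ K := by
    intro h
    apply hKL
    rw [← h]
    exact hIL
  have hIneL : I ≠ L := by
    intro h
    apply hLK
    rw [← h]
    exact hIK
  have hItop : I ≠ ⊤ := by
    intro h
    apply hIneK
    apply le_antisymm hIK
    rw [h]
    exact le_top
  obtain ⟨k, hkK, hkI, hkN⟩ := exists_normalizer_not_mem hG hIK hIneK
  obtain ⟨l, hlL, hlI, hlN⟩ := exists_normalizer_not_mem hG hIL hIneL
  have hidx := index_thm hG hA hAI hItop
  have hsup : I ⊔ Subgroup.zpowers k = Subgroup.normalizer (I : Set G) := by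
    rcases eq_or_eq_of_relIndex_prime hp (le_sup_left : I ≤ I ⊔ Subgroup.zpowers k)
      (sup_le Subgroup.le_normalizer (Subgroup.zpowers_le.mpr hkN)) hidx with h | h
    · exfalso
      apply hkI
      have h2 : k ∈ I ⊔ Subgroup.zpowers k := Subgroup.mem_sup_right (Subgroup.mem_zpowers k)
      rw [h] at h2
      exact h2
    · exact h
  apply hlI
  rw [hI, Subgroup.mem_inf]
  refine ⟨?_, hlL⟩
  have h1 : I ⊔ Subgroup.zpowers k ≤ K := sup_le hIK (Subgroup.zpowers_le.mpr hkK)
  apply h1
  rw [hsup]
  exact hlN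

theorem class_zero {G : Type u} [Group G] [Finite G] {p : ℕ} [Fact p.Prime] (hG : IsPGroup p G)
    {A : Subgroup G} (hA : Soft p A) (hne : A ≠ ⊤) :
    A.lowerCentralSeries (0 + 1) = ⊥ ∧ A.lowerCentralSeries 0 ≠ ⊥ := by
  constructor
  · rw [Subgroup.lowerCentralSeries_succ, Subgroup.lowerCentralSeries_zero,
      Subgroup.commutator_eq_bot_iff_le_centralizer]
    intro a ha
    rw [Subgroup.mem_centralizer_iff]
    intro b hb
    exact hA.comm b hb a ha
  · rw [Subgroup.lowerCentralSeries_zero]
    intro h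
    haveI : Nontrivial G := nontrivial_of_ne_top hne
    haveI := hG.center_nontrivial
    have h1 : Subgroup.center G ≠ ⊥ := (Subgroup.nontrivial_iff_ne_bot _).mp inferInstance
    apply h1
    rw [eq_bot_iff, ← h]
    exact center_le_of_soft hA

theorem class_main {p : ℕ} [Fact p.Prime] : ∀ (n : ℕ) (G : Type u) [Group G] [Finite G],
    Nat.card G = n → IsPGroup p G → ∀ A : Subgroup G, Soft p A → ∀ (K : Subgroup G) (i : ℕ),
    A ≤ K → K ≠ ⊤ → Subgroup.normalizer (K : Set G) = ⊤ → K.index * p ^ i = A.index →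
    K.lowerCentralSeries (i + 1) = ⊥ ∧ K.lowerCentralSeries i ≠ ⊥ := by
  intro n
  induction n using Nat.strong_induction_on with
  | _ n ih =>
    intro G _ _ hcard hG A hA K i hAK hK hKnorm hindex
    have hp : p.Prime := Fact.out
    have hKidx0 : K.index ≠ 0 := Subgroup.index_ne_zero_of_finite
    cases i with
    | zero =>
      have hKA : K = A := by
        rw [pow_zero, mul_one] at hindex
        have h1 := Subgroup.relIndex_mul_index hAK
        rw [← hindex] at h1
        have h2 : A.relIndex K = 1 :=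
          Nat.eq_of_mul_eq_mul_right (Nat.pos_of_ne_zero hKidx0) (h1.trans (one_mul _).symm)
        exact le_antisymm (Subgroup.relIndex_eq_one.mp h2) hAK
      rw [hKA]
      exact class_zero hG hA (by rw [← hKA]; exact hK)
    | succ j =>
      have hKA : K ≠ A := by
        intro h
        rw [h] at hindex
        have hA0 : A.index ≠ 0 := Subgroup.index_ne_zero_of_finite
        have h1 : p ^ (j + 1) = 1 :=
          Nat.eq_of_mul_eq_mul_left (Nat.pos_of_ne_zero hA0) (hindex.trans (mul_one _).symm)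
        rw [Nat.pow_eq_one] at h1
        rcases h1 with h1 | h1
        · exact hp.one_lt.ne' h1
        · omega
      obtain ⟨N1, hN1⟩ : ∃ N1 : Subgroup G, N1 = Subgroup.normalizer (A : Set G) := ⟨_, rfl⟩
      have hN1K : N1 ≤ K := by rw [hN1]; exact normalizer_le_of_ne hG hA hAK hKA
      have hAN1 : A ≤ N1 := by rw [hN1]; exact Subgroup.le_normalizer
      have hidx : A.relIndex N1 = p := by rw [hN1]; exact hA.idx
      have hN1top : N1 ≠ ⊤ := by
        intro h
        apply hK
        rw [eq_top_iff, ← h]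
        exact hN1K
      haveI hKn : K.Normal := Subgroup.normalizer_eq_top_iff.mp hKnorm
      haveI : Nontrivial G := nontrivial_of_ne_top hK
      obtain ⟨Zk, hZk⟩ : ∃ Zk : Subgroup G, Zk = K ⊓ Subgroup.centralizer (K : Set G) :=
        ⟨_, rfl⟩
      have hZkmem : ∀ z, z ∈ Zk ↔ z ∈ K ∧ ∀ k ∈ K, k * z = z * k := by
        intro z
        constructor
        · intro hz
          rw [hZk, Subgroup.mem_inf] at hz
          exact ⟨hz.1, fun k hk => (Subgroup.mem_centralizer_iff.mp hz.2) k hk⟩
        · rintro ⟨h1, h2⟩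
          rw [hZk, Subgroup.mem_inf]
          exact ⟨h1, Subgroup.mem_centralizer_iff.mpr fun k hk => h2 k hk⟩
      haveI hZkn : Zk.Normal := by
        constructor
        intro z hz g
        obtain ⟨hz1, hz2⟩ := (hZkmem z).mp hz
        rw [hZkmem]
        refine ⟨hKn.conj_mem z hz1 g, ?_⟩
        intro k hk
        have hk' : g⁻¹ * k * g ∈ K := by
          have h0 := hKn.conj_mem k hk g⁻¹
          rw [inv_inv] at h0
          exact h0
        have h := hz2 _ hk'
        calc k * (g * z * g⁻¹) = g * ((g⁻¹ * k * g) * z) * g⁻¹ := by group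
          _ = g * (z * (g⁻¹ * k * g)) * g⁻¹ := by rw [h]
          _ = (g * z * g⁻¹) * k := by group
      have hZkA : Zk ≤ A := by
        intro z hz
        apply hA.cent
        rw [Subgroup.mem_centralizer_iff]
        intro a ha
        exact ((hZkmem z).mp hz).2 a (hAK ha)
      have hZkK : Zk ≤ K := fun z hz => ((hZkmem z).mp hz).1
      have hcenZk : Subgroup.center G ≤ Zk := by
        intro z hz
        rw [hZkmem]
        refine ⟨hAK (center_le_of_soft hA hz), ?_⟩
        intro k _
        exact Subgroup.mem_center_iff.mp hz k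
      have hZkne : Zk ≠ ⊥ := by
        intro h
        haveI := hG.center_nontrivial
        have h1 : Subgroup.center G ≠ ⊥ := (Subgroup.nontrivial_iff_ne_bot _).mp inferInstance
        apply h1
        rw [eq_bot_iff, ← h]
        exact hcenZk
      have hcardlt : Nat.card (G ⧸ Zk) < n := by
        rw [← hcard]
        exact card_quot_lt Zk hZkne
      obtain ⟨π, hπ⟩ : ∃ π : G →* G ⧸ Zk, π = QuotientGroup.mk' Zk := ⟨_, rfl⟩
      have hπsurj : Function.Surjective π := by rw [hπ]; exact QuotientGroup.mk'_surjective Zk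
      have hker : π.ker = Zk := by rw [hπ]; exact QuotientGroup.ker_mk' Zk
      have hkermem : ∀ g, π g = 1 ↔ g ∈ Zk := by
        intro g
        constructor
        · intro h
          have h2 : g ∈ π.ker := MonoidHom.mem_ker.mpr h
          rw [hker] at h2
          exact h2
        · intro h
          have h2 : g ∈ π.ker := by rw [hker]; exact h
          exact MonoidHom.mem_ker.mp h2
      have hker1 : ∀ g, π g = 1 → g ∈ A := fun g hg => hZkA ((hkermem g).mp hg)
      have hGq : IsPGroup p (G ⧸ Zk) := hG.to_quotient Zk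
      have hKidx : K.index = p := by
        have h := index_thm hG hA hAK hK
        rw [hKnorm, Subgroup.relIndex_top_right] at h
        exact h
      have hNC : ∀ y, (∀ g : G, ∀ a ∈ A, (g * a * g⁻¹) * y = y * (g * a * g⁻¹)) →
          ∀ k ∈ K, k * y = y * k := by
        intro y hy
        obtain ⟨NC, hNCdef⟩ : ∃ NC : Subgroup G, NC = Subgroup.normalClosure (A : Set G) :=
          ⟨_, rfl⟩
        haveI hNCn : NC.Normal := by rw [hNCdef]; exact Subgroup.normalClosure_normal
        have hANC : A ≤ NC := by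
          rw [hNCdef]
          exact SetLike.coe_subset_coe.mp Subgroup.subset_normalClosure
        have hNCK : NC ≤ K := by
          rw [hNCdef]
          exact Subgroup.normalClosure_le_normal (SetLike.coe_subset_coe.mpr hAK)
        have hNCtop : NC ≠ ⊤ := by
          intro h
          apply hK
          rw [eq_top_iff, ← h]
          exact hNCK
        have hNCidx : NC.index = p := by
          have h := index_thm hG hA hANC hNCtop
          rw [Subgroup.normalizer_eq_top_iff.mpr hNCn, Subgroup.relIndex_top_right] at h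
          exact h
        have hKNC : K ≤ NC := by
          have h1 := Subgroup.relIndex_mul_index hNCK
          rw [hKidx, hNCidx] at h1
          have h2 : NC.relIndex K = 1 :=
            Nat.eq_of_mul_eq_mul_right hp.pos (h1.trans (one_mul p).symm)
          exact Subgroup.relIndex_eq_one.mp h2
        have hcen : NC ≤ Subgroup.centralizer {y} := by
          rw [hNCdef]
          show Subgroup.closure (Group.conjugatesOfSet (A : Set G)) ≤ _
          rw [Subgroup.closure_le]
          intro c hc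
          rw [Group.mem_conjugatesOfSet_iff] at hc
          obtain ⟨a, ha, hac⟩ := hc
          rw [isConj_iff] at hac
          obtain ⟨g, rfl⟩ := hac
          rw [SetLike.mem_coe, Subgroup.mem_centralizer_iff]
          intro h hh
          rw [Set.mem_singleton_iff] at hh
          rw [hh]
          exact (hy g a ha).symm
        intro k hk
        have h1 := hcen (hKNC hk)
        rw [Subgroup.mem_centralizer_iff] at h1
        exact (h1 y (Set.mem_singleton y)).symm
      have hstar : ∃ x ∈ K, (∀ k ∈ K, π x * π k = π k * π x) ∧ x ∉ A := by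
        by_contra hcon
        push Not at hcon
        haveI : Group.IsNilpotent (G ⧸ Zk) := hGq.isNilpotent
        haveI hKmapn : (K.map π).Normal := hKn.map π hπsurj
        have hKmapne : K.map π ≠ ⊥ := by
          intro h
          rw [Subgroup.map_eq_bot_iff, hker] at h
          exact hKA (le_antisymm (h.trans hZkA) hAK)
        have h1 := Cfsg.Agent.S0065.result (K.map π) hKmapne
        have h2 : ∃ w ∈ K.map π ⊓ Subgroup.center (G ⧸ Zk), w ≠ 1 := by
          by_contra h3
          push Not at h3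
          apply h1
          rw [eq_bot_iff]
          intro w hw
          rw [Subgroup.mem_bot]
          exact h3 w hw
        obtain ⟨w, hw, hw1⟩ := h2
        rw [Subgroup.mem_inf] at hw
        obtain ⟨⟨x, hxK, rfl⟩, hwc⟩ := hw
        have hxcen : ∀ g : G, π g * π x = π x * π g :=
          fun g => Subgroup.mem_center_iff.mp hwc (π g)
        have hconj : ∀ g : G, g⁻¹ * x * g ∈ A := by
          intro g
          apply hcon
          · have h0 := hKn.conj_mem x hxK g⁻¹
            rw [inv_inv] at h0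
            exact h0
          · intro k hk
            have e : π (g⁻¹ * x * g) = π x := by
              rw [map_mul, map_mul, map_inv, mul_assoc, ← hxcen g, inv_mul_cancel_left]
            rw [e]
            exact (hxcen k).symm
        apply hw1
        rw [hkermem, hZkmem]
        refine ⟨hxK, ?_⟩
        apply hNC
        intro g a ha
        have h3 := hA.comm a ha _ (hconj g)
        calc g * a * g⁻¹ * x = g * (a * (g⁻¹ * x * g)) * g⁻¹ := by group
          _ = g * ((g⁻¹ * x * g) * a) * g⁻¹ := by rw [h3]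
          _ = x * (g * a * g⁻¹) := by group
      obtain ⟨x, hxK, hxc, hxA⟩ := hstar
      have hxN1 : x ∈ N1 := by
        rw [hN1]
        apply mem_normalizer_of_comm π A hker1 x
        intro a ha
        exact (hxc a (hAK ha)).symm
      have hsupx : A ⊔ Subgroup.zpowers x = N1 := by
        rcases eq_or_eq_of_relIndex_prime hp (le_sup_left : A ≤ A ⊔ Subgroup.zpowers x)
          (sup_le hAN1 (Subgroup.zpowers_le.mpr hxN1)) hidx with h | h
        · exfalso
          apply hxA
          have h2 : x ∈ A ⊔ Subgroup.zpowers x := Subgroup.mem_sup_right (Subgroup.mem_zpowers x)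
          rw [h] at h2
          exact h2
        · exact h
      have hNcomm := map_comm_of_sup π A N1 x hsupx.symm hA.comm (fun a ha => hxc a (hAK ha))
      have hkerN1 : π.ker ≤ N1 := hker.le.trans (hZkA.trans hAN1)
      have hkerK : π.ker ≤ K := hker.le.trans hZkK
      have hsoft : Soft p (N1.map π) := by
        refine ⟨?_, ?_, ?_⟩
        · rintro _ ⟨a, ha, rfl⟩ _ ⟨b, hb, rfl⟩
          exact hNcomm a ha b hb
        · intro w hw
          obtain ⟨y, rfl⟩ := hπsurj w
          apply Subgroup.mem_map_of_mem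
          rw [hN1]
          apply mem_normalizer_of_comm π A hker1 y
          intro a ha
          rw [Subgroup.mem_centralizer_iff] at hw
          exact hw (π a) (Subgroup.mem_map_of_mem π (hAN1 ha))
        · rw [relIndex_normalizer_map π hπsurj N1 hkerN1]
          exact index_thm hG hA hAN1 hN1top
      have hKmaptop : K.map π ≠ ⊤ := by
        intro h
        apply hK
        have h1 : (K.map π).comap π = K := by
          rw [Subgroup.comap_map_eq]; exact sup_eq_left.mpr hkerK
        rw [← h1, h, Subgroup.comap_top]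
      have hKmapnorm : Subgroup.normalizer ((K.map π : Subgroup (G ⧸ Zk)) : Set (G ⧸ Zk)) = ⊤ :=
        Subgroup.normalizer_eq_top_iff.mpr (hKn.map π hπsurj)
      have hindex' : (K.map π).index * p ^ j = (N1.map π).index := by
        rw [Subgroup.index_map_eq K hπsurj hkerK, Subgroup.index_map_eq N1 hπsurj hkerN1]
        have h1 := Subgroup.relIndex_mul_index hAN1
        rw [hidx] at h1
        rw [← h1, pow_succ] at hindex
        have h2 : p * (K.index * p ^ j) = p * N1.index := by rw [← hindex]; ring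
        exact Nat.eq_of_mul_eq_mul_left hp.pos h2
      have hih := ih _ hcardlt (G ⧸ Zk) rfl hGq (N1.map π) hsoft (K.map π) j
        (Subgroup.map_mono hN1K) hKmaptop hKmapnorm hindex'
      obtain ⟨hih1, hih2⟩ := hih
      rw [← Subgroup.map_lowerCentralSeries] at hih1 hih2
      constructor
      · rw [Subgroup.lowerCentralSeries_succ, Subgroup.commutator_eq_bot_iff_le_centralizer]
        rw [Subgroup.map_eq_bot_iff, hker] at hih1
        intro y hy
        have h0 := hih1 hy
        rw [hZk, Subgroup.mem_inf] at h0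
        exact h0.2
      · intro hbot
        apply hih2
        rw [Subgroup.map_eq_bot_iff, hker]
        rw [Subgroup.lowerCentralSeries_succ,
          Subgroup.commutator_eq_bot_iff_le_centralizer] at hbot
        intro y hy
        rw [hZk, Subgroup.mem_inf]
        exact ⟨Subgroup.lowerCentralSeries_le_self K j hy, hbot hy⟩

theorem class_thm {G : Type u} [Group G] [Finite G] {p : ℕ} [Fact p.Prime] (hG : IsPGroup p G)
    {A : Subgroup G} (hA : Soft p A) (K : Subgroup G) (i : ℕ) (hAK : A ≤ K) (hK : K ≠ ⊤)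
    (hindex : K.index * p ^ i = A.index) :
    K.lowerCentralSeries (i + 1) = ⊥ ∧ K.lowerCentralSeries i ≠ ⊥ := by
  have hp : p.Prime := Fact.out
  by_cases hKA : K = A
  · have hi : i = 0 := by
      rw [hKA] at hindex
      have hA0 : A.index ≠ 0 := Subgroup.index_ne_zero_of_finite
      have h1 : p ^ i = 1 :=
        Nat.eq_of_mul_eq_mul_left (Nat.pos_of_ne_zero hA0) (hindex.trans (mul_one _).symm)
      rw [Nat.pow_eq_one] at h1
      rcases h1 with h1 | h1
      · exact absurd h1 hp.one_lt.ne'
      · exact h1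
    rw [hi, hKA]
    exact class_zero hG hA (by rw [← hKA]; exact hK)
  obtain ⟨M, hM⟩ : ∃ M : Subgroup G, M = Subgroup.normalizer (K : Set G) := ⟨_, rfl⟩
  have hKM : K ≤ M := by rw [hM]; exact Subgroup.le_normalizer
  have hN1K : Subgroup.normalizer (A : Set G) ≤ K := normalizer_le_of_ne hG hA hAK hKA
  have hMK : ¬ M ≤ K := by
    intro h
    obtain ⟨k, -, hk1, hk2⟩ := exists_normalizer_not_mem hG (le_top : K ≤ ⊤) hK
    apply hk1
    apply h
    rw [hM]
    exact hk2
  have hsoft : Soft p (A.subgroupOf M) := by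
    refine ⟨?_, ?_, ?_⟩
    · intro a ha b hb
      rw [Subgroup.mem_subgroupOf] at ha hb
      apply Subtype.ext
      exact hA.comm _ ha _ hb
    · intro g hg
      rw [Subgroup.mem_subgroupOf]
      apply hA.cent
      rw [Subgroup.mem_centralizer_iff]
      intro a ha
      rw [Subgroup.mem_centralizer_iff] at hg
      have hmem : (⟨a, hKM (hAK ha)⟩ : M) ∈ A.subgroupOf M := by
        rw [Subgroup.mem_subgroupOf]; exact ha
      have h1 := hg ⟨a, hKM (hAK ha)⟩ hmem
      exact congrArg Subtype.val h1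
    · rw [← Subgroup.subgroupOf_normalizer_eq (hAK.trans hKM),
        Subgroup.relIndex_subgroupOf (hN1K.trans hKM)]
      exact hA.idx
  have hK'top : K.subgroupOf M ≠ ⊤ := by
    intro h
    rw [Subgroup.subgroupOf_eq_top] at h
    exact hMK h
  have hK'norm : Subgroup.normalizer ((K.subgroupOf M : Subgroup M) : Set M) = ⊤ := by
    rw [← Subgroup.subgroupOf_normalizer_eq hKM, ← hM, Subgroup.subgroupOf_self]
  have hAK' : A.subgroupOf M ≤ K.subgroupOf M := by
    intro g hg
    rw [Subgroup.mem_subgroupOf] at hg ⊢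
    exact hAK hg
  have hindex' : (K.subgroupOf M).index * p ^ i = (A.subgroupOf M).index := by
    have h1 := Subgroup.relIndex_mul_index hKM
    have h2 := Subgroup.relIndex_mul_index (hAK.trans hKM)
    have hM0 : M.index ≠ 0 := Subgroup.index_ne_zero_of_finite
    rw [← h1, ← h2] at hindex
    have h3 : K.relIndex M * p ^ i * M.index = A.relIndex M * M.index := by
      rw [← hindex]; ring
    exact Nat.eq_of_mul_eq_mul_right (Nat.pos_of_ne_zero hM0) h3
  have hGM : IsPGroup p M := hG.to_subgroup M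
  have hres := class_main (Nat.card M) M rfl hGM (A.subgroupOf M) hsoft (K.subgroupOf M) i hAK'
    hK'top hK'norm hindex'
  obtain ⟨hr1, hr2⟩ := hres
  have hmapK : (K.subgroupOf M).map M.subtype = K := Subgroup.map_subgroupOf_eq_of_le hKM
  constructor
  · rw [← hmapK, ← Subgroup.map_lowerCentralSeries, hr1, Subgroup.map_bot]
  · intro h
    apply hr2
    rw [← hmapK, ← Subgroup.map_lowerCentralSeries] at h
    exact (Subgroup.map_eq_bot_iff_of_injective _ M.subtype_injective).mp h

/-- Let P be a finite p-group and E an abelian subgroup of P that contains its centralizer, has index p in its normalizer, and has index at least p² in P. Then the subgroups of P containing E are totally ordered by inclusion, each proper one has index p in its normalizer (so they form the normalizer tower of E, with all steps of index p), and the i-th member of the tower above E has nilpotency class i + 1 whenever it is a proper subgroup of P. -/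
theorem result {P : Type*} [Group P] [Finite P] (p : ℕ) [Fact p.Prime] (hP : IsPGroup p P)
    (E : Subgroup P) (hEab : IsMulCommutative ↥E) (hC : Subgroup.centralizer (E : Set P) ≤ E)
    (hN : (E.subgroupOf (Subgroup.normalizer (E : Set P))).index = p) (hidx : p ^ 2 ≤ E.index) :
    (∀ K L : Subgroup P, E ≤ K → E ≤ L → K ≤ L ∨ L ≤ K) ∧
      (∀ K : Subgroup P, E ≤ K → K ≠ ⊤ → (K.subgroupOf (Subgroup.normalizer (K : Set P))).index = p) ∧
      ∀ (i : ℕ) (K : Subgroup P) [Group.IsNilpotent ↥K], E ≤ K → K ≠ ⊤ → K.index * p ^ i = E.index →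
        Group.nilpotencyClass ↥K = i + 1 := by
  classical
  have hEsoft : Soft p E :=
    ⟨fun a ha b hb => congrArg Subtype.val (hEab.is_comm.comm (⟨a, ha⟩ : E) ⟨b, hb⟩), hC, hN⟩
  refine ⟨?_, ?_, ?_⟩
  · intro K L hK hL
    exact chain_thm hP hEsoft K L hK hL
  · intro K hK hKtop
    exact index_thm hP hEsoft hK hKtop
  · intro i K _ hK hKtop hindex
    obtain ⟨h1, h2⟩ := class_thm hP hEsoft K i hK hKtop hindex
    rw [← Subgroup.top_subtype_lowerCentralSeries K,
      Subgroup.map_eq_bot_iff_of_injective _ K.subtype_injective,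
      Subgroup.lowerCentralSeries_eq_bot_iff_nilpotencyClass_le] at h1
    have h3 : ¬ Group.nilpotencyClass ↥K ≤ i := by
      intro h
      apply h2
      rw [← Subgroup.top_subtype_lowerCentralSeries K,
        Subgroup.map_eq_bot_iff_of_injective _ K.subtype_injective,
        Subgroup.lowerCentralSeries_eq_bot_iff_nilpotencyClass_le]
      exact h
    omega

end Cfsg.Agent.S3811
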