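import Cfsg.Statements.S3824
import Mathlib
import Cfsg.Agent.S0143
import Cfsg.Agent.Helper1.SZ
import Cfsg.Agent.Helper4.Subnormal

set_option autoImplicit false
open Cfsg

namespace Cfsg.Agent.S3824

theorem aux.{u} : ∀ (n : ℕ) (G : Type u) [Group G] [Finite G], Nat.card G = n →
    ∀ A : Subgroup G, IsMulCommutative A → (∃ k : ℕ, A.index = 2 ^ k) → Group.IsSolvable G := by
  intro n
  induction n using Nat.strong_induction_on with
  | _ n ih =>
  intro G _ _ hn A hA ⟨k, hk⟩
  haveI : Fact (Nat.Prime 2) := ⟨Nat.prime_two⟩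
  by_cases hsimp : IsSimpleGroup G
  · haveI := hsimp
    by_cases hAbot : A = ⊥
    · subst hAbot
      rw [Subgroup.index_bot] at hk
      haveI : Group.IsNilpotent G := (IsPGroup.of_card hk).isNilpotent
      infer_instance
    · obtain ⟨a, haA, ha1⟩ : ∃ a ∈ A, a ≠ 1 := by
        by_contra h
        apply hAbot
        rw [eq_bot_iff]
        intro a ha
        rw [Subgroup.mem_bot]
        exact Classical.by_contradiction fun h1 => h ⟨a, ha, h1⟩
      have hle : A ≤ Subgroup.centralizer ({a} : Set G) := by
        intro b hb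
        rw [Subgroup.mem_centralizer_iff]
        intro y hy
        rw [Set.mem_singleton_iff] at hy
        rw [hy]
        exact congrArg Subtype.val (hA.is_comm.comm ⟨a, haA⟩ ⟨b, hb⟩)
      have hdvd : (Subgroup.centralizer ({a} : Set G)).index ∣ 2 ^ k :=
        hk ▸ Subgroup.index_dvd_of_le hle
      obtain ⟨j, -, hj⟩ := (Nat.dvd_prime_pow Nat.prime_two).1 hdvd
      have hprime := Cfsg.Agent.S0143.result 2 j Nat.prime_two a ha1 hj
      haveI : Fact (Nat.card G).Prime := ⟨hprime⟩
      haveI : Group.IsNilpotent G :=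
        (IsPGroup.of_card (p := Nat.card G) (n := 1) (pow_one _).symm).isNilpotent
      infer_instance
  · by_cases hnt : Nontrivial G
    · haveI := hnt
      obtain ⟨N, hNn, hNbot, hNtop⟩ : ∃ N : Subgroup G, N.Normal ∧ N ≠ ⊥ ∧ N ≠ ⊤ := by
        by_contra h
        apply hsimp
        exact { eq_bot_or_eq_top_of_normal := fun H hH => by
                  by_cases h1 : H = ⊥
                  · exact Or.inl h1
                  · right
                    by_contra h2
                    exact h ⟨H, hH, h1, h2⟩ }
      haveI := hNn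
      have hNs : Group.IsSolvable ↥N := by
        apply ih (Nat.card ↥N) (hn ▸ Cfsg.Agent.Helper1.card_lt_of_ne_top N hNtop) ↥N rfl
          (A.subgroupOf N)
        · refine ⟨⟨fun x y => ?_⟩⟩
          apply Subtype.ext
          apply Subtype.ext
          have h1 := congrArg Subtype.val
            (hA.is_comm.comm ⟨(x : ↥N), Subgroup.mem_subgroupOf.1 x.2⟩
              ⟨(y : ↥N), Subgroup.mem_subgroupOf.1 y.2⟩)
          exact h1
        · have h1 := Cfsg.Agent.Helper4.relIndex_dvd_index_of_normal_right A N
          rw [hk] at h1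
          obtain ⟨j, -, hj⟩ := (Nat.dvd_prime_pow Nat.prime_two).1 h1
          exact ⟨j, hj⟩
      have hQs : Group.IsSolvable (G ⧸ N) := by
        apply ih (Nat.card (G ⧸ N)) (hn ▸ Cfsg.Agent.Helper1.card_quotient_lt_of_ne_bot N hNbot)
          (G ⧸ N) rfl (A.map (QuotientGroup.mk' N))
        · refine ⟨⟨fun x y => ?_⟩⟩
          obtain ⟨a, ha, hax⟩ := x.2
          obtain ⟨b, hb, hby⟩ := y.2
          apply Subtype.ext
          show (x : G ⧸ N) * (y : G ⧸ N) = (y : G ⧸ N) * (x : G ⧸ N)
          rw [← hax, ← hby, ← map_mul, ← map_mul]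
          exact congrArg _ (congrArg Subtype.val (hA.is_comm.comm ⟨a, ha⟩ ⟨b, hb⟩))
        · have h1 := Subgroup.index_map_dvd A (QuotientGroup.mk'_surjective N)
          rw [hk] at h1
          obtain ⟨j, -, hj⟩ := (Nat.dvd_prime_pow Nat.prime_two).1 h1
          exact ⟨j, hj⟩
      exact Group.isSolvable_of_ker_le_range N.subtype (QuotientGroup.mk' N)
        (by rw [QuotientGroup.ker_mk', Subgroup.range_subtype])
    · rw [not_nontrivial_iff_subsingleton] at hnt
      haveI := hnt
      infer_instance

/-- Every finite group having an abelian subgroup whose index is a power of 2 is solvable. -/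
theorem result {G : Type*} [Group G] [Finite G]
    (A : Subgroup G) (hA : IsMulCommutative A) (hidx : ∃ k : ℕ, A.index = 2 ^ k) : Group.IsSolvable G := by
  exact aux _ G rfl A hA hidx

end Cfsg.Agent.S3824
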