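import Mathlib
import Cfsg.Agent.Helper22.NilCover

set_option autoImplicit false
set_option linter.style.haveILetI false
set_option linter.unusedSectionVars false

open Cfsg
open Equiv Equiv.Perm

namespace Cfsg.Agent.S3892

theorem nmc_contra {G : Type*} [Group G] [Finite G] (hZ : Subgroup.center G = ⊥)
    {𝓐 : Finset (Subgroup G)} (h : Helper22.IsNMC 𝓐) {p : ℕ} (hp : p.Prime) (σ : G)
    (hσ : orderOf σ = p) (hpp : ¬ p ^ 2 ∣ Nat.card G) (M : Subgroup G) (hM : M ≠ ⊤)
    (hCM : ∀ g : G, g * σ = σ * g → g ∈ M) (m : G) (hm : m ∈ M)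
    (hmσ : m * σ * m⁻¹ ∉ Subgroup.zpowers σ) : False := by
  haveI : Fact p.Prime := ⟨hp⟩
  have hz : IsPGroup p ↥(Subgroup.zpowers σ) :=
    IsPGroup.of_card (n := 1) (by rw [Nat.card_zpowers, hσ, pow_one])
  obtain ⟨P, hP⟩ := hz.exists_le_sylow
  have hPcard : Nat.card ↥(P : Subgroup G) = p := by
    obtain ⟨k, hk⟩ := (IsPGroup.iff_card.mp P.2)
    have h1 : p ^ k ∣ Nat.card G := by
      rw [← hk]; exact Subgroup.card_subgroup_dvd_card _
    have h2 : p ∣ p ^ k := by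
      rw [← hk]
      have h3 := Subgroup.card_dvd_of_le hP
      rw [Nat.card_zpowers, hσ] at h3
      exact h3
    have hk1 : k ≠ 0 := by
      rintro rfl
      rw [pow_zero] at h2
      exact hp.one_lt.ne' (Nat.dvd_one.mp h2)
    have hk2 : k < 2 := by
      by_contra hk2
      push Not at hk2
      exact hpp ((pow_dvd_pow p hk2).trans h1)
    have hk3 : k = 1 := by omega
    rw [hk, hk3, pow_one]
  have hPeq : Subgroup.zpowers σ = (P : Subgroup G) := by
    apply Subgroup.eq_of_le_of_card_ge hP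
    rw [hPcard, Nat.card_zpowers, hσ]
  have hσP : σ ∈ (P : Subgroup G) := hP (Subgroup.mem_zpowers σ)
  have hgen : ∀ u : ↥(P : Subgroup G),
      u ∈ Subgroup.zpowers (⟨σ, hσP⟩ : ↥(P : Subgroup G)) := by
    intro u
    have hu : (u : G) ∈ Subgroup.zpowers σ := by rw [hPeq]; exact u.2
    obtain ⟨k, hk⟩ := Subgroup.mem_zpowers_iff.mp hu
    refine Subgroup.mem_zpowers_iff.mpr ⟨k, ?_⟩
    apply Subtype.ext
    rw [Subgroup.coe_zpow]
    exact hk
  have hab : ∀ a b : ↥(P : Subgroup G), a * b = b * a := by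
    intro a b
    obtain ⟨i, hi⟩ := Subgroup.mem_zpowers_iff.mp (hgen a)
    obtain ⟨j, hj⟩ := Subgroup.mem_zpowers_iff.mp (hgen b)
    rw [← hi, ← hj, ← zpow_add, ← zpow_add, add_comm]
  have hσ1 : σ ≠ 1 := by
    rintro rfl
    rw [orderOf_one] at hσ
    exact hp.one_lt.ne hσ
  have hgood : Helper22.NmcGood p (P : Subgroup G) :=
    Or.inl ⟨⟨σ, hσP⟩, fun h1 => hσ1 (congrArg Subtype.val h1), hgen⟩
  have hmN : m ∉ Subgroup.normalizer ((P : Subgroup G) : Set G) := by
    intro hmN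
    apply hmσ
    rw [hPeq]
    exact (Subgroup.mem_normalizer_iff.mp hmN σ).mp hσP
  have hnn : ¬ (P : Subgroup G).Normal := by
    intro hn
    apply hmN
    rw [Subgroup.normalizer_eq_top_iff.mpr hn]
    exact Subgroup.mem_top m
  obtain ⟨-, hmax, -, -⟩ := Helper22.nmc_main hZ h P hab hgood hnn
  apply hmN
  refine hmax M hM ?_ hm
  intro c hc
  apply hCM
  exact (Subgroup.mem_centralizer_iff.mp hc σ hσP).symm

theorem perm_center_eq_bot {n : ℕ} (hn : 3 ≤ n) : Subgroup.center (Equiv.Perm (Fin n)) = ⊥ := by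
  rw [Subgroup.eq_bot_iff_forall]
  intro g hg
  by_contra hg1
  obtain ⟨x, hx⟩ : ∃ x, g x ≠ x := by
    by_contra hcon
    push Not at hcon
    exact hg1 (Equiv.ext hcon)
  obtain ⟨z, hz1, hz2⟩ : ∃ z : Fin n, z ≠ x ∧ z ≠ g x := by
    by_contra hcon
    push Not at hcon
    have h1 : Fintype.card (Fin n) ≤ 2 := by
      calc Fintype.card (Fin n) = (Finset.univ : Finset (Fin n)).card := Finset.card_univ.symm
        _ ≤ ({x, g x} : Finset (Fin n)).card := Finset.card_le_card (fun z _ => by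
            by_cases hzx : z = x
            · simp [hzx]
            · simp [hcon z hzx])
        _ ≤ 2 := Finset.card_le_two
    rw [Fintype.card_fin] at h1
    omega
  have hcomm := Subgroup.mem_center_iff.mp hg (Equiv.swap (g x) z)
  have h1 := congrArg (fun f : Equiv.Perm (Fin n) => f x) hcomm
  simp only [Equiv.Perm.mul_apply] at h1
  rw [Equiv.swap_apply_left, Equiv.swap_apply_of_ne_of_ne hx.symm hz1.symm] at h1
  exact hz2 h1

theorem sq_not_dvd_factorial {p n : ℕ} (hp : p.Prime) (hn : n < 2 * p) :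
    ¬ p ^ 2 ∣ n.factorial := by
  have hp2 : 2 ≤ p := hp.two_le
  have hlog : Nat.log p n < 2 := by
    apply Nat.log_lt_of_lt_pow' (by norm_num)
    calc n < 2 * p := hn
      _ ≤ p * p := Nat.mul_le_mul_right p hp2
      _ = p ^ 2 := (sq p).symm
  intro hdvd
  have h1 := (hp.pow_dvd_factorial_iff hlog).mp hdvd
  have h2 : Finset.Ico 1 2 = {1} := by decide
  rw [h2, Finset.sum_singleton, pow_one] at h1
  have h3 : n / p < 2 := Nat.div_lt_of_lt_mul (by omega)
  omega

theorem not_mem_zpowers_of_not_comm {G : Type*} [Group G] {x y : G} (h : y * x ≠ x * y) :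
    y ∉ Subgroup.zpowers x := by
  intro hy
  obtain ⟨k, rfl⟩ := Subgroup.mem_zpowers_iff.mp hy
  exact h ((Commute.refl x).zpow_left k).eq

theorem coe_mem_zpowers {G : Type*} [Group G] {H : Subgroup G} {x y : ↥H}
    (h : x ∈ Subgroup.zpowers y) : (x : G) ∈ Subgroup.zpowers (y : G) := by
  obtain ⟨k, hk⟩ := Subgroup.mem_zpowers_iff.mp h
  refine Subgroup.mem_zpowers_iff.mpr ⟨k, ?_⟩
  rw [← hk, Subgroup.coe_zpow]

theorem exists_notMem {n : ℕ} (s : Finset (Fin n)) (h : s.card < n) : ∃ b : Fin n, b ∉ s := by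
  by_contra hcon
  push Not at hcon
  have h1 : s = Finset.univ := Finset.eq_univ_iff_forall.mpr hcon
  rw [h1, Finset.card_univ, Fintype.card_fin] at h
  exact lt_irrefl _ h

section perm

variable {α : Type*} [Fintype α] [DecidableEq α]

theorem cyc_pow_inj {σ : Perm α} (hc : σ.IsCycle) {a : α} (ha : σ a ≠ a) {i j : ℕ}
    (hij : i < j) (hj : j < orderOf σ) : (σ ^ i) a ≠ (σ ^ j) a := by
  intro h
  have h1 : (σ ^ (j - i)) ((σ ^ i) a) = (σ ^ i) a := by
    rw [← Perm.mul_apply, ← pow_add, Nat.sub_add_cancel hij.le]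
    exact h.symm
  have h2 : σ ((σ ^ i) a) ≠ (σ ^ i) a := by
    intro h3
    apply ha
    have h4 : (σ ^ i) (σ a) = (σ ^ i) a := by
      rw [← Perm.mul_apply, ← pow_succ, pow_succ', Perm.mul_apply]
      exact h3
    exact (σ ^ i).injective h4
  have h5 : σ ^ (j - i) = 1 := (hc.pow_eq_one_iff' h2).mpr h1
  have h6 := orderOf_dvd_of_pow_eq_one h5
  have h7 := Nat.le_of_dvd (by omega) h6
  omega

def suppStab (σ : Perm α) : Subgroup (Perm α) where
  carrier := {g | ∀ x, g x ∈ σ.support ↔ x ∈ σ.support}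
  mul_mem' := by
    intro g h hg hh x
    rw [Perm.mul_apply, hg, hh]
  one_mem' := by
    intro x
    exact Iff.rfl
  inv_mem' := by
    intro g hg x
    have h1 := hg (g⁻¹ x)
    have h2 : g (g⁻¹ x) = x := by rw [← Perm.mul_apply, mul_inv_cancel, Perm.one_apply]
    rw [h2] at h1
    exact h1.symm

theorem mem_suppStab {σ g : Perm α} :
    g ∈ suppStab σ ↔ ∀ x, g x ∈ σ.support ↔ x ∈ σ.support := Iff.rfl

theorem swap_mem_suppStab {σ : Perm α} {a b : α} (ha : a ∈ σ.support) (hb : b ∈ σ.support) :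
    swap a b ∈ suppStab σ := by
  refine mem_suppStab.mpr (fun x => ?_)
  by_cases hxa : x = a
  · rw [hxa, swap_apply_left]; exact ⟨fun _ => ha, fun _ => hb⟩
  · by_cases hxb : x = b
    · rw [hxb, swap_apply_right]; exact ⟨fun _ => hb, fun _ => ha⟩
    · rw [swap_apply_of_ne_of_ne hxa hxb]

theorem comm_mem_suppStab {σ g : Perm α} (h : g * σ = σ * g) : g ∈ suppStab σ :=
  mem_suppStab.mpr (fun x => Perm.mem_support_iff_of_commute (show Commute g σ from h) x)

theorem comm_of_fix_two {σ m : Perm α} (hc : σ.IsCycle) {a : α} (ha : σ a ≠ a)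
    (hm0 : m a = a) (hm1 : m (σ a) = σ a) (hmem : m * σ * m⁻¹ ∈ Subgroup.zpowers σ) :
    m * σ = σ * m := by
  obtain ⟨k, hk⟩ := (Submonoid.mem_powers_iff _ _).mp (mem_powers_iff_mem_zpowers.mpr hmem)
  have h1 : (σ ^ k) a = σ a := by
    have h0 : m⁻¹ a = a := by rw [Perm.inv_eq_iff_eq]; exact hm0.symm
    rw [hk, Perm.mul_apply, Perm.mul_apply, h0, hm1]
  have hk0 : k ≠ 0 := by
    rintro rfl
    rw [pow_zero, Perm.one_apply] at h1
    exact ha h1.symm
  have h2 : σ ^ (k - 1) = 1 := by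
    have hsa : σ (σ a) ≠ σ a := fun h => ha (σ.injective h)
    rw [hc.pow_eq_one_iff' hsa]
    rw [← Perm.mul_apply, ← pow_succ, Nat.sub_add_cancel (Nat.pos_of_ne_zero hk0)]
    exact h1
  have h3 : σ ^ k = σ := by
    have h4 : σ ^ (k - 1 + 1) = σ := by rw [pow_succ, h2, one_mul]
    rw [Nat.sub_add_cancel (Nat.pos_of_ne_zero hk0)] at h4
    exact h4
  rw [h3] at hk
  calc m * σ = m * σ * m⁻¹ * m := by group
    _ = σ * m := by rw [← hk]

theorem fix_pow_of_comm {σ m : Perm α} (h : m * σ = σ * m) {a : α} (hm0 : m a = a) (j : ℕ) :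
    m ((σ ^ j) a) = (σ ^ j) a := by
  have hcomm : m * σ ^ j = σ ^ j * m := ((show Commute m σ from h).pow_right j)
  have h1 := congrArg (fun f : Perm α => f a) hcomm
  simp only [Perm.mul_apply] at h1
  rw [h1, hm0]

theorem exists_not_normalizing {σ : Perm α} (hc : σ.IsCycle) (h5 : 5 ≤ orderOf σ) :
    ∃ m : Perm α, m ∈ suppStab σ ∧ sign m = 1 ∧ m * σ * m⁻¹ ∉ Subgroup.zpowers σ := by
  obtain ⟨a, ha, -⟩ := id hc
  have hsupp : ∀ j : ℕ, (σ ^ j) a ∈ σ.support := by
    intro j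
    rw [Perm.mem_support]
    intro h3
    apply ha
    have h4 : (σ ^ j) (σ a) = (σ ^ j) a := by
      rw [← Perm.mul_apply, ← pow_succ, pow_succ', Perm.mul_apply]
      exact h3
    exact (σ ^ j).injective h4
  have h23 : (σ ^ 2) a ≠ (σ ^ 3) a := cyc_pow_inj hc ha (by norm_num) (by omega)
  have h24 : (σ ^ 2) a ≠ (σ ^ 4) a := cyc_pow_inj hc ha (by norm_num) (by omega)
  have h34 : (σ ^ 3) a ≠ (σ ^ 4) a := cyc_pow_inj hc ha (by norm_num) (by omega)
  have h02 : (σ ^ 0) a ≠ (σ ^ 2) a := cyc_pow_inj hc ha (by norm_num) (by omega)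
  have h03 : (σ ^ 0) a ≠ (σ ^ 3) a := cyc_pow_inj hc ha (by norm_num) (by omega)
  have h04 : (σ ^ 0) a ≠ (σ ^ 4) a := cyc_pow_inj hc ha (by norm_num) (by omega)
  have h12 : (σ ^ 1) a ≠ (σ ^ 2) a := cyc_pow_inj hc ha (by norm_num) (by omega)
  have h13 : (σ ^ 1) a ≠ (σ ^ 3) a := cyc_pow_inj hc ha (by norm_num) (by omega)
  have h14 : (σ ^ 1) a ≠ (σ ^ 4) a := cyc_pow_inj hc ha (by norm_num) (by omega)
  rw [pow_zero, Perm.one_apply] at h02 h03 h04
  rw [pow_one] at h12 h13 h14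
  obtain ⟨m, hm⟩ : ∃ m : Perm α,
      m = swap ((σ ^ 2) a) ((σ ^ 3) a) * swap ((σ ^ 2) a) ((σ ^ 4) a) := ⟨_, rfl⟩
  refine ⟨m, ?_, ?_, ?_⟩
  · rw [hm]
    exact Subgroup.mul_mem _ (swap_mem_suppStab (hsupp 2) (hsupp 3))
      (swap_mem_suppStab (hsupp 2) (hsupp 4))
  · rw [hm]
    exact (isThreeCycle_swap_mul_swap_same h23 h24 h34).sign
  · intro hmem
    have hm0 : m a = a := by
      rw [hm, Perm.mul_apply, swap_apply_of_ne_of_ne h02 h04, swap_apply_of_ne_of_ne h02 h03]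
    have hm1 : m (σ a) = σ a := by
      rw [hm, Perm.mul_apply, swap_apply_of_ne_of_ne h12 h14, swap_apply_of_ne_of_ne h12 h13]
    have hcomm := comm_of_fix_two hc ha hm0 hm1 hmem
    have h2 := fix_pow_of_comm hcomm hm0 2
    rw [hm, Perm.mul_apply, swap_apply_left, swap_apply_of_ne_of_ne h24.symm h34.symm] at h2
    exact h24 h2.symm

theorem not_norm_of_move {σ m : Perm α} {a : α} (ha : a ∈ σ.support) (hma : m a ∉ σ.support) :
    m * σ * m⁻¹ ∉ Subgroup.zpowers σ := by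
  intro hmem
  obtain ⟨k, hk⟩ := Subgroup.mem_zpowers_iff.mp hmem
  apply hma
  apply Perm.support_zpow_le σ k
  rw [hk, Perm.mem_support]
  intro h1
  have h0 : m⁻¹ (m a) = a := by rw [Perm.inv_eq_iff_eq]
  rw [Perm.mul_apply, Perm.mul_apply, h0] at h1
  exact (Perm.mem_support.mp ha) (m.injective h1)

theorem exists_move {σ : Perm α} {a b : α} (ha : σ a ≠ a) (hb : b ∉ σ.support) :
    ∃ t : Perm α, sign t = 1 ∧ t (σ a) = b := by
  have ha' : a ∈ σ.support := Perm.mem_support.mpr ha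
  have hsa : σ a ∈ σ.support := Perm.apply_mem_support.mpr ha'
  have hab : a ≠ b := by
    rintro rfl
    exact hb ha'
  have hsb : b ≠ σ a := by
    intro h
    rw [h] at hb
    exact hb hsa
  refine ⟨swap a b * swap a (σ a),
    (isThreeCycle_swap_mul_swap_same hab (Ne.symm ha) hsb).sign, ?_⟩
  rw [Perm.mul_apply, swap_apply_right, swap_apply_left]

end perm

theorem exists_cycle (n p : ℕ) (hp2 : 2 ≤ p) (hpn : p ≤ n) :
    ∃ σ : Perm (Fin n), σ.IsCycle ∧ orderOf σ = p ∧ σ.support.card = p := by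
  obtain ⟨σ, hσ⟩ := (Equiv.Perm.exists_with_cycleType_iff (Fin n) (m := {p})).mpr
    ⟨by rw [Multiset.sum_singleton, Fintype.card_fin]; exact hpn, by
      intro a ha; rw [Multiset.mem_singleton] at ha; rw [ha]; exact hp2⟩
  have hc : σ.IsCycle := by
    rw [← Equiv.Perm.card_cycleType_eq_one, hσ, Multiset.card_singleton]
  have hs : σ.support.card = p := by
    rw [← Equiv.Perm.sum_cycleType, hσ, Multiset.sum_singleton]
  exact ⟨σ, hc, by rw [hc.orderOf, hs], hs⟩

theorem exists_prime_mid {n : ℕ} (hn : 6 ≤ n) :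
    ∃ p : ℕ, p.Prime ∧ 5 ≤ p ∧ p < n ∧ n < 2 * p := by
  obtain ⟨p, hp, h1, h2⟩ := Nat.exists_prime_lt_and_le_two_mul (n / 2) (by omega)
  refine ⟨p, hp, ?_, ?_, by omega⟩
  · rcases Nat.lt_or_ge 4 p with h4 | h4
    · exact h4
    · have h5 : p = 4 := by omega
      rw [h5] at hp
      exact absurd hp (by norm_num)
  · rcases Nat.lt_or_ge p n with h4 | h4
    · exact h4
    · have h5 : p = 2 * (n / 2) := by omega
      rw [h5] at hp
      exact absurd hp (Nat.not_prime_mul (by norm_num) (by omega))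

theorem no_nmc_perm_big {n : ℕ} (hn : 6 ≤ n) (𝓐 : Finset (Subgroup (Perm (Fin n))))
    (h : Helper22.IsNMC 𝓐) : False := by
  obtain ⟨p, hp, hp5, hpn, hn2p⟩ := exists_prime_mid hn
  obtain ⟨σ, hc, hord, hcard⟩ := exists_cycle n p (by omega) hpn.le
  obtain ⟨b, hb⟩ := exists_notMem σ.support (by omega)
  obtain ⟨a, ha, -⟩ := id hc
  obtain ⟨t, ht1, ht2⟩ := exists_move ha hb
  obtain ⟨m, hm1, hm2, hm3⟩ := exists_not_normalizing hc (by rw [hord]; exact hp5)
  refine nmc_contra (perm_center_eq_bot (by omega)) h hp σ hord ?_ (suppStab σ) ?_ ?_ m hm1 hm3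
  · rw [Nat.card_eq_fintype_card, Fintype.card_perm, Fintype.card_fin]
    exact sq_not_dvd_factorial hp hn2p
  · intro htop
    have h0 : t ∈ suppStab σ := by rw [htop]; exact Subgroup.mem_top t
    have h1 := (mem_suppStab.mp h0 (σ a)).mpr
      (Perm.apply_mem_support.mpr (Perm.mem_support.mpr ha))
    rw [ht2] at h1
    exact hb h1
  · intro g hg
    exact comm_mem_suppStab hg

theorem no_nmc_alt_big {n : ℕ} (hn : 6 ≤ n)
    (𝓐 : Finset (Subgroup ↥(alternatingGroup (Fin n)))) (h : Helper22.IsNMC 𝓐) : False := by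
  obtain ⟨p, hp, hp5, hpn, hn2p⟩ := exists_prime_mid hn
  obtain ⟨σ, hc, hord, hcard⟩ := exists_cycle n p (by omega) hpn.le
  have hσA : σ ∈ alternatingGroup (Fin n) := by
    have hodd : Odd p := hp.odd_of_ne_two (by omega)
    rw [Perm.mem_alternatingGroup, hc.sign, hcard, hodd.neg_one_pow, neg_neg]
  obtain ⟨b, hb⟩ := exists_notMem σ.support (by omega)
  obtain ⟨a, ha, -⟩ := id hc
  obtain ⟨t, ht1, ht2⟩ := exists_move ha hb
  obtain ⟨m, hm1, hm2, hm3⟩ := exists_not_normalizing hc (by rw [hord]; exact hp5)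
  have hmA : m ∈ alternatingGroup (Fin n) := Perm.mem_alternatingGroup.mpr hm2
  have htA : t ∈ alternatingGroup (Fin n) := Perm.mem_alternatingGroup.mpr ht1
  refine nmc_contra (alternatingGroup.center_eq_bot
      (by rw [Nat.card_eq_fintype_card, Fintype.card_fin]; omega)) h hp
    (⟨σ, hσA⟩ : ↥(alternatingGroup (Fin n))) ?_ ?_
    ((suppStab σ).subgroupOf (alternatingGroup (Fin n))) ?_ ?_ ⟨m, hmA⟩ ?_ ?_
  · rw [Subgroup.orderOf_mk]; exact hord
  · intro hdvd
    have h1 : Nat.card ↥(alternatingGroup (Fin n)) ∣ Nat.card (Perm (Fin n)) :=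
      Subgroup.card_subgroup_dvd_card _
    rw [Nat.card_eq_fintype_card (α := Perm (Fin n)), Fintype.card_perm, Fintype.card_fin] at h1
    exact sq_not_dvd_factorial hp hn2p (hdvd.trans h1)
  · intro htop
    have h0 : (⟨t, htA⟩ : ↥(alternatingGroup (Fin n))) ∈
        (suppStab σ).subgroupOf (alternatingGroup (Fin n)) := by
      rw [htop]; exact Subgroup.mem_top _
    have h0' : t ∈ suppStab σ := Subgroup.mem_subgroupOf.mp h0
    have h1 := (mem_suppStab.mp h0' (σ a)).mpr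
      (Perm.apply_mem_support.mpr (Perm.mem_support.mpr ha))
    rw [ht2] at h1
    exact hb h1
  · intro g hg
    rw [Subgroup.mem_subgroupOf]
    exact comm_mem_suppStab (congrArg Subtype.val hg)
  · exact Subgroup.mem_subgroupOf.mpr hm1
  · intro hmem
    exact hm3 (coe_mem_zpowers hmem)

theorem cent4 : ∀ g : Perm (Fin 4),
    g * (swap 0 1 * swap 0 2) = (swap 0 1 * swap 0 2) * g → sign g = 1 := by
  decide +kernel

theorem cent5 : ∀ g : Perm (Fin 5), g * finRotate 5 = finRotate 5 * g → sign g = 1 := by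
  decide +kernel

theorem cent5' : ∀ g : Perm (Fin 5),
    g * (swap 0 1 * swap 0 2) = (swap 0 1 * swap 0 2) * g → sign g = 1 → g 3 = 3 := by
  decide +kernel

theorem no_nmc_perm_four (𝓐 : Finset (Subgroup (Perm (Fin 4)))) (h : Helper22.IsNMC 𝓐) :
    False := by
  have hord : orderOf (swap (0 : Fin 4) 1 * swap 0 2) = 3 := by
    haveI : Fact (Nat.Prime 3) := ⟨Nat.prime_three⟩
    exact orderOf_eq_prime (by decide +kernel) (by decide +kernel)
  refine nmc_contra (perm_center_eq_bot (by norm_num)) h Nat.prime_three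
    (swap (0 : Fin 4) 1 * swap 0 2) hord ?_ (alternatingGroup (Fin 4)) ?_ ?_
    (swap (0 : Fin 4) 3 * swap 0 1) ?_ ?_
  · rw [Nat.card_eq_fintype_card, Fintype.card_perm, Fintype.card_fin]
    exact sq_not_dvd_factorial Nat.prime_three (by norm_num)
  · intro htop
    have h1 : swap (0 : Fin 4) 1 ∈ alternatingGroup (Fin 4) := by
      rw [htop]; exact Subgroup.mem_top _
    rw [Perm.mem_alternatingGroup] at h1
    exact absurd h1 (by decide +kernel)
  · intro g hg
    rw [Perm.mem_alternatingGroup]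
    exact cent4 g hg
  · rw [Perm.mem_alternatingGroup]
    decide +kernel
  · apply not_mem_zpowers_of_not_comm
    decide +kernel

theorem no_nmc_perm_five (𝓐 : Finset (Subgroup (Perm (Fin 5)))) (h : Helper22.IsNMC 𝓐) :
    False := by
  have hord : orderOf (finRotate 5) = 5 := by
    haveI : Fact (Nat.Prime 5) := ⟨Nat.prime_five⟩
    exact orderOf_eq_prime (by decide +kernel) (by decide +kernel)
  refine nmc_contra (perm_center_eq_bot (by norm_num)) h Nat.prime_five
    (finRotate 5) hord ?_ (alternatingGroup (Fin 5)) ?_ ?_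
    (swap (0 : Fin 5) 1 * swap 0 2) ?_ ?_
  · rw [Nat.card_eq_fintype_card, Fintype.card_perm, Fintype.card_fin]
    exact sq_not_dvd_factorial Nat.prime_five (by norm_num)
  · intro htop
    have h1 : swap (0 : Fin 5) 1 ∈ alternatingGroup (Fin 5) := by
      rw [htop]; exact Subgroup.mem_top _
    rw [Perm.mem_alternatingGroup] at h1
    exact absurd h1 (by decide +kernel)
  · intro g hg
    rw [Perm.mem_alternatingGroup]
    exact cent5 g hg
  · rw [Perm.mem_alternatingGroup]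
    decide +kernel
  · apply not_mem_zpowers_of_not_comm
    decide +kernel

theorem no_nmc_alt_five (𝓐 : Finset (Subgroup ↥(alternatingGroup (Fin 5))))
    (h : Helper22.IsNMC 𝓐) : False := by
  have hσA : (swap (0 : Fin 5) 1 * swap 0 2) ∈ alternatingGroup (Fin 5) := by
    rw [Perm.mem_alternatingGroup]; decide +kernel
  have hmA : (swap (0 : Fin 5) 4 * swap 0 1) ∈ alternatingGroup (Fin 5) := by
    rw [Perm.mem_alternatingGroup]; decide +kernel
  have htA : (swap (0 : Fin 5) 3 * swap 0 1) ∈ alternatingGroup (Fin 5) := by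
    rw [Perm.mem_alternatingGroup]; decide +kernel
  have hord : orderOf (⟨swap (0 : Fin 5) 1 * swap 0 2, hσA⟩ : ↥(alternatingGroup (Fin 5))) = 3 := by
    rw [Subgroup.orderOf_mk]
    haveI : Fact (Nat.Prime 3) := ⟨Nat.prime_three⟩
    exact orderOf_eq_prime (by decide +kernel) (by decide +kernel)
  refine nmc_contra (alternatingGroup.center_eq_bot
      (by rw [Nat.card_eq_fintype_card, Fintype.card_fin]; norm_num)) h Nat.prime_three
    (⟨swap (0 : Fin 5) 1 * swap 0 2, hσA⟩ : ↥(alternatingGroup (Fin 5))) hord ?_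
    ((MulAction.stabilizer (Perm (Fin 5)) (3 : Fin 5)).subgroupOf (alternatingGroup (Fin 5)))
    ?_ ?_ ⟨swap (0 : Fin 5) 4 * swap 0 1, hmA⟩ ?_ ?_
  · intro hdvd
    have h1 : Nat.card ↥(alternatingGroup (Fin 5)) ∣ Nat.card (Perm (Fin 5)) :=
      Subgroup.card_subgroup_dvd_card _
    rw [Nat.card_eq_fintype_card (α := Perm (Fin 5)), Fintype.card_perm, Fintype.card_fin] at h1
    exact sq_not_dvd_factorial Nat.prime_three (by norm_num) (hdvd.trans h1)
  · intro htop
    have h1 : (⟨swap (0 : Fin 5) 3 * swap 0 1, htA⟩ : ↥(alternatingGroup (Fin 5))) ∈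
        (MulAction.stabilizer (Perm (Fin 5)) (3 : Fin 5)).subgroupOf
          (alternatingGroup (Fin 5)) := by
      rw [htop]; exact Subgroup.mem_top _
    rw [Subgroup.mem_subgroupOf, MulAction.mem_stabilizer_iff] at h1
    have h2 : (swap (0 : Fin 5) 3 * swap 0 1 : Perm (Fin 5)) (3 : Fin 5) = 3 := h1
    exact absurd h2 (by decide +kernel)
  · intro g hg
    rw [Subgroup.mem_subgroupOf, MulAction.mem_stabilizer_iff]
    exact cent5' (g : Perm (Fin 5)) (congrArg Subtype.val hg) (Perm.mem_alternatingGroup.mp g.2)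
  · rw [Subgroup.mem_subgroupOf, MulAction.mem_stabilizer_iff]
    show (swap (0 : Fin 5) 4 * swap 0 1 : Perm (Fin 5)) (3 : Fin 5) = 3
    decide +kernel
  · intro hmem
    have h2 : (swap (0 : Fin 5) 4 * swap 0 1) * (swap 0 1 * swap 0 2) *
        (swap (0 : Fin 5) 4 * swap 0 1)⁻¹ ∈ Subgroup.zpowers (swap (0 : Fin 5) 1 * swap 0 2) :=
      coe_mem_zpowers hmem
    exact not_mem_zpowers_of_not_comm (by decide +kernel) h2

/-- A cover of a group is a finite set of proper subgroups whose union is the whole group; it is minimal when no cover has fewer members, and nilpotent when all its members are nilpotent. The alternating groups of degree at least 5 and the symmetric groups of degree at least 4 have no nilpotent minimal cover. -/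
theorem result (n : ℕ) :
    (5 ≤ n → ¬ ∃ 𝓐 : Finset (Subgroup ↥(alternatingGroup (Fin n))), ((∀ A ∈ 𝓐, A ≠ ⊤) ∧ (∀ g : ↥(alternatingGroup (Fin n)), ∃ A ∈ 𝓐, g ∈ A)) ∧ (∀ 𝓑 : Finset (Subgroup ↥(alternatingGroup (Fin n))), (∀ A ∈ 𝓑, A ≠ ⊤) ∧ (∀ g : ↥(alternatingGroup (Fin n)), ∃ A ∈ 𝓑, g ∈ A) → 𝓐.card ≤ 𝓑.card) ∧ (∀ A ∈ 𝓐, Group.IsNilpotent ↥A)) ∧
    (4 ≤ n → ¬ ∃ 𝓐 : Finset (Subgroup (Equiv.Perm (Fin n))), ((∀ A ∈ 𝓐, A ≠ ⊤) ∧ (∀ g : (Equiv.Perm (Fin n)), ∃ A ∈ 𝓐, g ∈ A)) ∧ (∀ 𝓑 : Finset (Subgroup (Equiv.Perm (Fin n))), (∀ A ∈ 𝓑, A ≠ ⊤) ∧ (∀ g : (Equiv.Perm (Fin n)), ∃ A ∈ 𝓑, g ∈ A) → 𝓐.card ≤ 𝓑.card) ∧ (∀ A ∈ 𝓐, Group.IsNilpotent ↥A)) := by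
  constructor
  · rintro hn ⟨𝓐, h𝓐⟩
    rcases Nat.lt_or_ge n 6 with h6 | h6
    · have h5 : n = 5 := by omega
      subst h5
      exact no_nmc_alt_five 𝓐 h𝓐
    · exact no_nmc_alt_big h6 𝓐 h𝓐
  · rintro hn ⟨𝓐, h𝓐⟩
    rcases Nat.lt_or_ge n 6 with h6 | h6
    · have h45 : n = 4 ∨ n = 5 := by omega
      rcases h45 with rfl | rfl
      · exact no_nmc_perm_four 𝓐 h𝓐
      · exact no_nmc_perm_five 𝓐 h𝓐
    · exact no_nmc_perm_big h6 𝓐 h𝓐

end Cfsg.Agent.S3892
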