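import Cfsg.Statements.S3835
import Mathlib
import Cfsg.Agent.Helper16.QdExtra
import Cfsg.Agent.Helper2.SLGen
import Cfsg.Agent.Helper11.Meta
import Cfsg.Agent.S3892

set_option autoImplicit false
open Cfsg
set_option maxHeartbeats 1000000

namespace Cfsg.Agent.S3835

open Cfsg.Agent.Helper16

/-- all `p`-subgroups are abelian -/
def AbP (p : ℕ) (G : Type*) [Group G] : Prop :=
  ∀ P : Subgroup G, IsPGroup p P → ∀ x ∈ P, ∀ y ∈ P, x * y = y * x

theorem abP_of_injective {p : ℕ} {G H : Type*} [Group G] [Group H] (f : H →* G)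
    (hf : Function.Injective f) (h : AbP p G) : AbP p H := by
  intro P hP x hx y hy
  apply hf
  rw [map_mul, map_mul]
  exact h (P.map f) (hP.map f) (f x) (Subgroup.mem_map_of_mem f hx) (f y)
    (Subgroup.mem_map_of_mem f hy)

theorem abP_of_surjective {p : ℕ} [Fact p.Prime] {G Q : Type*} [Group G] [Finite G] [Group Q]
    (f : G →* Q) (hf : Function.Surjective f) (h : AbP p G) : AbP p Q := by
  intro P hP x hx y hy
  obtain ⟨T, hT⟩ := hP.exists_le_sylow
  obtain ⟨S, hS⟩ := Sylow.mapSurjective_surjective hf p T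
  have hTS : (T : Subgroup Q) = (S : Subgroup G).map f := by
    rw [← hS]; rfl
  have hx' : x ∈ (S : Subgroup G).map f := by rw [← hTS]; exact hT hx
  have hy' : y ∈ (S : Subgroup G).map f := by rw [← hTS]; exact hT hy
  obtain ⟨s, hs, rfl⟩ := hx'
  obtain ⟨t, ht, rfl⟩ := hy'
  rw [← map_mul, ← map_mul, h (S : Subgroup G) S.isPGroup' s hs t ht]

theorem abP_perm {p : ℕ} [Fact p.Prime] {n : ℕ} (hn : n < p ^ 2) :
    AbP p (Equiv.Perm (Fin n)) := by
  intro P hP x hx y hy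
  have hp : p.Prime := Fact.out
  refine Equiv.ext fun a => ?_
  obtain ⟨j, hj⟩ := hP.card_orbit a
  have hle : Nat.card (MulAction.orbit P a) ≤ n := by
    have := Nat.card_le_card_of_injective (Subtype.val : MulAction.orbit P a → Fin n)
      Subtype.val_injective
    rwa [Nat.card_eq_fintype_card (α := Fin n), Fintype.card_fin] at this
  have hj1 : j < 2 := by
    rw [hj] at hle
    exact (Nat.pow_lt_pow_iff_right hp.one_lt).1 (lt_of_le_of_lt hle hn)
  have hO : Nat.card (MulAction.orbit P a) < 2 * p := by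
    rw [hj]
    have h1 : p ^ j ≤ p ^ 1 := Nat.pow_le_pow_right hp.pos (by omega)
    rw [pow_one] at h1
    have h2 := hp.pos
    omega
  let ρ : ↥P →* Equiv.Perm (MulAction.orbit P a) := MulAction.toPermHom P (MulAction.orbit P a)
  have hR : IsPGroup p ↥ρ.range := hP.of_surjective ρ.rangeRestrict ρ.rangeRestrict_surjective
  have hdvd : Nat.card ↥ρ.range ∣ (Nat.card (MulAction.orbit P a)).factorial := by
    have := Subgroup.card_subgroup_dvd_card ρ.range
    rwa [Nat.card_perm] at this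
  have hcard : Nat.card ↥ρ.range ≤ p ^ 2 := by
    obtain ⟨i, hi⟩ := IsPGroup.iff_card.1 hR
    by_contra hgt
    rw [hi] at hgt
    have hi2 : 2 ≤ i := by
      by_contra h
      have h' : i ≤ 2 := by omega
      exact hgt (Nat.pow_le_pow_right hp.pos h')
    apply Cfsg.Agent.S3892.sq_not_dvd_factorial hp hO
    rw [hi] at hdvd
    exact (pow_dvd_pow p hi2).trans hdvd
  have hcomm := Cfsg.Agent.Helper11.comm_of_card_le_sq hR hcard
    ⟨ρ ⟨x, hx⟩, ⟨_, rfl⟩⟩ ⟨ρ ⟨y, hy⟩, ⟨_, rfl⟩⟩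
  have h2 : ρ ⟨x, hx⟩ * ρ ⟨y, hy⟩ = ρ ⟨y, hy⟩ * ρ ⟨x, hx⟩ := congrArg Subtype.val hcomm
  have h3 := congrArg (fun σ : Equiv.Perm (MulAction.orbit P a) =>
    ((σ ⟨a, MulAction.mem_orbit_self a⟩ : MulAction.orbit P a) : Fin n)) h2
  exact h3

theorem not_abP_qd {p : ℕ} [Fact p.Prime] : ¬ AbP p ↥(Cfsg.qdOver (ZMod p)) := by
  intro h
  have h1 := h (qdS0 (ZMod p)) qdS0_isPGroup (hs (1 : ZMod p) 0 0).1 (hs (1 : ZMod p) 0 0).2
    (hs (0 : ZMod p) 0 1).1 (hs (0 : ZMod p) 0 1).2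
  have h2 : hs (1 : ZMod p) 0 0 * hs (0 : ZMod p) 0 1 = hs (0 : ZMod p) 0 1 * hs (1 : ZMod p) 0 0 :=
    Subtype.ext h1
  rw [hs_mul, hs_mul] at h2
  have h3 := (hs_inj h2).2.1
  simp at h3

/-- the affine action of `Qd` on the plane -/
def planeAct (F : Type*) [Field F] : MulAction ↥(Cfsg.qdOver F) (F × F) where
  smul M v := (M.1.1 0 0 * v.1 + M.1.1 0 1 * v.2 + M.1.1 0 2,
    M.1.1 1 0 * v.1 + M.1.1 1 1 * v.2 + M.1.1 1 2)
  one_smul v := by
    show ((1 : ↥(Cfsg.qdOver F)).1.1 0 0 * v.1 + (1 : ↥(Cfsg.qdOver F)).1.1 0 1 * v.2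
        + (1 : ↥(Cfsg.qdOver F)).1.1 0 2,
      (1 : ↥(Cfsg.qdOver F)).1.1 1 0 * v.1 + (1 : ↥(Cfsg.qdOver F)).1.1 1 1 * v.2
        + (1 : ↥(Cfsg.qdOver F)).1.1 1 2) = v
    rw [Subgroup.coe_one, Matrix.SpecialLinearGroup.coe_one]
    exact Prod.ext (by simp) (by simp)
  mul_smul M N v := by
    obtain ⟨h0, h1, h2⟩ := qdOver_row N
    show ((M * N).1.1 0 0 * v.1 + (M * N).1.1 0 1 * v.2 + (M * N).1.1 0 2,
          (M * N).1.1 1 0 * v.1 + (M * N).1.1 1 1 * v.2 + (M * N).1.1 1 2) =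
      (M.1.1 0 0 * (N.1.1 0 0 * v.1 + N.1.1 0 1 * v.2 + N.1.1 0 2)
          + M.1.1 0 1 * (N.1.1 1 0 * v.1 + N.1.1 1 1 * v.2 + N.1.1 1 2) + M.1.1 0 2,
       M.1.1 1 0 * (N.1.1 0 0 * v.1 + N.1.1 0 1 * v.2 + N.1.1 0 2)
          + M.1.1 1 1 * (N.1.1 1 0 * v.1 + N.1.1 1 1 * v.2 + N.1.1 1 2) + M.1.1 1 2)
    rw [qdOver_mul_apply, qdOver_mul_apply, qdOver_mul_apply, qdOver_mul_apply, qdOver_mul_apply,
      qdOver_mul_apply, h0, h1, h2]
    exact Prod.ext (by ring) (by ring)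

/-- the permutation representation of `Qd` on the plane -/
def planeHom (F : Type*) [Field F] : ↥(Cfsg.qdOver F) →* Equiv.Perm (F × F) :=
  @MulAction.toPermHom _ _ _ (planeAct F)

theorem planeHom_apply {F : Type*} [Field F] (M : ↥(Cfsg.qdOver F)) (v : F × F) :
    planeHom F M v = (M.1.1 0 0 * v.1 + M.1.1 0 1 * v.2 + M.1.1 0 2,
      M.1.1 1 0 * v.1 + M.1.1 1 1 * v.2 + M.1.1 1 2) := rfl

theorem planeHom_injective {F : Type*} [Field F] : Function.Injective (planeHom F) := by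
  intro M N h
  have e0 : planeHom F M ((0 : F), (0 : F)) = planeHom F N ((0 : F), (0 : F)) := by rw [h]
  have e1 : planeHom F M ((1 : F), (0 : F)) = planeHom F N ((1 : F), (0 : F)) := by rw [h]
  have e2 : planeHom F M ((0 : F), (1 : F)) = planeHom F N ((0 : F), (1 : F)) := by rw [h]
  simp only [planeHom_apply, mul_zero, mul_one, zero_add, add_zero, Prod.mk.injEq] at e0 e1 e2
  obtain ⟨a02, a12⟩ := e0
  obtain ⟨a00, a10⟩ := e1
  obtain ⟨a01, a11⟩ := e2
  rw [a02] at a00 a01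
  rw [a12] at a10 a11
  exact qdOver_ext6 (add_right_cancel a00) (add_right_cancel a01) a02 (add_right_cancel a10)
    (add_right_cancel a11) a12

theorem units_eq_one_of_pow {u : ℤˣ} {m : ℕ} (hm : Odd m) (h : u ^ m = 1) : u = 1 := by
  rcases Int.units_eq_one_or u with h1 | h1
  · exact h1
  · rw [h1, Odd.neg_one_pow hm] at h
    exact absurd h (by decide)

theorem transvection_pow {F : Type*} [Field F] {i j : Fin 2} (h : i ≠ j) (c : F) (k : ℕ) :
    Matrix.SpecialLinearGroup.transvection h c ^ k =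
      Matrix.SpecialLinearGroup.transvection h ((k : F) * c) := by
  induction k with
  | zero =>
    rw [pow_zero, Nat.cast_zero, zero_mul, Matrix.SpecialLinearGroup.transvection_coeff_zero]
  | succ k ih =>
    rw [pow_succ, ih, ← Matrix.SpecialLinearGroup.transvection_add]
    congr 1
    push_cast
    ring

theorem hom_trivial {p : ℕ} [Fact p.Prime] (hp2 : p ≠ 2)
    (χ : ↥(Cfsg.qdOver (ZMod p)) →* ℤˣ) (M : ↥(Cfsg.qdOver (ZMod p))) : χ M = 1 := by
  have hp : p.Prime := Fact.out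
  have hodd : Odd p := hp.odd_of_ne_two hp2
  have key : ∀ (g : ↥(Cfsg.qdOver (ZMod p))) (k : ℕ), g ^ p ^ k = 1 → χ g = 1 := by
    intro g k hg
    apply units_eq_one_of_pow (hodd.pow (n := k))
    rw [← map_pow, hg, map_one]
  have hker : ∀ g : ↥(Cfsg.qdOver (ZMod p)), g ∈ (qdPi (ZMod p)).ker → χ g = 1 := by
    intro g hg
    obtain ⟨k, hk⟩ := qdPi_ker_isPGroup (F := ZMod p) (p := p) ⟨g, hg⟩
    have hk' : g ^ p ^ k = 1 := by
      have := congrArg Subtype.val hk
      rwa [Subgroup.coe_pow, Subgroup.coe_one] at this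
    exact key g k hk'
  have hsec : ∀ A : Matrix.SpecialLinearGroup (Fin 2) (ZMod p), χ (qdSec (ZMod p) A) = 1 := by
    intro A
    refine Cfsg.Agent.Helper2.transvection_induction
      (fun A => χ (qdSec (ZMod p) A) = 1) ?_ ?_ A
    · intro i j h c
      show χ (qdSec (ZMod p) (Matrix.SpecialLinearGroup.transvection h c)) = 1
      apply key _ 1
      rw [pow_one, ← map_pow, transvection_pow, CharP.cast_eq_zero, zero_mul,
        Matrix.SpecialLinearGroup.transvection_coeff_zero, map_one]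
    · intro A B hA hB
      have hA' : χ (qdSec (ZMod p) A) = 1 := hA
      have hB' : χ (qdSec (ZMod p) B) = 1 := hB
      show χ (qdSec (ZMod p) (A * B)) = 1
      rw [map_mul, map_mul, hA', hB', one_mul]
  have h1 : M * (qdSec (ZMod p) (qdPi (ZMod p) M))⁻¹ ∈ (qdPi (ZMod p)).ker := by
    rw [MonoidHom.mem_ker, map_mul, map_inv, qdPi_sec, mul_inv_cancel]
  have h2 : χ M = χ (M * (qdSec (ZMod p) (qdPi (ZMod p) M))⁻¹)
      * χ (qdSec (ZMod p) (qdPi (ZMod p) M)) := by
    rw [← map_mul, inv_mul_cancel_right]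
  rw [h2, hker _ h1, hsec, one_mul]

theorem exists_embedding {p : ℕ} [Fact p.Prime] (hp2 : p ≠ 2) {n : ℕ} (hn : p ^ 2 ≤ n) :
    ∃ H : Subgroup (alternatingGroup (Fin n)), Nonempty (↥H ≃* ↥(Cfsg.qdOver (ZMod p))) := by
  have hcard : Fintype.card (ZMod p × ZMod p) ≤ Fintype.card (Fin n) := by
    rw [Fintype.card_prod, ZMod.card, Fintype.card_fin, ← sq]
    exact hn
  obtain ⟨ι⟩ := Function.Embedding.nonempty_of_card_le hcard
  obtain ⟨ψ, hψdef⟩ : ∃ ψ : ↥(Cfsg.qdOver (ZMod p)) →* Equiv.Perm (Fin n),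
      ψ = (Equiv.Perm.viaEmbeddingHom ι).comp (planeHom (ZMod p)) := ⟨_, rfl⟩
  have hψ : Function.Injective ψ := by
    rw [hψdef]
    exact (Equiv.Perm.viaEmbeddingHom_injective ι).comp planeHom_injective
  have hmem : ∀ M, ψ M ∈ alternatingGroup (Fin n) := by
    intro M
    rw [Equiv.Perm.mem_alternatingGroup]
    exact hom_trivial hp2 (Equiv.Perm.sign.comp ψ) M
  have hψ' : Function.Injective (ψ.codRestrict (alternatingGroup (Fin n)) hmem) := by
    intro a b hab
    apply hψ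
    exact congrArg Subtype.val hab
  exact ⟨(ψ.codRestrict (alternatingGroup (Fin n)) hmem).range,
    ⟨(MonoidHom.ofInjective hψ').symm⟩⟩

/-- Let p be an odd prime and n a natural number. The alternating group of degree n has a subgroup isomorphic to Qd(p) (the natural semidirect product of an elementary abelian group of order p² by SL₂(p)) if and only if n ≥ p²; and if n < p² then Qd(p) is not even involved in it. -/
theorem result {p : ℕ} [Fact p.Prime] (hp : p ≠ 2) (n : ℕ) : ((∃ H : Subgroup (alternatingGroup (Fin n)), Nonempty (↥H ≃* ↥(Cfsg.qd p))) ↔ p ^ 2 ≤ n) ∧ (n < p ^ 2 → ¬ Cfsg.Involves ↥(Cfsg.qd p) ↥(alternatingGroup (Fin n))) := by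
  have hinv : ∀ (H : Subgroup (alternatingGroup (Fin n))), n < p ^ 2 → AbP p ↥H := by
    intro H hn
    have h1 : AbP p (Equiv.Perm (Fin n)) := abP_perm hn
    have h2 : AbP p ↥(alternatingGroup (Fin n)) :=
      abP_of_injective (alternatingGroup (Fin n)).subtype (Subgroup.subtype_injective _) h1
    exact abP_of_injective H.subtype (Subgroup.subtype_injective _) h2
  refine ⟨⟨?_, ?_⟩, ?_⟩
  · rintro ⟨H, ⟨e⟩⟩
    by_contra hlt
    have h3 : AbP p ↥H := hinv H (lt_of_not_ge hlt)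
    have h5 : AbP p ↥(Cfsg.qd p) := abP_of_injective e.symm.toMonoidHom e.symm.injective h3
    exact not_abP_qd h5
  · intro hn
    exact exists_embedding hp hn
  · intro hn hI
    obtain ⟨K, R, hN, ⟨e⟩⟩ := hI
    haveI := hN
    have h3 : AbP p ↥K := hinv K hn
    have h4 : AbP p (↥K ⧸ R.subgroupOf K) :=
      abP_of_surjective (QuotientGroup.mk' (R.subgroupOf K)) (QuotientGroup.mk'_surjective _) h3
    have h5 : AbP p ↥(Cfsg.qd p) := abP_of_injective e.symm.toMonoidHom e.symm.injective h4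
    exact not_abP_qd h5

end Cfsg.Agent.S3835
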