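import Cfsg.Statements.S3868
import Mathlib
import Cfsg.Agent.Helper20.MinNonPClosed2
import Cfsg.Agent.Helper20.Wielandt

set_option autoImplicit false
open Cfsg

namespace Cfsg.Agent.S3868

/-- Structure of the non-simple minimal non-p-closed groups. Call a finite group p-closed when its Sylow p-subgroups are normal, and minimal non-p-closed when it is not p-closed but every proper subgroup and every proper quotient is. If such a group G is not simple, then there is a prime q ≠ p such that G has order p · q^e, where e is the multiplicative order of q modulo p, and G has a normal subgroup A of order q^e that is elementary abelian and is a minimal normal subgroup of G (so G is the semidirect product of A by a group of order p acting irreducibly). -/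
theorem result {G : Type*} [Group G] [Finite G] {p : ℕ} [Fact p.Prime]
    (hnc : ¬ Cfsg.IsPClosed p G) (hsub : ∀ H : Subgroup G, H ≠ ⊤ → Cfsg.IsPClosed p ↥H)
    (hquo : ∀ (N : Subgroup G) [N.Normal], N ≠ ⊥ → Cfsg.IsPClosed p (G ⧸ N)) (hns : ¬ IsSimpleGroup G) :
    ∃ q : ℕ, q.Prime ∧ q ≠ p ∧ Nat.card G = p * q ^ orderOf (q : ZMod p) ∧
      ∃ A : Subgroup G, A.Normal ∧ Nat.card ↥A = q ^ orderOf (q : ZMod p) ∧ Cfsg.IsElementaryAbelian q A ∧
        ∀ B : Subgroup G, B.Normal → B ≤ A → B = ⊥ ∨ B = A := by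
  classical
  have hp := (Fact.out : p.Prime)
  obtain ⟨P, hPn⟩ : ∃ P : Sylow p G, ¬ (P : Subgroup G).Normal := by
    by_contra h
    exact hnc fun P => Classical.by_contradiction fun hP => h ⟨P, hP⟩
  haveI : Nontrivial G := by
    by_contra hnt
    rw [not_nontrivial_iff_subsingleton] at hnt
    apply hPn
    have h1 : (P : Subgroup G) = ⊥ := Subgroup.eq_bot_of_subsingleton _
    rw [h1]
    infer_instance
  obtain ⟨N, hNn, hNbot, hNtop⟩ : ∃ N : Subgroup G, N.Normal ∧ N ≠ ⊥ ∧ N ≠ ⊤ := by
    by_contra h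
    apply hns
    exact { eq_bot_or_eq_top_of_normal := fun H hH => by
              by_cases h1 : H = ⊥
              · exact Or.inl h1
              · right
                by_contra h2
                exact h ⟨H, hH, h1, h2⟩ }
  obtain ⟨A, hAN, hAn, hAbot, hAmin⟩ := Cfsg.Agent.Helper20.exists_minNormal_le N hNn hNbot
  haveI := hAn
  have hAtop : A ≠ ⊤ := fun h => hNtop (eq_top_iff.2 (h ▸ hAN))
  have hloc : ∀ H : Subgroup G, H ≠ ⊤ → (P : Subgroup G) ≤ H →
      H ≤ Subgroup.normalizer ((P : Subgroup G) : Set G) := by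
    intro H hH hPH
    have h1 := hsub H hH (P.subtype hPH)
    rw [Sylow.coe_subtype] at h1
    exact (Subgroup.normal_subgroupOf_iff_le_normalizer hPH).1 h1
  have hPA : (P : Subgroup G) ⊔ A = ⊤ := by
    by_contra hne
    apply hPn
    have hQn : ((P.mapSurjective (QuotientGroup.mk'_surjective A) : Sylow p (G ⧸ A)) :
        Subgroup (G ⧸ A)).Normal := hquo A hAbot _
    rw [Sylow.coe_mapSurjective] at hQn
    have hMn : ((P : Subgroup G) ⊔ A).Normal := by
      have h1 : (((P : Subgroup G).map (QuotientGroup.mk' A)).comap (QuotientGroup.mk' A)).Normal :=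
        hQn.comap _
      rw [Subgroup.comap_map_eq, QuotientGroup.ker_mk'] at h1
      exact h1
    exact Cfsg.Agent.Helper20.sylow_normal_of_le_normal P _ le_sup_left (hloc _ hne le_sup_left)
  have hAp' : ¬ p ∣ Nat.card ↥A := by
    intro hdvd
    obtain ⟨S⟩ : Nonempty (Sylow p ↥A) := inferInstance
    have hSn : (S : Subgroup ↥A).Normal := hsub A hAtop S
    haveI : (S : Subgroup ↥A).Characteristic := S.characteristic_of_normal hSn
    have hP0n : ((S : Subgroup ↥A).map A.subtype).Normal :=
      Cfsg.Agent.Helper9.char_map_normal A (S : Subgroup ↥A)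
    have hP0bot : (S : Subgroup ↥A).map A.subtype ≠ ⊥ := by
      intro h
      rw [Subgroup.map_eq_bot_iff_of_injective _ A.subtype_injective] at h
      exact S.ne_bot_of_dvd_card hdvd h
    have hP0 := hAmin _ hP0n hP0bot (Subgroup.map_subtype_le _)
    have hAp : IsPGroup p ↥A := by
      have h1 : IsPGroup p ↥((S : Subgroup ↥A).map A.subtype) := S.isPGroup'.map _
      rw [hP0] at h1
      exact h1
    have hAP : A ≤ (P : Subgroup G) := by
      have h1 : IsPGroup p ↥(A ⊔ (P : Subgroup G)) := hAp.to_sup_of_normal_left P.isPGroup'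
      have h2 : A ⊔ (P : Subgroup G) = P := P.is_maximal' h1 le_sup_right
      rw [← h2]
      exact le_sup_left
    apply hPn
    have h3 : (P : Subgroup G) = ⊤ := by
      rw [← hPA]
      exact (sup_eq_left.2 hAP).symm
    rw [h3]
    infer_instance
  obtain ⟨n, hn⟩ := (IsPGroup.iff_card).1 P.isPGroup'
  have hcop : (Nat.card (P : Subgroup G)).Coprime (Nat.card ↥A) := by
    rw [hn]
    exact Nat.Coprime.pow_left n ((Nat.Prime.coprime_iff_not_dvd hp).2 hAp')
  have hdisj : (P : Subgroup G) ⊓ A = ⊥ := (Subgroup.disjoint_of_coprime_natCard hcop).eq_bot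
  have hidx : A.index = Nat.card (P : Subgroup G) := by
    rw [← Subgroup.relIndex_top_right, ← hPA, Subgroup.relIndex_sup_right,
      ← Subgroup.inf_relIndex_right, inf_comm, hdisj, Subgroup.relIndex_bot_left]
  have hPsolv : Group.IsSolvable ↥(P : Subgroup G) := by
    haveI : Group.IsNilpotent ↥(P : Subgroup G) := P.isPGroup'.isNilpotent
    infer_instance
  obtain ⟨q, hq, k, hk⟩ := Cfsg.Agent.Helper20.exists_prime_card_of_inv_sylow (P : Subgroup G) A
    hcop hPsolv hPA hPn (by
      intro Q hQA hPQ hne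
      exact le_sup_right.trans (hloc _ hne le_sup_left))
  haveI : Fact q.Prime := ⟨hq⟩
  have hAq : IsPGroup q ↥A := IsPGroup.of_card hk
  have hk0 : k ≠ 0 := by
    intro h0
    rw [h0, pow_zero] at hk
    exact hAbot (Subgroup.card_eq_one.1 hk)
  have hqp : q ≠ p := by
    intro h
    apply hAp'
    rw [hk, h]
    exact dvd_pow_self p hk0
  have hEA := Cfsg.Agent.Helper20.isElementaryAbelian_of_minNormal A hAq hAbot hAmin
  have hcent : ∀ P₁ : Subgroup G, P₁ ≤ (P : Subgroup G) → P₁ ≠ (P : Subgroup G) →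
      ∀ y ∈ P₁, ∀ a ∈ A, y * a = a * y := by
    intro P₁ hP₁ hne y hy a ha
    have hHne : P₁ ⊔ A ≠ ⊤ := by
      intro htop
      apply hne
      apply le_antisymm hP₁
      intro x hx
      have hx' : x ∈ P₁ ⊔ A := by
        rw [htop]
        exact Subgroup.mem_top x
      rw [sup_comm] at hx'
      obtain ⟨l, hl, m, hm, rfl⟩ := Cfsg.Agent.Helper20.mem_sup_of_le_normalizer A P₁
        (by rw [Subgroup.normalizer_eq_top]; exact le_top) x hx'
      have hlP : l ∈ (P : Subgroup G) := by
        have h1 := (P : Subgroup G).mul_mem hx ((P : Subgroup G).inv_mem (hP₁ hm))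
        rwa [mul_inv_cancel_right] at h1
      have hl1 : l ∈ (P : Subgroup G) ⊓ A := ⟨hlP, hl⟩
      rw [hdisj, Subgroup.mem_bot] at hl1
      rw [hl1, one_mul]
      exact hm
    have hcl := hsub (P₁ ⊔ A) hHne
    have hP₁H : P₁ ≤ P₁ ⊔ A := le_sup_left
    have hAH : A ≤ P₁ ⊔ A := le_sup_right
    have hP₁p : IsPGroup p ↥(P₁.subgroupOf (P₁ ⊔ A)) :=
      (P.isPGroup'.to_le hP₁).comap_of_injective (P₁ ⊔ A).subtype (P₁ ⊔ A).subtype_injective
    obtain ⟨S, hS⟩ := hP₁p.exists_le_sylow
    have hSn : (S : Subgroup ↥(P₁ ⊔ A)).Normal := hcl S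
    have hAHn : (A.subgroupOf (P₁ ⊔ A)).Normal := inferInstance
    have hAHq : IsPGroup q ↥(A.subgroupOf (P₁ ⊔ A)) :=
      hAq.comap_of_injective (P₁ ⊔ A).subtype (P₁ ⊔ A).subtype_injective
    have hdis : Disjoint (S : Subgroup ↥(P₁ ⊔ A)) (A.subgroupOf (P₁ ⊔ A)) :=
      IsPGroup.disjoint_of_ne p q hqp.symm _ _ S.isPGroup' hAHq
    have hc := Subgroup.commute_of_normal_of_disjoint (S : Subgroup ↥(P₁ ⊔ A))
      (A.subgroupOf (P₁ ⊔ A)) hSn hAHn hdis ⟨y, hP₁H hy⟩ ⟨a, hAH ha⟩
      (hS (Subgroup.mem_subgroupOf.2 hy)) (Subgroup.mem_subgroupOf.2 ha)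
    exact congrArg Subtype.val hc.eq
  obtain ⟨x, hxP, hxA⟩ : ∃ x ∈ (P : Subgroup G), ¬ ∀ a ∈ A, x * a = a * x := by
    by_contra h
    apply hPn
    have hAN' : A ≤ Subgroup.normalizer ((P : Subgroup G) : Set G) := by
      apply Cfsg.Agent.Helper20.le_normalizer_of_forall_conj_mem
      intro a ha y hy
      have hall : ∀ a ∈ A, y * a = a * y :=
        Classical.by_contradiction fun hne => h ⟨y, hy, hne⟩
      rw [← hall a ha, mul_inv_cancel_right]
      exact hy
    rw [← Subgroup.normalizer_eq_top_iff, eq_top_iff, ← hPA]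
    exact sup_le Subgroup.le_normalizer hAN'
  have hPx : (P : Subgroup G) = Subgroup.zpowers x := by
    by_contra hne
    apply hxA
    exact hcent (Subgroup.zpowers x) (by rw [Subgroup.zpowers_le]; exact hxP) (Ne.symm hne) x
      (Subgroup.mem_zpowers x)
  have hx1 : x ≠ 1 := by
    intro h
    apply hxA
    intro a _
    rw [h, one_mul, mul_one]
  obtain ⟨j, hj, hj0⟩ : ∃ j, orderOf x = p ^ j ∧ j ≠ 0 := by
    obtain ⟨k', hk'⟩ := P.isPGroup' ⟨x, hxP⟩
    have hk'' : x ^ (p ^ k') = 1 := by
      have h1 := congrArg Subtype.val hk'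
      rw [SubmonoidClass.coe_pow] at h1
      exact h1
    obtain ⟨j, -, hj⟩ := (Nat.dvd_prime_pow hp).1 (orderOf_dvd_of_pow_eq_one hk'')
    refine ⟨j, hj, ?_⟩
    intro h0
    rw [h0, pow_zero, orderOf_eq_one_iff] at hj
    exact hx1 hj
  have hxp : x ^ p = 1 := by
    by_contra hxp
    have hZP : Subgroup.zpowers (x ^ p) ≤ (P : Subgroup G) := by
      rw [Subgroup.zpowers_le]
      exact (P : Subgroup G).pow_mem hxP p
    have hZne : Subgroup.zpowers (x ^ p) ≠ (P : Subgroup G) := by
      intro h
      have hxZ : x ∈ Subgroup.zpowers (x ^ p) := by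
        rw [h]
        exact hxP
      obtain ⟨m, hm⟩ := Subgroup.mem_zpowers_iff.1 hxZ
      have h1 : x ^ ((p : ℤ) * m - 1) = 1 := by
        rw [zpow_sub_one, zpow_mul, zpow_natCast, hm, mul_inv_cancel]
      have h2 : (orderOf x : ℤ) ∣ (p : ℤ) * m - 1 := orderOf_dvd_iff_zpow_eq_one.2 h1
      have h3 : (p : ℤ) ∣ (orderOf x : ℤ) := by
        rw [hj]
        exact_mod_cast dvd_pow_self p hj0
      have h4 : (p : ℤ) ∣ 1 := by
        have h5 := h3.trans h2
        have h6 : (p : ℤ) ∣ (p : ℤ) * m := dvd_mul_right _ _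
        have h7 := dvd_sub h6 h5
        simpa using h7
      have h8 : p ∣ 1 := by exact_mod_cast h4
      exact hp.one_lt.ne' (Nat.dvd_one.1 h8)
    have hZc := hcent _ hZP hZne
    have hZcen : ∀ z ∈ Subgroup.zpowers (x ^ p), ∀ g : G, g * z = z * g := by
      intro z hz g
      have hg : g ∈ Subgroup.centralizer ({z} : Set G) := by
        have h1 : (P : Subgroup G) ⊔ A ≤ Subgroup.centralizer ({z} : Set G) := by
          apply sup_le
          · intro y hy
            rw [Subgroup.mem_centralizer_iff]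
            intro w hw
            rw [Set.mem_singleton_iff] at hw
            rw [hw]
            rw [hPx] at hy
            have hzx : z ∈ Subgroup.zpowers x := by
              rw [← hPx]
              exact hZP hz
            obtain ⟨m₁, rfl⟩ := Subgroup.mem_zpowers_iff.1 hy
            obtain ⟨m₂, rfl⟩ := Subgroup.mem_zpowers_iff.1 hzx
            exact ((Commute.refl x).zpow_zpow m₂ m₁).eq
          · intro a ha
            rw [Subgroup.mem_centralizer_iff]
            intro w hw
            rw [Set.mem_singleton_iff] at hw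
            rw [hw]
            exact hZc z hz a ha
        rw [hPA] at h1
        exact h1 (Subgroup.mem_top g)
      rw [Subgroup.mem_centralizer_iff] at hg
      exact (hg z rfl).symm
    haveI hZn : (Subgroup.zpowers (x ^ p)).Normal := by
      refine ⟨fun z hz g => ?_⟩
      rw [hZcen z hz g, mul_inv_cancel_right]
      exact hz
    have hZbot : Subgroup.zpowers (x ^ p) ≠ ⊥ := by
      intro h
      apply hxp
      have h1 : x ^ p ∈ Subgroup.zpowers (x ^ p) := Subgroup.mem_zpowers _
      rw [h, Subgroup.mem_bot] at h1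
      exact h1
    have hQn : ((P.mapSurjective (QuotientGroup.mk'_surjective (Subgroup.zpowers (x ^ p))) :
        Sylow p (G ⧸ Subgroup.zpowers (x ^ p))) : Subgroup (G ⧸ Subgroup.zpowers (x ^ p))).Normal :=
      hquo _ hZbot _
    rw [Sylow.coe_mapSurjective] at hQn
    have h1 : (((P : Subgroup G).map (QuotientGroup.mk' (Subgroup.zpowers (x ^ p)))).comap
        (QuotientGroup.mk' (Subgroup.zpowers (x ^ p)))).Normal := hQn.comap _
    rw [Subgroup.comap_map_eq, QuotientGroup.ker_mk', sup_eq_left.2 hZP] at h1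
    exact hPn h1
  have hordp : orderOf x = p := by
    rcases (Nat.dvd_prime hp).1 (orderOf_dvd_of_pow_eq_one hxp) with h | h
    · rw [orderOf_eq_one_iff] at h
      exact absurd h hx1
    · exact h
  have hidxp : A.index = p := by
    rw [hidx, hPx, Nat.card_zpowers]
    exact hordp
  have hna : ¬ IsMulCommutative G := by
    intro hc
    apply hPn
    refine ⟨fun y hy g => ?_⟩
    rw [hc.is_comm.comm g y, mul_inv_cancel_right]
    exact hy
  have hmin' : ∀ B : Subgroup G, B.Normal → B ≤ A → B = ⊥ ∨ B = A := by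
    intro B hB hBA
    by_cases hb : B = ⊥
    · exact Or.inl hb
    · exact Or.inr (hAmin B hB hb hBA)
  have hcardA := Cfsg.Agent.Helper20.card_minNormal_of_index_prime hq hna A hEA hidxp hmin'
  refine ⟨q, hq, hqp, ?_, A, hAn, hcardA, hEA, hmin'⟩
  rw [← Subgroup.card_mul_index A, hidxp, hcardA, mul_comm]

end Cfsg.Agent.S3868
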