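import Cfsg.Statements.S3869
import Mathlib
import Cfsg.Agent.Helper20.MinNonPClosed

set_option autoImplicit false
open Cfsg

namespace Cfsg.Agent.S3869

/-- Let p and q be distinct primes and G a finite non-abelian group with a normal elementary abelian q-subgroup A that is a minimal normal subgroup of G and has index p. Then A has order q^e with e the multiplicative order of q modulo p, and G is minimal non-p-closed: its Sylow p-subgroups are not normal, while in every proper subgroup and in every proper quotient of G the Sylow p-subgroups are normal. -/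
theorem result {G : Type*} [Group G] [Finite G] {p q : ℕ} [Fact p.Prime] (hq : q.Prime) (hpq : q ≠ p)
    (hna : ¬ IsMulCommutative G) (A : Subgroup G) [A.Normal] (hA : Cfsg.IsElementaryAbelian q A) (hidx : A.index = p)
    (hmin : ∀ B : Subgroup G, B.Normal → B ≤ A → B = ⊥ ∨ B = A) :
    Nat.card ↥A = q ^ orderOf (q : ZMod p) ∧ ¬ Cfsg.IsPClosed p G ∧ (∀ H : Subgroup G, H ≠ ⊤ → Cfsg.IsPClosed p ↥H) ∧
      ∀ (N : Subgroup G) [N.Normal], N ≠ ⊥ → Cfsg.IsPClosed p (G ⧸ N) := by
  have hp := (Fact.out : p.Prime)
  haveI : Fact q.Prime := ⟨hq⟩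
  have hAcomm : ∀ a ∈ A, ∀ b ∈ A, a * b = b * a := by
    intro a ha b hb
    have h1 := hA.1.is_comm.comm (⟨a, ha⟩ : ↥A) ⟨b, hb⟩
    have h2 := congrArg Subtype.val h1
    exact h2
  have hAq : IsPGroup q ↥A := by
    intro a
    refine ⟨1, ?_⟩
    rw [pow_one]
    apply Subtype.ext
    rw [SubmonoidClass.coe_pow]
    exact hA.2 a a.2
  have hcard := Cfsg.Agent.Helper20.card_minNormal_of_index_prime hq hna A hA hidx hmin
  have hmax : ∀ K : Subgroup G, A ≤ K → ∀ x ∈ K, x ∉ A → K = ⊤ :=
    fun K hle x hxK hxA => Cfsg.Agent.Helper20.eq_top_of_index_prime hp A K hidx hle hxK hxA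
  have hdisj : ∀ H : Subgroup G, H ⊓ A = ⊥ → Nat.card H ∣ p := by
    intro H hHA
    have h1 := Subgroup.relIndex_dvd_index_of_normal A H
    rw [hidx, ← Subgroup.inf_relIndex_right, inf_comm, hHA, Subgroup.relIndex_bot_left] at h1
    exact h1
  have hnc : ¬ Cfsg.IsPClosed p G := by
    intro hcl
    obtain ⟨P⟩ : Nonempty (Sylow p G) := inferInstance
    haveI := hcl P
    have hdis : Disjoint (P : Subgroup G) A :=
      IsPGroup.disjoint_of_ne p q hpq.symm _ _ P.isPGroup' hAq
    have hPbot : (P : Subgroup G) ≠ ⊥ := by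
      apply Sylow.ne_bot_of_dvd_card
      rw [← Subgroup.card_mul_index A, hidx]
      exact dvd_mul_left p _
    obtain ⟨y, hyP, hyA⟩ : ∃ y ∈ (P : Subgroup G), y ∉ A := by
      by_contra h
      apply hPbot
      have hle : (P : Subgroup G) ≤ A :=
        fun y hy => Classical.by_contradiction fun hyA => h ⟨y, hy, hyA⟩
      have h1 := hdis.eq_bot
      rw [inf_eq_left.2 hle] at h1
      exact h1
    apply hna
    apply Cfsg.Agent.Helper20.isMulCommutative_of_centralizes hp A hAcomm hidx y hyA
    intro a ha
    exact (Subgroup.commute_of_normal_of_disjoint (P : Subgroup G) A inferInstance inferInstance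
      hdis y a hyP ha).eq
  have hsub : ∀ H : Subgroup G, H ≠ ⊤ → Cfsg.IsPClosed p ↥H := by
    intro H hH P
    by_cases hHA : H ≤ A
    · have hHq : IsPGroup q ↥H := by
        intro h
        refine ⟨1, ?_⟩
        rw [pow_one]
        apply Subtype.ext
        rw [SubmonoidClass.coe_pow]
        exact hA.2 h (hHA h.2)
      exact Cfsg.Agent.Helper20.sylow_normal_of_isPGroup_ne hpq hHq P
    · obtain ⟨y, hyH, hyA⟩ : ∃ y ∈ H, y ∉ A := by
        by_contra h
        exact hHA fun y hy => Classical.by_contradiction fun hyA => h ⟨y, hy, hyA⟩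
      have hnorm : (H ⊓ A).Normal := by
        rw [← Subgroup.normalizer_eq_top_iff]
        apply hmax _ _ y _ hyA
        · apply Cfsg.Agent.Helper20.le_normalizer_of_forall_conj_mem
          intro a ha z hz
          have h1 : a * z * a⁻¹ = z := by rw [hAcomm a ha z hz.2, mul_inv_cancel_right]
          rw [h1]
          exact hz
        · have h1 : H ≤ Subgroup.normalizer ((H ⊓ A : Subgroup G) : Set G) := by
            apply Cfsg.Agent.Helper20.le_normalizer_of_forall_conj_mem
            intro h hh z hz
            exact ⟨H.mul_mem (H.mul_mem hh hz.1) (H.inv_mem hh),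
              Subgroup.Normal.conj_mem inferInstance z hz.2 h⟩
          exact h1 hyH
      rcases hmin _ hnorm inf_le_right with h | h
      · exact Cfsg.Agent.Helper20.sylow_normal_of_isPGroup
          (Cfsg.Agent.Helper20.isPGroup_of_card_dvd_prime hp (hdisj H h)) P
      · exfalso
        apply hH
        apply hmax H _ y hyH hyA
        rw [← h]
        exact inf_le_left
  have hquo : ∀ (N : Subgroup G) [N.Normal], N ≠ ⊥ → Cfsg.IsPClosed p (G ⧸ N) := by
    intro N hN hNbot P
    have hnorm : (N ⊓ A).Normal := inferInstance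
    rcases hmin _ hnorm inf_le_right with h | h
    · exfalso
      apply hnc
      intro P'
      have hNcard : Nat.card N = p := by
        rcases (Nat.dvd_prime hp).1 (hdisj N h) with h1 | h1
        · exact absurd (Subgroup.card_eq_one.1 h1) hNbot
        · exact h1
      have hNp : IsPGroup p ↥N := IsPGroup.of_card (n := 1) (by rw [hNcard, pow_one])
      have hNP' : N ≤ (P' : Subgroup G) := by
        have h1 : IsPGroup p ↥(N ⊔ (P' : Subgroup G)) := hNp.to_sup_of_normal_left P'.isPGroup'
        have h2 : N ⊔ (P' : Subgroup G) = P' := P'.is_maximal' h1 le_sup_right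
        rw [← h2]
        exact le_sup_left
      have hP'card : Nat.card (P' : Subgroup G) ∣ p := by
        apply hdisj
        exact (IsPGroup.disjoint_of_ne p q hpq.symm _ _ P'.isPGroup' hAq).eq_bot
      have hPN : (P' : Subgroup G) = N := by
        symm
        apply Subgroup.eq_of_le_of_card_ge hNP'
        rw [hNcard]
        exact Nat.le_of_dvd hp.pos hP'card
      rw [hPN]
      exact hN
    · have hAN : A ≤ N := by
        rw [← h]
        exact inf_le_left
      have h1 : Nat.card (G ⧸ N) ∣ p := by
        rw [← Subgroup.index_eq_card, ← hidx]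
        exact Subgroup.index_dvd_of_le hAN
      exact Cfsg.Agent.Helper20.sylow_normal_of_isPGroup
        (Cfsg.Agent.Helper20.isPGroup_of_card_dvd_prime hp h1) P
  exact ⟨hcard, hnc, hsub, hquo⟩

end Cfsg.Agent.S3869
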