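import Cfsg.Statements.S3870
import Mathlib
import Cfsg.Agent.Helper20.PClosed

set_option autoImplicit false
open Cfsg

namespace Cfsg.Agent.S3870

open Cfsg.Agent.Helper20

/-- Let G be a finite simple group whose Sylow p-subgroups are not normal but such that every proper subgroup of G has a normal Sylow p-subgroup. Then any two distinct Sylow p-subgroups of G intersect trivially, and for every Sylow p-subgroup P the normalizer of every non-identity subgroup of P lies in the normalizer of P. -/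
theorem result {G : Type*} [Group G] [Finite G] [IsSimpleGroup G] {p : ℕ} [Fact p.Prime]
    (hnc : ¬ Cfsg.IsPClosed p G) (hsub : ∀ H : Subgroup G, H ≠ ⊤ → Cfsg.IsPClosed p ↥H) :
    (∀ P Q : Sylow p G, P ≠ Q → (P : Subgroup G) ⊓ (Q : Subgroup G) = ⊥) ∧
      ∀ (P : Sylow p G) (R : Subgroup G), R ≤ P → R ≠ ⊥ →
        Subgroup.normalizer (R : Set G) ≤ Subgroup.normalizer ((P : Subgroup G) : Set G) := by
  classical
  have hTI : ∀ P Q : Sylow p G, P ≠ Q → (P : Subgroup G) ⊓ (Q : Subgroup G) = ⊥ := by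
    by_contra hcon
    push Not at hcon
    let s : Set (Sylow p G × Sylow p G) := {x | x.1 ≠ x.2 ∧ (x.1 : Subgroup G) ⊓ (x.2 : Subgroup G) ≠ ⊥}
    have hs : s.Nonempty := by
      obtain ⟨P, Q, h1, h2⟩ := hcon
      exact ⟨(P, Q), h1, h2⟩
    obtain ⟨⟨P, Q⟩, ⟨hPQ, hD⟩, hmax⟩ := Set.exists_max_image s
      (fun x => Nat.card ↥((x.1 : Subgroup G) ⊓ (x.2 : Subgroup G))) (Set.toFinite s) hs
    simp only at hPQ hD hmax
    have hDneP : (P : Subgroup G) ⊓ (Q : Subgroup G) ≠ (P : Subgroup G) := by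
      intro h
      exact hPQ (sylow_eq_of_le P Q (inf_eq_left.mp h))
    have hDneQ : (P : Subgroup G) ⊓ (Q : Subgroup G) ≠ (Q : Subgroup G) := by
      intro h
      exact hPQ (sylow_eq_of_le Q P (inf_eq_right.mp h)).symm
    have hNne : Subgroup.normalizer ((((P : Subgroup G) ⊓ (Q : Subgroup G) : Subgroup G)) : Set G) ≠ ⊤ := by
      intro htop
      have hn : ((P : Subgroup G) ⊓ (Q : Subgroup G)).Normal := Subgroup.normalizer_eq_top_iff.mp htop
      rcases hn.eq_bot_or_eq_top with h | h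
      · exact hD h
      · apply hDneP
        rw [h]
        exact (top_le_iff.mp (by rw [← h]; exact inf_le_left)).symm
    obtain ⟨P', hP'⟩ := exists_sylow_ge_of_pClosed _ (hsub _ hNne)
    obtain ⟨x, hxP, hxD, hxN⟩ := exists_mem_normalizer_not_mem (P : Subgroup G) _ P.isPGroup' inf_le_left hDneP
    obtain ⟨y, hyQ, hyD, hyN⟩ := exists_mem_normalizer_not_mem (Q : Subgroup G) _ Q.isPGroup' inf_le_right hDneQ
    have hDP' : (P : Subgroup G) ⊓ (Q : Subgroup G) ≤ P' :=
      hP' _ Subgroup.le_normalizer (P.isPGroup'.to_le inf_le_left)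
    have hxP' : x ∈ (P' : Subgroup G) := by
      have h1 : Subgroup.zpowers x ≤ Subgroup.normalizer ((((P : Subgroup G) ⊓ (Q : Subgroup G) : Subgroup G)) : Set G) :=
        (Subgroup.zpowers_le).mpr hxN
      have h2 : IsPGroup p (Subgroup.zpowers x) := P.isPGroup'.to_le ((Subgroup.zpowers_le).mpr hxP)
      exact hP' _ h1 h2 (Subgroup.mem_zpowers x)
    have hyP' : y ∈ (P' : Subgroup G) := by
      have h1 : Subgroup.zpowers y ≤ Subgroup.normalizer ((((P : Subgroup G) ⊓ (Q : Subgroup G) : Subgroup G)) : Set G) :=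
        (Subgroup.zpowers_le).mpr hyN
      have h2 : IsPGroup p (Subgroup.zpowers y) := Q.isPGroup'.to_le ((Subgroup.zpowers_le).mpr hyQ)
      exact hP' _ h1 h2 (Subgroup.mem_zpowers y)
    have hcardlt : ∀ (A : Subgroup G) (z : G), (P : Subgroup G) ⊓ (Q : Subgroup G) ≤ A → z ∈ A →
        z ∉ (P : Subgroup G) ⊓ (Q : Subgroup G) →
        Nat.card ↥((P : Subgroup G) ⊓ (Q : Subgroup G)) < Nat.card A := by
      intro A z hle hz hnz
      by_contra hge
      push Not at hge
      have := Subgroup.eq_of_le_of_card_ge hle hge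
      rw [← this] at hz
      exact hnz hz
    have hP'P : P' = P := by
      by_contra hne
      have hle : (P : Subgroup G) ⊓ (Q : Subgroup G) ≤ (P' : Subgroup G) ⊓ (P : Subgroup G) :=
        le_inf hDP' inf_le_left
      have hne' : (P' : Subgroup G) ⊓ (P : Subgroup G) ≠ ⊥ := by
        intro h
        rw [h] at hle
        exact hD (le_bot_iff.mp hle)
      have h1 := hmax (P', P) ⟨hne, hne'⟩
      have h2 := hcardlt _ x hle ⟨hxP', hxP⟩ hxD
      simp only at h1
      omega
    have hP'Q : P' = Q := by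
      by_contra hne
      have hle : (P : Subgroup G) ⊓ (Q : Subgroup G) ≤ (P' : Subgroup G) ⊓ (Q : Subgroup G) :=
        le_inf hDP' inf_le_right
      have hne' : (P' : Subgroup G) ⊓ (Q : Subgroup G) ≠ ⊥ := by
        intro h
        rw [h] at hle
        exact hD (le_bot_iff.mp hle)
      have h1 := hmax (P', Q) ⟨hne, hne'⟩
      have h2 := hcardlt _ y hle ⟨hyP', hyQ⟩ hyD
      simp only at h1
      omega
    exact hPQ (hP'P.symm.trans hP'Q)
  refine ⟨hTI, ?_⟩
  intro P R hRP hR g hg
  refine Sylow.smul_eq_iff_mem_normalizer.mp ?_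
  by_contra hne
  have h1 := hTI (g • P) P hne
  apply hR
  rw [eq_bot_iff, ← h1]
  refine le_inf ?_ hRP
  rw [sylow_smul_coe, ← map_conj_eq_of_mem_normalizer R g hg]
  exact map_conj_mono g hRP

end Cfsg.Agent.S3870
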