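import Cfsg.Statements.S3872
import Mathlib
import Cfsg.Agent.Helper29.ClassLtP
import Cfsg.Agent.Helper29.Regular

set_option autoImplicit false
open Cfsg
open scoped Pointwise
open scoped commutatorElement

namespace Cfsg.Agent.S3872

theorem cyclic_of_unique_min {A : Type*} [Group A] [Finite A] {p : ℕ} [Fact p.Prime]
    (hA : IsPGroup p A) (hcomm : ∀ a b : A, a * b = b * a) (w : A) (hw1 : w ≠ 1) (hwp : w ^ p = 1)
    (h : ∀ d : A, d ≠ 1 → w ∈ Subgroup.zpowers d) : IsCyclic A := by
  classical
  have hp : p.Prime := Fact.out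
  obtain ⟨c, hc⟩ := Finite.exists_max (fun z : A => orderOf z)
  have hc1 : c ≠ 1 := by
    intro h1
    have h2 : orderOf w ≤ orderOf c := hc w
    rw [h1, orderOf_one] at h2
    exact hw1 (orderOf_eq_one_iff.1 (le_antisymm h2 (orderOf_pos w)))
  have hwc : w ∈ Subgroup.zpowers c := h c hc1
  have hword : orderOf w = p := orderOf_eq_prime hwp hw1
  have key : ∀ d : A, d ≠ 1 → d ^ p = 1 → d ∈ Subgroup.zpowers c := by
    intro d hd1 hdp
    have h1 : w ∈ Subgroup.zpowers d := h d hd1
    have h2 : Subgroup.zpowers w = Subgroup.zpowers d := by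
      apply Subgroup.eq_of_le_of_card_ge
      · rw [Subgroup.zpowers_le]; exact h1
      · rw [Nat.card_zpowers, Nat.card_zpowers, hword, orderOf_eq_prime hdp hd1]
    have h3 : d ∈ Subgroup.zpowers w := by rw [h2]; exact Subgroup.mem_zpowers d
    exact (Subgroup.zpowers_le.2 hwc) h3
  have main : ∀ n : ℕ, ∀ d : A, orderOf d ≤ n → d ∈ Subgroup.zpowers c := by
    intro n
    induction n with
    | zero =>
      intro d hd
      have := orderOf_pos d
      omega
    | succ n ih =>
      intro d hd
      by_cases hd1 : d = 1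
      · rw [hd1]; exact Subgroup.one_mem _
      obtain ⟨j, hj⟩ := hA d
      have hdvd : p ∣ orderOf d := by
        have h1 : orderOf d ∣ p ^ j := orderOf_dvd_of_pow_eq_one hj
        obtain ⟨i, hi, hi2⟩ := (Nat.dvd_prime_pow hp).1 h1
        rcases i with _ | i
        · exfalso; apply hd1; rw [pow_zero] at hi2; exact orderOf_eq_one_iff.1 hi2
        · rw [hi2]; exact dvd_pow_self p (Nat.succ_ne_zero i)
      have hord : orderOf (d ^ p) = orderOf d / p := by
        rw [orderOf_pow' d hp.ne_zero, Nat.gcd_eq_right hdvd]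
      have h0 := orderOf_pos d
      have hdiv : orderOf d / p < orderOf d := Nat.div_lt_self h0 hp.one_lt
      have hlt : orderOf (d ^ p) ≤ n := by
        rw [hord]
        omega
      have hdp : d ^ p ∈ Subgroup.zpowers c := ih _ hlt
      rw [← mem_powers_iff_mem_zpowers] at hdp
      obtain ⟨k, hk⟩ := (Submonoid.mem_powers_iff _ _).1 hdp
      have hpk : p ∣ k := by
        by_contra hpk
        have hcop : Nat.Coprime (orderOf c) k := by
          obtain ⟨j', hj'⟩ := hA c
          have h1 : orderOf c ∣ p ^ j' := orderOf_dvd_of_pow_eq_one hj'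
          obtain ⟨i, hi, hi2⟩ := (Nat.dvd_prime_pow hp).1 h1
          rw [hi2]
          exact Nat.Coprime.pow_left i ((Nat.Prime.coprime_iff_not_dvd hp).2 hpk)
        have h2 : orderOf (c ^ k) = orderOf c := by
          rw [orderOf_pow c, hcop.gcd_eq_one, Nat.div_one]
        rw [hk, hord] at h2
        have h3 : orderOf d ≤ orderOf c := hc d
        omega
      obtain ⟨k', rfl⟩ := hpk
      have hd' : (d * (c ^ k')⁻¹) ^ p = 1 := by
        rw [(show Commute d (c ^ k')⁻¹ from hcomm _ _).mul_pow, inv_pow, ← pow_mul,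
          mul_comm k' p, hk, mul_inv_cancel]
      by_cases hd'1 : d * (c ^ k')⁻¹ = 1
      · have : d = c ^ k' := by rwa [mul_inv_eq_one] at hd'1
        rw [this]; exact Subgroup.pow_mem _ (Subgroup.mem_zpowers c) k'
      · have h4 := key _ hd'1 hd'
        have h5 : d = d * (c ^ k')⁻¹ * c ^ k' := by rw [inv_mul_cancel_right]
        rw [h5]
        exact Subgroup.mul_mem _ h4 (Subgroup.pow_mem _ (Subgroup.mem_zpowers c) k')
  exact ⟨⟨c, fun d => main _ d le_rfl⟩⟩

theorem lcs_strict {G : Type*} [Group G] [Group.IsNilpotent G] (n : ℕ)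
    (h : (⊤ : Subgroup G).lowerCentralSeries n ≠ ⊥) :
    (⊤ : Subgroup G).lowerCentralSeries (n + 1) < (⊤ : Subgroup G).lowerCentralSeries n := by
  refine lt_of_le_of_ne
    ((Subgroup.lowerCentralSeries_antitone (⊤ : Subgroup G)) (Nat.le_succ n)) ?_
  intro heq
  have hall : ∀ k, (⊤ : Subgroup G).lowerCentralSeries (n + k)
      = (⊤ : Subgroup G).lowerCentralSeries n := by
    intro k
    induction k with
    | zero => rfl
    | succ k ih =>
      rw [← add_assoc, Subgroup.lowerCentralSeries_succ, ih, ← Subgroup.lowerCentralSeries_succ,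
        heq]
  obtain ⟨m, hm⟩ := Subgroup.nilpotent_iff_lowerCentralSeries.1
    (inferInstance : Group.IsNilpotent G)
  apply h
  rw [← hall m, eq_bot_iff, ← hm]
  exact (Subgroup.lowerCentralSeries_antitone (⊤ : Subgroup G)) (Nat.le_add_left m n)

theorem p_mul_card_le {G : Type*} [Group G] [Finite G] {p : ℕ} [Fact p.Prime]
    (hG : IsPGroup p G) (H K : Subgroup G) (hlt : H < K) : p * Nat.card H ≤ Nat.card K := by
  have hp : p.Prime := Fact.out
  obtain ⟨a, ha⟩ := IsPGroup.iff_card.1 (hG.to_subgroup H)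
  obtain ⟨b, hb⟩ := IsPGroup.iff_card.1 (hG.to_subgroup K)
  have h1 : Nat.card H < Nat.card K := by
    by_contra hcon
    push Not at hcon
    exact hlt.ne (Subgroup.eq_of_le_of_card_ge hlt.le hcon)
  rw [ha, hb] at h1 ⊢
  have h2 : a < b := (Nat.pow_lt_pow_iff_right hp.one_lt).1 h1
  calc p * p ^ a = p ^ (a + 1) := by rw [pow_succ, mul_comm]
    _ ≤ p ^ b := Nat.pow_le_pow_right hp.pos h2

theorem card_lcs_ge {G : Type*} [Group G] [Finite G] {p : ℕ} [Fact p.Prime] (hG : IsPGroup p G)
    (m : ℕ) (hm : (⊤ : Subgroup G).lowerCentralSeries m ≠ ⊥) :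
    ∀ j, j ≤ m → p ^ (j + 1) ≤ Nat.card ((⊤ : Subgroup G).lowerCentralSeries (m - j)) := by
  haveI : Group.IsNilpotent G := hG.isNilpotent
  have hp : p.Prime := Fact.out
  intro j
  induction j with
  | zero =>
    intro _
    have h1 := p_mul_card_le hG ⊥ _ (bot_lt_iff_ne_bot.2 hm)
    rw [Subgroup.card_bot, mul_one] at h1
    simpa using h1
  | succ j ih =>
    intro hj
    have h1 := ih (by omega)
    have hne : (⊤ : Subgroup G).lowerCentralSeries (m - j) ≠ ⊥ := by
      intro h0
      rw [h0, Subgroup.card_bot] at h1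
      have : 1 < p ^ (j + 1) := Nat.one_lt_pow (by omega) hp.one_lt
      omega
    have e : m - (j + 1) + 1 = m - j := by omega
    have hne' : (⊤ : Subgroup G).lowerCentralSeries (m - (j + 1)) ≠ ⊥ := by
      intro h0
      apply hne
      rw [eq_bot_iff, ← h0]
      exact (Subgroup.lowerCentralSeries_antitone (⊤ : Subgroup G)) (by omega)
    have h2 := lcs_strict (m - (j + 1)) hne'
    rw [e] at h2
    have h3 := p_mul_card_le hG _ _ h2
    calc p ^ (j + 1 + 1) = p * p ^ (j + 1) := by rw [pow_succ, mul_comm]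
      _ ≤ p * Nat.card ((⊤ : Subgroup G).lowerCentralSeries (m - j)) :=
          Nat.mul_le_mul_left p h1
      _ ≤ _ := h3

theorem index_commutator_ne_prime {G : Type*} [Group G] [Finite G] [Group.IsNilpotent G]
    {p : ℕ} (hp : p.Prime)
    (h1 : (⊤ : Subgroup G).lowerCentralSeries 1 ≠ ⊥) : (commutator G).index ≠ p := by
  intro hidx
  have hL1 : (⊤ : Subgroup G).lowerCentralSeries 1 = commutator G :=
    Subgroup.top_lowerCentralSeries_one
  have hL2 : (⊤ : Subgroup G).lowerCentralSeries (1 + 1)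
      = ⁅commutator G, (⊤ : Subgroup G)⁆ := by
    rw [Subgroup.lowerCentralSeries_succ, Subgroup.top_lowerCentralSeries_one]
  have hstrict := lcs_strict 1 h1
  rw [hL2, hL1] at hstrict
  have hne : commutator G ≠ ⊤ := by
    intro h
    rw [h, Subgroup.index_top] at hidx
    exact hp.one_lt.ne hidx
  obtain ⟨x, hx⟩ : ∃ x : G, x ∉ commutator G := by
    by_contra hcon
    push Not at hcon
    exact hne (eq_top_iff.2 fun g _ => hcon g)
  have hsup : Subgroup.zpowers x ⊔ commutator G = ⊤ := by
    have hle : commutator G ≤ Subgroup.zpowers x ⊔ commutator G := le_sup_right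
    have h2 := Subgroup.relIndex_mul_index hle
    rw [hidx] at h2
    rcases (Nat.dvd_prime hp).1 (Dvd.intro_left _ h2) with h3 | h3
    · exact Subgroup.index_eq_one.1 h3
    · exfalso
      rw [h3] at h2
      have h4 : (commutator G).relIndex (Subgroup.zpowers x ⊔ commutator G) = 1 :=
        Nat.eq_of_mul_eq_mul_right hp.pos (by rw [h2, one_mul])
      rw [Subgroup.relIndex_eq_one] at h4
      exact hx (h4 ((le_sup_left : Subgroup.zpowers x ≤ Subgroup.zpowers x ⊔ commutator G)
        (Subgroup.mem_zpowers x)))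
  obtain ⟨L2, hL2def⟩ : ∃ L2 : Subgroup G, L2 = ⁅commutator G, (⊤ : Subgroup G)⁆ := ⟨_, rfl⟩
  haveI : L2.Normal := by rw [hL2def]; infer_instance
  have hcent : ∀ a ∈ commutator G, ∀ g : G,
      Commute (QuotientGroup.mk' L2 a) (QuotientGroup.mk' L2 g) := by
    intro a ha g
    have h3 : ⁅a, g⁆ ∈ L2 := by
      rw [hL2def]
      exact Subgroup.commutator_mem_commutator ha (Subgroup.mem_top g)
    have h4 : QuotientGroup.mk' L2 ⁅a, g⁆ = 1 := by
      rw [← MonoidHom.mem_ker, QuotientGroup.ker_mk']; exact h3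
    rw [map_commutatorElement] at h4
    exact commutatorElement_eq_one_iff_commute.1 h4
  have hdec : ∀ g : G, ∃ i : ℤ, ∃ a ∈ commutator G, g = x ^ i * a := by
    intro g
    have hg : g ∈ ((Subgroup.zpowers x ⊔ commutator G : Subgroup G) : Set G) := by
      rw [hsup]; exact Subgroup.mem_top g
    rw [Subgroup.mul_normal] at hg
    obtain ⟨u, hu, a, ha, rfl⟩ := Set.mem_mul.1 hg
    obtain ⟨i, rfl⟩ := Subgroup.mem_zpowers_iff.1 hu
    exact ⟨i, a, ha, rfl⟩
  have hcomm : ∀ g h : G, ⁅g, h⁆ ∈ L2 := by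
    intro g h
    obtain ⟨i, a, ha, rfl⟩ := hdec g
    obtain ⟨j, b, hb, rfl⟩ := hdec h
    have c1 : Commute (QuotientGroup.mk' L2 x ^ i) (QuotientGroup.mk' L2 x ^ j) :=
      (Commute.refl _).zpow_zpow i j
    have c2 : Commute (QuotientGroup.mk' L2 x ^ i) (QuotientGroup.mk' L2 b) := by
      have := (hcent b hb (x ^ i)).symm
      rwa [map_zpow] at this
    have c3 : Commute (QuotientGroup.mk' L2 a) (QuotientGroup.mk' L2 x ^ j) := by
      have := hcent a ha (x ^ j)
      rwa [map_zpow] at this
    have c4 : Commute (QuotientGroup.mk' L2 a) (QuotientGroup.mk' L2 b) := hcent a ha b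
    have c5 : Commute (QuotientGroup.mk' L2 (x ^ i * a)) (QuotientGroup.mk' L2 (x ^ j * b)) := by
      rw [map_mul, map_mul, map_zpow, map_zpow]
      exact (c1.mul_right c2).mul_left (c3.mul_right c4)
    have c6 : QuotientGroup.mk' L2 ⁅x ^ i * a, x ^ j * b⁆ = 1 := by
      rw [map_commutatorElement]
      exact commutatorElement_eq_one_iff_commute.2 c5
    rw [← MonoidHom.mem_ker, QuotientGroup.ker_mk'] at c6
    exact c6
  have hle : commutator G ≤ L2 := by
    rw [commutator_def, Subgroup.commutator_le]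
    intro g _ h _
    exact hcomm g h
  rw [← hL2def] at hstrict
  exact absurd hle (not_le_of_gt hstrict)

/-- Say that a finite group is p-exponent closed when its elements of order dividing p form a subgroup. Let G be a finite p-group that is not p-exponent closed, but all of whose proper subgroups and proper quotients are. Then G is generated by two elements, has nilpotency class at least p, has exponent p², has cyclic center, and has order at least p^(p+1). -/
theorem result {G : Type*} [Group G] [Finite G] {p : ℕ} [Fact p.Prime] (hG : IsPGroup p G)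
    (hnc : ¬ (∃ H : Subgroup G, (H : Set G) = {g : G | g ^ p = 1})) (hsub : ∀ K : Subgroup G, K ≠ ⊤ → (∃ H : Subgroup ↥K, (H : Set ↥K) = {g : ↥K | g ^ p = 1}))
    (hquo : ∀ (N : Subgroup G) [N.Normal], N ≠ ⊥ → (∃ H : Subgroup (G ⧸ N), (H : Set (G ⧸ N)) = {g : (G ⧸ N) | g ^ p = 1})) :
    (∃ x y : G, Subgroup.closure ({x, y} : Set G) = ⊤) ∧ (⊤ : Subgroup G).lowerCentralSeries (p - 1) ≠ ⊥ ∧
      Monoid.exponent G = p ^ 2 ∧ IsCyclic ↥(Subgroup.center G) ∧ p ^ (p + 1) ≤ Nat.card G := by
  classical
  have hp : p.Prime := Fact.out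
  obtain ⟨x, y, hx, hy, hxy⟩ : ∃ x y : G, x ^ p = 1 ∧ y ^ p = 1 ∧ (x * y) ^ p ≠ 1 := by
    by_contra hcon
    push Not at hcon
    apply hnc
    refine ⟨{ carrier := {g : G | g ^ p = 1}
              mul_mem' := fun {a b} ha hb => hcon a b ha hb
              one_mem' := one_pow p
              inv_mem' := fun {a} ha => by
                show (a⁻¹) ^ p = 1
                rw [inv_pow, show a ^ p = 1 from ha, inv_one] }, rfl⟩
  have hgen : Subgroup.closure ({x, y} : Set G) = ⊤ := by
    by_contra hne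
    obtain ⟨H, hH⟩ := hsub _ hne
    have hxK : x ∈ Subgroup.closure ({x, y} : Set G) := Subgroup.subset_closure (by simp)
    have hyK : y ∈ Subgroup.closure ({x, y} : Set G) := Subgroup.subset_closure (by simp)
    have h1 : (⟨x, hxK⟩ : ↥(Subgroup.closure ({x, y} : Set G))) ∈ H := by
      rw [← SetLike.mem_coe, hH]
      show (⟨x, hxK⟩ : ↥(Subgroup.closure ({x, y} : Set G))) ^ p = 1
      apply Subtype.ext
      simpa using hx
    have h2 : (⟨y, hyK⟩ : ↥(Subgroup.closure ({x, y} : Set G))) ∈ H := by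
      rw [← SetLike.mem_coe, hH]
      show (⟨y, hyK⟩ : ↥(Subgroup.closure ({x, y} : Set G))) ^ p = 1
      apply Subtype.ext
      simpa using hy
    have h3 := H.mul_mem h1 h2
    rw [← SetLike.mem_coe, hH] at h3
    have h4 : ((⟨x, hxK⟩ : ↥(Subgroup.closure ({x, y} : Set G))) * ⟨y, hyK⟩) ^ p = 1 := h3
    apply hxy
    have h5 := congrArg Subtype.val h4
    simpa using h5
  have hcl : (⊤ : Subgroup G).lowerCentralSeries (p - 1) ≠ ⊥ := by
    intro hcl
    have hreg := Cfsg.Agent.Helper29.regular_of_class_lt hG hcl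
    have h1 := Cfsg.Agent.Helper29.reg_mul_pow_eq_one hreg 1 x y (by simpa using hx)
      (by simpa using hy)
    exact hxy (by simpa using h1)
  have hpow : ∀ (N : Subgroup G) [N.Normal], N ≠ ⊥ → ∀ g : G, g ^ p ∈ N := by
    intro N _ hN g
    obtain ⟨H, hH⟩ := hquo N hN
    have h1 : (QuotientGroup.mk' N) x ∈ H := by
      rw [← SetLike.mem_coe, hH]
      show (QuotientGroup.mk' N x) ^ p = 1
      rw [← map_pow, hx, map_one]
    have h2 : (QuotientGroup.mk' N) y ∈ H := by
      rw [← SetLike.mem_coe, hH]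
      show (QuotientGroup.mk' N y) ^ p = 1
      rw [← map_pow, hy, map_one]
    have h3 : (⊤ : Subgroup G) ≤ H.comap (QuotientGroup.mk' N) := by
      rw [← hgen, Subgroup.closure_le]
      intro z hz
      rw [Set.mem_insert_iff, Set.mem_singleton_iff] at hz
      rcases hz with rfl | rfl
      · exact h1
      · exact h2
    have h4 : (QuotientGroup.mk' N) g ∈ H := h3 (Subgroup.mem_top g)
    rw [← SetLike.mem_coe, hH] at h4
    have h5 : (QuotientGroup.mk' N g) ^ p = 1 := h4
    rw [← map_pow] at h5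
    rw [← MonoidHom.mem_ker, QuotientGroup.ker_mk'] at h5
    exact h5
  haveI : Nontrivial G := by
    refine ⟨⟨x * y, 1, ?_⟩⟩
    intro h
    apply hxy
    rw [h, one_pow]
  have hZnt : Nontrivial (Subgroup.center G) := hG.center_nontrivial
  have hZbot : Subgroup.center G ≠ ⊥ := (Subgroup.nontrivial_iff_ne_bot _).1 hZnt
  have hcentral_normal : ∀ d : G, d ∈ Subgroup.center G → (Subgroup.zpowers d).Normal := by
    intro d hd
    constructor
    intro n hn g
    have hc : n ∈ Subgroup.center G := by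
      obtain ⟨k, rfl⟩ := Subgroup.mem_zpowers_iff.1 hn
      exact Subgroup.zpow_mem _ hd k
    rw [Subgroup.mem_center_iff] at hc
    rw [hc g, mul_inv_cancel_right]
    exact hn
  have hzp_bot : ∀ d : G, d ≠ 1 → Subgroup.zpowers d ≠ ⊥ := by
    intro d hd h
    have : d ∈ Subgroup.zpowers d := Subgroup.mem_zpowers _
    rw [h, Subgroup.mem_bot] at this
    exact hd this
  obtain ⟨z, hz⟩ : ∃ z : Subgroup.center G, orderOf z = p := by
    apply exists_prime_orderOf_dvd_card' p
    obtain ⟨n, hn⟩ := IsPGroup.iff_card.1 (hG.to_subgroup (Subgroup.center G))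
    have h1 : 1 < Nat.card (Subgroup.center G) := Finite.one_lt_card
    rw [hn] at h1 ⊢
    rcases n with _ | n
    · simp at h1
    · exact dvd_pow_self p (Nat.succ_ne_zero n)
  have hzG : orderOf (z : G) = p := by rw [Subgroup.orderOf_coe]; exact hz
  have hz1 : (z : G) ≠ 1 := by
    intro h
    rw [h, orderOf_one] at hzG
    exact hp.one_lt.ne hzG
  have hpp : ∀ g : G, g ^ (p ^ 2) = 1 := by
    intro g
    haveI := hcentral_normal (z : G) z.2
    have h1 : g ^ p ∈ Subgroup.zpowers (z : G) := hpow _ (hzp_bot _ hz1) g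
    have h2 : (⟨g ^ p, h1⟩ : Subgroup.zpowers (z : G)) ^ Nat.card (Subgroup.zpowers (z : G)) = 1 :=
      pow_card_eq_one'
    rw [Nat.card_zpowers, hzG] at h2
    have h3 := congrArg Subtype.val h2
    rw [pow_two, pow_mul]
    simpa using h3
  have hexp : Monoid.exponent G = p ^ 2 := by
    have h1 : Monoid.exponent G ∣ p ^ 2 := Monoid.exponent_dvd_of_forall_pow_eq_one hpp
    obtain ⟨k, hk, hk2⟩ := (Nat.dvd_prime_pow hp).1 h1
    rcases Nat.lt_or_ge k 2 with hlt | hge
    · exfalso
      apply hxy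
      have h2 : Monoid.exponent G ∣ p := by
        rw [hk2]
        calc p ^ k ∣ p ^ 1 := pow_dvd_pow p (by omega)
          _ = p := pow_one p
      obtain ⟨c, hc⟩ := h2
      rw [hc, pow_mul, Monoid.pow_exponent_eq_one, one_pow]
    · have : k = 2 := by omega
      rw [hk2, this]
  have hcyc : IsCyclic ↥(Subgroup.center G) := by
    have hwZ : (x * y) ^ p ∈ Subgroup.center G := hpow _ hZbot (x * y)
    apply cyclic_of_unique_min (p := p) (hG.to_subgroup (Subgroup.center G))
      (fun a b => Subtype.ext (Subgroup.mem_center_iff.1 b.2 a.1)) ⟨(x * y) ^ p, hwZ⟩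
    · intro h
      exact hxy (congrArg Subtype.val h)
    · apply Subtype.ext
      have := hpp (x * y)
      rw [pow_two, pow_mul] at this
      simpa using this
    · intro d hd
      have hd1 : (d : G) ≠ 1 := by
        intro h
        apply hd
        exact Subtype.ext h
      haveI := hcentral_normal (d : G) d.2
      have h1 : (x * y) ^ p ∈ Subgroup.zpowers (d : G) := hpow _ (hzp_bot _ hd1) (x * y)
      obtain ⟨k, hk⟩ := Subgroup.mem_zpowers_iff.1 h1
      rw [Subgroup.mem_zpowers_iff]
      refine ⟨k, ?_⟩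
      apply Subtype.ext
      simpa using hk
  haveI : Group.IsNilpotent G := hG.isNilpotent
  have hp2 : 2 ≤ p := hp.two_le
  have hL1 : (⊤ : Subgroup G).lowerCentralSeries 1 ≠ ⊥ := by
    intro h0
    apply hcl
    rw [eq_bot_iff, ← h0]
    exact (Subgroup.lowerCentralSeries_antitone (⊤ : Subgroup G)) (by omega)
  have hcard1 : p ^ (p - 1) ≤ Nat.card (commutator G) := by
    have h1 := card_lcs_ge hG (p - 1) hcl (p - 2) (by omega)
    have e1 : p - 2 + 1 = p - 1 := by omega
    have e2 : p - 1 - (p - 2) = 1 := by omega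
    rw [e1, e2, Subgroup.top_lowerCentralSeries_one] at h1
    exact h1
  have hidx : p ^ 2 ≤ (commutator G).index := by
    obtain ⟨c, hc⟩ := hG.index (commutator G)
    rw [hc]
    apply Nat.pow_le_pow_right hp.pos
    by_contra hlt
    push Not at hlt
    interval_cases c
    · rw [pow_zero, Subgroup.index_eq_one] at hc
      have h1 := lcs_strict (G := G) 0 (by
        rw [Subgroup.lowerCentralSeries_zero]
        intro h
        have h2 := Subgroup.mem_top (x * y)
        rw [h, Subgroup.mem_bot] at h2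
        exact hxy (by rw [h2, one_pow]))
      rw [Subgroup.lowerCentralSeries_zero, zero_add, Subgroup.top_lowerCentralSeries_one, hc]
        at h1
      exact lt_irrefl _ h1
    · rw [pow_one] at hc
      exact index_commutator_ne_prime hp hL1 hc
  refine ⟨⟨x, y, hgen⟩, hcl, hexp, hcyc, ?_⟩
  calc p ^ (p + 1) = p ^ (p - 1) * p ^ 2 := by rw [← pow_add]; congr 1; omega
    _ ≤ Nat.card (commutator G) * (commutator G).index := Nat.mul_le_mul hcard1 hidx
    _ = Nat.card G := Subgroup.card_mul_index _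

end Cfsg.Agent.S3872
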