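import Cfsg.Statements.S3873
import Mathlib
import Cfsg.Agent.Helper20.PExpClosed
import Cfsg.Agent.Helper20.Wielandt

set_option autoImplicit false
open Cfsg

namespace Cfsg.Agent.S3873

/-- Say that a finite group is p-exponent closed when its elements of order dividing p form a subgroup. Let G be a finite group that is not p-exponent closed, but all of whose proper subgroups and proper quotients are, and suppose G is neither simple nor a p-group. Then there is a prime q ≠ p such that G has order p · q^e, where e is the multiplicative order of q modulo p, and G has a normal elementary abelian subgroup of order q^e that is a minimal normal subgroup of G. -/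
theorem result {G : Type*} [Group G] [Finite G] {p : ℕ} [Fact p.Prime]
    (hnc : ¬ (∃ H : Subgroup G, (H : Set G) = {g : G | g ^ p = 1})) (hsub : ∀ K : Subgroup G, K ≠ ⊤ → (∃ H : Subgroup ↥K, (H : Set ↥K) = {g : ↥K | g ^ p = 1}))
    (hquo : ∀ (N : Subgroup G) [N.Normal], N ≠ ⊥ → (∃ H : Subgroup (G ⧸ N), (H : Set (G ⧸ N)) = {g : (G ⧸ N) | g ^ p = 1}))
    (hns : ¬ IsSimpleGroup G) (hnp : ¬ IsPGroup p G) :
    ∃ q : ℕ, q.Prime ∧ q ≠ p ∧ Nat.card G = p * q ^ orderOf (q : ZMod p) ∧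
      ∃ A : Subgroup G, A.Normal ∧ Nat.card ↥A = q ^ orderOf (q : ZMod p) ∧ Cfsg.IsElementaryAbelian q A ∧
        ∀ B : Subgroup G, B.Normal → B ≤ A → B = ⊥ ∨ B = A := by
  classical
  have hp := (Fact.out : p.Prime)
  obtain ⟨x, y, hx, hy, hxy⟩ : ∃ x y : G, x ^ p = 1 ∧ y ^ p = 1 ∧ (x * y) ^ p ≠ 1 := by
    by_contra h
    apply hnc
    exact ⟨{ carrier := {g : G | g ^ p = 1}
             one_mem' := one_pow p
             mul_mem' := fun {a b} ha hb =>
               Classical.by_contradiction fun hab => h ⟨a, b, ha, hb, hab⟩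
             inv_mem' := fun {a} ha => by
               show a⁻¹ ^ p = 1
               rw [inv_pow, ha, inv_one] }, rfl⟩
  have hgen : ∀ K : Subgroup G, x ∈ K → y ∈ K → K = ⊤ := by
    intro K hxK hyK
    by_contra hK
    have h1 := Cfsg.Agent.Helper20.pow_mul_eq_one_of_exists (hsub K hK) ⟨x, hxK⟩ ⟨y, hyK⟩
      (Subtype.ext (by rw [SubmonoidClass.coe_pow]; exact hx))
      (Subtype.ext (by rw [SubmonoidClass.coe_pow]; exact hy))
    have h2 := congrArg Subtype.val h1
    rw [SubmonoidClass.coe_pow] at h2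
    exact hxy h2
  have hnorm : ∀ M : Subgroup G, M.Normal → M ≠ ⊤ → ∀ z ∈ M, z ^ p = 1 →
      ∃ U : Subgroup G, U.Normal ∧ IsPGroup p ↥U ∧ z ∈ U ∧ U ≤ M := by
    intro M hMn hM z hzM hzp
    obtain ⟨U, hU⟩ := Cfsg.Agent.Helper20.exists_omega_subgroup M (hsub M hM)
    refine ⟨U, ⟨fun u hu g => ?_⟩,
      Cfsg.Agent.Helper20.isPGroup_of_forall_pow_eq_one U (fun g hg => ((hU g).1 hg).2),
      (hU z).2 ⟨hzM, hzp⟩, fun g hg => ((hU g).1 hg).1⟩
    rw [hU] at hu ⊢
    exact ⟨hMn.conj_mem u hu.1 g, by rw [conj_pow, hu.2, mul_one, mul_inv_cancel]⟩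
  have hnotboth : ¬ ((∃ M : Subgroup G, M.Normal ∧ M ≠ ⊤ ∧ x ∈ M) ∧
      (∃ M : Subgroup G, M.Normal ∧ M ≠ ⊤ ∧ y ∈ M)) := by
    rintro ⟨⟨M₁, hM₁n, hM₁, hxM⟩, ⟨M₂, hM₂n, hM₂, hyM⟩⟩
    obtain ⟨U₁, hU₁n, hU₁p, hxU, -⟩ := hnorm M₁ hM₁n hM₁ x hxM hx
    obtain ⟨U₂, hU₂n, hU₂p, hyU, -⟩ := hnorm M₂ hM₂n hM₂ y hyM hy
    haveI := hU₁n
    have h1 : IsPGroup p ↥(U₁ ⊔ U₂) := hU₁p.to_sup_of_normal_left hU₂p
    have h2 : U₁ ⊔ U₂ = ⊤ := hgen _ (Subgroup.mem_sup_left hxU) (Subgroup.mem_sup_right hyU)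
    rw [h2] at h1
    apply hnp
    exact h1.of_equiv Subgroup.topEquiv
  obtain ⟨z, hzp, hz⟩ : ∃ z : G, z ^ p = 1 ∧ (∀ M : Subgroup G, M.Normal → z ∈ M → M = ⊤) := by
    by_cases h1 : ∃ M : Subgroup G, M.Normal ∧ M ≠ ⊤ ∧ x ∈ M
    · refine ⟨y, hy, ?_⟩
      intro M hMn hyM
      by_contra hM
      exact hnotboth ⟨h1, ⟨M, hMn, hM, hyM⟩⟩
    · refine ⟨x, hx, ?_⟩
      intro M hMn hxM
      by_contra hM
      exact h1 ⟨M, hMn, hM, hxM⟩
  haveI : Nontrivial G := by
    by_contra hnt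
    rw [not_nontrivial_iff_subsingleton] at hnt
    apply hnp
    intro g
    exact ⟨0, Subsingleton.elim _ _⟩
  obtain ⟨N, hNn, hNbot, hNtop⟩ : ∃ N : Subgroup G, N.Normal ∧ N ≠ ⊥ ∧ N ≠ ⊤ := by
    by_contra h
    apply hns
    exact { eq_bot_or_eq_top_of_normal := fun H hH => by
              by_cases h1 : H = ⊥
              · exact Or.inl h1
              · right
                by_contra h2
                exact h ⟨H, hH, h1, h2⟩ }
  obtain ⟨A, hAN, hAn, hAbot, hAmin⟩ := Cfsg.Agent.Helper20.exists_minNormal_le N hNn hNbot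
  haveI := hAn
  have hAtop : A ≠ ⊤ := fun h => hNtop (eq_top_iff.2 (h ▸ hAN))
  have hzA : z ∉ A := fun h => hAtop (hz A hAn h)
  have hz1 : z ≠ 1 := fun h => hzA (h ▸ A.one_mem)
  have hordz : orderOf z = p := by
    rcases (Nat.dvd_prime hp).1 (orderOf_dvd_of_pow_eq_one hzp) with h | h
    · rw [orderOf_eq_one_iff] at h
      exact absurd h hz1
    · exact h
  have hexp : ∀ g : G, g ^ p ∈ A := by
    obtain ⟨Hq, hHq⟩ := hquo A hAbot
    have hmem : ∀ g : G, g ^ p = 1 → g ∈ Hq.comap (QuotientGroup.mk' A) := by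
      intro g hg
      have h1 : (QuotientGroup.mk' A g) ∈ (Hq : Set (G ⧸ A)) := by
        rw [hHq]
        show (QuotientGroup.mk' A g) ^ p = 1
        rw [← map_pow, hg, map_one]
      exact h1
    have h1 : Hq.comap (QuotientGroup.mk' A) = ⊤ := hgen _ (hmem x hx) (hmem y hy)
    intro g
    have h2 : g ∈ Hq.comap (QuotientGroup.mk' A) := by
      rw [h1]
      exact Subgroup.mem_top g
    have h3 : (QuotientGroup.mk' A g) ∈ (Hq : Set (G ⧸ A)) := h2
    rw [hHq] at h3
    have h4 : (QuotientGroup.mk' A g) ^ p = 1 := h3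
    rw [← map_pow] at h4
    exact (QuotientGroup.eq_one_iff _).1 h4
  have hQp : IsPGroup p (G ⧸ A) := by
    intro g'
    obtain ⟨g, rfl⟩ := QuotientGroup.mk'_surjective A g'
    refine ⟨1, ?_⟩
    rw [pow_one, ← map_pow]
    exact (QuotientGroup.eq_one_iff _).2 (hexp g)
  have hAz : A ⊔ Subgroup.zpowers z = ⊤ := by
    by_contra hne
    obtain ⟨M, hMn, hM, hle⟩ :=
      Cfsg.Agent.Helper20.exists_normal_ge_of_isPGroup_quotient A hQp _ le_sup_left hne
    exact hM (hz M hMn (hle (Subgroup.mem_sup_right (Subgroup.mem_zpowers z))))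
  have hPcard : Nat.card ↥(Subgroup.zpowers z) = p := by
    rw [Nat.card_zpowers]
    exact hordz
  have hidx : A.index = p := by
    have h1 : A.index ∣ p := by
      rw [← Subgroup.relIndex_top_right, ← hAz, Subgroup.relIndex_sup_left]
      have h2 := Subgroup.relIndex_dvd_card A (Subgroup.zpowers z)
      rw [hPcard] at h2
      exact h2
    rcases (Nat.dvd_prime hp).1 h1 with h | h
    · exact absurd (Subgroup.index_eq_one.1 h) hAtop
    · exact h
  have hAp' : ¬ p ∣ Nat.card ↥A := by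
    intro hdvd
    obtain ⟨a, ha⟩ := exists_prime_orderOf_dvd_card' p hdvd
    have hap : (a : G) ^ p = 1 := by
      have h1 := pow_orderOf_eq_one a
      rw [ha] at h1
      have h2 := congrArg Subtype.val h1
      rw [SubmonoidClass.coe_pow] at h2
      exact h2
    obtain ⟨U, hUn, hUp, haU, hUA⟩ := hnorm A hAn hAtop a a.2 hap
    have hUbot : U ≠ ⊥ := by
      intro h
      rw [h, Subgroup.mem_bot] at haU
      have ha1 : a = 1 := Subtype.ext haU
      rw [ha1, orderOf_one] at ha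
      exact hp.one_lt.ne ha
    have hUeq := hAmin U hUn hUbot hUA
    apply hnp
    rw [hUeq] at hUp
    obtain ⟨n, hn⟩ := (IsPGroup.iff_card).1 hUp
    apply IsPGroup.of_card (n := n + 1)
    rw [← Subgroup.card_mul_index A, hidx, hn, pow_succ]
  have hcop : (Nat.card ↥(Subgroup.zpowers z)).Coprime (Nat.card ↥A) := by
    rw [hPcard]
    exact (Nat.Prime.coprime_iff_not_dvd hp).2 hAp'
  have hPp : IsPGroup p ↥(Subgroup.zpowers z) :=
    IsPGroup.of_card (n := 1) (by rw [hPcard, pow_one])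
  have hPsolv : Group.IsSolvable ↥(Subgroup.zpowers z) := by
    haveI : Group.IsNilpotent ↥(Subgroup.zpowers z) := hPp.isNilpotent
    infer_instance
  have hPA : Subgroup.zpowers z ⊔ A = ⊤ := by
    rw [sup_comm]
    exact hAz
  have hPn : ¬ (Subgroup.zpowers z).Normal := by
    intro h
    have h1 := hz _ h (Subgroup.mem_zpowers z)
    apply hnp
    apply IsPGroup.of_card (n := 1)
    rw [pow_one, ← hPcard, h1, Subgroup.card_top]
  obtain ⟨q, hq, k, hk⟩ := Cfsg.Agent.Helper20.exists_prime_card_of_inv_sylow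
    (Subgroup.zpowers z) A hcop hPsolv hPA hPn (by
      intro Q hQA hPQ hne
      obtain ⟨U, hU⟩ := Cfsg.Agent.Helper20.exists_omega_subgroup _ (hsub _ hne)
      have hUp : IsPGroup p ↥U :=
        Cfsg.Agent.Helper20.isPGroup_of_forall_pow_eq_one U (fun g hg => ((hU g).1 hg).2)
      have hPU : Subgroup.zpowers z ≤ U := by
        rw [Subgroup.zpowers_le]
        exact (hU z).2 ⟨Subgroup.mem_sup_left (Subgroup.mem_zpowers z), hzp⟩
      have hUA : U ⊓ A = ⊥ := by
        obtain ⟨n, hn⟩ := (IsPGroup.iff_card).1 hUp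
        apply (Subgroup.disjoint_of_coprime_natCard _).eq_bot
        rw [hn]
        exact Nat.Coprime.pow_left n ((Nat.Prime.coprime_iff_not_dvd hp).2 hAp')
      have hUcard : Nat.card ↥U ∣ p := by
        have h1 := Subgroup.relIndex_dvd_index_of_normal A U
        rw [hidx, ← Subgroup.inf_relIndex_right, inf_comm, hUA, Subgroup.relIndex_bot_left] at h1
        exact h1
      have hUeq : Subgroup.zpowers z = U := by
        apply Subgroup.eq_of_le_of_card_ge hPU
        rw [hPcard]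
        exact Nat.le_of_dvd hp.pos hUcard
      have hKN : Subgroup.zpowers z ⊔ Q ≤ Subgroup.normalizer ((U : Subgroup G) : Set G) := by
        apply Cfsg.Agent.Helper20.le_normalizer_of_forall_conj_mem
        intro m hm u hu
        rw [hU] at hu ⊢
        refine ⟨Subgroup.mul_mem _ (Subgroup.mul_mem _ hm hu.1) (Subgroup.inv_mem _ hm), ?_⟩
        rw [conj_pow, hu.2, mul_one, mul_inv_cancel]
      rw [hUeq]
      exact (le_sup_right : Q ≤ Subgroup.zpowers z ⊔ Q).trans hKN)
  haveI : Fact q.Prime := ⟨hq⟩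
  have hAq : IsPGroup q ↥A := IsPGroup.of_card hk
  have hk0 : k ≠ 0 := by
    intro h0
    rw [h0, pow_zero] at hk
    exact hAbot (Subgroup.card_eq_one.1 hk)
  have hqp : q ≠ p := by
    intro h
    apply hAp'
    rw [hk, h]
    exact dvd_pow_self p hk0
  have hEA := Cfsg.Agent.Helper20.isElementaryAbelian_of_minNormal A hAq hAbot hAmin
  have hna : ¬ IsMulCommutative G := by
    intro hc
    apply hxy
    have hcomm : Commute x y := hc.is_comm.comm x y
    rw [hcomm.mul_pow, hx, hy, one_mul]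
  have hmin' : ∀ B : Subgroup G, B.Normal → B ≤ A → B = ⊥ ∨ B = A := by
    intro B hB hBA
    by_cases hb : B = ⊥
    · exact Or.inl hb
    · exact Or.inr (hAmin B hB hb hBA)
  have hcardA := Cfsg.Agent.Helper20.card_minNormal_of_index_prime hq hna A hEA hidx hmin'
  refine ⟨q, hq, hqp, ?_, A, hAn, hcardA, hEA, hmin'⟩
  rw [← Subgroup.card_mul_index A, hidx, hcardA, mul_comm]

end Cfsg.Agent.S3873
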