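import Cfsg.Statements.S3889
-- import your own Cfsg.Agent.* helpers here

set_option autoImplicit false
open Cfsg

namespace Cfsg.Agent.S3889

/-- A finite abelian group that is the union of a family of proper subgroups any two of which intersect trivially is elementary abelian: its exponent is a prime. -/
theorem result {G : Type*} [CommGroup G] [Finite G] (𝓑 : Set (Subgroup G)) (hprop : ∀ B ∈ 𝓑, B ≠ ⊤)
    (hcov : ∀ g : G, ∃ B ∈ 𝓑, g ∈ B) (hdisj : ∀ B ∈ 𝓑, ∀ C ∈ 𝓑, B ≠ C → B ⊓ C = ⊥) :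
    (Monoid.exponent G).Prime := by
  classical
  have key : ∀ A ∈ 𝓑, ∀ B ∈ 𝓑, A ≠ B → ∀ a ∈ A, ∀ b ∈ B, a ≠ 1 → b ≠ 1 →
      ∀ n : ℕ, a ^ n = 1 → b ^ n = 1 := by
    intro A hA B hB hAB a ha b hb ha1 hb1 n han
    obtain ⟨C, hC, habC⟩ := hcov (a * b)
    have hCB : C ≠ B := by
      rintro rfl
      have haC : a ∈ C := by
        have h := C.mul_mem habC (C.inv_mem hb)
        simpa using h
      have h2 : a ∈ A ⊓ C := ⟨ha, haC⟩
      rw [hdisj A hA C hC hAB] at h2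
      exact ha1 (Subgroup.mem_bot.mp h2)
    have hbn : b ^ n ∈ C ⊓ B := by
      refine ⟨?_, B.pow_mem hb n⟩
      have h := C.pow_mem habC n
      rwa [mul_pow, han, one_mul] at h
    rw [hdisj C hC B hB hCB] at hbn
    exact Subgroup.mem_bot.mp hbn
  have key2 : ∀ A ∈ 𝓑, ∀ B ∈ 𝓑, A ≠ B → ∀ a ∈ A, ∀ b ∈ B, a ≠ 1 → b ≠ 1 →
      orderOf a = orderOf b := by
    intro A hA B hB hAB a ha b hb ha1 hb1
    apply Nat.dvd_antisymm
    · exact orderOf_dvd_of_pow_eq_one
        (key B hB A hA (Ne.symm hAB) b hb a ha hb1 ha1 _ (pow_orderOf_eq_one b))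
    · exact orderOf_dvd_of_pow_eq_one
        (key A hA B hB hAB a ha b hb ha1 hb1 _ (pow_orderOf_eq_one a))
  have hout : ∀ A ∈ 𝓑, ∃ c : G, c ∉ A := by
    intro A hA
    by_contra hcon
    exact hprop A hA (eq_top_iff.mpr fun x _ => by_contra fun hx => hcon ⟨x, hx⟩)
  have key3 : ∀ a b : G, a ≠ 1 → b ≠ 1 → orderOf a = orderOf b := by
    intro a b ha1 hb1
    obtain ⟨A, hA, haA⟩ := hcov a
    obtain ⟨B, hB, hbB⟩ := hcov b
    by_cases hAB : A = B
    · subst hAB
      obtain ⟨c, hc⟩ := hout A hA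
      obtain ⟨C, hC, hcC⟩ := hcov c
      have hAC : A ≠ C := by rintro rfl; exact hc hcC
      have hc1 : c ≠ 1 := by rintro rfl; exact hc A.one_mem
      rw [key2 A hA C hC hAC a haA c hcC ha1 hc1, key2 A hA C hC hAC b hbB c hcC hb1 hc1]
    · exact key2 A hA B hB hAB a haA b hbB ha1 hb1
  obtain ⟨B0, hB0, -⟩ := hcov 1
  obtain ⟨c, hc⟩ := hout B0 hB0
  have hc1 : c ≠ 1 := by rintro rfl; exact hc B0.one_mem
  have hcpos : 0 < orderOf c := orderOf_pos c
  have hcne1 : orderOf c ≠ 1 := by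
    intro h
    exact hc1 (orderOf_eq_one_iff.mp h)
  obtain ⟨p, hp, hpdvd⟩ := Nat.exists_prime_and_dvd hcne1
  have hord : orderOf (c ^ (orderOf c / p)) = p := orderOf_pow_orderOf_div hcpos.ne' hpdvd
  have hcp1 : c ^ (orderOf c / p) ≠ 1 := by
    intro h
    rw [h, orderOf_one] at hord
    exact hp.one_lt.ne hord
  have hall : ∀ g : G, g ^ p = 1 := by
    intro g
    by_cases hg : g = 1
    · rw [hg, one_pow]
    · have h := key3 g _ hg hcp1
      rw [hord] at h
      rw [← h, pow_orderOf_eq_one]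
  have hexp : Monoid.exponent G ∣ p := Monoid.exponent_dvd_iff_forall_pow_eq_one.mpr hall
  rcases (Nat.dvd_prime hp).mp hexp with h1 | hpe
  · exfalso
    have h := Monoid.pow_exponent_eq_one c
    rw [h1, pow_one] at h
    exact hc1 h
  · rw [hpe]; exact hp

end Cfsg.Agent.S3889
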