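import Mathlib
import Cfsg.Prelude.Def_Transfer
import Cfsg.Agent.Helper22.NilCover

set_option autoImplicit false
set_option linter.style.haveILetI false

open Cfsg

namespace Cfsg.Agent.S3890

theorem result {G : Type*} [Group G] [Finite G] (hZ : Subgroup.center G = ⊥) (𝓐 : Finset (Subgroup G))
    (h𝓐 : ((∀ A ∈ 𝓐, A ≠ ⊤) ∧ (∀ g : G, ∃ A ∈ 𝓐, g ∈ A)) ∧ (∀ 𝓑 : Finset (Subgroup G), (∀ A ∈ 𝓑, A ≠ ⊤) ∧ (∀ g : G, ∃ A ∈ 𝓑, g ∈ A) → 𝓐.card ≤ 𝓑.card) ∧ (∀ A ∈ 𝓐, Group.IsNilpotent ↥A)) {p : ℕ} [Fact p.Prime] (P : Sylow p G) (hab : IsMulCommutative ↥(P : Subgroup G))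
    (hnn : ¬ (P : Subgroup G).Normal) :
    (Cfsg.IsElementaryAbelian p (P : Subgroup G) ∧ p < Nat.card ↥(P : Subgroup G)) ∨
    (∃ A ∈ 𝓐, (P : Subgroup G) ≤ A ∧ ¬ p ∣ ((P : Subgroup G).subgroupOf A).index ∧
      IsCoatom (Subgroup.normalizer ((P : Subgroup G) : Set G)) ∧
      (∀ g : G, g ∉ Subgroup.normalizer ((P : Subgroup G) : Set G) →
        ¬ p ∣ Nat.card ↥(Subgroup.normalizer ((P : Subgroup G) : Set G) ⊓
          (Subgroup.normalizer ((P : Subgroup G) : Set G)).map (MulAut.conj g).toMonoidHom)) ∧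
      Subgroup.centralizer ((P : Subgroup G) : Set G) = A) := by
  have hNMC : Helper22.IsNMC 𝓐 := h𝓐
  have hp : p.Prime := Fact.out
  by_cases hE : Cfsg.IsElementaryAbelian p (P : Subgroup G) ∧ p < Nat.card ↥(P : Subgroup G)
  · exact Or.inl hE
  right
  have habP : ∀ a b : ↥(P : Subgroup G), a * b = b * a :=
    fun a b => (isMulCommutative_iff.mp hab) a b
  have hPne : (P : Subgroup G) ≠ ⊥ := by
    intro h
    apply hnn
    rw [h]
    infer_instance
  have hgood : Helper22.NmcGood p (P : Subgroup G) := by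
    by_cases hel : ∀ w : ↥(P : Subgroup G), w ^ p = 1
    · left
      have hE' : Cfsg.IsElementaryAbelian p (P : Subgroup G) :=
        ⟨hab, fun a ha => congrArg Subtype.val (hel ⟨a, ha⟩)⟩
      have hcard : Nat.card ↥(P : Subgroup G) ≤ p := by
        by_contra hlt
        exact hE ⟨hE', not_le.mp hlt⟩
      obtain ⟨x, hx⟩ : ∃ x : ↥(P : Subgroup G), x ≠ 1 := by
        by_contra hcon
        push Not at hcon
        apply hPne
        rw [Subgroup.eq_bot_iff_forall]
        intro y hy
        exact congrArg Subtype.val (hcon ⟨y, hy⟩)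
      refine ⟨x, hx, ?_⟩
      have hox : orderOf x = p := by
        have h1 : orderOf x ∣ p := orderOf_dvd_of_pow_eq_one (hel x)
        rcases (Nat.dvd_prime hp).mp h1 with h2 | h2
        · exact absurd (orderOf_eq_one_iff.mp h2) hx
        · exact h2
      have htop : Subgroup.zpowers x = ⊤ := by
        apply Subgroup.eq_top_of_le_card
        rw [Nat.card_zpowers, hox]
        exact hcard
      intro u
      rw [htop]
      exact Subgroup.mem_top u
    · right
      push Not at hel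
      exact hel
  obtain ⟨hmem, hmax, hco, hTI⟩ := Helper22.nmc_main hZ hNMC P habP hgood hnn
  have hPC : (P : Subgroup G) ≤ Subgroup.centralizer ((P : Subgroup G) : Set G) := by
    intro a ha
    rw [Subgroup.mem_centralizer_iff]
    intro b hb
    exact congrArg Subtype.val (habP ⟨b, hb⟩ ⟨a, ha⟩)
  refine ⟨_, hmem, hPC, ?_, hco, ?_, rfl⟩
  · intro hdvd
    have h1 := Subgroup.relIndex_mul_index hPC
    have h2 : p ∣ (P : Subgroup G).index := by
      rw [← h1]
      exact Dvd.dvd.mul_right hdvd _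
    exact P.not_dvd_index h2
  · intro g hg hdvd
    obtain ⟨x, hx⟩ := exists_prime_orderOf_dvd_card'
      (G := ↥(Subgroup.normalizer ((P : Subgroup G) : Set G) ⊓
          (Subgroup.normalizer ((P : Subgroup G) : Set G)).map (MulAut.conj g).toMonoidHom)) p hdvd
    have hxm := Subgroup.mem_inf.mp x.2
    obtain ⟨n, hn, hnx⟩ := Subgroup.mem_map.mp hxm.2
    have hox : orderOf (x : G) = p := by
      rw [Subgroup.orderOf_coe]
      exact hx
    have huP : (x : G) ∈ (P : Subgroup G) :=
      Helper22.nmc_mem_of_normalizer P hxm.1 (k := 1) (by rw [pow_one]; exact hox)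
    have hnx' : (MulAut.conj g) n = (x : G) := hnx
    have hon : orderOf n = p := by
      rw [← (MulAut.conj g).orderOf_eq n, hnx']
      exact hox
    have hnP : n ∈ (P : Subgroup G) :=
      Helper22.nmc_mem_of_normalizer P hn (k := 1) (by rw [pow_one]; exact hon)
    have hugP : (x : G) ∈ ((g • P : Sylow p G) : Subgroup G) := by
      rw [← hnx', MulAut.conj_apply]
      exact Helper22.nmc_mem_smul P g n hnP
    have h1 := hTI g hg (x : G) huP hugP
    rw [h1, orderOf_one] at hox
    exact hp.one_lt.ne hox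

end Cfsg.Agent.S3890
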