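import Mathlib
import Cfsg.Prelude.Def_Transfer
import Cfsg.Agent.Helper22.NilCover

set_option autoImplicit false
set_option linter.style.haveILetI false

open Cfsg

namespace Cfsg.Agent.S3891

theorem result {G : Type*} [Group G] [Finite G] (hZ : Subgroup.center G = ⊥) (𝓐 : Finset (Subgroup G))
    (h𝓐 : ((∀ A ∈ 𝓐, A ≠ ⊤) ∧ (∀ g : G, ∃ A ∈ 𝓐, g ∈ A)) ∧ (∀ 𝓑 : Finset (Subgroup G), (∀ A ∈ 𝓑, A ≠ ⊤) ∧ (∀ g : G, ∃ A ∈ 𝓑, g ∈ A) → 𝓐.card ≤ 𝓑.card) ∧ (∀ A ∈ 𝓐, Group.IsNilpotent ↥A)) {p : ℕ} [Fact p.Prime] (P : Sylow p G)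
    (hP : IsCyclic ↥(P : Subgroup G) ∨ (IsMulCommutative ↥(P : Subgroup G) ∧ ¬ Cfsg.IsElementaryAbelian p (P : Subgroup G)))
    (hnn : ¬ (P : Subgroup G).Normal) :
    Group.IsNilpotent ↥(Subgroup.centralizer ((P : Subgroup G) : Set G)) ∧
      IsCoatom (Subgroup.normalizer ((P : Subgroup G) : Set G)) ∧
      ∀ M : Subgroup G, IsCoatom M → Subgroup.centralizer ((P : Subgroup G) : Set G) ≤ M →
        M = Subgroup.normalizer ((P : Subgroup G) : Set G) := by
  have hNMC : Helper22.IsNMC 𝓐 := h𝓐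
  have hp : p.Prime := Fact.out
  have hPne : (P : Subgroup G) ≠ ⊥ := by
    intro h
    apply hnn
    rw [h]
    infer_instance
  have hab : ∀ a b : ↥(P : Subgroup G), a * b = b * a := by
    rcases hP with hc | ⟨hc, -⟩
    · intro a b
      obtain ⟨g, hg⟩ := IsCyclic.exists_generator (α := ↥(P : Subgroup G))
      obtain ⟨i, hi⟩ := Subgroup.mem_zpowers_iff.mp (hg a)
      obtain ⟨j, hj⟩ := Subgroup.mem_zpowers_iff.mp (hg b)
      rw [← hi, ← hj, ← zpow_add, ← zpow_add, add_comm]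
    · intro a b
      exact (isMulCommutative_iff.mp hc) a b
  have hgood : Helper22.NmcGood p (P : Subgroup G) := by
    rcases hP with hc | ⟨hc, hne⟩
    · left
      obtain ⟨g, hg⟩ := IsCyclic.exists_generator (α := ↥(P : Subgroup G))
      refine ⟨g, ?_, hg⟩
      rintro rfl
      apply hPne
      rw [Subgroup.eq_bot_iff_forall]
      intro x hx
      have h1 := hg ⟨x, hx⟩
      rw [Subgroup.zpowers_one_eq_bot, Subgroup.mem_bot] at h1
      exact congrArg Subtype.val h1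
    · right
      by_contra hcon
      push Not at hcon
      apply hne
      refine ⟨hc, fun a ha => ?_⟩
      exact congrArg Subtype.val (hcon ⟨a, ha⟩)
  obtain ⟨hmem, hmax, hco, -⟩ := Helper22.nmc_main hZ hNMC P hab hgood hnn
  refine ⟨h𝓐.2.2 _ hmem, hco, ?_⟩
  intro M hM hCM
  have h1 := hmax M hM.1 hCM
  rcases eq_or_lt_of_le h1 with h2 | h2
  · exact h2
  · exact absurd (hM.2 _ h2) hco.1

end Cfsg.Agent.S3891
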