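import Mathlib
import Cfsg.Prelude.Def_Solvable
import Cfsg.Agent.S1473
import Cfsg.Agent.Helper1.Quat
import Cfsg.Agent.Helper18.FpfNorm
import Cfsg.Agent.Helper21.Primary
import Cfsg.Agent.Helper9.Fitting

set_option autoImplicit false
set_option linter.style.haveILetI false
open Cfsg

namespace Cfsg.Agent.S4155

theorem exists_other_prime (n : ℕ) (h1 : 1 < n) (h : ¬ IsPrimePow n) (q : ℕ) :
    ∃ p, p.Prime ∧ p ≠ q ∧ p ∣ n := by
  by_contra hcon
  push Not at hcon
  apply h
  have hmq : n.minFac = q := by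
    by_contra hne
    exact hcon _ (Nat.minFac_prime (by omega)) hne (Nat.minFac_dvd n)
  have hq : q.Prime := hmq ▸ Nat.minFac_prime (by omega)
  have hn := Nat.eq_prime_pow_of_unique_prime_dvd (p := q) (by omega : n ≠ 0)
    (fun {d} hd hdn => by
      by_contra hdq
      exact hcon d hd hdq hdn)
  have hk : 0 < n.primeFactorsList.length := by
    rcases Nat.eq_zero_or_pos n.primeFactorsList.length with h0 | h0
    · rw [h0, pow_zero] at hn; omega
    · exact h0
  exact (isPrimePow_nat_iff n).mpr ⟨q, _, hq, hk, hn.symm⟩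

theorem exists_primary {G : Type*} [Group G] [Finite G] (F N : Subgroup G) :
    ∀ n : ℕ, ∀ x : G, x ∈ F → x ∉ N → orderOf x = n →
      ∃ y : G, y ∈ F ∧ y ∉ N ∧ ∃ q e : ℕ, q.Prime ∧ orderOf y = q ^ e := by
  intro n
  induction n using Nat.strong_induction_on with
  | _ n ih =>
    intro x hxF hxN hn
    have hpos : 0 < n := hn ▸ orderOf_pos x
    have hn1 : n ≠ 1 := by
      intro h
      rw [h, orderOf_eq_one_iff] at hn
      exact hxN (hn ▸ N.one_mem)
    obtain ⟨q, hqdef⟩ : ∃ q, q = n.minFac := ⟨_, rfl⟩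
    have hq : q.Prime := hqdef ▸ Nat.minFac_prime hn1
    have hqn : q ∣ n := hqdef ▸ Nat.minFac_dvd n
    obtain ⟨e, m, hm, hem⟩ := Nat.exists_eq_pow_mul_and_not_dvd hpos.ne' q hq.ne_one
    by_cases hm1 : m = 1
    · exact ⟨x, hxF, hxN, q, e, hq, by rw [hn, hem, hm1, mul_one]⟩
    · have hmpos : 0 < m := by
        rcases Nat.eq_zero_or_pos m with h | h
        · rw [h, mul_zero] at hem; omega
        · exact h
      have he : 0 < e := by
        rcases Nat.eq_zero_or_pos e with h | h
        · exfalso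
          apply hm
          rw [h, pow_zero, one_mul] at hem
          rw [← hem]
          exact hqn
        · exact h
      have hcop : Nat.Coprime (q ^ e) m :=
        Nat.Coprime.pow_left e ((Nat.Prime.coprime_iff_not_dvd hq).mpr hm)
      have hqe : 1 < q ^ e := Nat.one_lt_pow he.ne' hq.one_lt
      have hqepos : 0 < q ^ e := by omega
      have hox : orderOf x = q ^ e * m := by rw [hn, hem]
      by_cases h1 : x ^ (q ^ e) ∈ N
      · have h2 : x ^ m ∉ N := fun h2 => hxN (Helper21.mem_of_pow_mem_of_coprime hcop h1 h2)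
        have ho : orderOf (x ^ m) = q ^ e := by
          rw [orderOf_pow_of_dvd hmpos.ne' (by rw [hox]; exact dvd_mul_left _ _), hox,
            Nat.mul_div_cancel _ hmpos]
        have hlt : q ^ e < n := by
          rw [hem]
          exact lt_mul_of_one_lt_right hqepos (by omega)
        exact ih (q ^ e) hlt (x ^ m) (F.pow_mem hxF _) h2 ho
      · have ho : orderOf (x ^ (q ^ e)) = m := by
          rw [orderOf_pow_of_dvd hqepos.ne' (by rw [hox]; exact dvd_mul_right _ _), hox,
            Nat.mul_div_cancel_left _ hqepos]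
        have hlt : m < n := by
          rw [hem]
          exact lt_mul_of_one_lt_left hmpos hqe
        exact ih m hlt _ (F.pow_mem hxF _) h1 ho

theorem exists_central_order {N : Type*} [Group N] [Finite N] (hnil : Group.IsNilpotent N)
    (p : ℕ) [hp : Fact p.Prime] (hdvd : p ∣ Nat.card N) :
    ∃ z : N, orderOf z = p ∧ ∀ n : N, n * z = z * n := by
  have hnormal := ((Group.isNilpotent_of_finite_tfae (G := N)).out 0 3).mp hnil
  obtain ⟨P⟩ : Nonempty (Sylow p N) := inferInstance
  have hPn : (P : Subgroup N).Normal := hnormal p hp P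
  have hPd : p ∣ Nat.card (P : Subgroup N) := Sylow.dvd_card_of_dvd_card P hdvd
  haveI : Nontrivial (P : Subgroup N) := by
    rw [← Finite.one_lt_card_iff_nontrivial]
    exact lt_of_lt_of_le hp.out.one_lt (Nat.le_of_dvd Nat.card_pos hPd)
  haveI := IsPGroup.center_nontrivial P.2
  have hcz : IsPGroup p (Subgroup.center (P : Subgroup N)) := P.2.to_subgroup _
  have hzd : p ∣ Nat.card (Subgroup.center (P : Subgroup N)) := by
    rcases hcz.card_eq_or_dvd with h | h
    · exact absurd h (Finite.one_lt_card).ne'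
    · exact h
  obtain ⟨z0, hz0⟩ := exists_prime_orderOf_dvd_card' p hzd
  have hz0c : ∀ x : (P : Subgroup N), x * (z0 : (P : Subgroup N)) = (z0 : (P : Subgroup N)) * x :=
    fun x => Subgroup.mem_center_iff.mp z0.2 x
  obtain ⟨z, hzdef⟩ : ∃ z : N, z = ((z0 : (P : Subgroup N)) : N) := ⟨_, rfl⟩
  have hzord : orderOf z = p := by
    rw [hzdef, Subgroup.orderOf_coe, Subgroup.orderOf_coe, hz0]
  refine ⟨z, hzord, ?_⟩
  intro n
  obtain ⟨e, m, hm, hem⟩ := Nat.exists_eq_pow_mul_and_not_dvd (orderOf_pos n).ne' p hp.out.ne_one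
  have hpm : Nat.Coprime p m := (Nat.Prime.coprime_iff_not_dvd hp.out).mpr hm
  have hcop : Nat.Coprime (p ^ e) m := Nat.Coprime.pow_left e hpm
  have hpe : 0 < p ^ e := pow_pos hp.out.pos e
  have key : n ∈ Subgroup.centralizer ({z} : Set N) := by
    apply Helper21.mem_of_pow_mem_of_coprime hcop
    · rw [Subgroup.mem_centralizer_iff]
      intro h hh
      rw [Set.mem_singleton_iff] at hh
      rw [hh]
      have ho : orderOf (n ^ p ^ e) = m := by
        rw [orderOf_pow_of_dvd hpe.ne' (by rw [hem]; exact dvd_mul_right _ _), hem,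
          Nat.mul_div_cancel_left _ hpe]
      exact S1473.comm_of_coprime (N := N) z (n ^ p ^ e) (by rw [ho, hzord]; exact hpm)
    · rw [Subgroup.mem_centralizer_iff]
      intro h hh
      rw [Set.mem_singleton_iff] at hh
      rw [hh]
      have hpow : (n ^ m) ^ (p ^ e) = 1 := by
        rw [← pow_mul, mul_comm, ← hem, pow_orderOf_eq_one]
      have hpg : IsPGroup p (Subgroup.zpowers (n ^ m)) := by
        obtain ⟨f, -, hf⟩ := (Nat.dvd_prime_pow hp.out).mp (orderOf_dvd_of_pow_eq_one hpow)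
        exact IsPGroup.of_card (n := f) (by rw [Nat.card_zpowers, hf])
      obtain ⟨Q, hQ⟩ := hpg.exists_le_sylow
      have hQP : Q = P := by
        haveI := Sylow.unique_of_normal P hPn
        exact Subsingleton.elim Q P
      have hmem : n ^ m ∈ (P : Subgroup N) := hQP ▸ hQ (Subgroup.mem_zpowers (n ^ m))
      have h2 := congrArg Subtype.val (hz0c ⟨n ^ m, hmem⟩)
      simp only [Subgroup.coe_mul] at h2
      rw [hzdef]
      exact h2.symm
  rw [Subgroup.mem_centralizer_iff] at key
  exact (key z rfl).symm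

theorem fix_trivial {G : Type*} [Group G] [Finite G] (N : Subgroup G)
    (heq : ∀ x : G, x ∉ N → ∀ n ∈ N, orderOf (x * n) = orderOf x)
    (p q : ℕ) (hp : p.Prime) (hq : q.Prime) (hpq : p ≠ q) (y : G) (hy : y ∉ N) (hyq : y ^ q ∈ N)
    (w : G) (hwN : w ∈ N) (hwp : w ^ p = 1) (hyw : y * w = w * y) : w = 1 := by
  have hpos : 0 < orderOf y := orderOf_pos y
  obtain ⟨e, m, hm, hem⟩ := Nat.exists_eq_pow_mul_and_not_dvd hpos.ne' q hq.ne_one
  have hcop : Nat.Coprime m q := ((Nat.Prime.coprime_iff_not_dvd hq).mpr hm).symm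
  obtain ⟨m', -, hm'⟩ := Nat.exists_mul_mod_eq_one_of_coprime hcop hq.one_lt
  obtain ⟨t, htdef⟩ : ∃ t, t = m * m' / q := ⟨_, rfl⟩
  have e1 : m * m' = q * t + 1 := by
    have := Nat.div_add_mod (m * m') q
    rw [hm', ← htdef] at this
    exact this.symm
  obtain ⟨y', hy'def⟩ : ∃ y', y' = y ^ (m * m') := ⟨_, rfl⟩
  have e2 : y' = (y ^ q) ^ t * y := by
    rw [hy'def, e1, pow_succ, pow_mul]
  have hy'N : y' ∉ N := by
    intro h
    apply hy
    have e3 : y = ((y ^ q) ^ t)⁻¹ * y' := by rw [e2]; group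
    rw [e3]
    exact N.mul_mem (N.inv_mem (N.pow_mem hyq _)) h
  have hy'ord : orderOf y' ∣ q ^ e := by
    apply orderOf_dvd_of_pow_eq_one
    rw [hy'def, ← pow_mul]
    have : m * m' * q ^ e = orderOf y * m' := by rw [hem]; ring
    rw [this, pow_mul, pow_orderOf_eq_one, one_pow]
  have hword : orderOf w ∣ p := orderOf_dvd_of_pow_eq_one hwp
  have hcop2 : Nat.Coprime (orderOf y') (orderOf w) := by
    have h0 : Nat.Coprime (q ^ e) p :=
      Nat.Coprime.pow_left e ((Nat.coprime_primes hq hp).mpr (Ne.symm hpq))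
    exact Nat.Coprime.coprime_dvd_left hy'ord (Nat.Coprime.coprime_dvd_right hword h0)
  have hcomm : Commute y' w := by
    rw [hy'def]
    exact (show Commute y w from hyw).pow_left _
  have h1 := hcomm.orderOf_mul_eq_mul_orderOf_of_coprime hcop2
  have h2 := heq y' hy'N w hwN
  rw [h1] at h2
  have h3 : orderOf w = 1 :=
    Nat.eq_of_mul_eq_mul_left (orderOf_pos y') (by rw [h2, mul_one])
  exact orderOf_eq_one_iff.mp h3

def omegaZ {G : Type*} [Group G] (N : Subgroup G) (p : ℕ) : Subgroup G where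
  carrier := {g | g ∈ N ∧ (∀ n ∈ N, n * g = g * n) ∧ g ^ p = 1}
  one_mem' := ⟨N.one_mem, fun n _ => by rw [mul_one, one_mul], one_pow p⟩
  mul_mem' := by
    rintro a b ⟨haN, hac, hap⟩ ⟨hbN, hbc, hbp⟩
    refine ⟨N.mul_mem haN hbN, fun n hn => ?_, ?_⟩
    · rw [← mul_assoc, hac n hn, mul_assoc, hbc n hn, ← mul_assoc]
    · have hc : Commute a b := hbc a haN
      rw [hc.mul_pow, hap, hbp, one_mul]
  inv_mem' := by
    rintro a ⟨haN, hac, hap⟩
    refine ⟨N.inv_mem haN, fun n hn => ?_, by rw [inv_pow, hap, inv_one]⟩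
    have h := hac n hn
    calc n * a⁻¹ = a⁻¹ * (a * n) * a⁻¹ := by group
      _ = a⁻¹ * (n * a) * a⁻¹ := by rw [h]
      _ = a⁻¹ * n := by group

theorem mem_omegaZ {G : Type*} [Group G] (N : Subgroup G) (p : ℕ) (g : G) :
    g ∈ omegaZ N p ↔ g ∈ N ∧ (∀ n ∈ N, n * g = g * n) ∧ g ^ p = 1 := Iff.rfl

theorem omegaZ_normal {G : Type*} [Group G] (N : Subgroup G) [hN : N.Normal] (p : ℕ) :
    (omegaZ N p).Normal := by
  constructor
  intro a ha g
  obtain ⟨haN, hac, hap⟩ := (mem_omegaZ N p a).mp ha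
  refine (mem_omegaZ N p _).mpr ⟨hN.conj_mem a haN g, fun n hn => ?_, ?_⟩
  · have hn' : g⁻¹ * n * g ∈ N := by
      have := hN.conj_mem n hn g⁻¹
      rwa [inv_inv] at this
    have h := hac _ hn'
    calc n * (g * a * g⁻¹) = g * ((g⁻¹ * n * g) * a) * g⁻¹ := by group
      _ = g * (a * (g⁻¹ * n * g)) * g⁻¹ := by rw [h]
      _ = g * a * g⁻¹ * n := by group
  · rw [conj_pow, hap, mul_one, mul_inv_cancel]

theorem fpf_comm {V : Type*} [Group V] (hc : ∀ x y : V, x * y = y * x) (p : ℕ) (hp : p.Prime)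
    (α ζ : MulAut V) (hcomm : α * ζ = ζ * α) (hα : α ^ p = 1) (hζ : ζ ^ p = 1)
    (h1 : ∀ k : ℕ, ∀ v : V, (α * ζ ^ k) v = v → v = 1) (h2 : ∀ v : V, ζ v = v → v = 1)
    (v : V) : v ^ p = 1 := by
  letI : CommGroup V := { (inferInstance : Group V) with mul_comm := hc }
  exact Helper18.FpfNorm.pow_eq_one_of_fpf p hp α ζ hcomm hα hζ h1 h2 v

theorem fpf_exp {G : Type*} [Group G] (N W : Subgroup G) [N.Normal] [W.Normal] (q : ℕ)
    (hq : q.Prime)
    (hWc : ∀ x ∈ W, ∀ y ∈ W, x * y = y * x)
    (hNW : ∀ n ∈ N, ∀ w ∈ W, n * w = w * n)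
    (hfix : ∀ y : G, y ∉ N → y ^ q ∈ N → ∀ w ∈ W, y * w = w * y → w = 1)
    (a b : G) (ha : a ^ q ∈ N) (hb : b ^ q ∈ N) (hab : a * b * a⁻¹ * b⁻¹ ∈ N)
    (hb1 : b ∉ N) (hab1 : ∀ k : ℕ, a * b ^ k ∉ N) (hab2 : ∀ k : ℕ, (a * b ^ k) ^ q ∈ N) :
    ∀ w ∈ W, w ^ q = 1 := by
  intro w hw
  have hker : ∀ n ∈ N, (MulAut.conjNormal n : MulAut ↥W) = 1 := by
    intro n hn
    ext v
    rw [MulAut.conjNormal_apply, MulAut.one_apply, hNW n hn v v.2, mul_inv_cancel_right]
  have hfix' : ∀ g : G, g ∉ N → g ^ q ∈ N → ∀ v : ↥W,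
      (MulAut.conjNormal g : MulAut ↥W) v = v → v = 1 := by
    intro g hg hgq v hv
    have h1 : g * (v : G) * g⁻¹ = v := by
      have := congrArg Subtype.val hv
      rwa [MulAut.conjNormal_apply] at this
    have h2 : g * (v : G) = v * g := by
      calc g * (v : G) = (g * (v : G) * g⁻¹) * g := by group
        _ = v * g := by rw [h1]
    exact Subtype.ext (hfix g hg hgq v v.2 h2)
  have hcomm : (MulAut.conjNormal a : MulAut ↥W) * MulAut.conjNormal b
      = MulAut.conjNormal b * MulAut.conjNormal a := by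
    rw [← map_mul, ← map_mul]
    have e : a * b = (a * b * a⁻¹ * b⁻¹) * (b * a) := by group
    rw [e, map_mul, hker _ hab, one_mul]
  have h := fpf_comm (V := ↥W) (fun x y => Subtype.ext (hWc x x.2 y y.2)) q hq
    (MulAut.conjNormal a) (MulAut.conjNormal b) hcomm
    (by rw [← map_pow]; exact hker _ ha) (by rw [← map_pow]; exact hker _ hb)
    (by
      intro k v hv
      rw [← map_pow, ← map_mul] at hv
      exact hfix' (a * b ^ k) (hab1 k) (hab2 k) v hv)
    (fun v hv => hfix' b hb1 hb v hv) ⟨w, hw⟩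
  exact congrArg Subtype.val h

/-- Let G be a finite group and N a proper non-trivial normal nilpotent subgroup whose order is not a prime power, such that for every x outside N all elements of the coset xN have the same order as x. Then N is the Fitting subgroup of G, and for every prime q every Sylow q-subgroup of G/N is cyclic or generalized quaternion. -/
theorem result {G : Type*} [Group G] [Finite G] (N : Subgroup G) [N.Normal] (hN1 : N ≠ ⊥) (hN2 : N ≠ ⊤)
    (heq : ∀ x : G, x ∉ N → ∀ n ∈ N, orderOf (x * n) = orderOf x)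
    (hnil : Group.IsNilpotent N) (hnpp : ¬ IsPrimePow (Nat.card N)) :
    N = Cfsg.fittingSubgroup G ∧
    ∀ (q : ℕ) [Fact q.Prime] (Q : Sylow q (G ⧸ N)), IsCyclic (Q : Subgroup (G ⧸ N)) ∨ ∃ n : ℕ, Nonempty ((Q : Subgroup (G ⧸ N)) ≃* QuaternionGroup (2 ^ n)) := by
  classical
  have hNcard : 1 < Nat.card N := by
    rw [Subgroup.one_lt_card_iff_ne_bot]; exact hN1
  have hK : ∀ y : G, y ∉ N → ∀ w ∈ N, y * w = w * y → (orderOf y).Coprime (orderOf w) →
      w = 1 := by
    intro y hy w hw hyw hcop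
    have h1 := (show Commute y w from hyw).orderOf_mul_eq_mul_orderOf_of_coprime hcop
    have h2 := heq y hy w hw
    rw [h1] at h2
    have h3 : orderOf w = 1 :=
      Nat.eq_of_mul_eq_mul_left (orderOf_pos y) (by rw [h2, mul_one])
    exact orderOf_eq_one_iff.mp h3
  have hNF : N ≤ fittingSubgroup G := le_sSup ⟨inferInstance, hnil⟩
  refine ⟨?_, ?_⟩
  · apply le_antisymm hNF
    intro x hxF
    by_contra hxN
    obtain ⟨y, hyF, hyN, q, e, hq, hyo⟩ :=
      exists_primary (fittingSubgroup G) N (orderOf x) x hxF hxN rfl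
    obtain ⟨p, hp, hpq, hpN⟩ := exists_other_prime (Nat.card N) hNcard hnpp q
    haveI : Fact p.Prime := ⟨hp⟩
    obtain ⟨w, hw⟩ := exists_prime_orderOf_dvd_card' p hpN
    have hwF : (w : G) ∈ fittingSubgroup G := hNF w.2
    haveI := Helper9.fitting_nilpotent (G := G)
    have hcop : (orderOf y).Coprime (orderOf (w : G)) := by
      rw [hyo, Subgroup.orderOf_coe, hw]
      exact Nat.Coprime.pow_left e ((Nat.coprime_primes hq hp).mpr (Ne.symm hpq))
    have hc := S1473.comm_of_coprime (N := ↥(fittingSubgroup G)) ⟨y, hyF⟩ ⟨(w : G), hwF⟩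
      (by rw [Subgroup.orderOf_mk, Subgroup.orderOf_mk]; exact hcop)
    have hc' : y * (w : G) = w * y := congrArg Subtype.val hc
    have hw1 := hK y hyN w w.2 hc' hcop
    have h1 : orderOf (w : G) = 1 := by rw [hw1, orderOf_one]
    rw [Subgroup.orderOf_coe, hw] at h1
    exact hp.one_lt.ne' h1
  · intro q hqF Q
    have hq : q.Prime := hqF.out
    have huniq : ∀ H K : Subgroup ↥(Q : Subgroup (G ⧸ N)), Nat.card H = q → Nat.card K = q →
        H = K := by
      intro H K hH hK'
      by_contra hne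
      haveI : Nontrivial ↥(Q : Subgroup (G ⧸ N)) := by
        rw [← Finite.one_lt_card_iff_nontrivial]
        exact lt_of_lt_of_le (by rw [hH]; exact hq.one_lt) (Subgroup.card_le_card_group H)
      haveI := IsPGroup.center_nontrivial Q.2
      have hcz : IsPGroup q (Subgroup.center ↥(Q : Subgroup (G ⧸ N))) := Q.2.to_subgroup _
      have hzd : q ∣ Nat.card (Subgroup.center ↥(Q : Subgroup (G ⧸ N))) := by
        rcases hcz.card_eq_or_dvd with h | h
        · exact absurd h (Finite.one_lt_card).ne'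
        · exact h
      obtain ⟨z0, hz0⟩ := exists_prime_orderOf_dvd_card' q hzd
      obtain ⟨z, hzdef⟩ : ∃ z : ↥(Q : Subgroup (G ⧸ N)), z = (z0 : ↥(Q : Subgroup (G ⧸ N))) :=
        ⟨_, rfl⟩
      have hzord : orderOf z = q := by rw [hzdef, Subgroup.orderOf_coe, hz0]
      have hzc : ∀ x : ↥(Q : Subgroup (G ⧸ N)), x * z = z * x := by
        intro x
        rw [hzdef]
        exact Subgroup.mem_center_iff.mp z0.2 x
      have hzcard : Nat.card (Subgroup.zpowers z) = q := by rw [Nat.card_zpowers, hzord]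
      obtain ⟨H', hH', hH'ne⟩ : ∃ H' : Subgroup ↥(Q : Subgroup (G ⧸ N)), Nat.card H' = q ∧
          H' ≠ Subgroup.zpowers z := by
        by_cases h : H = Subgroup.zpowers z
        · exact ⟨K, hK', fun hk => hne (h.trans hk.symm)⟩
        · exact ⟨H, hH, h⟩
      obtain ⟨a0, ha0⟩ := exists_prime_orderOf_dvd_card' (G := ↥H') q (by rw [hH'])
      obtain ⟨a, hadef⟩ : ∃ a : ↥(Q : Subgroup (G ⧸ N)), a = (a0 : ↥(Q : Subgroup (G ⧸ N))) :=
        ⟨_, rfl⟩
      have haord : orderOf a = q := by rw [hadef, Subgroup.orderOf_coe, ha0]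
      have haH : a ∈ H' := by rw [hadef]; exact a0.2
      have hazp : Subgroup.zpowers a = H' := by
        apply Subgroup.eq_of_le_of_card_ge
        · rw [Subgroup.zpowers_le]; exact haH
        · rw [Nat.card_zpowers, haord, hH']
      have haz : a ∉ Subgroup.zpowers z := by
        intro h
        apply hH'ne
        rw [← hazp]
        apply Subgroup.eq_of_le_of_card_ge
        · rw [Subgroup.zpowers_le]; exact h
        · rw [hzcard, Nat.card_zpowers, haord]
      have hak : ∀ k : ℕ, a * z ^ k ≠ 1 := by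
        intro k h
        apply haz
        have : a = (z ^ k)⁻¹ := eq_inv_of_mul_eq_one_left h
        rw [this]
        exact (Subgroup.zpowers z).inv_mem ((Subgroup.zpowers z).pow_mem (Subgroup.mem_zpowers z) k)
      have hz1 : z ≠ 1 := by
        intro h
        rw [h, orderOf_one] at hzord
        exact hq.one_lt.ne hzord
      have haq : a ^ q = 1 := by
        have h := pow_orderOf_eq_one a
        rwa [haord] at h
      have hzq : z ^ q = 1 := by
        have h := pow_orderOf_eq_one z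
        rwa [hzord] at h
      obtain ⟨A, hAdef⟩ : ∃ A : G ⧸ N, A = (a : G ⧸ N) := ⟨_, rfl⟩
      obtain ⟨B, hBdef⟩ : ∃ B : G ⧸ N, B = (z : G ⧸ N) := ⟨_, rfl⟩
      have hAq : A ^ q = 1 := by
        rw [hAdef, ← Subgroup.coe_pow, haq, Subgroup.coe_one]
      have hBq : B ^ q = 1 := by
        rw [hBdef, ← Subgroup.coe_pow, hzq, Subgroup.coe_one]
      have hAB : A * B = B * A := by
        rw [hAdef, hBdef, ← Subgroup.coe_mul, ← Subgroup.coe_mul, hzc a]
      have hB1 : B ≠ 1 := by
        intro h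
        apply hz1
        apply Subtype.ext
        rw [Subgroup.coe_one, ← hBdef]
        exact h
      have hABk : ∀ k : ℕ, A * B ^ k ≠ 1 := by
        intro k h
        apply hak k
        apply Subtype.ext
        rw [Subgroup.coe_mul, Subgroup.coe_pow, Subgroup.coe_one, ← hAdef, ← hBdef]
        exact h
      obtain ⟨a1, ha1⟩ := QuotientGroup.mk_surjective A
      obtain ⟨b1, hb1⟩ := QuotientGroup.mk_surjective B
      have ha1q : a1 ^ q ∈ N := by
        rw [← QuotientGroup.eq_one_iff, QuotientGroup.mk_pow, ha1]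
        exact hAq
      have hb1q : b1 ^ q ∈ N := by
        rw [← QuotientGroup.eq_one_iff, QuotientGroup.mk_pow, hb1]
        exact hBq
      have hcomm1 : a1 * b1 * a1⁻¹ * b1⁻¹ ∈ N := by
        rw [← QuotientGroup.eq_one_iff]
        simp only [QuotientGroup.mk_mul, QuotientGroup.mk_inv, ha1, hb1]
        rw [hAB]
        group
      have hb1N : b1 ∉ N := by
        intro h
        apply hB1
        rw [← hb1]
        exact (QuotientGroup.eq_one_iff b1).mpr h
      have hab1k : ∀ k : ℕ, a1 * b1 ^ k ∉ N := by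
        intro k h
        apply hABk k
        rw [← ha1, ← hb1, ← QuotientGroup.mk_pow, ← QuotientGroup.mk_mul]
        exact (QuotientGroup.eq_one_iff _).mpr h
      have hab1kq : ∀ k : ℕ, (a1 * b1 ^ k) ^ q ∈ N := by
        intro k
        rw [← QuotientGroup.eq_one_iff]
        simp only [QuotientGroup.mk_pow, QuotientGroup.mk_mul, ha1, hb1]
        have hc : Commute A (B ^ k) := (show Commute A B from hAB).pow_right k
        rw [hc.mul_pow, hAq, ← pow_mul, mul_comm k q, pow_mul, hBq, one_pow, one_mul]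
      obtain ⟨p, hp, hpq, hpN⟩ := exists_other_prime (Nat.card N) hNcard hnpp q
      haveI : Fact p.Prime := ⟨hp⟩
      obtain ⟨w0, hw0ord, hw0c⟩ := exists_central_order hnil p hpN
      haveI := omegaZ_normal N p
      have hw0p : w0 ^ p = 1 := by
        have h := pow_orderOf_eq_one w0
        rwa [hw0ord] at h
      have hw0W : (w0 : G) ∈ omegaZ N p := by
        refine (mem_omegaZ N p _).mpr ⟨w0.2, fun n hn => ?_, ?_⟩
        · exact congrArg Subtype.val (hw0c ⟨n, hn⟩)
        · rw [← Subgroup.coe_pow, hw0p, Subgroup.coe_one]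
      have hexp := fpf_exp N (omegaZ N p) q hq
        (fun x hx y hy => (((mem_omegaZ N p x).mp hx).2.1 y ((mem_omegaZ N p y).mp hy).1).symm)
        (fun n hn w hw => ((mem_omegaZ N p w).mp hw).2.1 n hn)
        (fun y hy hyq w hw hyw => fix_trivial N heq p q hp hq hpq y hy hyq w
          ((mem_omegaZ N p w).mp hw).1 ((mem_omegaZ N p w).mp hw).2.2 hyw)
        a1 b1 ha1q hb1q hcomm1 hb1N hab1k hab1kq (w0 : G) hw0W
      have hdvd : p ∣ q := by
        have := orderOf_dvd_of_pow_eq_one hexp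
        rwa [Subgroup.orderOf_coe, hw0ord] at this
      exact hpq ((Nat.prime_dvd_prime_iff_eq hp hq).mp hdvd)
    rcases Helper1.pgroup_unique_cyclic_or_quat q Q.2 huniq with h | ⟨-, h⟩
    · exact Or.inl h
    · exact Or.inr h

end Cfsg.Agent.S4155
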