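import Mathlib
import Cfsg.Agent.S4155
import Cfsg.Agent.Helper21.Primary

set_option autoImplicit false
set_option linter.style.haveILetI false
open Cfsg

namespace Cfsg.Agent.S3987

theorem mem_cent {G : Type*} [Group G] (g x : G) :
    g ∈ Subgroup.centralizer ({x} : Set G) ↔ x * g = g * x := by
  rw [Subgroup.mem_centralizer_iff]
  constructor
  · intro h; exact h x rfl
  · intro h z hz
    rw [Set.mem_singleton_iff] at hz
    rw [hz]; exact h

theorem cent_inf_le {G : Type*} [Group G] (x y : G) :
    Subgroup.centralizer ({x} : Set G) ⊓ Subgroup.centralizer ({y} : Set G) ≤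
      Subgroup.centralizer ({x * y} : Set G) := by
  intro g hg
  rw [Subgroup.mem_inf, mem_cent, mem_cent] at hg
  rw [mem_cent]
  calc x * y * g = x * (y * g) := by group
    _ = x * (g * y) := by rw [hg.2]
    _ = (x * g) * y := by group
    _ = (g * x) * y := by rw [hg.1]
    _ = g * (x * y) := by group

theorem comm_of_index {G : Type*} [Group G] [Finite G] (x y : G)
    (h : (Subgroup.centralizer ({x * y} : Set G)).index =
      (Subgroup.centralizer ({x} : Set G)).index * (Subgroup.centralizer ({y} : Set G)).index) :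
    x * y = y * x := by
  have hle := cent_inf_le x y
  have h1 : (Subgroup.centralizer ({x} : Set G) ⊓ Subgroup.centralizer ({y} : Set G)).index ≤
      (Subgroup.centralizer ({x * y} : Set G)).index := by
    rw [h]; exact Subgroup.index_inf_le
  have h2 := Subgroup.relIndex_mul_index hle
  have hpos : 0 < (Subgroup.centralizer ({x * y} : Set G)).index :=
    Nat.pos_of_ne_zero Subgroup.index_ne_zero_of_finite
  have hi : (Subgroup.centralizer ({x} : Set G) ⊓ Subgroup.centralizer ({y} : Set G)).index ≠ 0 :=
    Subgroup.index_ne_zero_of_finite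
  have h3 : (Subgroup.centralizer ({x} : Set G) ⊓ Subgroup.centralizer ({y} : Set G)).relIndex
      (Subgroup.centralizer ({x * y} : Set G)) = 1 := by
    have h4 : (Subgroup.centralizer ({x} : Set G) ⊓ Subgroup.centralizer ({y} : Set G)).relIndex
        (Subgroup.centralizer ({x * y} : Set G)) * (Subgroup.centralizer ({x * y} : Set G)).index
        ≤ 1 * (Subgroup.centralizer ({x * y} : Set G)).index := by
      rw [h2, one_mul]; exact h1
    have h5 := Nat.le_of_mul_le_mul_right h4 hpos
    rcases Nat.eq_zero_or_pos ((Subgroup.centralizer ({x} : Set G) ⊓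
        Subgroup.centralizer ({y} : Set G)).relIndex (Subgroup.centralizer ({x * y} : Set G)))
      with h0 | h0
    · rw [h0, zero_mul] at h2
      exact absurd h2.symm hi
    · omega
  rw [Subgroup.relIndex_eq_one] at h3
  have h7 : x * y ∈ Subgroup.centralizer ({x * y} : Set G) := by rw [mem_cent]
  have h8 : x * y ∈ Subgroup.centralizer ({x} : Set G) := (Subgroup.mem_inf.mp (h3 h7)).1
  rw [mem_cent] at h8
  have h9 : x * (x * y) = x * (y * x) := by rw [h8]; group
  exact mul_left_cancel h9

/-- Let p be a prime and G a finite group. Then some Sylow p-subgroup of G is a direct factor of G (normal with a normal complement) if and only if for every element x of p-power order and every element y whose order is a power of a prime other than p, the conjugacy class of x y has as many elements as the product of the sizes of the classes of x and of y. -/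
theorem result {G : Type*} [Group G] [Finite G] (p : ℕ) [Fact p.Prime] : (∃ (P : Sylow p G) (K : Subgroup G), (P : Subgroup G).Normal ∧ K.Normal ∧ (P : Subgroup G) ⊓ K = ⊥ ∧ (P : Subgroup G) ⊔ K = ⊤) ↔ ∀ x y : G, (∃ a : ℕ, orderOf x = p ^ a) → (∃ q b : ℕ, q.Prime ∧ q ≠ p ∧ orderOf y = q ^ b) → (Subgroup.centralizer ({x * y} : Set G)).index = (Subgroup.centralizer ({x} : Set G)).index * (Subgroup.centralizer ({y} : Set G)).index := by
  have hp : p.Prime := Fact.out
  constructor
  · rintro ⟨P, K, hPn, hKn, hinf, hsup⟩ x y ⟨a, ha⟩ ⟨q, b, hq, hqp, hb⟩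
    have hPK : ∀ u ∈ (P : Subgroup G), ∀ k ∈ K, u * k = k * u := by
      intro u hu k hk
      have h1 : u * k * u⁻¹ * k⁻¹ ∈ (P : Subgroup G) ⊓ K := by
        constructor
        · have := hPn.conj_mem u⁻¹ ((P : Subgroup G).inv_mem hu) k
          have e : u * k * u⁻¹ * k⁻¹ = u * (k * u⁻¹ * k⁻¹) := by group
          rw [e]; exact (P : Subgroup G).mul_mem hu this
        · have := hKn.conj_mem k hk u
          exact K.mul_mem this (K.inv_mem hk)
      rw [hinf, Subgroup.mem_bot] at h1
      calc u * k = (u * k * u⁻¹ * k⁻¹) * (k * u) := by group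
        _ = k * u := by rw [h1, one_mul]
    have hxP : x ∈ (P : Subgroup G) := by
      have hpg : IsPGroup p (Subgroup.zpowers x) :=
        IsPGroup.of_card (n := a) (by rw [Nat.card_zpowers, ha])
      obtain ⟨Q, hQ⟩ := hpg.exists_le_sylow
      have hQP : Q = P := by
        haveI := Sylow.unique_of_normal P hPn
        exact Subsingleton.elim Q P
      exact hQP ▸ hQ (Subgroup.mem_zpowers x)
    have hyK : y ∈ K := by
      have hmem : y ∈ ((P : Subgroup G) ⊔ K : Subgroup G) := by rw [hsup]; exact Subgroup.mem_top y
      haveI := hKn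
      rw [← SetLike.mem_coe, Subgroup.mul_normal, Set.mem_mul] at hmem
      obtain ⟨u, hu, k, hk, huk⟩ := hmem
      obtain ⟨n, hn⟩ := IsPGroup.iff_card.mp P.2
      apply Helper21.mem_of_pow_mem_of_coprime (m := p ^ n) (k := orderOf y)
      · rw [hb]; exact Nat.Coprime.pow _ _ ((Nat.coprime_primes hp hq).mpr (Ne.symm hqp))
      · have hc : Commute u k := hPK u hu k hk
        rw [← huk, hc.mul_pow]
        have hu1 : u ^ (p ^ n) = 1 := by
          have := pow_card_eq_one' (G := (P : Subgroup G)) (x := ⟨u, hu⟩)
          rw [hn] at this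
          simpa using congrArg Subtype.val this
        rw [hu1, one_mul]; exact K.pow_mem hk _
      · rw [pow_orderOf_eq_one]; exact K.one_mem
    have hKA : K ≤ Subgroup.centralizer ({x} : Set G) := by
      intro k hk
      rw [mem_cent]
      exact hPK x hxP k hk
    have hPB : (P : Subgroup G) ≤ Subgroup.centralizer ({y} : Set G) := by
      intro u hu
      rw [mem_cent]
      exact (hPK u hu y hyK).symm
    have hC : Subgroup.centralizer ({x * y} : Set G) =
        Subgroup.centralizer ({x} : Set G) ⊓ Subgroup.centralizer ({y} : Set G) := by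
      apply le_antisymm _ (cent_inf_le x y)
      intro g hg
      rw [mem_cent] at hg
      have hgx : g * x * g⁻¹ ∈ (P : Subgroup G) := hPn.conj_mem x hxP g
      have hgy : g * y * g⁻¹ ∈ K := hKn.conj_mem y hyK g
      have h3 : (g * x * g⁻¹) * (g * y * g⁻¹) = x * y := by
        calc (g * x * g⁻¹) * (g * y * g⁻¹) = g * (x * y) * g⁻¹ := by group
          _ = (x * y * g) * g⁻¹ := by rw [hg]
          _ = x * y := by group
      have h2 : x⁻¹ * (g * x * g⁻¹) = y * (g * y * g⁻¹)⁻¹ := by
        calc x⁻¹ * (g * x * g⁻¹)
            = x⁻¹ * ((g * x * g⁻¹) * (g * y * g⁻¹)) * (g * y * g⁻¹)⁻¹ := by group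
          _ = x⁻¹ * (x * y) * (g * y * g⁻¹)⁻¹ := by rw [h3]
          _ = y * (g * y * g⁻¹)⁻¹ := by group
      have h4 : x⁻¹ * (g * x * g⁻¹) ∈ (P : Subgroup G) ⊓ K := by
        constructor
        · exact (P : Subgroup G).mul_mem ((P : Subgroup G).inv_mem hxP) hgx
        · rw [h2]; exact K.mul_mem hyK (K.inv_mem hgy)
      rw [hinf, Subgroup.mem_bot] at h4
      have h5 : g * x * g⁻¹ = x := by
        calc g * x * g⁻¹ = x * (x⁻¹ * (g * x * g⁻¹)) := by group
          _ = x := by rw [h4, mul_one]
      have h6 : g * y * g⁻¹ = y := by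
        have h3' : y * (g * y * g⁻¹)⁻¹ = 1 := by rw [← h2, h4]
        exact (eq_of_mul_inv_eq_one h3').symm
      rw [Subgroup.mem_inf, mem_cent, mem_cent]
      constructor
      · calc x * g = (g * x * g⁻¹) * g := by rw [h5]
          _ = g * x := by group
      · calc y * g = (g * y * g⁻¹) * g := by rw [h6]
          _ = g * y := by group
    rw [hC]
    have hAi : (Subgroup.centralizer ({x} : Set G)).index ∣ Nat.card (P : Subgroup G) := by
      have h1 := Subgroup.index_dvd_of_le hKA
      have hcompl : Subgroup.IsComplement' (P : Subgroup G) K := by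
        apply Subgroup.isComplement'_of_disjoint_and_mul_eq_univ (disjoint_iff.mpr hinf)
        haveI := hKn
        rw [← Subgroup.mul_normal, hsup, Subgroup.coe_top]
      have h2 : K.index = Nat.card (P : Subgroup G) := by
        have h3 := hcompl.card_mul_card
        have h4 := Subgroup.card_mul_index K
        have hpos : 0 < Nat.card K := Nat.card_pos
        apply Nat.eq_of_mul_eq_mul_left hpos
        rw [h4, ← h3, mul_comm]
      rwa [h2] at h1
    have hBi : (Subgroup.centralizer ({y} : Set G)).index ∣ (P : Subgroup G).index :=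
      Subgroup.index_dvd_of_le hPB
    have hcop : Nat.Coprime (Subgroup.centralizer ({x} : Set G)).index
        (Subgroup.centralizer ({y} : Set G)).index :=
      Nat.Coprime.coprime_dvd_left hAi (Nat.Coprime.coprime_dvd_right hBi P.card_coprime_index)
    apply Nat.le_antisymm
    · exact Subgroup.index_inf_le
    · apply Nat.le_of_dvd (Nat.pos_of_ne_zero Subgroup.index_ne_zero_of_finite)
      exact hcop.mul_dvd_of_dvd_of_dvd (Subgroup.index_dvd_of_le inf_le_left)
        (Subgroup.index_dvd_of_le inf_le_right)
  · intro H0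
    have H1 : ∀ x y : G, (∃ a : ℕ, orderOf x = p ^ a) →
        (∃ q b : ℕ, q.Prime ∧ q ≠ p ∧ orderOf y = q ^ b) → x * y = y * x :=
      fun x y hx hy => comm_of_index x y (H0 x y hx hy)
    have H2 : ∀ x k : G, (∃ a : ℕ, orderOf x = p ^ a) → (orderOf k).Coprime p →
        x * k = k * x := by
      intro x k hx hk
      by_contra hne
      have hkC : k ∉ Subgroup.centralizer ({x} : Set G) := by
        intro h
        rw [mem_cent] at h
        exact hne h
      obtain ⟨y, hyF, hyN, q, e, hq, hyo⟩ := S4155.exists_primary (Subgroup.zpowers k)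
        (Subgroup.centralizer ({x} : Set G)) (orderOf k) k (Subgroup.mem_zpowers k) hkC rfl
      apply hyN
      rw [mem_cent]
      have hdvd : orderOf y ∣ orderOf k := orderOf_dvd_of_mem_zpowers hyF
      rcases Nat.eq_zero_or_pos e with he | he
      · rw [he, pow_zero, orderOf_eq_one_iff] at hyo
        rw [hyo, mul_one, one_mul]
      · have hqk : q ∣ orderOf k := dvd_trans (by rw [hyo]; exact dvd_pow_self q he.ne') hdvd
        have hqp : q ≠ p := by
          intro h
          rw [h] at hqk
          have h1 := Nat.dvd_gcd hqk (dvd_refl p)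
          rw [hk.gcd_eq_one] at h1
          exact hp.one_lt.ne' (Nat.dvd_one.mp h1)
        exact H1 x y hx ⟨q, e, hq, hqp, hyo⟩
    obtain ⟨P⟩ : Nonempty (Sylow p G) := inferInstance
    have hPel : ∀ u ∈ (P : Subgroup G), ∃ a : ℕ, orderOf u = p ^ a := by
      intro u hu
      obtain ⟨a, ha⟩ := (IsPGroup.iff_orderOf.mp P.2) ⟨u, hu⟩
      exact ⟨a, by rw [← ha, Subgroup.orderOf_mk]⟩
    have hPn : (P : Subgroup G).Normal := by
      rw [← Subgroup.normalizer_eq_top_iff, ← Subgroup.index_eq_one,
        Nat.eq_one_iff_not_exists_prime_dvd]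
      intro q hq hdvd
      haveI : Fact q.Prime := ⟨hq⟩
      have key : ∃ Q : Sylow q G,
          (Q : Subgroup G) ≤ Subgroup.normalizer ((P : Subgroup G) : Set G) := by
        by_cases hqp : q = p
        · subst hqp
          exact ⟨P, Subgroup.le_normalizer⟩
        · obtain ⟨Q⟩ : Nonempty (Sylow q G) := inferInstance
          refine ⟨Q, fun g hg => ?_⟩
          obtain ⟨b, hb⟩ := (IsPGroup.iff_orderOf.mp Q.2) ⟨g, hg⟩
          have hgo : ∃ q' b' : ℕ, q'.Prime ∧ q' ≠ p ∧ orderOf g = q' ^ b' :=
            ⟨q, b, hq, hqp, by rw [← hb, Subgroup.orderOf_mk]⟩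
          rw [Subgroup.mem_normalizer_iff]
          intro h
          constructor
          · intro hh
            have h1 := H1 h g (hPel h hh) hgo
            have e : g * h * g⁻¹ = h := by rw [← h1]; group
            rw [e]; exact hh
          · intro hh
            have h1 := H1 _ g (hPel _ hh) hgo
            have e : h = g * h * g⁻¹ := by
              have h2 : g * h = g * (g * h * g⁻¹) := by rw [← h1]; group
              exact mul_left_cancel h2
            rw [e]; exact hh
      obtain ⟨Q, hQ⟩ := key
      exact Q.not_dvd_index (dvd_trans hdvd (Subgroup.index_dvd_of_le hQ))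
    haveI := hPn
    obtain ⟨K, hK⟩ := Subgroup.exists_right_complement'_of_coprime (N := (P : Subgroup G))
      P.card_coprime_index
    have hKcop : ∀ k ∈ K, (orderOf k).Coprime p := by
      intro k hk
      have h1 : orderOf k ∣ Nat.card K := by
        have := orderOf_dvd_natCard (⟨k, hk⟩ : K)
        rwa [Subgroup.orderOf_mk] at this
      have h2 : Nat.card K = (P : Subgroup G).index := by
        have h3 := hK.card_mul_card
        have h4 := Subgroup.card_mul_index (P : Subgroup G)
        have hpos : 0 < Nat.card (P : Subgroup G) := Nat.card_pos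
        exact Nat.eq_of_mul_eq_mul_left hpos (h3.trans h4.symm)
      rw [h2] at h1
      have h5 : ¬ p ∣ (P : Subgroup G).index := P.not_dvd_index
      have h6 : ¬ p ∣ orderOf k := fun h => h5 (dvd_trans h h1)
      exact ((Nat.Prime.coprime_iff_not_dvd hp).mpr h6).symm
    have hKn : K.Normal := by
      constructor
      intro k hk g
      obtain ⟨⟨u, k'⟩, hg, -⟩ := Subgroup.IsComplement.existsUnique hK g
      simp only at hg
      have hk2 : (k' : G) * k * (k' : G)⁻¹ ∈ K := K.mul_mem (K.mul_mem k'.2 hk) (K.inv_mem k'.2)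
      have hcomm2 := H2 u _ (hPel u u.2) (hKcop _ hk2)
      have e : g * k * g⁻¹ = (k' : G) * k * (k' : G)⁻¹ := by
        rw [← hg]
        calc (u : G) * k' * k * ((u : G) * k')⁻¹
            = (u : G) * ((k' : G) * k * (k' : G)⁻¹) * (u : G)⁻¹ := by group
          _ = ((k' : G) * k * (k' : G)⁻¹) * (u : G) * (u : G)⁻¹ := by rw [hcomm2]
          _ = (k' : G) * k * (k' : G)⁻¹ := by group
      rw [e]; exact hk2
    exact ⟨P, K, hPn, hKn, disjoint_iff.mp hK.disjoint, hK.sup_eq_top⟩

end Cfsg.Agent.S3987
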