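import Cfsg.Statements.S4016
import Cfsg.Agent.Helper23.CycD
-- import your own Cfsg.Agent.* helpers here

set_option autoImplicit false
open Cfsg

namespace Cfsg.Agent.S4016

/-- Let G be a finite group and p a prime such that a Sylow p-subgroup P of G is cyclic and every subgroup of G of order prime to p is abelian. Then G has a normal p-complement or P is normal in G. -/
theorem result {G : Type*} [Group G] [Finite G] {p : ℕ}
    [Fact p.Prime] (P : Sylow p G) (hcyc : IsCyclic P)
    (hab : ∀ H : Subgroup G, ¬ p ∣ Nat.card H → IsMulCommutative H) :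
    Cfsg.HasNormalPComplement p G ∨ (P : Subgroup G).Normal := by
  rcases Cfsg.Agent.Helper23.Cyc.cyc_main p (Nat.card G) G rfl P hcyc hab with h | h
  · exact Or.inl (Cfsg.Agent.Lead.burnside_npc P h)
  · exact Or.inr h

end Cfsg.Agent.S4016
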