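import Mathlib
import Cfsg.Agent.S4023
import Cfsg.Agent.Helper13.DefectZeroPQ
import Cfsg.Agent.Helper20.PLength

set_option autoImplicit false
set_option linter.style.haveILetI false

open Cfsg

namespace Cfsg.Agent.S4024

theorem exists_normal_section {G : Type*} [Group G] [Finite G] {p : ℕ} [Fact p.Prime]
    (H : Subgroup G) [H.Normal] (hsolv : Cfsg.IsPSolvable p H) (hdiv : p ∣ Nat.card H) :
    ∃ N M : Subgroup G, N.Normal ∧ M.Normal ∧ N ≤ M ∧ ¬ p ∣ Nat.card N ∧ p ∣ Nat.card M ∧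
      ∃ k : ℕ, Nat.card M = Nat.card N * p ^ k := by
  have hpp : p.Prime := Fact.out
  obtain ⟨M0, L0, hM0n, hL0n, hML, hM0p, hL0p, m, hm⟩ :=
    Helper13.exists_p_section_of_psolvable p hdiv hsolv
  obtain ⟨U1, hU1⟩ : ∃ U : Subgroup H, U = (upperPSeries p (↥H) 1).1 := ⟨_, rfl⟩
  obtain ⟨U2, hU2⟩ : ∃ U : Subgroup H, U = (upperPSeries p (↥H) 2).1 := ⟨_, rfl⟩
  haveI hU1c : U1.Characteristic := by rw [hU1]; exact Helper20.PLen.upper_char p 1
  haveI hU2c : U2.Characteristic := by rw [hU2]; exact Helper20.PLen.upper_char p 2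
  have hM0U1 : M0 ≤ U1 := by
    rw [hU1]
    haveI := hM0n
    refine Helper20.PLen.le_upper_succ 0 ⊥ M0 bot_le ?_
    rw [Helper20.PLen.stepOK_even ⟨0, rfl⟩, Subgroup.relIndex_bot_left]
    exact ((Nat.Prime.coprime_iff_not_dvd hpp).mpr hM0p).symm
  have hL0U2 : L0 ≤ U2 := by
    rw [hU2]
    haveI := hL0n
    refine Helper20.PLen.le_upper_succ 1 M0 L0 (by rw [← hU1]; exact hM0U1) ?_
    rw [Helper20.PLen.stepOK_odd Nat.not_even_one]
    exact ⟨m, hm⟩
  have hU12 : U1 ≤ U2 := by rw [hU1, hU2]; exact Helper20.PLen.upper_le_succ p 1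
  have hU1p : ¬ p ∣ Nat.card U1 := by
    have h : Helper20.PLen.StepOK p 0
        ((upperPSeries p (↥H) 0).1.relIndex (upperPSeries p (↥H) 1).1) :=
      Helper20.PLen.upper_relIndex p 0
    rw [Helper20.PLen.stepOK_even ⟨0, rfl⟩, Helper20.PLen.upper_zero,
      Subgroup.relIndex_bot_left, ← hU1] at h
    intro hd
    exact (Nat.Prime.coprime_iff_not_dvd hpp).mp h.symm hd
  obtain ⟨k, hk⟩ : ∃ k, U1.relIndex U2 = p ^ k := by
    have h : Helper20.PLen.StepOK p 1
        ((upperPSeries p (↥H) 1).1.relIndex (upperPSeries p (↥H) 2).1) :=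
      Helper20.PLen.upper_relIndex p 1
    rw [Helper20.PLen.stepOK_odd Nat.not_even_one, ← hU1, ← hU2] at h
    exact h
  have hcardU : Nat.card U2 = Nat.card U1 * p ^ k := by
    have h := Subgroup.relIndex_mul_relIndex (⊥ : Subgroup H) U1 U2 bot_le hU12
    rw [Subgroup.relIndex_bot_left, Subgroup.relIndex_bot_left, hk] at h
    exact h.symm
  have hU2p : p ∣ Nat.card U2 := dvd_trans hL0p (Subgroup.card_dvd_of_le hL0U2)
  refine ⟨U1.map H.subtype, U2.map H.subtype, inferInstance, inferInstance,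
    Subgroup.map_mono hU12, ?_, ?_, k, ?_⟩
  · rw [Subgroup.card_map_of_injective H.subtype_injective]; exact hU1p
  · rw [Subgroup.card_map_of_injective H.subtype_injective]; exact hU2p
  · rw [Subgroup.card_map_of_injective H.subtype_injective,
      Subgroup.card_map_of_injective H.subtype_injective]; exact hcardU

theorem conj_of_order {G : Type*} [Group G] [Finite G] {p : ℕ} [Fact p.Prime]
    (hC : ∀ H K : Subgroup G, IsPGroup p H → IsPGroup p K → Nat.card H = Nat.card K →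
      ∃ g : G, K = H.map (MulAut.conj g).toMonoidHom)
    (x y : G) (hx : orderOf x = p) (hy : orderOf y = p) :
    ∃ g : G, ∃ w ∈ Subgroup.zpowers y, x = g * w * g⁻¹ := by
  have h1 : IsPGroup p (Subgroup.zpowers y) :=
    IsPGroup.of_card (n := 1) (by rw [Nat.card_zpowers, hy, pow_one])
  have h2 : IsPGroup p (Subgroup.zpowers x) :=
    IsPGroup.of_card (n := 1) (by rw [Nat.card_zpowers, hx, pow_one])
  obtain ⟨g, hg⟩ := hC _ _ h1 h2 (by rw [Nat.card_zpowers, Nat.card_zpowers, hx, hy])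
  have hxm : x ∈ (Subgroup.zpowers y).map (MulAut.conj g).toMonoidHom := by
    rw [← hg]; exact Subgroup.mem_zpowers x
  obtain ⟨w, hw, hwx⟩ := Subgroup.mem_map.mp hxm
  refine ⟨g, w, hw, ?_⟩
  rw [← hwx]
  rfl

theorem central_of_section {G : Type*} [Group G] [Finite G] {p : ℕ} [Fact p.Prime]
    (P : Sylow p G) (N M : Subgroup G) [hNn : N.Normal] [hMn : M.Normal]
    (hN : ¬ p ∣ Nat.card N) (k : ℕ) (hM : Nat.card M = Nat.card N * p ^ k)
    (hNM : N ≤ M) (hPM : (P : Subgroup G) ≤ M) (z g : G)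
    (hzc : ∀ u ∈ (P : Subgroup G), u * z = z * u)
    (hw : g * z * g⁻¹ ∈ (P : Subgroup G)) :
    ∀ y ∈ (P : Subgroup G), y * (g * z * g⁻¹) = (g * z * g⁻¹) * y := by
  have hpp : p.Prime := Fact.out
  obtain ⟨j, hj⟩ := IsPGroup.exists_card_eq P.isPGroup'
  have hcop : (Nat.card N).Coprime (Nat.card (P : Subgroup G)) := by
    rw [hj]
    exact Nat.Coprime.pow_right j ((Nat.Prime.coprime_iff_not_dvd hpp).mpr hN).symm
  have hinf : ∀ c : G, c ∈ N → c ∈ (P : Subgroup G) → c = 1 := by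
    intro c hcN hcP
    have h1 : orderOf c ∣ Nat.card N := Subgroup.orderOf_dvd_natCard N hcN
    have h2 : orderOf c ∣ Nat.card (P : Subgroup G) := Subgroup.orderOf_dvd_natCard _ hcP
    have h3 : orderOf c ∣ 1 := by
      have h4 := Nat.dvd_gcd h1 h2
      rwa [Nat.Coprime.gcd_eq_one hcop] at h4
    exact orderOf_eq_one_iff.mp (Nat.dvd_one.mp h3)
  have hsup : N ⊔ (P : Subgroup G) = M := by
    apply Subgroup.eq_of_le_of_card_ge (sup_le hNM hPM)
    have h1 : Nat.card N * Nat.card (P : Subgroup G) ∣ Nat.card ↥(N ⊔ (P : Subgroup G)) :=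
      Nat.Coprime.mul_dvd_of_dvd_of_dvd hcop (Subgroup.card_dvd_of_le le_sup_left)
        (Subgroup.card_dvd_of_le le_sup_right)
    have h2 : p ^ k ∣ Nat.card (P : Subgroup G) := by
      apply P.pow_dvd_card_of_pow_dvd_card
      exact dvd_trans (Dvd.intro_left _ hM.symm) (Subgroup.card_subgroup_dvd_card M)
    have h3 : Nat.card M ∣ Nat.card ↥(N ⊔ (P : Subgroup G)) := by
      rw [hM]
      exact dvd_trans (Nat.mul_dvd_mul_left _ h2) h1
    exact Nat.le_of_dvd Nat.card_pos h3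
  intro y hy
  have hy' : g⁻¹ * y * g ∈ M := by
    have h := hMn.conj_mem y (hPM hy) g⁻¹
    rwa [inv_inv] at h
  rw [← hsup] at hy'
  obtain ⟨n, hn, u, hu, hnu⟩ := Subgroup.mem_sup_of_normal_left.mp hy'
  have huz : u * z = z * u := hzc u hu
  obtain ⟨c, hc⟩ : ∃ c, c = y * (g * z * g⁻¹) * y⁻¹ * (g * z * g⁻¹)⁻¹ := ⟨_, rfl⟩
  have hcP : c ∈ (P : Subgroup G) := by
    rw [hc]
    exact Subgroup.mul_mem _ (Subgroup.mul_mem _ (Subgroup.mul_mem _ hy hw)
      (Subgroup.inv_mem _ hy)) (Subgroup.inv_mem _ hw)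
  have hcN : c ∈ N := by
    have e1 : c = g * (n * (z * n⁻¹ * z⁻¹)) * g⁻¹ := by
      have e2 : y = g * (n * u) * g⁻¹ := by rw [hnu]; group
      rw [hc, e2]
      have e3 : g * (n * u) * g⁻¹ * (g * z * g⁻¹) * (g * (n * u) * g⁻¹)⁻¹ * (g * z * g⁻¹)⁻¹ =
          g * (n * (u * z) * u⁻¹ * n⁻¹ * z⁻¹) * g⁻¹ := by group
      rw [e3, huz]; group
    rw [e1]
    exact hNn.conj_mem _ (N.mul_mem hn (hNn.conj_mem _ (N.inv_mem hn) z)) g
  have hc1 := hinf c hcN hcP
  rw [hc] at hc1
  calc y * (g * z * g⁻¹)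
      = (y * (g * z * g⁻¹) * y⁻¹ * (g * z * g⁻¹)⁻¹) * ((g * z * g⁻¹) * y) := by group
    _ = (g * z * g⁻¹) * y := by rw [hc1, one_mul]

/-- Let p be an odd prime and G a finite group in which any two p-subgroups of the same order are conjugate, with Sylow p-subgroup P. If H is a normal p-solvable subgroup of G whose order is divisible by p, then P is abelian, and either P ≤ H or P is cyclic. -/
theorem result {G : Type*} [Group G] [Finite G]
    {p : ℕ} [Fact p.Prime] (hp : p ≠ 2) (hC : ∀ H K : Subgroup G, IsPGroup p H → IsPGroup p K → Nat.card H = Nat.card K →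
      ∃ g : G, K = H.map (MulAut.conj g).toMonoidHom) (P : Sylow p G)
    (H : Subgroup G) [H.Normal] (hsolv : Cfsg.IsPSolvable p H) (hdiv : p ∣ Nat.card H) :
    IsMulCommutative P ∧ ((P : Subgroup G) ≤ H ∨ IsCyclic P) := by
  have hpp : p.Prime := Fact.out
  have hHn : H.Normal := inferInstance
  obtain ⟨y0, hy0⟩ := exists_prime_orderOf_dvd_card' p hdiv
  have hy0G : orderOf (y0 : G) = p := by rw [Subgroup.orderOf_coe]; exact hy0
  have hordH : ∀ x : G, orderOf x = p → x ∈ H := by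
    intro x hx
    obtain ⟨g, w, hw, rfl⟩ := conj_of_order hC x (y0 : G) hx hy0G
    have hwH : w ∈ H := (Subgroup.zpowers_le.mpr y0.2) hw
    exact hHn.conj_mem w hwH g
  have hPle : (∀ a ∈ (P : Subgroup G), a ^ p = 1) → (P : Subgroup G) ≤ H := by
    intro hexp a ha
    by_cases ha1 : a = 1
    · rw [ha1]; exact H.one_mem
    · exact hordH a (orderOf_eq_prime (hexp a ha) ha1)
  rcases S4023.result hC P with hcyc | hea | ⟨h2, _⟩ | ⟨_, hnc, hcard, hexp⟩
  · exact ⟨⟨⟨fun a b => S4023.comm_of_cyclic hcyc a b⟩⟩, Or.inr hcyc⟩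
  · exact ⟨hea.1, Or.inl (hPle hea.2)⟩
  · exact absurd h2 hp
  · exfalso
    have hexp' : ∀ a ∈ (P : Subgroup G), a ^ p = 1 := by
      intro a ha
      have h0 := Monoid.pow_exponent_eq_one (⟨a, ha⟩ : (P : Subgroup G))
      rw [hexp] at h0
      have h1 := congrArg Subtype.val h0
      simpa using h1
    have hPH := hPle hexp'
    have hpair : ∃ x ∈ (P : Subgroup G), ∃ u ∈ (P : Subgroup G), x * u ≠ u * x := by
      by_contra hcon
      push Not at hcon
      exact hnc ⟨⟨fun a b => Subtype.ext (hcon a.1 a.2 b.1 b.2)⟩⟩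
    obtain ⟨x0, hx0, u0, hu0, hxu⟩ := hpair
    have hnt : Nontrivial (P : Subgroup G) := by
      apply Finite.one_lt_card_iff_nontrivial.mp
      have h3 : Nat.card (P : Subgroup G) = p ^ 3 := hcard
      rw [h3]
      exact Nat.one_lt_pow (by norm_num) hpp.one_lt
    haveI := hnt
    haveI hcn : Nontrivial (Subgroup.center (P : Subgroup G)) :=
      IsPGroup.center_nontrivial P.isPGroup'
    obtain ⟨⟨zc, hzc⟩, hne⟩ := exists_ne (1 : Subgroup.center (P : Subgroup G))
    have hz1 : (zc : G) ≠ 1 := by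
      intro h
      apply hne
      apply Subtype.ext
      apply Subtype.ext
      exact h
    have hzcen : ∀ u ∈ (P : Subgroup G), u * (zc : G) = (zc : G) * u := by
      intro u hu
      have h := Subgroup.mem_center_iff.mp hzc ⟨u, hu⟩
      exact congrArg Subtype.val h
    have hzo : orderOf (zc : G) = p := orderOf_eq_prime (hexp' _ zc.2) hz1
    have hx01 : x0 ≠ 1 := by
      intro h
      apply hxu
      rw [h, one_mul, mul_one]
    have hxo : orderOf x0 = p := orderOf_eq_prime (hexp' _ hx0) hx01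
    obtain ⟨N, M, hNn, hMn, hNM, hNp, hMp, k, hk⟩ := exists_normal_section H hsolv hdiv
    haveI := hNn
    haveI := hMn
    obtain ⟨y1, hy1⟩ := exists_prime_orderOf_dvd_card' p hMp
    have hy1G : orderOf (y1 : G) = p := by rw [Subgroup.orderOf_coe]; exact hy1
    have hPM : (P : Subgroup G) ≤ M := by
      intro a ha
      by_cases ha1 : a = 1
      · rw [ha1]; exact M.one_mem
      · obtain ⟨g, w, hw, rfl⟩ :=
          conj_of_order hC a (y1 : G) (orderOf_eq_prime (hexp' a ha) ha1) hy1G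
        exact hMn.conj_mem w ((Subgroup.zpowers_le.mpr y1.2) hw) g
    obtain ⟨g, w, hw, hxw⟩ := conj_of_order hC x0 (zc : G) hxo hzo
    have hwcen : ∀ u ∈ (P : Subgroup G), u * w = w * u := by
      intro u hu
      obtain ⟨i, rfl⟩ := Subgroup.mem_zpowers_iff.mp hw
      exact (Commute.zpow_right (hzcen u hu) i).eq
    have hgw : g * w * g⁻¹ ∈ (P : Subgroup G) := by rw [← hxw]; exact hx0
    have key := central_of_section P N M hNp k hk hNM hPM w g hwcen hgw u0 hu0
    rw [← hxw] at key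
    exact hxu key.symm

end Cfsg.Agent.S4024
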