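import Cfsg.Statements.S4035
import Cfsg.Agent.Helper21.Primary

set_option autoImplicit false
open Cfsg

namespace Cfsg.Agent.S4035

/-- Let G be a finite group and p a prime such that p divides the size of no conjugacy class of p-regular elements (elements of order prime to p). Then G is the internal direct product of a Sylow p-subgroup P and a normal subgroup H of order prime to p: P is normal, P ⊓ H = 1 and PH = G. -/
theorem result {G : Type*} [Group G] [Finite G] {p : ℕ} [Fact p.Prime]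
    (h : ∀ x : G, (orderOf x).Coprime p → ¬ p ∣ (ConjClasses.mk x).carrier.ncard) (P : Sylow p G) :
    (P : Subgroup G).Normal ∧ ∃ H : Subgroup G, H.Normal ∧ ¬ p ∣ Nat.card H ∧
      (P : Subgroup G) ⊓ H = ⊥ ∧ (P : Subgroup G) ⊔ H = ⊤ := by
  classical
  have key : ∀ y : G, (orderOf y).Coprime p →
      ∃ S : Sylow p G, (S : Subgroup G) ≤ Subgroup.centralizer ({y} : Set G) := by
    intro y hy
    apply Cfsg.Agent.Helper21.exists_sylow_le_of_not_dvd_index
    rw [Cfsg.Agent.Helper21.index_centralizer_eq_ncard]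
    exact h y hy
  have hsub : Subsingleton (Sylow p G) := by
    apply Cfsg.Agent.Helper21.sylow_subsingleton_of_forall_mem_normalizer
    intro g
    obtain ⟨a, m, hcop, ho1, ho2⟩ := Cfsg.Agent.Helper21.exists_pparts p g
    obtain ⟨S, hS⟩ := key (g ^ p ^ a) (by rw [ho1]; exact hcop)
    have hgm : g ^ m ∈ Subgroup.centralizer ({g ^ p ^ a} : Set G) := by
      rw [Subgroup.mem_centralizer_iff]
      intro x hx
      rw [Set.mem_singleton_iff] at hx
      rw [hx, ← pow_add, ← pow_add, add_comm]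
    have hzp : IsPGroup p (Subgroup.zpowers (g ^ m)) := by
      apply Cfsg.Agent.Helper12.isPGroup_zpowers_of_pow_eq_one (k := a)
      rw [← ho2]; exact pow_orderOf_eq_one _
    obtain ⟨c, hc, hcS⟩ := Cfsg.Agent.Helper12.exists_conj_mem_sylow_of_le S hS hzp
      ((Subgroup.zpowers_le).2 hgm)
    have h1 := hcS _ (Subgroup.mem_zpowers _)
    refine ⟨c⁻¹ • S, ?_⟩
    apply Cfsg.Agent.Helper21.mem_normalizer_of_parts g (c⁻¹ • S) (a := a) hcop
    · exact (Cfsg.Agent.Helper12.mem_sylow_smul_iff S c⁻¹ (g ^ m)).2 (by rw [inv_inv]; exact h1)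
    · rw [Subgroup.mem_centralizer_iff]
      intro s hs
      have hs' : c⁻¹⁻¹ * s * c⁻¹ ∈ S := (Cfsg.Agent.Helper12.mem_sylow_smul_iff S c⁻¹ s).1 hs
      rw [inv_inv] at hs'
      have h3 := Subgroup.mem_centralizer_iff.1 (hS hs') _ (Set.mem_singleton _)
      have h4 := Subgroup.mem_centralizer_iff.1 hc _ (Set.mem_singleton _)
      obtain ⟨t, ht⟩ : ∃ t, t = g ^ p ^ a := ⟨_, rfl⟩
      rw [← ht] at h3 h4 ⊢
      have h4' : c⁻¹ * t = t * c⁻¹ := by
        calc c⁻¹ * t = c⁻¹ * (t * c) * c⁻¹ := by group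
          _ = c⁻¹ * (c * t) * c⁻¹ := by rw [h4]
          _ = t * c⁻¹ := by group
      calc s * t = c⁻¹ * ((c * s * c⁻¹) * (c * t)) := by group
        _ = c⁻¹ * ((c * s * c⁻¹) * (t * c)) := by rw [h4]
        _ = c⁻¹ * ((c * s * c⁻¹ * t) * c) := by group
        _ = c⁻¹ * ((t * (c * s * c⁻¹)) * c) := by rw [h3]
        _ = (c⁻¹ * t) * (c * s * c⁻¹) * c := by group
        _ = (t * c⁻¹) * (c * s * c⁻¹) * c := by rw [h4']
        _ = t * s := by group
  have hPn : (P : Subgroup G).Normal := Sylow.normal_of_subsingleton P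
  refine ⟨hPn, ?_⟩
  apply Cfsg.Agent.Helper21.exists_normal_complement_of_central P hPn
  intro y hy x hx
  obtain ⟨S, hS⟩ := key y hy
  have hSP : S = P := Subsingleton.elim S P
  rw [hSP] at hS
  exact (Subgroup.mem_centralizer_iff.1 (hS hx) y (Set.mem_singleton y)).symm

end Cfsg.Agent.S4035
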