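import Mathlib
import Cfsg.Statements.S4113

set_option autoImplicit false
open Cfsg

namespace Cfsg.Agent.S4113

open scoped Pointwise in
theorem exists_mul_of_sup_eq_top {G : Type*} [Group G] (H M : Subgroup G) [M.Normal]
    (hHM : H ⊔ M = ⊤) (g : G) : ∃ h ∈ H, ∃ m ∈ M, g = h * m := by
  have hg : g ∈ ((H ⊔ M : Subgroup G) : Set G) := by rw [hHM]; trivial
  rw [Subgroup.mul_normal] at hg
  obtain ⟨h, hh, m, hm, rfl⟩ := Set.mem_mul.1 hg
  exact ⟨h, hh, m, hm, rfl⟩

theorem result {G : Type*} [Group G] [Finite G] (N M : Subgroup G) [N.Normal] [M.Normal] (hMN : M ≤ N) (hM1 : M ≠ ⊥) (hN2 : N ≠ ⊤)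
    (H : Subgroup G) (hHM : H ⊔ M = ⊤) (hHM' : H ⊓ M = ⊥) :
    (∀ x ∈ M, x ≠ 1 → Subgroup.centralizer ({x} : Set G) ≤ N) ↔
      (H ≠ ⊥ ∧ H ≠ ⊤ ∧ H ⊓ N < H ∧ ∀ g : G, g ∉ H → H ⊓ H.map (MulAut.conj g).toMonoidHom ≤ N) := by
  have hdisj : ∀ z : G, z ∈ H → z ∈ M → z = 1 := by
    intro z hzH hzM
    have : z ∈ H ⊓ M := ⟨hzH, hzM⟩
    rw [hHM'] at this
    exact this
  constructor
  · intro hC
    refine ⟨?_, ?_, ?_, ?_⟩
    · intro hbot
      rw [hbot, bot_sup_eq] at hHM
      exact hN2 (top_le_iff.1 (hHM ▸ hMN))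
    · intro htop
      rw [htop, top_inf_eq] at hHM'
      exact hM1 hHM'
    · refine lt_of_le_of_ne inf_le_left ?_
      intro heq
      have hHN : H ≤ N := inf_eq_left.1 heq
      have : H ⊔ M ≤ N := sup_le hHN hMN
      rw [hHM] at this
      exact hN2 (top_le_iff.1 this)
    · intro g hg x hx
      obtain ⟨hxH, y, hyH, hxy⟩ := hx
      obtain ⟨h, hh, m, hm, rfl⟩ := exists_mul_of_sup_eq_top H M hHM g
      have hm1 : m ≠ 1 := by
        rintro rfl
        apply hg
        simpa using hh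
      have hxy' : x = h * m * y * (h * m)⁻¹ := by
        rw [← hxy]; rfl
      have hx'H : m * y * m⁻¹ ∈ H := by
        have : m * y * m⁻¹ = h⁻¹ * x * h := by rw [hxy']; group
        rw [this]
        exact H.mul_mem (H.mul_mem (H.inv_mem hh) hxH) hh
      have h1 : m * y * m⁻¹ * y⁻¹ ∈ H := H.mul_mem hx'H (H.inv_mem hyH)
      have h2 : m * y * m⁻¹ * y⁻¹ ∈ M := by
        have : m * y * m⁻¹ * y⁻¹ = m * (y * m⁻¹ * y⁻¹) := by group
        rw [this]
        exact M.mul_mem hm (Subgroup.Normal.conj_mem inferInstance _ (M.inv_mem hm) y)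
      have h3 := hdisj _ h1 h2
      have hcomm : y * m = m * y := by
        have : m * y * m⁻¹ = y := by
          have := congrArg (fun z => z * y) h3
          simpa using this
        calc y * m = (m * y * m⁻¹) * m := by rw [this]
          _ = m * y := by group
      have hyN : y ∈ N := by
        apply hC m hm hm1
        rw [Subgroup.mem_centralizer_singleton_iff]
        exact hcomm
      rw [hxy']
      exact Subgroup.Normal.conj_mem inferInstance y hyN (h * m)
  · rintro ⟨-, -, -, hTI⟩ x hxM hx1 c hc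
    rw [Subgroup.mem_centralizer_singleton_iff] at hc
    obtain ⟨h, hh, m, hm, rfl⟩ := exists_mul_of_sup_eq_top H M hHM c
    by_contra hcN
    have hhN : h ∉ N := by
      intro hhN
      exact hcN (N.mul_mem hhN (hMN hm))
    have claimA : ∀ u ∈ M, u * h = h * u → u = 1 := by
      intro u hu huh
      by_contra hu1
      have huH : u ∉ H := fun huH => hu1 (hdisj u huH hu)
      have hmem : h ∈ H ⊓ H.map (MulAut.conj u).toMonoidHom := by
        refine ⟨hh, h, hh, ?_⟩
        simp only [MulEquiv.coe_toMonoidHom, MulAut.conj_apply]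
        rw [huh]; group
      exact hhN (hTI u huH hmem)
    let φ : M → M := fun u => ⟨(u : G) * h * (u : G)⁻¹ * h⁻¹, by
      have : (u : G) * h * (u : G)⁻¹ * h⁻¹ = (u : G) * (h * (u : G)⁻¹ * h⁻¹) := by group
      rw [this]
      exact M.mul_mem u.2 (Subgroup.Normal.conj_mem inferInstance _ (M.inv_mem u.2) h)⟩
    have hφinj : Function.Injective φ := by
      intro u v huv
      have h1 : (u : G) * h * (u : G)⁻¹ * h⁻¹ = (v : G) * h * (v : G)⁻¹ * h⁻¹ :=
        congrArg Subtype.val huv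
      have h2 : ((v : G)⁻¹ * (u : G)) * h = h * ((v : G)⁻¹ * (u : G)) := by
        have h3 : (u : G) * h * (u : G)⁻¹ = (v : G) * h * (v : G)⁻¹ := mul_right_cancel h1
        calc ((v : G)⁻¹ * (u : G)) * h = (v : G)⁻¹ * ((u : G) * h * (u : G)⁻¹) * (u : G) := by group
          _ = (v : G)⁻¹ * ((v : G) * h * (v : G)⁻¹) * (u : G) := by rw [h3]
          _ = h * ((v : G)⁻¹ * (u : G)) := by group
      have h4 := claimA _ (M.mul_mem (M.inv_mem v.2) u.2) h2
      apply Subtype.ext
      have : (u : G) = (v : G) * ((v : G)⁻¹ * (u : G)) := by group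
      rw [this, h4, mul_one]
    have hφsurj : Function.Surjective φ := Finite.injective_iff_surjective.1 hφinj
    obtain ⟨u, hu⟩ := hφsurj ⟨h * m * h⁻¹, Subgroup.Normal.conj_mem inferInstance m hm h⟩
    have hu' : (u : G) * h * (u : G)⁻¹ * h⁻¹ = h * m * h⁻¹ := congrArg Subtype.val hu
    have hconj : (u : G) * h * (u : G)⁻¹ = h * m := by
      have := congrArg (fun z => z * h) hu'
      simpa using this
    apply hx1
    have hx' : ((u : G)⁻¹ * x * (u : G)) * h = h * ((u : G)⁻¹ * x * (u : G)) := by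
      rw [← hconj] at hc
      calc ((u : G)⁻¹ * x * (u : G)) * h = (u : G)⁻¹ * (x * ((u : G) * h * (u : G)⁻¹)) * (u : G) := by group
        _ = (u : G)⁻¹ * (((u : G) * h * (u : G)⁻¹) * x) * (u : G) := by rw [hc]
        _ = h * ((u : G)⁻¹ * x * (u : G)) := by group
    have hmem : (u : G)⁻¹ * x * (u : G) ∈ M := by
      have := Subgroup.Normal.conj_mem (inferInstance : M.Normal) x hxM (u : G)⁻¹
      simpa using this
    have h5 := claimA _ hmem hx'
    calc x = (u : G) * ((u : G)⁻¹ * x * (u : G)) * (u : G)⁻¹ := by group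
      _ = 1 := by rw [h5]; group

end Cfsg.Agent.S4113
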