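import Mathlib
import Cfsg.Statements.S4126
import Cfsg.Agent.Lead.Frobenius
import Cfsg.Agent.Lead.PGroup
import Cfsg.Agent.Helper1.Fact
import Cfsg.Agent.Helper12.Syl
import Cfsg.Agent.Helper16.PCore
import Cfsg.Agent.Helper24.Critical
import Cfsg.Agent.Helper27.CoprimeAut
import Cfsg.Agent.S4106

set_option autoImplicit false
open Cfsg

namespace Cfsg.Agent.S4126

universe u

open scoped commutatorElement in
theorem hyper_aux (p : ℕ) [hp : Fact p.Prime] : ∀ (n : ℕ) (G : Type u) [Group G] [Finite G],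
    Nat.card G = n → ∀ (L : Subgroup G), L.Normal → IsPGroup p L →
    (∀ x ∈ L, ∃ a : ℕ, (Subgroup.centralizer ({x} : Set G)).index = p ^ a) →
    ∀ y : G, (orderOf y).Coprime p → ∀ x ∈ L, y * x = x * y := by
  intro n
  induction n using Nat.strong_induction_on with
  | _ n ih =>
  intro G _ _ hn L hLn hLp hidx y hy x hx
  by_cases hbot : L = ⊥
  · rw [hbot, Subgroup.mem_bot] at hx
    rw [hx, mul_one, one_mul]
  obtain ⟨P⟩ : Nonempty (Sylow p G) := inferInstance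
  have hLP : L ≤ (P : Subgroup G) := hLp.le_sylow_of_normal P
  have hnil : Group.IsNilpotent (P : Subgroup G) := P.2.isNilpotent
  have hLsub : ¬ (L.subgroupOf (P : Subgroup G)) ≤ (⊥ : Subgroup (P : Subgroup G)) := by
    intro hle
    apply hbot
    rw [eq_bot_iff]
    intro z hz
    have h0 : (⟨z, hLP hz⟩ : (P : Subgroup G)) ∈ L.subgroupOf (P : Subgroup G) :=
      Subgroup.mem_subgroupOf.mpr hz
    have h1 := hle h0
    rw [Subgroup.mem_bot] at h1 ⊢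
    exact congrArg Subtype.val h1
  have hLPn : (L.subgroupOf (P : Subgroup G)).Normal := hLn.subgroupOf _
  obtain ⟨⟨x₀, hx₀P⟩, hx₀L, hx₀1, hx₀c⟩ :=
    Cfsg.Agent.Helper24.exists_mem_not_mem_commutator_mem (L.subgroupOf (P : Subgroup G)) ⊥ hLsub
  have hx₀L' : x₀ ∈ L := Subgroup.mem_subgroupOf.mp hx₀L
  have hx₀ne : x₀ ≠ 1 := by
    intro h0
    apply hx₀1
    rw [Subgroup.mem_bot]
    exact Subtype.ext h0
  have hPC : (P : Subgroup G) ≤ Subgroup.centralizer ({x₀} : Set G) := by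
    intro g hg
    rw [Subgroup.mem_centralizer_iff]
    intro h hh
    rw [Set.mem_singleton_iff] at hh
    rw [hh]
    have h1 := hx₀c ⟨g, hg⟩
    rw [Subgroup.mem_bot] at h1
    have h2 := congrArg Subtype.val h1
    have h3 : x₀ * g * x₀⁻¹ * g⁻¹ = 1 := h2
    calc x₀ * g = (x₀ * g * x₀⁻¹ * g⁻¹) * (g * x₀) := by group
      _ = g * x₀ := by rw [h3, one_mul]
  obtain ⟨a, ha⟩ := hidx x₀ hx₀L'
  have hdvd : (Subgroup.centralizer ({x₀} : Set G)).index ∣ (P : Subgroup G).index :=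
    Subgroup.index_dvd_of_le hPC
  have hCtop : Subgroup.centralizer ({x₀} : Set G) = ⊤ := by
    rw [← Subgroup.index_eq_one]
    rw [ha] at hdvd ⊢
    by_contra hne
    have ha0 : a ≠ 0 := by
      rintro rfl
      exact hne (pow_zero p)
    exact P.not_dvd_index (dvd_trans (dvd_pow_self p ha0) hdvd)
  have hx₀Z : x₀ ∈ Subgroup.center G := by
    rw [Subgroup.mem_center_iff]
    intro g
    have hg : g ∈ Subgroup.centralizer ({x₀} : Set G) := by rw [hCtop]; exact Subgroup.mem_top g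
    exact (Subgroup.mem_centralizer_iff.mp hg x₀ (Set.mem_singleton x₀)).symm
  obtain ⟨Z₀, hZ₀⟩ : ∃ Z₀ : Subgroup G, Z₀ = L ⊓ Subgroup.center G := ⟨_, rfl⟩
  have hZ₀n : Z₀.Normal := by rw [hZ₀]; infer_instance
  have hx₀Z₀ : x₀ ∈ Z₀ := by rw [hZ₀]; exact Subgroup.mem_inf.mpr ⟨hx₀L', hx₀Z⟩
  have hZ₀L : Z₀ ≤ L := by rw [hZ₀]; exact inf_le_left
  have hZ₀C : ∀ z ∈ Z₀, ∀ g : G, g * z = z * g := by
    intro z hz g
    rw [hZ₀] at hz
    exact Subgroup.mem_center_iff.mp (Subgroup.mem_inf.mp hz).2 g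
  have hlt : Nat.card (G ⧸ Z₀) < n := by
    rw [← hn, ← Subgroup.index_eq_card, ← Z₀.index_mul_card]
    have h1 : 1 < Nat.card Z₀ := (Subgroup.one_lt_card_iff_ne_bot _).mpr (by
      intro h0
      rw [h0, Subgroup.mem_bot] at hx₀Z₀
      exact hx₀ne hx₀Z₀)
    have h2 : 0 < Z₀.index := Nat.pos_of_ne_zero Subgroup.index_ne_zero_of_finite
    nlinarith
  have key := ih _ hlt (G ⧸ Z₀) rfl (L.map (QuotientGroup.mk' Z₀)) ?_ ?_ ?_
    (QuotientGroup.mk' Z₀ y) ?_ (QuotientGroup.mk' Z₀ x) (Subgroup.mem_map_of_mem _ hx)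
  · have hc : x * y * x⁻¹ * y⁻¹ ∈ Z₀ := by
      rw [← QuotientGroup.eq_one_iff]
      have h1 : ((x * y * x⁻¹ * y⁻¹ : G) : G ⧸ Z₀) = (QuotientGroup.mk' Z₀ x) *
          (QuotientGroup.mk' Z₀ y) * (QuotientGroup.mk' Z₀ x)⁻¹ * (QuotientGroup.mk' Z₀ y)⁻¹ := rfl
      rw [h1, ← key]; group
    have hc1 : Commute (x * y * x⁻¹ * y⁻¹) y := (hZ₀C _ hc y).symm
    have hc2 : ∃ k, (x * y * x⁻¹ * y⁻¹) ^ (p ^ k) = 1 := by
      obtain ⟨k, hk⟩ := hLp ⟨_, hZ₀L hc⟩
      exact ⟨k, congrArg Subtype.val hk⟩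
    exact (Cfsg.Agent.Helper16.comm_of_coprime_step y x hy hc1 hc2).symm
  · exact hLn.map (QuotientGroup.mk' Z₀) (QuotientGroup.mk'_surjective Z₀)
  · exact hLp.map (QuotientGroup.mk' Z₀)
  · rintro _ ⟨x', hx', rfl⟩
    obtain ⟨a', ha'⟩ := hidx x' hx'
    have hle : (Subgroup.centralizer ({x'} : Set G)).map (QuotientGroup.mk' Z₀) ≤
        Subgroup.centralizer ({QuotientGroup.mk' Z₀ x'} : Set (G ⧸ Z₀)) := by
      rintro _ ⟨c, hc, rfl⟩
      have hc' : c ∈ Subgroup.centralizer ({x'} : Set G) := hc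
      rw [Subgroup.mem_centralizer_iff] at hc' ⊢
      intro h hh
      rw [Set.mem_singleton_iff] at hh
      rw [hh, ← map_mul, ← map_mul, hc' x' (Set.mem_singleton x')]
    have h1 : (Subgroup.centralizer ({QuotientGroup.mk' Z₀ x'} : Set (G ⧸ Z₀))).index ∣ p ^ a' := by
      rw [← ha']
      exact dvd_trans (Subgroup.index_dvd_of_le hle)
        (Subgroup.index_map_dvd _ (QuotientGroup.mk'_surjective Z₀))
    obtain ⟨m, -, hm⟩ := (Nat.dvd_prime_pow hp.out).mp h1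
    exact ⟨m, hm⟩
  · exact Nat.Coprime.coprime_dvd_left (orderOf_map_dvd _ y) hy

theorem mem_sylow_of_index {G : Type*} [Group G] [Finite G] {p : ℕ} [hp : Fact p.Prime]
    (P : Sylow p G) (x : G) (k : ℕ) (hxk : x ^ p ^ k = 1) (a : ℕ)
    (ha : (Subgroup.centralizer ({x} : Set G)).index = p ^ a) : x ∈ (P : Subgroup G) := by
  have hcop : (P : Subgroup G).index.Coprime (Subgroup.centralizer ({x} : Set G)).index := by
    rw [ha]
    exact (Nat.Coprime.pow_left a ((Nat.Prime.coprime_iff_not_dvd hp.out).mpr P.not_dvd_index)).symm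
  obtain ⟨c₀, hc₀⟩ := Cfsg.Agent.S4106.exists_conj_mem_sylow P x
    (Cfsg.Agent.Helper12.isPGroup_zpowers_of_pow_eq_one hxk)
  obtain ⟨u, hu, c, hc, rfl⟩ := Cfsg.Agent.Helper1.mul_eq_univ_of_coprime (P : Subgroup G) _ hcop c₀
  have hcx : c * x * c⁻¹ = x := by
    have h1 := Subgroup.mem_centralizer_iff.mp hc x (Set.mem_singleton x)
    rw [← h1]; group
  have e : u * c * x * (u * c)⁻¹ = u * (c * x * c⁻¹) * u⁻¹ := by group
  rw [e, hcx] at hc₀
  have h2 : u⁻¹ * (u * x * u⁻¹) * u ∈ (P : Subgroup G) :=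
    (P : Subgroup G).mul_mem ((P : Subgroup G).mul_mem ((P : Subgroup G).inv_mem hu) hc₀) hu
  have e2 : u⁻¹ * (u * x * u⁻¹) * u = x := by group
  rwa [e2] at h2

theorem small_cases {G : Type*} [Group G] {p : ℕ} (hp : p.Prime) (z : G) (hz1 : z ≠ 1)
    (hz : z ^ p = 1 ∨ (p = 2 ∧ z ^ 4 = 1)) : orderOf z = p ∨ (p = 2 ∧ orderOf z = 4) := by
  rcases hz with hz | ⟨h2, hz⟩
  · left
    rcases (Nat.dvd_prime hp).mp (orderOf_dvd_of_pow_eq_one hz) with h | h
    · exact absurd (orderOf_eq_one_iff.mp h) hz1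
    · exact h
  · have h1 : orderOf z ∣ 2 ^ 2 := orderOf_dvd_of_pow_eq_one (show z ^ 2 ^ 2 = 1 from hz)
    obtain ⟨m, hm, hm'⟩ := (Nat.dvd_prime_pow Nat.prime_two).mp h1
    interval_cases m
    · exact absurd (orderOf_eq_one_iff.mp (by simpa using hm')) hz1
    · left; rw [hm', h2]; norm_num
    · right; exact ⟨h2, by rw [hm']; norm_num⟩

open scoped commutatorElement in
theorem crit_props {T : Type*} [Group T] [Finite T] {p : ℕ} [Fact p.Prime] (K₀ : Subgroup T)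
    (hK₀p : IsPGroup p K₀)
    (hfr : (frattini K₀).map K₀.subtype ≤ Subgroup.centralizer (K₀ : Set T)) :
    ∀ a ∈ K₀, ∀ b ∈ K₀, ∀ c ∈ K₀, (a * b * a⁻¹ * b⁻¹) * c = c * (a * b * a⁻¹ * b⁻¹) ∧
      a ^ p * c = c * a ^ p := by
  intro a ha b hb c hc
  have h1 : (⁅(⟨a, ha⟩ : K₀), ⟨b, hb⟩⁆ : K₀) ∈ frattini K₀ :=
    Cfsg.Agent.Lead.commutator_le_frattini hK₀p
      (Subgroup.commutator_mem_commutator (Subgroup.mem_top _) (Subgroup.mem_top _))
  have h2 : a * b * a⁻¹ * b⁻¹ ∈ Subgroup.centralizer (K₀ : Set T) := hfr ⟨_, h1, rfl⟩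
  have h3 : ((⟨a, ha⟩ : K₀) ^ p) ∈ frattini K₀ := Cfsg.Agent.Lead.pow_mem_frattini hK₀p _
  have h4 : a ^ p ∈ Subgroup.centralizer (K₀ : Set T) := hfr ⟨_, h3, rfl⟩
  exact ⟨(Subgroup.mem_centralizer_iff.mp h2 c hc).symm,
    (Subgroup.mem_centralizer_iff.mp h4 c hc).symm⟩

theorem exists_crit {G : Type*} [Group G] [Finite G] {p : ℕ} [Fact p.Prime] (T : Subgroup G)
    [hTn : T.Normal] (hTp : IsPGroup p T) :
    ∃ K : Subgroup G, K.Normal ∧ K ≤ T ∧
      (∀ a ∈ K, ∀ b ∈ K, ∀ c ∈ K, (a * b * a⁻¹ * b⁻¹) * c = c * (a * b * a⁻¹ * b⁻¹) ∧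
        a ^ p * c = c * a ^ p) ∧
      (∀ t ∈ T, (∀ k ∈ K, t * k = k * t) → t ∈ K) := by
  obtain ⟨K₀, hK₀char, hK₀frat, -, hK₀cent⟩ :=
    Cfsg.Agent.Helper24.exists_critical_subgroup (P := T) hTp
  have hconj : ∀ (g : G) (k' : T), k' ∈ K₀ → (MulAut.conjNormal g k' : T) ∈ K₀ := by
    intro g k' hk'
    have h1 := hK₀char.fixed (MulAut.conjNormal g)
    have h2 : k' ∈ K₀.comap (MulAut.conjNormal g).toMonoidHom := by rw [h1]; exact hk'
    exact h2
  refine ⟨K₀.map T.subtype, ?_, Subgroup.map_subtype_le _, ?_, ?_⟩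
  · constructor
    rintro _ ⟨k', hk', rfl⟩ g
    exact ⟨MulAut.conjNormal g k', hconj g k' hk', MulAut.conjNormal_apply g k'⟩
  · rintro _ ⟨a, ha, rfl⟩ _ ⟨b, hb, rfl⟩ _ ⟨c, hc, rfl⟩
    obtain ⟨h1, h2⟩ := crit_props K₀ (hTp.to_subgroup K₀) hK₀frat a ha b hb c hc
    exact ⟨congrArg Subtype.val h1, congrArg Subtype.val h2⟩
  · intro t ht hcomm
    have h1 : (⟨t, ht⟩ : T) ∈ Subgroup.centralizer (K₀ : Set T) := by
      rw [Subgroup.mem_centralizer_iff]
      intro k hk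
      exact Subtype.ext ((hcomm k ⟨k, hk, rfl⟩).symm)
    exact ⟨⟨t, ht⟩, hK₀cent h1, rfl⟩

theorem result {G : Type*} [Group G] [Finite G] (p : ℕ) [Fact p.Prime]
    (h : ∀ x : G, (orderOf x = p ∨ (p = 2 ∧ orderOf x = 4)) → ∃ a : ℕ, (Subgroup.centralizer ({x} : Set G)).index = p ^ a) :
    Cfsg.HasNormalPComplement p G := by
  have hp : p.Prime := Fact.out
  obtain ⟨T, hT⟩ : ∃ T : Subgroup G, T = ⨅ P : Sylow p G, (P : Subgroup G) := ⟨_, rfl⟩
  have hTmem : ∀ z, z ∈ T ↔ ∀ P : Sylow p G, z ∈ (P : Subgroup G) := by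
    intro z; rw [hT, Subgroup.mem_iInf]
  have hTn : T.Normal := by
    constructor
    intro z hz g
    rw [hTmem] at hz ⊢
    intro P
    have h1 : z ∈ g⁻¹ • P := hz (g⁻¹ • P)
    have h2 := (Cfsg.Agent.Helper12.mem_sylow_smul_iff P g⁻¹ z).mp h1
    rw [inv_inv] at h2
    exact h2
  have hTp : IsPGroup p T := by
    obtain ⟨P⟩ : Nonempty (Sylow p G) := inferInstance
    exact P.2.to_le (fun z hz => (hTmem z).mp hz P)
  have hET : ∀ x : G, (orderOf x = p ∨ (p = 2 ∧ orderOf x = 4)) → x ∈ T := by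
    intro x hx
    obtain ⟨a, ha⟩ := h x hx
    rw [hTmem]
    intro P
    refine mem_sylow_of_index P x 2 ?_ a ha
    rcases hx with hx | ⟨h2, hx⟩
    · rw [pow_two, pow_mul, ← hx, pow_orderOf_eq_one, one_pow]
    · rw [h2]
      have e4 : (2 : ℕ) ^ 2 = 4 := by norm_num
      rw [e4, ← hx, pow_orderOf_eq_one]
  obtain ⟨K, hKn, hKT, hKcl, hKcent⟩ := exists_crit T hTp
  obtain ⟨e, he⟩ : ∃ e : ℕ, (p ≠ 2 ∧ e = p) ∨ (p = 2 ∧ e = 4) := by
    by_cases h2 : p = 2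
    · exact ⟨4, Or.inr ⟨h2, rfl⟩⟩
    · exact ⟨p, Or.inl ⟨h2, rfl⟩⟩
  have hpe : ∀ z : G, z ^ p = 1 → z ^ e = 1 := by
    intro z hz
    rcases he with ⟨_, hep⟩ | ⟨hp2, hep⟩
    · rw [hep]; exact hz
    · have hz2 : z ^ 2 = 1 := by rw [← hp2]; exact hz
      rw [hep]
      calc z ^ 4 = (z ^ 2) ^ 2 := by rw [← pow_mul]
        _ = 1 := by rw [hz2, one_pow]
  have h4e : p = 2 → ∀ z : G, z ^ 4 = 1 → z ^ e = 1 := by
    intro h2 z hz
    rcases he with ⟨hne, _⟩ | ⟨_, hep⟩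
    · exact absurd h2 hne
    · rw [hep]; exact hz
  have hmul : ∀ a ∈ K, ∀ b ∈ K, a ^ e = 1 → b ^ e = 1 → (a * b) ^ e = 1 := by
    intro a ha b hb hae hbe
    obtain ⟨c, hc⟩ : ∃ c, c = b * a * b⁻¹ * a⁻¹ := ⟨_, rfl⟩
    have hba : b * a = c * a * b := by rw [hc]; group
    have hcK : ∀ k ∈ K, c * k = k * c := fun k hk => by
      rw [hc]; exact (hKcl b hb a ha k hk).1
    have hca : Commute c a := hcK a ha
    have hcb : Commute c b := hcK b hb
    have hcp : c ^ p = 1 := by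
      have h1 := Cfsg.Agent.Helper27.pow_mul_comm_central a b c hba hca hcb p
      have h2 : b ^ p * a = a * b ^ p := (hKcl b hb a ha a ha).2
      rw [h2] at h1
      have h3 : c ^ p * (a * b ^ p) = 1 * (a * b ^ p) := by
        rw [one_mul, ← mul_assoc]; exact h1.symm
      exact mul_right_cancel h3
    have hpow := Cfsg.Agent.Helper27.mul_pow_central a b c hba hca hcb e
    rw [hpow, hae, hbe, one_mul, one_mul]
    rcases he with ⟨hp2, hep⟩ | ⟨hp2, hep⟩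
    · have hmod : p % 2 = 1 := (hp.eq_two_or_odd).resolve_left hp2
      have hodd : 2 ∣ p - 1 := by omega
      rw [hep, Nat.mul_div_assoc _ hodd, pow_mul, hcp, one_pow]
    · have hc2 : c ^ 2 = 1 := by rw [← hp2]; exact hcp
      have e6 : 4 * (4 - 1) / 2 = 2 * 3 := by norm_num
      rw [hep, e6, pow_mul, hc2, one_pow]
  obtain ⟨L, hLmem⟩ : ∃ L : Subgroup G, ∀ x, x ∈ L ↔ x ∈ K ∧ x ^ e = 1 :=
    ⟨{ carrier := {x | x ∈ K ∧ x ^ e = 1}
       one_mem' := ⟨K.one_mem, one_pow e⟩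
       mul_mem' := fun {a b} ha hb => ⟨K.mul_mem ha.1 hb.1, hmul a ha.1 b hb.1 ha.2 hb.2⟩
       inv_mem' := fun {a} ha => ⟨K.inv_mem ha.1, by rw [inv_pow, ha.2, inv_one]⟩ },
      fun x => Iff.rfl⟩
  have hLn : L.Normal := by
    constructor
    intro x hx g
    rw [hLmem] at hx ⊢
    refine ⟨hKn.conj_mem x hx.1 g, ?_⟩
    rw [conj_pow, hx.2]; group
  have hLT : L ≤ T := fun x hx => hKT ((hLmem x).mp hx).1
  have hLp : IsPGroup p L := hTp.to_le hLT
  have hLidx : ∀ x ∈ L, ∃ a : ℕ, (Subgroup.centralizer ({x} : Set G)).index = p ^ a := by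
    intro x hx
    by_cases hx1 : x = 1
    · refine ⟨0, ?_⟩
      rw [pow_zero, Subgroup.index_eq_one, eq_top_iff]
      intro g _
      rw [Subgroup.mem_centralizer_iff]
      intro z hz
      rw [Set.mem_singleton_iff] at hz
      rw [hz, hx1, one_mul, mul_one]
    · apply h x
      have hxe := ((hLmem x).mp hx).2
      rcases he with ⟨_, hep⟩ | ⟨hp2, hep⟩
      · rw [hep] at hxe
        exact small_cases hp x hx1 (Or.inl hxe)
      · rw [hep] at hxe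
        exact small_cases hp x hx1 (Or.inr ⟨hp2, hxe⟩)
  have hcentL : ∀ y : G, (orderOf y).Coprime p → ∀ x ∈ L, y * x = x * y :=
    hyper_aux p _ G rfl L hLn hLp hLidx
  have hconjpow : ∀ y : G, (MulAut.conj y) ^ orderOf y = 1 := by
    intro y
    rw [← map_pow, pow_orderOf_eq_one, map_one]
  have hcentK : ∀ y : G, (orderOf y).Coprime p → ∀ x ∈ K, y * x = x * y := by
    intro y hy x hx
    have h1 := Cfsg.Agent.Helper27.aut_fix_of_fix_small_sub K (hTp.to_le hKT) (MulAut.conj y)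
      (m := orderOf y) (hconjpow y) hy ?_ ?_ ?_ x hx
    · rw [MulAut.conj_apply] at h1
      calc y * x = (y * x * y⁻¹) * y := by group
        _ = x * y := by rw [h1]
    · intro z hz
      rw [MulAut.conj_apply]
      exact hKn.conj_mem z hz y
    · intro z hz hzp
      rw [MulAut.conj_apply]
      have hzL : z ∈ L := (hLmem z).mpr ⟨hz, hpe z hzp⟩
      rw [hcentL y hy z hzL]; group
    · intro h2 z hz hz4
      rw [MulAut.conj_apply]
      have hzL : z ∈ L := (hLmem z).mpr ⟨hz, h4e h2 z hz4⟩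
      rw [hcentL y hy z hzL]; group
  have hcentT : ∀ y : G, (orderOf y).Coprime p → ∀ t ∈ T, t * y = y * t := by
    intro y hy t ht
    have hcT : t * y * t⁻¹ * y⁻¹ ∈ T := by
      have e1 : t * y * t⁻¹ * y⁻¹ = t * (y * t⁻¹ * y⁻¹) := by group
      rw [e1]
      exact T.mul_mem ht (hTn.conj_mem _ (T.inv_mem ht) y)
    have hcK : t * y * t⁻¹ * y⁻¹ ∈ K := by
      refine hKcent _ hcT ?_
      intro k hk
      have h1 : y * k = k * y := hcentK y hy k hk
      have h1' : y⁻¹ * k = k * y⁻¹ := (Commute.inv_left (show Commute y k from h1)).eq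
      have h2 : y * (t⁻¹ * k * t) = (t⁻¹ * k * t) * y := hcentK y hy _ (hKn.conj_mem' k hk t)
      calc t * y * t⁻¹ * y⁻¹ * k = t * y * t⁻¹ * (y⁻¹ * k) := by group
        _ = t * y * t⁻¹ * (k * y⁻¹) := by rw [h1']
        _ = t * (y * (t⁻¹ * k * t)) * t⁻¹ * y⁻¹ := by group
        _ = t * ((t⁻¹ * k * t) * y) * t⁻¹ * y⁻¹ := by rw [h2]
        _ = k * (t * y * t⁻¹ * y⁻¹) := by group
    have hc1 : Commute (t * y * t⁻¹ * y⁻¹) y := (hcentK y hy _ hcK).symm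
    have hc2 : ∃ k, (t * y * t⁻¹ * y⁻¹) ^ (p ^ k) = 1 := by
      obtain ⟨k, hk⟩ := hTp ⟨_, hcT⟩
      exact ⟨k, congrArg Subtype.val hk⟩
    exact Cfsg.Agent.Helper16.comm_of_coprime_step y t hy hc1 hc2
  apply Cfsg.Agent.Lead.frobHyp_iff.mp
  intro X hX g hg hcop
  rw [Subgroup.mem_centralizer_iff]
  intro x hx
  have hsmall : ∀ z : G, z ^ p = 1 ∨ (p = 2 ∧ z ^ 4 = 1) → g * z * g⁻¹ = z := by
    intro z hz
    by_cases hz1 : z = 1
    · rw [hz1]; group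
    · have h1 := hcentT g hcop z (hET z (small_cases hp z hz1 hz))
      rw [← h1]; group
  have h1 := Cfsg.Agent.Helper27.aut_fix_of_fix_small_sub X hX (MulAut.conj g)
    (m := orderOf g) (hconjpow g) hcop ?_ ?_ ?_ x hx
  · rw [MulAut.conj_apply] at h1
    calc x * g = (g * x * g⁻¹) * g := by rw [h1]
      _ = g * x := by group
  · intro z hz
    rw [MulAut.conj_apply]
    exact (Subgroup.mem_normalizer_iff.mp hg z).mp hz
  · intro z _ hzp
    rw [MulAut.conj_apply]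
    exact hsmall z (Or.inl hzp)
  · intro h2 z _ hz4
    rw [MulAut.conj_apply]
    exact hsmall z (Or.inr ⟨h2, hz4⟩)

end Cfsg.Agent.S4126
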