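import Mathlib
import Cfsg.Statements.S4127
import Cfsg.Agent.Lead.Frobenius
import Cfsg.Agent.Helper12.Syl
import Cfsg.Agent.Helper16.PCore
import Cfsg.Agent.Helper21.Primary
import Cfsg.Agent.S0086
import Cfsg.Agent.S4035
import Cfsg.Agent.S4126

set_option autoImplicit false
open Cfsg

namespace Cfsg.Agent.S4127

theorem comm_of_comm_mul {G : Type*} [Group G] (x y g : G) (m n : ℕ) (hxy : x * y = y * x)
    (hx : x ^ m = 1) (hy : y ^ n = 1) (hmn : m.Coprime n) (hg : g * (x * y) = (x * y) * g) :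
    g * x = x * g ∧ g * y = y * g := by
  have hH : ∀ z, z ∈ Subgroup.centralizer ({g} : Set G) ↔ g * z = z * g := by
    intro z
    rw [Subgroup.mem_centralizer_iff]
    constructor
    · intro h1; exact h1 g (Set.mem_singleton g)
    · intro h1 w hw
      rw [Set.mem_singleton_iff] at hw
      rw [hw]; exact h1
  have hxyH : x * y ∈ Subgroup.centralizer ({g} : Set G) := (hH _).mpr hg
  have hc : Commute x y := hxy
  constructor
  · rw [← hH]
    refine Cfsg.Agent.Helper21.mem_of_pow_mem_of_coprime hmn.symm ?_ ?_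
    · have h1 : (x * y) ^ n = x ^ n := by rw [hc.mul_pow, hy, mul_one]
      rw [← h1]; exact Subgroup.pow_mem _ hxyH n
    · rw [hx]; exact Subgroup.one_mem _
  · rw [← hH]
    refine Cfsg.Agent.Helper21.mem_of_pow_mem_of_coprime hmn ?_ ?_
    · have h1 : (x * y) ^ m = y ^ m := by rw [hc.mul_pow, hx, one_mul]
      rw [← h1]; exact Subgroup.pow_mem _ hxyH m
    · rw [hy]; exact Subgroup.one_mem _

theorem result {G : Type*} [Group G] [Finite G] (p : ℕ) [Fact p.Prime]
    (a : ℕ) (hmax : ∀ y : G, ¬ p ^ (a + 1) ∣ (Subgroup.centralizer ({y} : Set G)).index)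
    (hx : ∃ x : G, (∃ k : ℕ, orderOf x = p ^ k) ∧ (Subgroup.centralizer ({x} : Set G)).index = p ^ a) :
    Cfsg.HasNormalPComplement p G := by
  have hp : p.Prime := Fact.out
  obtain ⟨x, ⟨k, hxk⟩, hxa⟩ := hx
  obtain ⟨C, hC⟩ : ∃ C : Subgroup G, C = Subgroup.centralizer ({x} : Set G) := ⟨_, rfl⟩
  have hCmem : ∀ g, g ∈ C ↔ x * g = g * x := by
    intro g
    rw [hC, Subgroup.mem_centralizer_iff]
    constructor
    · intro h1; exact h1 x (Set.mem_singleton x)
    · intro h1 z hz
      rw [Set.mem_singleton_iff] at hz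
      rw [hz]; exact h1
  have hCidx : C.index = p ^ a := by rw [hC]; exact hxa
  have hxpow : x ^ p ^ k = 1 := by rw [← hxk]; exact pow_orderOf_eq_one x
  obtain ⟨T, hT⟩ : ∃ T : Subgroup G, T = ⨅ P : Sylow p G, (P : Subgroup G) := ⟨_, rfl⟩
  have hTmem : ∀ z, z ∈ T ↔ ∀ P : Sylow p G, z ∈ (P : Subgroup G) := by
    intro z; rw [hT, Subgroup.mem_iInf]
  have hTn : T.Normal := by
    constructor
    intro z hz g
    rw [hTmem] at hz ⊢
    intro P
    have h1 : z ∈ g⁻¹ • P := hz (g⁻¹ • P)
    have h2 := (Cfsg.Agent.Helper12.mem_sylow_smul_iff P g⁻¹ z).mp h1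
    rw [inv_inv] at h2
    exact h2
  have hTp : IsPGroup p T := by
    obtain ⟨P⟩ : Nonempty (Sylow p G) := inferInstance
    exact P.2.to_le (fun z hz => (hTmem z).mp hz P)
  have hxT : x ∈ T := by
    rw [hTmem]
    intro P
    exact Cfsg.Agent.S4126.mem_sylow_of_index P x k hxpow a hxa
  have hreg : ∀ y : C, (orderOf y).Coprime p → ¬ p ∣ (ConjClasses.mk y).carrier.ncard := by
    intro y hy
    rw [← Cfsg.Agent.Helper21.index_centralizer_eq_ncard]
    intro hdvd
    apply hmax (x * (y : G))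
    have hxy : x * (y : G) = (y : G) * x := (hCmem _).mp y.2
    have hyn : (y : G) ^ orderOf y = 1 := by
      rw [← Subgroup.orderOf_coe]; exact pow_orderOf_eq_one _
    have hcop : (p ^ k).Coprime (orderOf y) := Nat.Coprime.pow_left k hy.symm
    have hD : (Subgroup.centralizer ({x * (y : G)} : Set G)) ≤ C := by
      intro g hg
      rw [Subgroup.mem_centralizer_iff] at hg
      have h1 := hg _ (Set.mem_singleton _)
      exact (hCmem g).mpr (comm_of_comm_mul x (y : G) g _ _ hxy hxpow hyn hcop h1.symm).1.symm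
    have hsub : (Subgroup.centralizer ({x * (y : G)} : Set G)).subgroupOf C =
        Subgroup.centralizer ({y} : Set C) := by
      ext g
      rw [Subgroup.mem_subgroupOf, Subgroup.mem_centralizer_iff, Subgroup.mem_centralizer_iff]
      constructor
      · intro hg z hz
        rw [Set.mem_singleton_iff] at hz
        rw [hz]
        have h1 := hg _ (Set.mem_singleton _)
        have h2 := (comm_of_comm_mul x (y : G) (g : G) _ _ hxy hxpow hyn hcop h1.symm).2
        exact Subtype.ext h2.symm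
      · intro hg z hz
        rw [Set.mem_singleton_iff] at hz
        rw [hz]
        have h1 := hg y (Set.mem_singleton y)
        have h2 : (y : G) * (g : G) = (g : G) * (y : G) := congrArg Subtype.val h1
        have h3 : x * (g : G) = (g : G) * x := (hCmem _).mp g.2
        calc x * (y : G) * (g : G) = x * ((y : G) * (g : G)) := by group
          _ = x * ((g : G) * (y : G)) := by rw [h2]
          _ = (x * (g : G)) * (y : G) := by group
          _ = ((g : G) * x) * (y : G) := by rw [h3]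
          _ = (g : G) * (x * (y : G)) := by group
    have h1 := Subgroup.relIndex_mul_index hD
    rw [← h1, Subgroup.relIndex, hsub, hCidx, pow_succ, mul_comm (p ^ a) p]
    exact mul_dvd_mul_right hdvd _
  obtain ⟨PC⟩ : Nonempty (Sylow p C) := inferInstance
  obtain ⟨hPCn, HC, hHCn, hHCp, hdisj, hsup⟩ := Cfsg.Agent.S4035.result hreg PC
  have hcompl : HC.IsComplement' (PC : Subgroup C) := by
    apply Subgroup.isComplement'_of_disjoint_and_mul_eq_univ
    · rw [disjoint_iff, inf_comm]; exact hdisj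
    · rw [← Subgroup.normal_mul, sup_comm, hsup, Subgroup.coe_top]
  have hHCmem : ∀ y : C, y ∈ HC ↔ (orderOf y).Coprime p :=
    fun y => Cfsg.Agent.S0086.result PC HC hcompl y
  have hHC1 : ∀ y ∈ HC, ∀ c : C, (∃ j : ℕ, c ^ p ^ j = 1) → y * c = c * y := by
    intro y hy c ⟨j, hj⟩
    have hcP : c ∈ (PC : Subgroup C) := by
      obtain ⟨Q, hQ⟩ := (Cfsg.Agent.Helper12.isPGroup_zpowers_of_pow_eq_one hj).exists_le_sylow
      have hu : Subsingleton (Sylow p C) := by
        have := Sylow.unique_of_normal PC hPCn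
        infer_instance
      have hQP : Q = PC := Subsingleton.elim Q PC
      rw [← hQP]
      exact hQ (Subgroup.mem_zpowers c)
    exact (Subgroup.commute_of_normal_of_disjoint HC (PC : Subgroup C) hHCn hPCn
      (by rw [disjoint_iff, inf_comm]; exact hdisj) y c hy hcP).eq
  obtain ⟨H, hH⟩ : ∃ H : Subgroup G, H = HC.map C.subtype := ⟨_, rfl⟩
  have hHC : H ≤ C := by rw [hH]; exact Subgroup.map_subtype_le _
  have hH1 : ∀ y ∈ H, ∀ c ∈ C, (∃ j : ℕ, c ^ p ^ j = 1) → y * c = c * y := by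
    intro y hy c hc ⟨j, hj⟩
    rw [hH] at hy
    obtain ⟨y', hy', rfl⟩ := hy
    have h1 := hHC1 y' hy' ⟨c, hc⟩ ⟨j, Subtype.ext hj⟩
    exact congrArg Subtype.val h1
  have hH2 : ∀ y ∈ C, (orderOf y).Coprime p → y ∈ H := by
    intro y hy hcop
    rw [hH]
    refine ⟨⟨y, hy⟩, (hHCmem _).mpr ?_, rfl⟩
    rw [Subgroup.orderOf_mk]; exact hcop
  have hH3 : ∀ y ∈ H, (orderOf y).Coprime p := by
    intro y hy
    rw [hH] at hy
    obtain ⟨y', hy', rfl⟩ := hy
    have h1 := (hHCmem y').mp hy'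
    rw [← Subgroup.orderOf_coe] at h1
    exact h1
  have hHT : ∀ y ∈ H, ∀ t ∈ T, t * y = y * t := by
    intro y hy
    have hyC : y ∈ C := hHC hy
    have hycop := hH3 y hy
    obtain ⟨D, hD⟩ : ∃ D : Subgroup G, D = T ⊓ Subgroup.centralizer ({y} : Set G) := ⟨_, rfl⟩
    have hDmem : ∀ t, t ∈ D ↔ t ∈ T ∧ y * t = t * y := by
      intro t
      rw [hD, Subgroup.mem_inf, Subgroup.mem_centralizer_iff]
      constructor
      · rintro ⟨h1, h2⟩
        exact ⟨h1, h2 y (Set.mem_singleton y)⟩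
      · rintro ⟨h1, h2⟩
        refine ⟨h1, ?_⟩
        intro z hz
        rw [Set.mem_singleton_iff] at hz
        rw [hz]; exact h2
    have hDT : D ≤ T := fun t ht => ((hDmem t).mp ht).1
    have hnlt : ¬ D < T := by
      intro hlt
      obtain ⟨t, htT, htN, htD⟩ := Cfsg.Agent.Lead.exists_normalizer_mem_not_mem T D hTp hlt
      apply htD
      rw [hDmem]
      refine ⟨htT, ?_⟩
      have hcT : t * y * t⁻¹ * y⁻¹ ∈ T := by
        have e1 : t * y * t⁻¹ * y⁻¹ = t * (y * t⁻¹ * y⁻¹) := by group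
        rw [e1]
        exact T.mul_mem htT (hTn.conj_mem _ (T.inv_mem htT) y)
      have hxD : x ∈ D := (hDmem x).mpr ⟨hxT, ((hCmem y).mp hyC).symm⟩
      have hcD : ∀ s ∈ D, (t * y * t⁻¹ * y⁻¹) * s = s * (t * y * t⁻¹ * y⁻¹) := by
        intro s hs
        have h1 : y * s = s * y := ((hDmem s).mp hs).2
        have h1' : y⁻¹ * s = s * y⁻¹ := (Commute.inv_left (show Commute y s from h1)).eq
        have hs' : t⁻¹ * s * t ∈ D := by
          have h0 := (Subgroup.mem_normalizer_iff.mp (inv_mem htN) s).mp hs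
          rwa [inv_inv] at h0
        have h2 : y * (t⁻¹ * s * t) = (t⁻¹ * s * t) * y := ((hDmem _).mp hs').2
        calc t * y * t⁻¹ * y⁻¹ * s = t * y * t⁻¹ * (y⁻¹ * s) := by group
          _ = t * y * t⁻¹ * (s * y⁻¹) := by rw [h1']
          _ = t * (y * (t⁻¹ * s * t)) * t⁻¹ * y⁻¹ := by group
          _ = t * ((t⁻¹ * s * t) * y) * t⁻¹ * y⁻¹ := by rw [h2]
          _ = s * (t * y * t⁻¹ * y⁻¹) := by group
      have hcx : x * (t * y * t⁻¹ * y⁻¹) = (t * y * t⁻¹ * y⁻¹) * x := (hcD x hxD).symm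
      have hcC : t * y * t⁻¹ * y⁻¹ ∈ C := (hCmem _).mpr hcx
      have hcp : ∃ j, (t * y * t⁻¹ * y⁻¹) ^ (p ^ j) = 1 := by
        obtain ⟨j, hj⟩ := hTp ⟨_, hcT⟩
        exact ⟨j, congrArg Subtype.val hj⟩
      have hc1 : Commute (t * y * t⁻¹ * y⁻¹) y := (hH1 y hy _ hcC hcp).symm
      exact (Cfsg.Agent.Helper16.comm_of_coprime_step y t hycop hc1 hcp).symm
    have hDeq : D = T := (lt_or_eq_of_le hDT).resolve_left hnlt
    intro t ht
    rw [← hDeq] at ht
    exact ((hDmem t).mp ht).2.symm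
  have hHn : H.Normal := by
    constructor
    intro y hy g
    apply hH2
    · rw [hCmem]
      have h1 : (g⁻¹ * x * g) * y = y * (g⁻¹ * x * g) := hHT y hy _ (hTn.conj_mem' x hxT g)
      calc x * (g * y * g⁻¹) = g * ((g⁻¹ * x * g) * y) * g⁻¹ := by group
        _ = g * (y * (g⁻¹ * x * g)) * g⁻¹ := by rw [h1]
        _ = (g * y * g⁻¹) * x := by group
    · have h2 := MulEquiv.orderOf_eq (MulAut.conj g) y
      rw [MulAut.conj_apply] at h2
      rw [h2]; exact hH3 y hy
  obtain ⟨P⟩ : Nonempty (Sylow p G) := inferInstance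
  refine ⟨P, H, hHn, ?_⟩
  have hcardH : Nat.card H = Nat.card HC := by rw [hH, Subgroup.card_subtype]
  have h1 : Nat.card HC * Nat.card (PC : Subgroup C) = Nat.card C := hcompl.card_mul_card
  have h2 : Nat.card C * p ^ a = Nat.card G := by rw [← hCidx]; exact Subgroup.card_mul_index C
  have h3 : Nat.card (PC : Subgroup C) = p ^ (Nat.card C).factorization p :=
    Sylow.card_eq_multiplicity PC
  have h4 : Nat.card (P : Subgroup G) = p ^ (Nat.card G).factorization p :=
    Sylow.card_eq_multiplicity P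
  have h5 : (Nat.card G).factorization p = (Nat.card C).factorization p + a := by
    rw [← h2, Nat.factorization_mul Nat.card_pos.ne' (pow_pos hp.pos a).ne',
      Nat.Prime.factorization_pow hp]
    simp
  have h6 : Nat.card (P : Subgroup G) = Nat.card (PC : Subgroup C) * p ^ a := by
    rw [h4, h5, h3, pow_add]
  apply Subgroup.isComplement'_of_coprime
  · rw [hcardH, h6, ← mul_assoc, h1, h2]
  · rw [hcardH, h4]
    exact Nat.Coprime.pow_right _ ((Nat.Prime.coprime_iff_not_dvd hp).mpr hHCp).symm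

end Cfsg.Agent.S4127
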