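import Mathlib
import Cfsg.Statements.S4176
import Cfsg.Agent.Helper22.RepOrbit
import Cfsg.Agent.Helper20.PSolvHall

set_option autoImplicit false
open Cfsg

namespace Cfsg.Agent.S4176

open Cfsg.Agent.Helper22

universe u v w

section

variable {k H V : Type*} [Field k] [AddCommGroup V] [Module k V] [Group H]

theorem qti_apply (ρ : Representation k H V) (K : Subgroup H) [K.Normal] (h : H)
    (w : Representation.invariants (ρ.comp K.subtype)) :
    ((ρ.quotientToInvariants K (h : H ⧸ K) w : Representation.invariants (ρ.comp K.subtype)) : V)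
      = ρ h (w : V) := rfl

theorem card_orbit_quot (ρ : Representation k H V) (K : Subgroup H) [K.Normal]
    (w : Representation.invariants (ρ.comp K.subtype)) :
    Nat.card {u : Representation.invariants (ρ.comp K.subtype) |
        ∃ h : H ⧸ K, ρ.quotientToInvariants K h w = u}
      = Nat.card {u : V | ∃ h : H, ρ h (w : V) = u} := by
  have hset : {u : V | ∃ h : H, ρ h (w : V) = u}
      = Subtype.val '' {u : Representation.invariants (ρ.comp K.subtype) |
          ∃ h : H ⧸ K, ρ.quotientToInvariants K h w = u} := by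
    ext u
    constructor
    · rintro ⟨h, rfl⟩
      exact ⟨ρ.quotientToInvariants K (h : H ⧸ K) w, ⟨(h : H ⧸ K), rfl⟩, qti_apply ρ K h w⟩
    · rintro ⟨u', ⟨h', rfl⟩, rfl⟩
      induction h' using QuotientGroup.induction_on with
      | H h => exact ⟨h, (qti_apply ρ K h w).symm⟩
  rw [hset]
  exact (Nat.card_image_of_injective Subtype.val_injective _).symm

theorem reduction [Finite H] (ρ : Representation k H V) (K : Subgroup H) [K.Normal] (a : V)
    (hspan : Submodule.span k {u : V | ∃ h : H, ρ h a = u} = ⊤)
    (T : V →ₗ[k] V) (c : k) (hc : c ≠ 0)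
    (hT1 : ∀ v, T v ∈ Representation.invariants (ρ.comp K.subtype))
    (hT2 : ∀ v ∈ Representation.invariants (ρ.comp K.subtype), T v = c • v)
    (hT3 : ∀ (h : H) (v : V), T (ρ h v) = ρ h (T v))
    (hb : ∀ b : V, (Nat.card {u : V | ∃ h : H, ρ h a = u}).Coprime
      (Nat.card {u : V | ∃ h : H, ρ h b = u}) → b ∈ Representation.invariants (ρ.comp K.subtype))
    (IH : Submodule.span k {u : Representation.invariants (ρ.comp K.subtype) |
          ∃ h : H ⧸ K, ρ.quotientToInvariants K h ⟨T a, hT1 a⟩ = u} = ⊤ →
      Module.finrank k (ρ.quotientToInvariants K).invariants ≤ 1 ∧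
      ∀ b' : Representation.invariants (ρ.comp K.subtype),
        (Nat.card {u : Representation.invariants (ρ.comp K.subtype) |
          ∃ h : H ⧸ K, ρ.quotientToInvariants K h ⟨T a, hT1 a⟩ = u}).Coprime
        (Nat.card {u : Representation.invariants (ρ.comp K.subtype) |
          ∃ h : H ⧸ K, ρ.quotientToInvariants K h b' = u}) →
        ∀ h : H ⧸ K, ρ.quotientToInvariants K h b' = b') :
    Module.finrank k ρ.invariants ≤ 1 ∧
    ∀ b : V, (Nat.card {u : V | ∃ h : H, ρ h a = u}).Coprime
      (Nat.card {u : V | ∃ h : H, ρ h b = u}) → ∀ h : H, ρ h b = b := by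
  have hspan' : Submodule.span k {u : Representation.invariants (ρ.comp K.subtype) |
          ∃ h : H ⧸ K, ρ.quotientToInvariants K h ⟨T a, hT1 a⟩ = u} = ⊤ := by
    rw [eq_top_iff]
    rintro ⟨w, hw⟩ -
    have key : ∀ v : V, (⟨T v, hT1 v⟩ : Representation.invariants (ρ.comp K.subtype)) ∈
        Submodule.span k {u : Representation.invariants (ρ.comp K.subtype) |
          ∃ h : H ⧸ K, ρ.quotientToInvariants K h ⟨T a, hT1 a⟩ = u} := by
      have hle : Submodule.span k {u : V | ∃ h : H, ρ h a = u} ≤
          Submodule.comap (T.codRestrict _ hT1)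
            (Submodule.span k {u : Representation.invariants (ρ.comp K.subtype) |
              ∃ h : H ⧸ K, ρ.quotientToInvariants K h ⟨T a, hT1 a⟩ = u}) := by
        refine Submodule.span_le.mpr ?_
        rintro u ⟨g, rfl⟩
        apply Submodule.subset_span
        refine ⟨(g : H ⧸ K), ?_⟩
        apply Subtype.ext
        rw [qti_apply]
        exact (hT3 g a).symm
      intro v
      have hv : v ∈ Submodule.span k {u : V | ∃ h : H, ρ h a = u} := by
        rw [hspan]; exact Submodule.mem_top
      exact hle hv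
    have h1 := key w
    have h2 : (⟨T w, hT1 w⟩ : Representation.invariants (ρ.comp K.subtype)) = c • ⟨w, hw⟩ :=
      Subtype.ext (hT2 w hw)
    rw [h2, Submodule.smul_mem_iff _ hc] at h1
    exact h1
  obtain ⟨IH1, IH2⟩ := IH hspan'
  constructor
  · have e : ρ.invariants ≃ₗ[k] (ρ.quotientToInvariants K).invariants :=
      { toFun := fun v => ⟨⟨v.1, fun x => v.2 (x : H)⟩, fun h' => by
            induction h' using QuotientGroup.induction_on with
            | H h => exact Subtype.ext (v.2 h)⟩
        map_add' := fun v w => rfl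
        map_smul' := fun c v => rfl
        invFun := fun w => ⟨w.1.1, fun h => congrArg Subtype.val (w.2 (h : H ⧸ K))⟩
        left_inv := fun v => rfl
        right_inv := fun w => rfl }
    exact le_of_eq_of_le (LinearEquiv.finrank_eq e) IH1
  · intro b hcop h
    have hbW := hb b hcop
    have hcop' : (Nat.card {u : Representation.invariants (ρ.comp K.subtype) |
          ∃ h : H ⧸ K, ρ.quotientToInvariants K h ⟨T a, hT1 a⟩ = u}).Coprime
        (Nat.card {u : Representation.invariants (ρ.comp K.subtype) |
          ∃ h : H ⧸ K, ρ.quotientToInvariants K h ⟨b, hbW⟩ = u}) := by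
      rw [card_orbit_quot, card_orbit_quot]
      refine Nat.Coprime.coprime_dvd_left ?_ hcop
      apply rep_card_orbit_dvd
      intro h hh
      show ρ h (T a) = T a
      rw [← hT3, hh]
    have h3 := IH2 ⟨b, hbW⟩ hcop' (h : H ⧸ K)
    exact congrArg Subtype.val h3

end

theorem psolv_aux (p : ℕ) [Fact p.Prime] {k : Type w} [Field k] [CharP k p] (n : ℕ) :
    ∀ (H : Type u) [Group H] [Finite H] (V : Type v) [AddCommGroup V] [Module k V],
    Nat.card H = n → Cfsg.IsPSolvable p H → ∀ (ρ : Representation k H V) (a : V),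
    (∃ P : Sylow p H, ∀ x : H, x ∈ (P : Subgroup H) → ρ x a = a) →
    Submodule.span k {u : V | ∃ h : H, ρ h a = u} = ⊤ →
    Module.finrank k ρ.invariants ≤ 1 ∧
    ∀ b : V, (Nat.card {u : V | ∃ h : H, ρ h a = u}).Coprime
      (Nat.card {u : V | ∃ h : H, ρ h b = u}) → ∀ h : H, ρ h b = b := by
  induction n using Nat.strong_induction_on with
  | _ n ih =>
  intro H _ _ V _ _ hn hsol ρ a hfix hspan
  by_cases htriv : Subsingleton H
  · refine orbit_span_main ρ ?_ a hspan
    rw [Nat.card_unique, Nat.cast_one]
    exact one_ne_zero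
  rw [not_subsingleton_iff_nontrivial] at htriv
  obtain ⟨K, hKn, hKne, hK⟩ := Helper20.psolvable_setup p hsol
  have hlt : Nat.card (H ⧸ K) < Nat.card H := by
    rw [← Subgroup.index_eq_card, ← K.index_mul_card]
    have h1 : 1 < Nat.card K := (Subgroup.one_lt_card_iff_ne_bot _).mpr hKne
    have h2 : 0 < K.index := Nat.pos_of_ne_zero (Subgroup.index_ne_zero_of_finite)
    nlinarith
  have hsolQ := Helper20.isPSolvable_quotient p hsol K
  obtain ⟨P, hP⟩ := hfix
  have common : ∀ (T : V →ₗ[k] V) (c : k), c ≠ 0 →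
      ∀ (_ : ∀ v, T v ∈ Representation.invariants (ρ.comp K.subtype)),
      (∀ v ∈ Representation.invariants (ρ.comp K.subtype), T v = c • v) →
      (∀ (h : H) (v : V), T (ρ h v) = ρ h (T v)) →
      (∀ b : V, (Nat.card {u : V | ∃ h : H, ρ h a = u}).Coprime
        (Nat.card {u : V | ∃ h : H, ρ h b = u}) →
          b ∈ Representation.invariants (ρ.comp K.subtype)) →
      (Module.finrank k ρ.invariants ≤ 1 ∧
        ∀ b : V, (Nat.card {u : V | ∃ h : H, ρ h a = u}).Coprime
          (Nat.card {u : V | ∃ h : H, ρ h b = u}) → ∀ h : H, ρ h b = b) := by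
    intro T c hc hT1 hT2 hT3 hb
    refine reduction ρ K a hspan T c hc hT1 hT2 hT3 hb ?_
    intro hspan'
    refine ih _ (hn ▸ hlt) (H ⧸ K) _ rfl hsolQ (ρ.quotientToInvariants K) ⟨T a, hT1 a⟩ ?_ hspan'
    refine ⟨P.mapSurjective (QuotientGroup.mk'_surjective K), ?_⟩
    intro x hx
    rw [Sylow.coe_mapSurjective, Subgroup.mem_map] at hx
    obtain ⟨y, hy, rfl⟩ := hx
    apply Subtype.ext
    show ρ y (T a) = T a
    rw [← hT3, hP y hy]
  rcases hK with hKp | hKp'
  · have hKP : K ≤ P := hKp.le_sylow_of_normal P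
    have hKa : ∀ x ∈ K, ρ x a = a := fun x hx => hP x (hKP hx)
    have hKall : ∀ v : V, v ∈ Representation.invariants (ρ.comp K.subtype) := by
      have hle : Submodule.span k {u : V | ∃ h : H, ρ h a = u} ≤
          Representation.invariants (ρ.comp K.subtype) := by
        refine Submodule.span_le.mpr ?_
        rintro u ⟨g, rfl⟩
        refine (Representation.mem_invariants _ _).mpr (fun x => ?_)
        show ρ (x : H) (ρ g a) = ρ g a
        have hconj : g⁻¹ * (x : H) * g ∈ K := hKn.conj_mem' (x : H) x.2 g
        have h1 := hKa _ hconj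
        have e : (x : H) * g = g * (g⁻¹ * (x : H) * g) := by group
        rw [← Module.End.mul_apply, ← map_mul, e, map_mul, Module.End.mul_apply, h1]
      intro v
      have hv : v ∈ Submodule.span k {u : V | ∃ h : H, ρ h a = u} := by
        rw [hspan]; exact Submodule.mem_top
      exact hle hv
    exact common LinearMap.id 1 one_ne_zero (fun v => hKall v)
      (fun v _ => (one_smul k v).symm) (fun h v => rfl) (fun b _ => hKall b)
  · classical
    have : Fintype K := Fintype.ofFinite K
    have hKc : (Nat.card K : k) ≠ 0 := by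
      intro h0
      have hdvd := (CharP.cast_eq_zero_iff k p _).mp h0
      have h1 : p ∣ 1 := by
        have h2 := Nat.dvd_gcd hdvd (dvd_refl p)
        rwa [Nat.Coprime.gcd_eq_one hKp'] at h2
      exact (Fact.out : p.Prime).not_dvd_one h1
    refine common (∑ x : K, ρ (x : H)) (Nat.card K : k) hKc ?_ ?_ ?_ ?_
    · intro v
      refine (Representation.mem_invariants _ _).mpr (fun y => ?_)
      show ρ (y : H) ((∑ x : K, ρ (x : H)) v) = (∑ x : K, ρ (x : H)) v
      rw [LinearMap.sum_apply, map_sum]
      simp only [← Module.End.mul_apply, ← map_mul]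
      exact Fintype.sum_equiv (Equiv.mulLeft y) _ _ (fun x => rfl)
    · intro v hv
      have hv' : ∀ x : K, ρ (x : H) v = v := fun x => hv x
      rw [LinearMap.sum_apply, Finset.sum_congr rfl (fun x _ => hv' x), Finset.sum_const,
        Finset.card_univ, Nat.card_eq_fintype_card, Nat.cast_smul_eq_nsmul]
    · intro h v
      rw [LinearMap.sum_apply, LinearMap.sum_apply, map_sum]
      simp only [← Module.End.mul_apply, ← map_mul]
      symm
      refine Fintype.sum_equiv (MulAut.conjNormal h : MulAut K).toEquiv _ _ (fun x => ?_)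
      show ρ (h * (x : H)) v = ρ (((MulAut.conjNormal h x : K) : H) * h) v
      rw [MulAut.conjNormal_apply, inv_mul_cancel_right]
    · intro b hcop
      refine (Representation.mem_invariants _ _).mpr (fun x => ?_)
      refine invariant_of_coprime (ρ.comp K.subtype) hKc {u : V | ∃ h : H, ρ h a = u} hspan b
        ?_ x
      rintro w ⟨g, rfl⟩
      have h1 := rep_card_orbit_restrict_dvd ρ K (ρ g a)
      have h2 := rep_card_orbit_restrict_dvd ρ K b
      rw [rep_orbit_apply_eq] at h1
      exact Nat.Coprime.coprime_dvd_left h1 (Nat.Coprime.coprime_dvd_right h2 hcop)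

theorem result {k V H : Type*} [Field k] (p : ℕ) [Fact p.Prime] [CharP k p] [AddCommGroup V] [Module k V]
    [Group H] [Finite H] (hsol : Cfsg.IsPSolvable p H) (ρ : Representation k H V) (a : V)
    (hfix : ∃ P : Sylow p H, ∀ x : H, x ∈ (P : Subgroup H) → ρ x a = a)
    (hspan : Submodule.span k {u : V | ∃ h : H, ρ h a = u} = ⊤) :
    Module.finrank k ρ.invariants ≤ 1 ∧
    ∀ b : V, (Nat.card {u : V | ∃ h : H, ρ h a = u}).Coprime (Nat.card {u : V | ∃ h : H, ρ h b = u}) → ∀ h : H, ρ h b = b := by
  exact psolv_aux p _ H V rfl hsol ρ a hfix hspan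

end Cfsg.Agent.S4176
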