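import Mathlib
import Cfsg.Statements.S4177
import Cfsg.Agent.Helper22.RepOrbit

set_option autoImplicit false
open Cfsg

namespace Cfsg.Agent.S4177

theorem result {k V H : Type*} [Field k] [AddCommGroup V] [Module k V] [Group H] [Finite H]
    (hchar : ¬ ringChar k ∣ Nat.card H) (ρ : Representation k H V) (a : V)
    (hspan : Submodule.span k {u : V | ∃ h : H, ρ h a = u} = ⊤) :
    Module.finrank k ρ.invariants ≤ 1 ∧
    ∀ b : V, (Nat.card {u : V | ∃ h : H, ρ h a = u}).Coprime (Nat.card {u : V | ∃ h : H, ρ h b = u}) → ∀ h : H, ρ h b = b := by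
  exact Helper22.orbit_span_main ρ (fun h0 => hchar ((ringChar.spec k _).mp h0)) a hspan

end Cfsg.Agent.S4177
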