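import Cfsg.Statements.S4194
-- import your own Cfsg.Agent.* helpers here
import Cfsg.Agent.S4355

set_option autoImplicit false
open Cfsg

namespace Cfsg.Agent.S4194

/-- A finite group G has commutative Sylow 2-subgroups if and only if every 2-element of G (element of order a power of 2) is 2-central, that is, its centralizer contains a Sylow 2-subgroup of G. -/
theorem result {G : Type*} [Group G] [Finite G] (P : Sylow 2 G) :
    IsMulCommutative (P : Subgroup G) ↔ ∀ x : G, (∃ k : ℕ, orderOf x = 2 ^ k) → (∃ Q : Sylow 2 G, (Q : Subgroup G) ≤ Subgroup.centralizer ({x} : Set G)) := by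
  constructor
  · rintro hc x ⟨k, hk⟩
    have hpg : IsPGroup 2 (Subgroup.zpowers x) := by
      rw [IsPGroup.iff_card, Nat.card_zpowers]
      exact ⟨k, hk⟩
    obtain ⟨Q, hQ⟩ := hpg.exists_le_sylow
    obtain ⟨g, hg⟩ := MulAction.exists_smul_eq G P Q
    have hxQ : x ∈ (Q : Subgroup G) := hQ (Subgroup.mem_zpowers x)
    have key : ∀ q ∈ (Q : Subgroup G), ∃ p ∈ (P : Subgroup G), q = g * p * g⁻¹ := by
      intro q hq
      rw [← hg, Sylow.coe_subgroup_smul, Subgroup.mem_pointwise_smul_iff_inv_smul_mem] at hq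
      refine ⟨g⁻¹ * q * g, ?_, by group⟩
      simpa [MulAut.smul_def] using hq
    refine ⟨Q, ?_⟩
    intro q hq
    rw [Subgroup.mem_centralizer_iff]
    intro y hy
    rw [Set.mem_singleton_iff] at hy
    subst hy
    obtain ⟨p1, hp1, rfl⟩ := key q hq
    obtain ⟨p2, hp2, rfl⟩ := key y hxQ
    have hcomm : p1 * p2 = p2 * p1 := by
      have := hc.is_comm.comm ⟨p1, hp1⟩ ⟨p2, hp2⟩
      exact congrArg Subtype.val this
    calc g * p2 * g⁻¹ * (g * p1 * g⁻¹) = g * (p2 * p1) * g⁻¹ := by group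
      _ = g * (p1 * p2) * g⁻¹ := by rw [hcomm]
      _ = g * p1 * g⁻¹ * (g * p2 * g⁻¹) := by group
  · intro h
    have h' : ∀ x : G, (∃ k : ℕ, orderOf x = 2 ^ k) →
        ¬ 2 ∣ (Subgroup.centralizer ({x} : Set G)).index := by
      intro x hx h2
      obtain ⟨Q, hQ⟩ := h x hx
      exact Q.not_dvd_index (h2.trans (Subgroup.index_dvd_of_le hQ))
    exact Cfsg.Agent.S4355.result h' P

end Cfsg.Agent.S4194
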