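import Mathlib
import Cfsg.Statements.S4262
import Cfsg.Agent.S4097
import Cfsg.Agent.Helper17.TransferM
import Cfsg.Agent.Helper1.Basic
import Cfsg.Agent.Helper1.SZ
import Cfsg.Agent.Helper1.FrobConj

set_option autoImplicit false
open Cfsg
open scoped Pointwise

universe u

namespace Cfsg.Agent.S4262

theorem cent_pow_le {G : Type*} [Group G] (c : G) (k : ℕ) :
    Subgroup.centralizer ({c} : Set G) ≤ Subgroup.centralizer ({c ^ k} : Set G) := by
  intro y hy
  rw [Subgroup.mem_centralizer_singleton_iff] at hy ⊢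
  exact ((show Commute y c from hy).pow_right k).eq

theorem conj_eq_one {G : Type*} [Group G] {x k : G} (h : x⁻¹ * k * x = 1) : k = 1 := by
  calc k = x * (x⁻¹ * k * x) * x⁻¹ := by group
    _ = 1 := by rw [h]; group

theorem isPGroup_of_order {G : Type*} [Group G] (p : ℕ) [Fact p.Prime] (T : Subgroup G)
    (hT : ∀ y ∈ T, y ≠ 1 → orderOf y = p) : IsPGroup p ↥T := by
  rw [IsPGroup.iff_orderOf]
  intro y
  by_cases hy1 : (y : G) = 1
  · refine ⟨0, ?_⟩
    have hy : y = 1 := Subtype.ext hy1
    rw [hy, orderOf_one, pow_zero]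
  · refine ⟨1, ?_⟩
    rw [pow_one, ← Subgroup.orderOf_coe]
    exact hT y y.2 hy1

theorem order_eq_of_comm {G : Type*} [Group G] [Finite G]
    (h : ∀ g : G, g ≠ 1 → IsCoatom (Subgroup.centralizer ({g} : Set G)))
    (a b : G) (ha : a ≠ 1) (hb : b ≠ 1) (hab : a * b = b * a)
    (hne : Subgroup.centralizer ({a} : Set G) ≠ Subgroup.centralizer ({b} : Set G)) :
    b ^ orderOf a = 1 := by
  by_contra hbk
  have hcomm : Commute a b := hab
  have h1 : (a * b) ^ orderOf a = b ^ orderOf a := by
    rw [hcomm.mul_pow, pow_orderOf_eq_one, one_mul]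
  have hab1 : a * b ≠ 1 := by
    intro h0
    rw [h0, one_pow] at h1
    exact hbk h1.symm
  have hpow1 : (a * b) ^ orderOf a ≠ 1 := by rw [h1]; exact hbk
  have e1 : Subgroup.centralizer ({(a * b) ^ orderOf a} : Set G) =
      Subgroup.centralizer ({a * b} : Set G) :=
    ((h _ hab1).le_iff_eq (h _ hpow1).1).mp (cent_pow_le _ _)
  have e2 : Subgroup.centralizer ({b ^ orderOf a} : Set G) =
      Subgroup.centralizer ({b} : Set G) :=
    ((h _ hb).le_iff_eq (h _ hbk).1).mp (cent_pow_le _ _)
  have e3 : Subgroup.centralizer ({a * b} : Set G) = Subgroup.centralizer ({b} : Set G) := by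
    rw [← e1, h1, e2]
  have hle : Subgroup.centralizer ({b} : Set G) ≤ Subgroup.centralizer ({a} : Set G) := by
    intro y hy
    have hy2 : y ∈ Subgroup.centralizer ({a * b} : Set G) := by rw [e3]; exact hy
    rw [Subgroup.mem_centralizer_singleton_iff] at hy hy2 ⊢
    have h3 : y * a * b = a * y * b := by
      calc y * a * b = y * (a * b) := mul_assoc _ _ _
        _ = a * b * y := hy2
        _ = a * (b * y) := mul_assoc _ _ _
        _ = a * (y * b) := by rw [hy]
        _ = a * y * b := (mul_assoc _ _ _).symm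
    exact mul_right_cancel h3
  exact hne (((h _ hb).le_iff_eq (h _ ha).1).mp hle)

theorem order_prime_of_comm {G : Type*} [Group G] [Finite G]
    (h : ∀ g : G, g ≠ 1 → IsCoatom (Subgroup.centralizer ({g} : Set G)))
    (a b : G) (ha : a ≠ 1) (hb : b ≠ 1) (hab : a * b = b * a)
    (hne : Subgroup.centralizer ({a} : Set G) ≠ Subgroup.centralizer ({b} : Set G)) :
    orderOf a = orderOf b ∧ (orderOf a).Prime := by
  have key : ∀ a b : G, a ≠ 1 → b ≠ 1 → a * b = b * a →
      Subgroup.centralizer ({a} : Set G) ≠ Subgroup.centralizer ({b} : Set G) →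
      orderOf a = orderOf b := by
    intro a b ha hb hab hne
    have h1 := order_eq_of_comm h a b ha hb hab hne
    have h2 := order_eq_of_comm h b a hb ha hab.symm hne.symm
    exact Nat.dvd_antisymm (orderOf_dvd_of_pow_eq_one h2) (orderOf_dvd_of_pow_eq_one h1)
  have hm := key a b ha hb hab hne
  refine ⟨hm, ?_⟩
  have hm1 : orderOf a ≠ 1 := fun h1 => ha (orderOf_eq_one_iff.mp h1)
  by_contra hnp
  obtain ⟨r, hrdef⟩ : ∃ r, r = (orderOf a).minFac := ⟨_, rfl⟩
  have hr : r.Prime := by rw [hrdef]; exact Nat.minFac_prime hm1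
  have hrd : r ∣ orderOf a := by rw [hrdef]; exact Nat.minFac_dvd _
  have hrlt : r < orderOf a := by
    rcases Nat.lt_or_ge r (orderOf a) with h1 | h1
    · exact h1
    · exfalso
      have e : r = orderOf a := Nat.le_antisymm (Nat.le_of_dvd (orderOf_pos a) hrd) h1
      rw [e] at hr
      exact hnp hr
  have har1 : a ^ r ≠ 1 := pow_ne_one_of_lt_orderOf hr.ne_zero hrlt
  have e1 : Subgroup.centralizer ({a ^ r} : Set G) = Subgroup.centralizer ({a} : Set G) :=
    ((h _ ha).le_iff_eq (h _ har1).1).mp (cent_pow_le _ _)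
  have hcomm' : a ^ r * b = b * a ^ r := ((show Commute a b from hab).pow_left r).eq
  have h3 := key (a ^ r) b har1 hb hcomm' (by rw [e1]; exact hne)
  obtain ⟨t, ht⟩ := hrd
  have h4 : (a ^ r) ^ t = 1 := by rw [← pow_mul, ← ht]; exact pow_orderOf_eq_one a
  have h5 : orderOf (a ^ r) ∣ t := orderOf_dvd_of_pow_eq_one h4
  have ht0 : 0 < t := by
    rcases Nat.eq_zero_or_pos t with h0 | h0
    · rw [h0, mul_zero] at ht; exact absurd ht (orderOf_pos a).ne'
    · exact h0
  have h6 : orderOf (a ^ r) ≤ t := Nat.le_of_dvd ht0 h5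
  have h7 : t < orderOf a := by
    rw [ht]
    have h8 := hr.two_le
    nlinarith
  omega

theorem coatom_quot {G : Type*} [Group G]
    (h : ∀ g : G, g ∉ Subgroup.center G → IsCoatom (Subgroup.centralizer ({g} : Set G))) :
    ∀ gb : G ⧸ Subgroup.center G, gb ∉ Subgroup.center (G ⧸ Subgroup.center G) →
      IsCoatom (Subgroup.centralizer ({gb} : Set (G ⧸ Subgroup.center G))) := by
  intro gb hgb
  obtain ⟨g, rfl⟩ := QuotientGroup.mk'_surjective (Subgroup.center G) gb
  have hg : g ∉ Subgroup.center G := by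
    intro hg
    apply hgb
    have h1 : (QuotientGroup.mk' (Subgroup.center G)) g = 1 := (QuotientGroup.eq_one_iff g).mpr hg
    rw [h1]; exact Subgroup.one_mem _
  have hco := h g hg
  unfold IsCoatom
  refine ⟨?_, ?_⟩
  · intro htop
    apply hgb
    rw [Subgroup.mem_center_iff]
    intro y
    have hy : y ∈ Subgroup.centralizer
        ({(QuotientGroup.mk' (Subgroup.center G)) g} : Set (G ⧸ Subgroup.center G)) := by
      rw [htop]; exact Subgroup.mem_top y
    rw [Subgroup.mem_centralizer_singleton_iff] at hy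
    exact hy
  · intro L hL
    have hle : Subgroup.centralizer ({g} : Set G) ≤
        L.comap (QuotientGroup.mk' (Subgroup.center G)) := by
      intro y hy
      rw [Subgroup.mem_comap]
      apply hL.le
      rw [Subgroup.mem_centralizer_singleton_iff] at hy ⊢
      rw [← map_mul, ← map_mul, hy]
    rcases hco.le_iff.mp hle with h1 | h1
    · rw [eq_top_iff]
      intro yb _
      obtain ⟨y, rfl⟩ := QuotientGroup.mk'_surjective (Subgroup.center G) yb
      have hy : y ∈ L.comap (QuotientGroup.mk' (Subgroup.center G)) := by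
        rw [h1]; exact Subgroup.mem_top y
      exact hy
    · exfalso
      apply (lt_iff_le_not_ge.mp hL).2
      intro yb hyb
      obtain ⟨y, rfl⟩ := QuotientGroup.mk'_surjective (Subgroup.center G) yb
      have hy : y ∈ L.comap (QuotientGroup.mk' (Subgroup.center G)) := hyb
      rw [h1, Subgroup.mem_centralizer_singleton_iff] at hy
      rw [Subgroup.mem_centralizer_singleton_iff, ← map_mul, ← map_mul, hy]

theorem solvable_of_abelian_cent {G : Type*} [Group G] [Finite G]
    (h : ∀ g : G, g ≠ 1 → IsCoatom (Subgroup.centralizer ({g} : Set G)))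
    (g : G) (hg : g ≠ 1)
    (hMab : ∀ x ∈ Subgroup.centralizer ({g} : Set G),
      ∀ y ∈ Subgroup.centralizer ({g} : Set G), x * y = y * x) :
    Group.IsSolvable G := by
  obtain ⟨M, hM⟩ : ∃ M : Subgroup G, M = Subgroup.centralizer ({g} : Set G) := ⟨_, rfl⟩
  rw [← hM] at hMab
  have hMco : IsCoatom M := by rw [hM]; exact h g hg
  have hgM : g ∈ M := by rw [hM, Subgroup.mem_centralizer_singleton_iff]
  have hMsolv : Group.IsSolvable ↥M :=
    Group.isSolvable_of_comm (fun a b => Subtype.ext (hMab a a.2 b b.2))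
  by_cases hMn : M.Normal
  · have hq : Group.IsSolvable (G ⧸ M) :=
      Group.isSolvable_of_comm (Cfsg.Agent.Helper17.comm_of_coatom_normal M hMco)
    exact Group.isSolvable_of_ker_le_range M.subtype (QuotientGroup.mk' M)
      (by rw [QuotientGroup.ker_mk', Subgroup.range_subtype])
  · have hcent : ∀ y ∈ M, y ≠ 1 → Subgroup.centralizer ({y} : Set G) = M := by
      intro y hy hy1
      have hle : M ≤ Subgroup.centralizer ({y} : Set G) := by
        intro x hx
        rw [Subgroup.mem_centralizer_singleton_iff]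
        exact hMab x hx y hy
      exact (hMco.le_iff_eq (h y hy1).1).mp hle
    have hFrob : Cfsg.IsFrobeniusComplement M := by
      refine ⟨?_, hMco.1, ?_⟩
      · intro hbot
        rw [hbot, Subgroup.mem_bot] at hgM
        exact hg hgM
      · intro x hx
        rw [eq_bot_iff]
        intro y hy
        obtain ⟨hy1, hy2⟩ := Subgroup.mem_inf.mp hy
        rw [Subgroup.mem_bot]
        by_contra hy0
        rw [Cfsg.Agent.Helper1.mem_conj_smul] at hy2
        have hc1 := hcent y hy1 hy0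
        have hy0' : x⁻¹ * y * x ≠ 1 := fun h0 => hy0 (conj_eq_one h0)
        have hc2 := hcent _ hy2 hy0'
        have hxN : x ∈ Subgroup.normalizer (M : Set G) := by
          apply Subgroup.mem_normalizer_fintype
          intro m hm
          have hm' : m ∈ Subgroup.centralizer ({x⁻¹ * y * x} : Set G) := by rw [hc2]; exact hm
          rw [Subgroup.mem_centralizer_singleton_iff] at hm'
          have hgoal : x * m * x⁻¹ ∈ Subgroup.centralizer ({y} : Set G) := by
            rw [Subgroup.mem_centralizer_singleton_iff]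
            calc x * m * x⁻¹ * y = x * (m * (x⁻¹ * y * x)) * x⁻¹ := by group
              _ = x * ((x⁻¹ * y * x) * m) * x⁻¹ := by rw [hm']
              _ = y * (x * m * x⁻¹) := by group
          rw [hc1] at hgoal
          exact hgoal
        rcases hMco.le_iff.mp (Subgroup.le_normalizer : M ≤ Subgroup.normalizer (M : Set G))
          with h1 | h1
        · exact hMn (Subgroup.normalizer_eq_top_iff.mp h1)
        · rw [h1] at hxN; exact hx hxN
    obtain ⟨K, hKset, hKn, hKc, hKne, hfpf, -⟩ := Cfsg.Agent.Helper1.frob_data M hFrob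
    have hKtop : K ≠ ⊤ := by
      intro htop
      have hdis := hKc.disjoint
      rw [Subgroup.disjoint_def] at hdis
      exact hg (hdis (by rw [htop]; exact Subgroup.mem_top g) hgM)
    have hKcent : ∀ k ∈ K, k ≠ 1 → Subgroup.centralizer ({k} : Set G) ≤ K := by
      intro k hk hk1 c hc
      by_contra hcK
      have hcK' : c ∉ Cfsg.frobeniusKernel M := by
        intro h0
        apply hcK
        have h1 : c ∈ (K : Set G) := by rw [hKset]; exact h0
        exact h1
      have hcK'' : ¬ (c = 1 ∨ ∀ x : G, c ∉ MulAut.conj x • M) := hcK'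
      push Not at hcK''
      obtain ⟨hc1, x, hcx⟩ := hcK''
      rw [Cfsg.Agent.Helper1.mem_conj_smul] at hcx
      have hc1' : x⁻¹ * c * x ≠ 1 := fun h0 => hc1 (conj_eq_one h0)
      have hfp := hfpf _ hcx hc1'
      have hk' : x⁻¹ * k * x ∈ K ⊓ Subgroup.centralizer ({x⁻¹ * c * x} : Set G) := by
        refine Subgroup.mem_inf.mpr ⟨?_, ?_⟩
        · have h2 := hKn.conj_mem k hk x⁻¹
          rw [inv_inv] at h2
          exact h2
        · rw [Subgroup.mem_centralizer_singleton_iff]
          rw [Subgroup.mem_centralizer_singleton_iff] at hc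
          calc x⁻¹ * k * x * (x⁻¹ * c * x) = x⁻¹ * (k * c) * x := by group
            _ = x⁻¹ * (c * k) * x := by rw [hc]
            _ = x⁻¹ * c * x * (x⁻¹ * k * x) := by group
      rw [hfp, Subgroup.mem_bot] at hk'
      exact hk1 (conj_eq_one hk')
    have hKco : ∀ k ∈ K, k ≠ 1 → Subgroup.centralizer ({k} : Set G) = K := by
      intro k hk hk1
      rcases (h k hk1).le_iff.mp (hKcent k hk hk1) with h1 | h1
      · exact absurd h1 hKtop
      · exact h1.symm
    have hKab : ∀ a b : K, a * b = b * a := by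
      intro a b
      by_cases ha : (a : G) = 1
      · have ha' : a = 1 := Subtype.ext ha
        rw [ha', one_mul, mul_one]
      · have hb : (b : G) ∈ Subgroup.centralizer ({(a : G)} : Set G) := by
          rw [hKco a a.2 ha]; exact b.2
        rw [Subgroup.mem_centralizer_singleton_iff] at hb
        exact Subtype.ext hb.symm
    have hKsolv : Group.IsSolvable ↥K := Group.isSolvable_of_comm hKab
    have hMK : M ≤ Subgroup.normalizer (K : Set G) := by
      rw [Subgroup.normalizer_eq_top]; exact le_top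
    have hsup := Cfsg.Agent.S4097.isSolvable_sup K M hMK hKsolv hMsolv
    rw [hKc.sup_eq_top] at hsup
    exact Group.isSolvable_of_surjective (f := (⊤ : Subgroup G).subtype)
      (fun x => ⟨⟨x, Subgroup.mem_top x⟩, rfl⟩)

theorem no_gamma {G : Type*} [Group G] [Finite G] (hZ : Subgroup.center G = ⊥)
    (h : ∀ g : G, g ≠ 1 → IsCoatom (Subgroup.centralizer ({g} : Set G)))
    (hnab : ∀ g : G, g ≠ 1 → ∃ x ∈ Subgroup.centralizer ({g} : Set G),
      ∃ y ∈ Subgroup.centralizer ({g} : Set G), x * y ≠ y * x)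
    (g : G) (hg : g ≠ 1) : False := by
  have hexp : ∀ g : G, g ≠ 1 → (orderOf g).Prime ∧
      ∀ y ∈ Subgroup.centralizer ({g} : Set G), y ≠ 1 → orderOf y = orderOf g := by
    intro g hg
    obtain ⟨b1, hb1, b2, hb2, hb12⟩ := hnab g hg
    have hb1ne : b1 ≠ 1 := by
      rintro rfl
      exact hb12 (by rw [one_mul, mul_one])
    have hCb1 : Subgroup.centralizer ({g} : Set G) ≠ Subgroup.centralizer ({b1} : Set G) := by
      intro heq
      rw [heq, Subgroup.mem_centralizer_singleton_iff] at hb2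
      exact hb12 hb2.symm
    have hgb1 : g * b1 = b1 * g := by
      have h1 := hb1
      rw [Subgroup.mem_centralizer_singleton_iff] at h1
      exact h1.symm
    obtain ⟨ho, hprime⟩ := order_prime_of_comm h g b1 hg hb1ne hgb1 hCb1
    refine ⟨hprime, ?_⟩
    intro y hy hy1
    have hgy : g * y = y * g := by
      have h1 := hy
      rw [Subgroup.mem_centralizer_singleton_iff] at h1
      exact h1.symm
    by_cases hCy : Subgroup.centralizer ({g} : Set G) = Subgroup.centralizer ({y} : Set G)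
    · have hyb1 : y * b1 = b1 * y := by
        have h1 : b1 ∈ Subgroup.centralizer ({y} : Set G) := by rw [← hCy]; exact hb1
        rw [Subgroup.mem_centralizer_singleton_iff] at h1
        exact h1.symm
      have h2 := (order_prime_of_comm h y b1 hy1 hb1ne hyb1 (by rw [← hCy]; exact hCb1)).1
      rw [h2, ho]
    · exact ((order_prime_of_comm h g y hg hy1 hgy hCy).1).symm
  obtain ⟨hp, hPexp⟩ := hexp g hg
  have hpf : Fact (orderOf g).Prime := ⟨hp⟩
  obtain ⟨P, hP⟩ : ∃ P : Subgroup G, P = Subgroup.centralizer ({g} : Set G) := ⟨_, rfl⟩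
  have hPco : IsCoatom P := by rw [hP]; exact h g hg
  have hgP : g ∈ P := by rw [hP, Subgroup.mem_centralizer_singleton_iff]
  have hPmem : ∀ y : G, y ∈ P ↔ y * g = g * y := by
    intro y; rw [hP, Subgroup.mem_centralizer_singleton_iff]
  have hPp : IsPGroup (orderOf g) ↥P :=
    isPGroup_of_order _ P (fun y hy hy1 => hPexp y (by rw [← hP]; exact hy) hy1)
  have hGnotp : ¬ IsPGroup (orderOf g) G := by
    intro hGp
    have hnt : Nontrivial G := ⟨⟨g, 1, hg⟩⟩
    have hcn := hGp.center_nontrivial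
    obtain ⟨a, b, hne⟩ := hcn.exists_pair_ne
    have hall : ∀ z : G, z ∈ Subgroup.center G → z = 1 := by
      intro z hz
      rw [hZ, Subgroup.mem_bot] at hz
      exact hz
    have ha : (a : G) = 1 := hall a a.2
    have hb : (b : G) = 1 := hall b b.2
    exact hne (Subtype.ext (ha.trans hb.symm))
  obtain ⟨b1, hb1, b2, hb2, hb12⟩ := hnab g hg
  rw [← hP] at hb1 hb2
  have hb1nc : (⟨b1, hb1⟩ : ↥P) ∉ Subgroup.center ↥P := by
    intro hc
    have h1 := Subgroup.mem_center_iff.mp hc ⟨b2, hb2⟩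
    exact hb12 (congrArg Subtype.val h1).symm
  have hntq : Nontrivial (↥P ⧸ Subgroup.center ↥P) :=
    ⟨⟨((⟨b1, hb1⟩ : ↥P) : ↥P ⧸ Subgroup.center ↥P), 1,
      fun h1 => hb1nc ((QuotientGroup.eq_one_iff _).mp h1)⟩⟩
  have hqp : IsPGroup (orderOf g) (↥P ⧸ Subgroup.center ↥P) := hPp.to_quotient _
  have hcn := hqp.center_nontrivial
  obtain ⟨⟨c, hc⟩, hc1⟩ := exists_ne (1 : Subgroup.center (↥P ⧸ Subgroup.center ↥P))
  obtain ⟨u, rfl⟩ := QuotientGroup.mk_surjective c
  have hu_nc : u ∉ Subgroup.center ↥P := by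
    intro hu
    apply hc1
    apply Subtype.ext
    exact (QuotientGroup.eq_one_iff u).mpr hu
  have hu2 : ∀ y : ↥P, u * y * u⁻¹ * y⁻¹ ∈ Subgroup.center ↥P := by
    intro y
    rw [← QuotientGroup.eq_one_iff]
    have h1 := Subgroup.mem_center_iff.mp hc (y : ↥P ⧸ Subgroup.center ↥P)
    show ((u : ↥P ⧸ Subgroup.center ↥P) * (y : ↥P ⧸ Subgroup.center ↥P) *
      (u : ↥P ⧸ Subgroup.center ↥P)⁻¹ * (y : ↥P ⧸ Subgroup.center ↥P)⁻¹) = 1
    rw [← h1]; group
  have hu1 : (u : G) ≠ 1 := by
    intro h0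
    apply hu_nc
    have hu' : u = 1 := Subtype.ext h0
    rw [hu']; exact Subgroup.one_mem _
  obtain ⟨y0, hy0⟩ : ∃ y0 : ↥P, y0 * u ≠ u * y0 := by
    by_contra hcon
    push Not at hcon
    exact hu_nc (Subgroup.mem_center_iff.mpr hcon)
  have huo : orderOf (u : G) = orderOf g := hPexp (u : G) (by rw [← hP]; exact u.2) hu1
  obtain ⟨-, hSexp⟩ := hexp (u : G) hu1
  obtain ⟨S, hS⟩ : ∃ S : Subgroup G, S = Subgroup.centralizer ({(u : G)} : Set G) := ⟨_, rfl⟩
  have hSco : IsCoatom S := by rw [hS]; exact h _ hu1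
  have hSmem : ∀ y : G, y ∈ S ↔ y * (u : G) = (u : G) * y := by
    intro y; rw [hS, Subgroup.mem_centralizer_singleton_iff]
  have hSp : IsPGroup (orderOf g) ↥S :=
    isPGroup_of_order _ S (fun y hy hy1 => by
      rw [← huo]; exact hSexp y (by rw [← hS]; exact hy) hy1)
  have hSP : ¬ S ≤ P := by
    intro hle
    have hPS : P = S := (hSco.le_iff_eq hPco.1).mp hle
    apply hy0
    have h1 : (y0 : G) ∈ S := by rw [← hPS]; exact y0.2
    rw [hSmem] at h1
    exact Subtype.ext h1
  obtain ⟨D, hD⟩ : ∃ D : Subgroup G, D = P ⊓ S := ⟨_, rfl⟩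
  have hDP : D ≤ P := by rw [hD]; exact inf_le_left
  have hDS : D ≤ S := by rw [hD]; exact inf_le_right
  have hgD : g ∈ D := by
    rw [hD]
    refine Subgroup.mem_inf.mpr ⟨hgP, ?_⟩
    rw [hSmem]
    exact ((hPmem _).mp u.2).symm
  have hPN : P ≤ Subgroup.normalizer (D : Set G) := by
    intro y hy
    apply Subgroup.mem_normalizer_fintype
    intro d hd
    have hd' : d ∈ D := hd
    have hdP : d ∈ P := hDP hd'
    have hdu : d * (u : G) = (u : G) * d := (hSmem d).mp (hDS hd')
    have htP : y * d * y⁻¹ ∈ P := P.mul_mem (P.mul_mem hy hdP) (P.inv_mem hy)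
    have hcen := hu2 ⟨y, hy⟩
    have hcent := Subgroup.mem_center_iff.mp hcen ⟨y * d * y⁻¹, htP⟩
    have hcent' : (y * d * y⁻¹) * ((u : G) * y * (u : G)⁻¹ * y⁻¹) =
        ((u : G) * y * (u : G)⁻¹ * y⁻¹) * (y * d * y⁻¹) := congrArg Subtype.val hcent
    have e1 : (u : G)⁻¹ * d * (u : G) = d := by
      rw [mul_assoc, hdu, ← mul_assoc, inv_mul_cancel, one_mul]
    have e2 : ((u : G) * y * (u : G)⁻¹ * y⁻¹) * (y * d * y⁻¹) *
        ((u : G) * y * (u : G)⁻¹ * y⁻¹)⁻¹ = (u : G) * (y * d * y⁻¹) * (u : G)⁻¹ := by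
      calc ((u : G) * y * (u : G)⁻¹ * y⁻¹) * (y * d * y⁻¹) *
          ((u : G) * y * (u : G)⁻¹ * y⁻¹)⁻¹
          = (u : G) * y * ((u : G)⁻¹ * d * (u : G)) * y⁻¹ * (u : G)⁻¹ := by group
        _ = (u : G) * y * d * y⁻¹ * (u : G)⁻¹ := by rw [e1]
        _ = (u : G) * (y * d * y⁻¹) * (u : G)⁻¹ := by group
    have e3 : ((u : G) * y * (u : G)⁻¹ * y⁻¹) * (y * d * y⁻¹) *
        ((u : G) * y * (u : G)⁻¹ * y⁻¹)⁻¹ = y * d * y⁻¹ := by
      rw [← hcent', mul_assoc, mul_inv_cancel, mul_one]
    have e4 : (u : G) * (y * d * y⁻¹) * (u : G)⁻¹ = y * d * y⁻¹ := e2.symm.trans e3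
    have e5 : (y * d * y⁻¹) * (u : G) = (u : G) * (y * d * y⁻¹) := by
      calc (y * d * y⁻¹) * (u : G) = ((u : G) * (y * d * y⁻¹) * (u : G)⁻¹) * (u : G) := by
            rw [e4]
        _ = (u : G) * (y * d * y⁻¹) := by group
    show y * d * y⁻¹ ∈ D
    rw [hD]
    exact Subgroup.mem_inf.mpr ⟨htP, (hSmem _).mpr e5⟩
  have hnil : Group.IsNilpotent ↥S := hSp.isNilpotent
  have hnc : NormalizerCondition ↥S := Group.normalizerCondition_of_isNilpotent
  have hlt : D.subgroupOf S < ⊤ := by
    rw [lt_top_iff_ne_top, Ne, Subgroup.subgroupOf_eq_top]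
    exact fun hle => hSP (hle.trans hDP)
  have hgrow := hnc _ hlt
  obtain ⟨x, hxN, hxD⟩ := SetLike.exists_of_lt hgrow
  have hxND : (x : G) ∈ Subgroup.normalizer (D : Set G) := by
    apply Subgroup.mem_normalizer_fintype
    intro n hn
    have hn' : (⟨n, hDS hn⟩ : ↥S) ∈ D.subgroupOf S := Subgroup.mem_subgroupOf.mpr hn
    have h2 := (Subgroup.mem_normalizer_iff.mp hxN ⟨n, hDS hn⟩).mp hn'
    exact Subgroup.mem_subgroupOf.mp h2
  have hxP : (x : G) ∉ P := by
    intro hxP
    apply hxD
    rw [Subgroup.mem_subgroupOf, hD]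
    exact Subgroup.mem_inf.mpr ⟨hxP, x.2⟩
  have hNtop : Subgroup.normalizer (D : Set G) = ⊤ := by
    rcases hPco.le_iff.mp hPN with h1 | h1
    · exact h1
    · rw [h1] at hxND; exact absurd hxND hxP
  have hDn : D.Normal := Subgroup.normalizer_eq_top_iff.mp hNtop
  have hDp : IsPGroup (orderOf g) ↥D := hPp.to_le hDP
  apply hSP
  intro w hw
  by_cases hw1 : w = 1
  · rw [hw1]; exact P.one_mem
  have hwo : orderOf w = orderOf g := by
    rw [← huo]; exact hSexp w (by rw [← hS]; exact hw) hw1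
  obtain ⟨-, hTexp⟩ := hexp w hw1
  have hTco : IsCoatom (Subgroup.centralizer ({w} : Set G)) := h w hw1
  have hTp : IsPGroup (orderOf g) ↥(Subgroup.centralizer ({w} : Set G)) :=
    isPGroup_of_order _ _ (fun y hy hy1 => by rw [← hwo]; exact hTexp y hy hy1)
  have hsup : IsPGroup (orderOf g) ↥(D ⊔ Subgroup.centralizer ({w} : Set G)) :=
    IsPGroup.to_sup_of_normal_left hDp hTp
  rcases hTco.le_iff.mp (le_sup_right : Subgroup.centralizer ({w} : Set G) ≤
      D ⊔ Subgroup.centralizer ({w} : Set G)) with h1 | h1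
  · exfalso
    apply hGnotp
    rw [h1] at hsup
    intro y
    obtain ⟨k, hk⟩ := hsup ⟨y, Subgroup.mem_top y⟩
    exact ⟨k, congrArg Subtype.val hk⟩
  · have hgw : g ∈ Subgroup.centralizer ({w} : Set G) := by
      rw [← h1]; exact Subgroup.mem_sup_left hgD
    rw [Subgroup.mem_centralizer_singleton_iff] at hgw
    exact (hPmem w).mpr hgw.symm

theorem aux : ∀ (n : ℕ) (G : Type u) [Group G] [Finite G], Nat.card G = n →
    (∀ g : G, g ∉ Subgroup.center G → IsCoatom (Subgroup.centralizer ({g} : Set G))) →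
    Group.IsSolvable G := by
  intro n
  induction n using Nat.strong_induction_on with
  | _ n ih =>
  intro G _ _ hn h
  by_cases hZ : Subgroup.center G = ⊥
  swap
  · have hlt : Nat.card (G ⧸ Subgroup.center G) < n := by
      rw [← hn]; exact Cfsg.Agent.Helper1.card_quotient_lt_of_ne_bot _ hZ
    have hq : Group.IsSolvable (G ⧸ Subgroup.center G) := ih _ hlt _ rfl (coatom_quot h)
    have hz : Group.IsSolvable ↥(Subgroup.center G) :=
      Group.isSolvable_of_comm (fun a b => Subtype.ext (Subgroup.mem_center_iff.mp b.2 a.1))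
    exact Group.isSolvable_of_ker_le_range (Subgroup.center G).subtype
      (QuotientGroup.mk' (Subgroup.center G))
      (by rw [QuotientGroup.ker_mk', Subgroup.range_subtype])
  have h' : ∀ g : G, g ≠ 1 → IsCoatom (Subgroup.centralizer ({g} : Set G)) := by
    intro g hg
    apply h
    rw [hZ, Subgroup.mem_bot]
    exact hg
  by_cases hnt : ∀ g : G, g = 1
  · exact Group.isSolvable_of_comm (fun a b => by rw [hnt a, hnt b])
  push Not at hnt
  obtain ⟨g0, hg0⟩ := hnt
  by_cases hab : ∃ g : G, g ≠ 1 ∧ ∀ x ∈ Subgroup.centralizer ({g} : Set G),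
      ∀ y ∈ Subgroup.centralizer ({g} : Set G), x * y = y * x
  · obtain ⟨g, hg, hMab⟩ := hab
    exact solvable_of_abelian_cent h' g hg hMab
  · exfalso
    push Not at hab
    exact no_gamma hZ h' hab g0 hg0

theorem result {G : Type*} [Group G] [Finite G]
    (h : ∀ g : G, g ∉ Subgroup.center G → IsCoatom (Subgroup.centralizer ({g} : Set G))) :
    Group.IsSolvable G :=
  aux _ G rfl h

end Cfsg.Agent.S4262
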