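import Mathlib
import Cfsg.Statements.S4270
import Cfsg.Agent.Helper23.Pronormal

set_option autoImplicit false
open Cfsg

namespace Cfsg.Agent.S4270

open Cfsg.Agent.Helper20 Cfsg.Agent.Helper23

/-- Let p be a prime and G a finite group with a normal subgroup A such that, both in A and in G/A, every subgroup containing a Sylow p-subgroup of that group is pronormal in that group. Let T be a Sylow p-subgroup of A. Then every subgroup of G containing a Sylow p-subgroup of G is pronormal in G if and only if (i) every subgroup of N_G(T)/T containing a Sylow p-subgroup of N_G(T)/T is pronormal there, and (ii) for every subgroup H of G containing a Sylow p-subgroup of G, the image of N_G(H) in G/A is the full normalizer of the image of H. (Pronormal: H and gHg⁻¹ are conjugate inside the subgroup they generate, for every g.) -/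
theorem result {G : Type*} [Group G] [Finite G] {p : ℕ} [Fact p.Prime]
    (A : Subgroup G) [A.Normal] (hA : (∀ K : Subgroup ↥A, (∃ P : Sylow p ↥A, (P : Subgroup ↥A) ≤ K) → Cfsg.IsPronormal K)) (hQ : (∀ K : Subgroup (G ⧸ A), (∃ P : Sylow p (G ⧸ A), (P : Subgroup (G ⧸ A)) ≤ K) → Cfsg.IsPronormal K))
    (T : Subgroup G) (hT : ∃ P : Sylow p ↥A, (P : Subgroup ↥A).map A.subtype = T) [(T.subgroupOf (Subgroup.normalizer (T : Set G))).Normal] :
    (∀ K : Subgroup G, (∃ P : Sylow p G, (P : Subgroup G) ≤ K) → Cfsg.IsPronormal K) ↔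
      ((∀ K : Subgroup (↥(Subgroup.normalizer (T : Set G)) ⧸ T.subgroupOf (Subgroup.normalizer (T : Set G))), (∃ P : Sylow p (↥(Subgroup.normalizer (T : Set G)) ⧸ T.subgroupOf (Subgroup.normalizer (T : Set G))), (P : Subgroup (↥(Subgroup.normalizer (T : Set G)) ⧸ T.subgroupOf (Subgroup.normalizer (T : Set G)))) ≤ K) → Cfsg.IsPronormal K) ∧
        ∀ K : Subgroup G, (∃ P : Sylow p G, (P : Subgroup G) ≤ K) →
          (Subgroup.normalizer (K : Set G)).map (QuotientGroup.mk' A) = Subgroup.normalizer ((K.map (QuotientGroup.mk' A) : Subgroup (G ⧸ A)) : Set (G ⧸ A))) := by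
  obtain ⟨PA, hPA⟩ := hT
  constructor
  · intro hG
    refine ⟨fun K hK => pn_forward A PA T hPA (Subgroup.normalizer (T : Set G)) rfl hG K hK, ?_⟩
    intro K hK
    apply le_antisymm (Subgroup.le_normalizer_map _)
    intro c hc
    obtain ⟨g, rfl⟩ := QuotientGroup.mk'_surjective A c
    have h1 := map_conj_eq_of_mem_normalizer _ _ hc
    rw [← pn_map_conj_map (QuotientGroup.mk' A) K g] at h1
    have h2 : K.map (MulAut.conj g).toMonoidHom ≤ K ⊔ A := by
      have h3 : K.map (MulAut.conj g).toMonoidHom ≤ Subgroup.comap (QuotientGroup.mk' A)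
          ((K.map (MulAut.conj g).toMonoidHom).map (QuotientGroup.mk' A)) :=
        Subgroup.le_comap_map _ _
      rw [h1, Subgroup.comap_map_eq, QuotientGroup.ker_mk'] at h3
      exact h3
    obtain ⟨x, hx, hxe⟩ := hG K hK g
    have hxKA : x ∈ K ⊔ A := (sup_le le_sup_left h2) hx
    have hAbot : A.map (QuotientGroup.mk' A) = ⊥ :=
      (Subgroup.map_eq_bot_iff A).mpr (QuotientGroup.ker_mk' A).ge
    have hxm : QuotientGroup.mk' A x ∈ K.map (QuotientGroup.mk' A) := by
      have h4 := Subgroup.mem_map_of_mem (QuotientGroup.mk' A) hxKA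
      rw [Subgroup.map_sup, hAbot, sup_bot_eq] at h4
      exact h4
    obtain ⟨k, hk, hke⟩ := Subgroup.mem_map.mp hxm
    have hxn : x⁻¹ * g ∈ Subgroup.normalizer (K : Set G) := by
      apply mem_normalizer_of_map_conj_eq
      rw [← map_conj_mul, hxe, map_conj_mul, inv_mul_cancel, map_conj_one]
    refine Subgroup.mem_map.mpr ⟨k * (x⁻¹ * g),
      Subgroup.mul_mem _ (Subgroup.le_normalizer hk) hxn, ?_⟩
    rw [map_mul, map_mul, map_inv, hke, mul_inv_cancel_left]
  · rintro ⟨hNpro, hii⟩ K hK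
    obtain ⟨S₀, hS₀⟩ := hK
    obtain ⟨S, hTS, hSA, hSN⟩ := pn_exists_sylow_ge A PA T hPA
    obtain ⟨g, hg⟩ := MulAction.exists_smul_eq G S₀ S
    apply pn_of_conj K g
    have hSH : (S : Subgroup G) ≤ K.map (MulAut.conj g).toMonoidHom := by
      rw [← hg, Sylow.coe_subgroup_smul, pn_conj_smul_eq_map]
      exact map_conj_mono g hS₀
    obtain ⟨H, hHdef⟩ : ∃ H : Subgroup G, H = K.map (MulAut.conj g).toMonoidHom := ⟨_, rfl⟩
    rw [← hHdef] at hSH ⊢
    have hTH : T ≤ H := hTS.trans hSH
    have hH1 := pn_h1 T (Subgroup.normalizer (T : Set G)) hNpro H S hSH hSN hTH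
    have hHbar : Cfsg.IsPronormal (H.map (QuotientGroup.mk' A)) := by
      apply hQ
      exact ⟨S.mapSurjective (QuotientGroup.mk'_surjective A), by
        rw [Sylow.coe_mapSurjective]; exact Subgroup.map_mono hSH⟩
    intro n
    obtain ⟨c, hc, hce⟩ := hHbar (QuotientGroup.mk' A n)
    rw [← pn_map_conj_map (QuotientGroup.mk' A) H n, ← Subgroup.map_sup] at hc
    obtain ⟨x, hx, rfl⟩ := Subgroup.mem_map.mp hc
    rw [← pn_map_conj_map (QuotientGroup.mk' A) H n,
      ← pn_map_conj_map (QuotientGroup.mk' A) H x] at hce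
    have h1 : QuotientGroup.mk' A (x⁻¹ * n) ∈ Subgroup.normalizer
        (((H.map (QuotientGroup.mk' A) : Subgroup (G ⧸ A))) : Set (G ⧸ A)) := by
      apply mem_normalizer_of_map_conj_eq
      rw [← pn_map_conj_map (QuotientGroup.mk' A) H (x⁻¹ * n), ← map_conj_mul,
        pn_map_conj_map (QuotientGroup.mk' A) _ x⁻¹, hce,
        ← pn_map_conj_map (QuotientGroup.mk' A) _ x⁻¹, map_conj_mul, inv_mul_cancel,
        map_conj_one]
    rw [← hii H ⟨S, hSH⟩] at h1
    obtain ⟨m, hm, hme⟩ := Subgroup.mem_map.mp h1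
    obtain ⟨a, hadef⟩ : ∃ a : G, a = x⁻¹ * n * m⁻¹ := ⟨_, rfl⟩
    have haA : a ∈ A := by
      have h3 : QuotientGroup.mk' A (x⁻¹ * n * m⁻¹) = 1 := by
        rw [map_mul, map_inv (QuotientGroup.mk' A) m, hme, mul_inv_cancel]
      rw [hadef]
      exact (QuotientGroup.eq_one_iff _).mp h3
    obtain ⟨w, hw, hwe⟩ := pn_claim A hA PA T hPA (Subgroup.normalizer (T : Set G)) rfl H hTH
      hH1 a haA
    have hmH : H.map (MulAut.conj m).toMonoidHom = H := map_conj_eq_of_mem_normalizer H m hm
    have hmH' : H.map (MulAut.conj m⁻¹).toMonoidHom = H :=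
      map_conj_eq_of_mem_normalizer H m⁻¹ (Subgroup.inv_mem _ hm)
    have hn' : n = x * a * m := by rw [hadef]; group
    have e : H.map (MulAut.conj n).toMonoidHom = H.map (MulAut.conj (x * w)).toMonoidHom := by
      rw [hn', ← map_conj_mul, hmH, ← map_conj_mul, hwe, map_conj_mul]
    have haJ : H.map (MulAut.conj a).toMonoidHom ≤ H ⊔ H.map (MulAut.conj n).toMonoidHom := by
      rw [hadef, ← map_conj_mul, hmH', ← map_conj_mul]
      exact map_conj_le_of_mem _ _ _ le_sup_right (Subgroup.inv_mem _ hx)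
    exact ⟨x * w, Subgroup.mul_mem _ hx ((sup_le le_sup_left haJ) hw), e⟩

end Cfsg.Agent.S4270
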