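import Mathlib
import Cfsg.Statements.S4271
import Cfsg.Agent.Helper23.Pronormal

set_option autoImplicit false
open Cfsg

namespace Cfsg.Agent.S4271

open Cfsg.Agent.Helper20 Cfsg.Agent.Helper23

/-- Let p be a prime and G a finite group with a normal subgroup A such that every subgroup of A containing a Sylow p-subgroup of A is pronormal in A, and the Sylow p-subgroups of G/A are self-normalizing. Let T be a Sylow p-subgroup of A. Then every subgroup of G containing a Sylow p-subgroup of G is pronormal in G if and only if every subgroup of N_G(T)/T containing a Sylow p-subgroup of N_G(T)/T is pronormal in N_G(T)/T. (Pronormal: H and gHg⁻¹ are conjugate inside the subgroup they generate, for every g.) -/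
theorem result {G : Type*} [Group G] [Finite G] {p : ℕ} [Fact p.Prime]
    (A : Subgroup G) [A.Normal] (hA : (∀ K : Subgroup ↥A, (∃ P : Sylow p ↥A, (P : Subgroup ↥A) ≤ K) → Cfsg.IsPronormal K))
    (hQ : ∀ P : Sylow p (G ⧸ A), Subgroup.normalizer ((P : Subgroup (G ⧸ A)) : Set (G ⧸ A)) = P)
    (T : Subgroup G) (hT : ∃ P : Sylow p ↥A, (P : Subgroup ↥A).map A.subtype = T) [(T.subgroupOf (Subgroup.normalizer (T : Set G))).Normal] :
    (∀ K : Subgroup G, (∃ P : Sylow p G, (P : Subgroup G) ≤ K) → Cfsg.IsPronormal K) ↔ (∀ K : Subgroup (↥(Subgroup.normalizer (T : Set G)) ⧸ T.subgroupOf (Subgroup.normalizer (T : Set G))), (∃ P : Sylow p (↥(Subgroup.normalizer (T : Set G)) ⧸ T.subgroupOf (Subgroup.normalizer (T : Set G))), (P : Subgroup (↥(Subgroup.normalizer (T : Set G)) ⧸ T.subgroupOf (Subgroup.normalizer (T : Set G)))) ≤ K) → Cfsg.IsPronormal K) := by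
  obtain ⟨PA, hPA⟩ := hT
  constructor
  · intro hG K hK
    exact pn_forward A PA T hPA (Subgroup.normalizer (T : Set G)) rfl hG K hK
  · intro hNpro K hK
    obtain ⟨S₀, hS₀⟩ := hK
    obtain ⟨S, hTS, hSA, hSN⟩ := pn_exists_sylow_ge A PA T hPA
    obtain ⟨g, hg⟩ := MulAction.exists_smul_eq G S₀ S
    apply pn_of_conj K g
    have hSH : (S : Subgroup G) ≤ K.map (MulAut.conj g).toMonoidHom := by
      rw [← hg, Sylow.coe_subgroup_smul, pn_conj_smul_eq_map]
      exact map_conj_mono g hS₀
    obtain ⟨H, hHdef⟩ : ∃ H : Subgroup G, H = K.map (MulAut.conj g).toMonoidHom := ⟨_, rfl⟩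
    rw [← hHdef] at hSH ⊢
    have hTH : T ≤ H := hTS.trans hSH
    have hH1 := pn_h1 T (Subgroup.normalizer (T : Set G)) hNpro H S hSH hSN hTH
    apply (Cfsg.Agent.S3820.result (S : Subgroup G) H hSH (pn_sylow_pronormal S)).mpr
    intro n hn
    have h1 : QuotientGroup.mk' A n ∈ Subgroup.normalizer
        ((((S : Subgroup G).map (QuotientGroup.mk' A) : Subgroup (G ⧸ A))) : Set (G ⧸ A)) :=
      Subgroup.le_normalizer_map (QuotientGroup.mk' A) (Subgroup.mem_map_of_mem _ hn)
    have h2 := hQ (S.mapSurjective (QuotientGroup.mk'_surjective A))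
    rw [Sylow.coe_mapSurjective] at h2
    rw [h2] at h1
    obtain ⟨s, hs, hse⟩ := Subgroup.mem_map.mp h1
    obtain ⟨a, hadef⟩ : ∃ a : G, a = n * s⁻¹ := ⟨_, rfl⟩
    have haA : a ∈ A := by
      have h3 : QuotientGroup.mk' A (n * s⁻¹) = 1 := by
        rw [map_mul, map_inv, hse, mul_inv_cancel]
      rw [hadef]
      exact (QuotientGroup.eq_one_iff _).mp h3
    obtain ⟨w, hw, hwe⟩ := pn_claim A hA PA T hPA (Subgroup.normalizer (T : Set G)) rfl H hTH
      hH1 a haA
    have hsH : H.map (MulAut.conj s).toMonoidHom = H :=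
      map_conj_eq_of_mem_normalizer H s (Subgroup.le_normalizer (hSH hs))
    have hn' : n = a * s := by rw [hadef]; group
    have e : H.map (MulAut.conj n).toMonoidHom = H.map (MulAut.conj a).toMonoidHom := by
      rw [hn', ← map_conj_mul, hsH]
    rw [e]
    exact ⟨w, hw, hwe⟩

end Cfsg.Agent.S4271
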