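import Cfsg.Statements.S4347

set_option autoImplicit false
open Cfsg

namespace Cfsg.Agent.S4347

/-- Let G be a finite group and p a prime. Say a Sylow p-subgroup Q is redundant when every element of p-power order lies in some Sylow p-subgroup other than Q. Then G has no redundant Sylow p-subgroup if and only if some element of p-power order lies in exactly one Sylow p-subgroup. -/
theorem result {G : Type*} [Group G] [Finite G]
    (p : ℕ) [Fact p.Prime] :
    (¬ ∃ Q : Sylow p G, ∀ x : G, (∃ k : ℕ, orderOf x = p ^ k) → ∃ P : Sylow p G, P ≠ Q ∧ x ∈ P) ↔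
      ∃ x : G, (∃ k : ℕ, orderOf x = p ^ k) ∧ ∃! P : Sylow p G, x ∈ P := by
  constructor
  · intro h
    obtain ⟨Q⟩ : Nonempty (Sylow p G) := inferInstance
    have hQ : ¬ ∀ x : G, (∃ k : ℕ, orderOf x = p ^ k) → ∃ P : Sylow p G, P ≠ Q ∧ x ∈ P :=
      fun hq => h ⟨Q, hq⟩
    push Not at hQ
    obtain ⟨x, hx, hxQ⟩ := hQ
    refine ⟨x, hx, ?_⟩
    have hpg : IsPGroup p (Subgroup.zpowers x) := by
      obtain ⟨k, hk⟩ := hx
      apply IsPGroup.of_card (n := k)
      rw [Nat.card_zpowers, hk]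
    obtain ⟨P', hP'⟩ := hpg.exists_le_sylow
    have hxP' : x ∈ P' := hP' (Subgroup.mem_zpowers x)
    have hP'Q : P' = Q := by
      by_contra hne
      exact hxQ P' hne hxP'
    refine ⟨Q, hP'Q ▸ hxP', ?_⟩
    intro P hP
    by_contra hne
    exact hxQ P hne hP
  · rintro ⟨x, hx, P₀, hxP₀, huniq⟩ ⟨Q, hQ⟩
    obtain ⟨g, hg⟩ := MulAction.exists_smul_eq G P₀ Q
    have hy : ∃ k : ℕ, orderOf (g * x * g⁻¹) = p ^ k := by
      obtain ⟨k, hk⟩ := hx
      exact ⟨k, by rw [← hk]; exact ((MulAut.conj g).orderOf_eq x)⟩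
    obtain ⟨P, hPQ, hyP⟩ := hQ _ hy
    have hx' : x ∈ g⁻¹ • P := by
      have h1 : x ∈ ((g⁻¹ • P : Sylow p G) : Subgroup G) := by
        rw [Sylow.coe_subgroup_smul, Subgroup.mem_pointwise_smul_iff_inv_smul_mem]
        have h2 : g * x * g⁻¹ ∈ (P : Subgroup G) := hyP
        simpa [MulAut.smul_def] using h2
      exact h1
    have := huniq _ hx'
    apply hPQ
    rw [← hg, ← this, smul_inv_smul]

end Cfsg.Agent.S4347
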