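import Mathlib
import Cfsg.Statements.S4356
import Cfsg.Agent.Helper14.TorusE

set_option autoImplicit false
open Cfsg

namespace Cfsg.Agent.S4356

theorem mem_of_map_mem {G : Type*} [Group G] (p : ℕ) [Fact p.Prime] (P : Sylow p G) (x : G)
    (hx : ∃ k : ℕ, orderOf x = p ^ k)
    (hmem : QuotientGroup.mk' (Subgroup.center G) x ∈
      (P : Subgroup G).map (QuotientGroup.mk' (Subgroup.center G))) : x ∈ (P : Subgroup G) := by
  obtain ⟨y, hy, hyx⟩ := hmem
  have hz : y⁻¹ * x ∈ Subgroup.center G := QuotientGroup.eq.mp hyx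
  have hxN : x ∈ Subgroup.normalizer ((P : Subgroup G) : Set G) := by
    have e : x = y * (y⁻¹ * x) := by group
    rw [e]
    apply Subgroup.mul_mem _ (Subgroup.le_normalizer hy)
    rw [Subgroup.mem_set_normalizer_iff]
    intro h
    have hc := Subgroup.mem_center_iff.mp hz
    rw [← hc h, mul_inv_cancel_right]
  obtain ⟨k, hk⟩ := hx
  have hp : IsPGroup p (Subgroup.zpowers x) := by
    rintro ⟨y', hy'⟩
    obtain ⟨i, rfl⟩ := Subgroup.mem_zpowers_iff.mp hy'
    refine ⟨k, Subtype.ext ?_⟩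
    show (x ^ i) ^ p ^ k = 1
    rw [← zpow_natCast, ← zpow_mul, mul_comm, zpow_mul, zpow_natCast, ← hk, pow_orderOf_eq_one,
      one_zpow]
  have h3 := hp.inf_normalizer_sylow P
  have h4 : x ∈ Subgroup.zpowers x ⊓ Subgroup.normalizer (P : Set G) :=
    Subgroup.mem_inf.mpr ⟨Subgroup.mem_zpowers x, hxN⟩
  rw [h3] at h4
  exact (Subgroup.mem_inf.mp h4).2

theorem center_sq {F : Type*} [Field F] (z : Matrix.SpecialLinearGroup (Fin 2) F)
    (hz : z ∈ Subgroup.center (Matrix.SpecialLinearGroup (Fin 2) F)) : z ^ 2 = 1 := by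
  obtain ⟨r, hr, hrz⟩ := Matrix.SpecialLinearGroup.mem_center_iff.mp hz
  apply Subtype.ext
  rw [Fintype.card_fin] at hr
  rw [Matrix.SpecialLinearGroup.coe_pow, ← hrz, ← map_pow, hr, map_one]
  rfl

/-- Let F be a finite field with q elements, p a prime and G = PSL(2, F). Say a Sylow p-subgroup Q of G is redundant when every element of p-power order lies in some Sylow p-subgroup other than Q. Then G has a redundant Sylow p-subgroup if and only if p = 2 and q is not of any of the forms 2ᵏ - 1, 2ᵏ, 2ᵏ + 1. -/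
theorem result {F : Type*} [Field F] [Fintype F] (p : ℕ) [Fact p.Prime] :
    (∃ Q : Sylow p (Matrix.ProjectiveSpecialLinearGroup (Fin 2) F), ∀ x : Matrix.ProjectiveSpecialLinearGroup (Fin 2) F,
        (∃ k : ℕ, orderOf x = p ^ k) → ∃ P : Sylow p (Matrix.ProjectiveSpecialLinearGroup (Fin 2) F), P ≠ Q ∧ x ∈ P) ↔
      (p = 2 ∧ (¬ ∃ k : ℕ, Fintype.card F + 1 = 2 ^ k) ∧ (¬ ∃ k : ℕ, Fintype.card F = 2 ^ k) ∧
        ¬ ∃ k : ℕ, Fintype.card F = 2 ^ k + 1) := by
  classical
  have hsurj : Function.Surjective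
      (QuotientGroup.mk' (Subgroup.center (Matrix.SpecialLinearGroup (Fin 2) F))) :=
    QuotientGroup.mk'_surjective _
  have hSL := Cfsg.Agent.Helper14.TorusE.redundant_iff (F := F) p
  have hpp : p.Prime := Fact.out
  constructor
  · rintro ⟨Qb, hQb⟩
    by_contra hR
    have hno : ¬ ∃ Q : Sylow p (Matrix.SpecialLinearGroup (Fin 2) F),
        ∀ x : Matrix.SpecialLinearGroup (Fin 2) F, (∃ k : ℕ, orderOf x = p ^ k) →
          ∃ P : Sylow p (Matrix.SpecialLinearGroup (Fin 2) F), P ≠ Q ∧ x ∈ P :=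
      fun h => hR (hSL.mp h)
    obtain ⟨Q, rfl⟩ := Sylow.mapSurjective_surjective hsurj p Qb
    apply hno
    refine ⟨Q, fun x hx => ?_⟩
    have hxb : ∃ k : ℕ, orderOf
        (QuotientGroup.mk' (Subgroup.center (Matrix.SpecialLinearGroup (Fin 2) F)) x) = p ^ k := by
      obtain ⟨k, hk⟩ := hx
      have h1 := orderOf_map_dvd
        (QuotientGroup.mk' (Subgroup.center (Matrix.SpecialLinearGroup (Fin 2) F))) x
      rw [hk] at h1
      obtain ⟨j, -, hj⟩ := (Nat.dvd_prime_pow hpp).mp h1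
      exact ⟨j, hj⟩
    obtain ⟨Pb, hPb, hxPb⟩ := hQb _ hxb
    obtain ⟨P, rfl⟩ := Sylow.mapSurjective_surjective hsurj p Pb
    refine ⟨P, ?_, ?_⟩
    · rintro rfl
      exact hPb rfl
    · apply mem_of_map_mem p P x hx
      have h5 : QuotientGroup.mk' (Subgroup.center (Matrix.SpecialLinearGroup (Fin 2) F)) x ∈
          ((Sylow.mapSurjective hsurj P : Sylow p _) : Subgroup _) := hxPb
      rwa [Sylow.coe_mapSurjective] at h5
  · intro hR
    obtain ⟨Q, hQ⟩ := hSL.mpr hR
    obtain ⟨rfl, -⟩ := hR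
    refine ⟨Sylow.mapSurjective hsurj Q, fun xb hxb => ?_⟩
    obtain ⟨x, rfl⟩ := hsurj xb
    have hx : ∃ k : ℕ, orderOf x = 2 ^ k := by
      obtain ⟨k, hk⟩ := hxb
      have h1 : (QuotientGroup.mk' (Subgroup.center (Matrix.SpecialLinearGroup (Fin 2) F)) x)
          ^ 2 ^ k = 1 := by
        rw [← hk]
        exact pow_orderOf_eq_one _
      have h2 : x ^ 2 ^ k ∈ Subgroup.center (Matrix.SpecialLinearGroup (Fin 2) F) := by
        rw [← QuotientGroup.ker_mk' (Subgroup.center (Matrix.SpecialLinearGroup (Fin 2) F)),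
          MonoidHom.mem_ker, map_pow]
        exact h1
      have h3 : (x ^ 2 ^ k) ^ 2 = 1 := center_sq _ h2
      have h4 : orderOf x ∣ 2 ^ (k + 1) := by
        apply orderOf_dvd_of_pow_eq_one
        rw [pow_succ, pow_mul]
        exact h3
      obtain ⟨j, -, hj⟩ := (Nat.dvd_prime_pow Nat.prime_two).mp h4
      exact ⟨j, hj⟩
    obtain ⟨P, hPQ, hxP⟩ := hQ x hx
    refine ⟨Sylow.mapSurjective hsurj P, ?_, ?_⟩
    · intro heq
      apply hPQ
      have hle : (P : Subgroup (Matrix.SpecialLinearGroup (Fin 2) F)) ≤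
          (Q : Subgroup (Matrix.SpecialLinearGroup (Fin 2) F)) := by
        intro y hy
        apply mem_of_map_mem 2 Q y
        · obtain ⟨k, hk⟩ := (IsPGroup.iff_orderOf.mp P.2) ⟨y, hy⟩
          exact ⟨k, by rw [← hk, Subgroup.orderOf_mk]⟩
        · have h5 : QuotientGroup.mk' (Subgroup.center (Matrix.SpecialLinearGroup (Fin 2) F)) y ∈
              ((Sylow.mapSurjective hsurj P : Sylow 2 _) : Subgroup _) := by
            rw [Sylow.coe_mapSurjective]
            exact Subgroup.mem_map_of_mem _ hy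
          rw [heq, Sylow.coe_mapSurjective] at h5
          exact h5
      exact Sylow.ext (P.is_maximal' Q.2 hle).symm
    · show QuotientGroup.mk' (Subgroup.center (Matrix.SpecialLinearGroup (Fin 2) F)) x ∈
        ((Sylow.mapSurjective hsurj P : Sylow 2 _) : Subgroup _)
      rw [Sylow.coe_mapSurjective]
      exact Subgroup.mem_map_of_mem _ hxP

end Cfsg.Agent.S4356
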