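import Mathlib
import Cfsg.Statements.S4365
import Cfsg.Agent.S4342

set_option autoImplicit false
open Cfsg

namespace Cfsg.Agent.S4365

section aux

variable {G : Type*} [Group G]

theorem mem_cent {x g : G} : g ∈ Subgroup.centralizer ({x} : Set G) ↔ g * x = x * g := by
  rw [Subgroup.mem_centralizer_iff]
  constructor
  · intro h; exact (h x rfl).symm
  · intro h y hy; rw [Set.mem_singleton_iff] at hy; rw [hy]; exact h.symm

theorem cent_ne_top {x : G} (hx : x ∉ Subgroup.center G) :
    Subgroup.centralizer ({x} : Set G) ≠ ⊤ := by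
  intro h2
  rw [Subgroup.centralizer_eq_top_iff_subset] at h2
  exact hx (h2 (Set.mem_singleton x))

theorem conj_pow_of_central {g z c : G} (hc : ∀ h : G, h * c = c * h)
    (hgz : g * z * g⁻¹ = c * z) (n : ℕ) : g ^ n * z * (g ^ n)⁻¹ = c ^ n * z := by
  induction n with
  | zero => simp
  | succ n ih =>
    have h1 : g ^ (n + 1) * z * (g ^ (n + 1))⁻¹ = g * (g ^ n * z * (g ^ n)⁻¹) * g⁻¹ := by
      rw [pow_succ']; group
    rw [h1, ih]
    have hcn : g * c ^ n = c ^ n * g := ((show Commute g c from hc g).pow_right n).eq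
    have h2 : g * (c ^ n * z) * g⁻¹ = c ^ n * (g * z * g⁻¹) := by
      calc g * (c ^ n * z) * g⁻¹ = (g * c ^ n) * z * g⁻¹ := by group
        _ = (c ^ n * g) * z * g⁻¹ := by rw [hcn]
        _ = c ^ n * (g * z * g⁻¹) := by group
    rw [h2, hgz, ← mul_assoc, ← pow_succ]

theorem conj_pow_right_of_central {g z c : G} (hc : ∀ h : G, h * c = c * h)
    (hgz : g * z * g⁻¹ = c * z) (n : ℕ) : g * z ^ n * g⁻¹ = c ^ n * z ^ n := by
  rw [← conj_pow, hgz, (show Commute c z from (hc z).symm).mul_pow]

end aux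

/-- Let P be a finite p-group whose conjugacy class sizes are exactly 1 and pᵃ for some a ≥ 1. Then every element of P has its p-th power in the center of P (P/Z(P) has exponent p). -/
theorem result {P : Type*} [Group P] [Finite P] (p : ℕ) [Fact p.Prime]
    (hP : IsPGroup p P) (a : ℕ) (ha : 1 ≤ a)
    (hcs : {k : ℕ | ∃ x : P, (Subgroup.centralizer ({x} : Set P)).index = k} = {1, p ^ a}) (x : P) :
    x ^ p ∈ Subgroup.center P := by
  classical
  have hp : p.Prime := Fact.out
  have hpa1 : 1 < p ^ a := Nat.one_lt_pow (by omega) hp.one_lt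
  have hidx : ∀ g : P, g ∉ Subgroup.center P →
      (Subgroup.centralizer ({g} : Set P)).index = p ^ a := by
    intro g hg
    have h1 : (Subgroup.centralizer ({g} : Set P)).index ∈ ({1, p ^ a} : Set ℕ) := by
      rw [← hcs]; exact ⟨g, rfl⟩
    rcases h1 with h1 | h1
    · exact absurd (Subgroup.index_eq_one.mp h1) (cent_ne_top hg)
    · exact h1
  have hL0 : ∀ g k : P, g ∉ Subgroup.center P → k ∉ Subgroup.center P →
      Subgroup.centralizer ({g} : Set P) ≤ Subgroup.centralizer ({k} : Set P) →
      Subgroup.centralizer ({g} : Set P) = Subgroup.centralizer ({k} : Set P) := by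
    intro g k hg hk hle
    have h1 := Subgroup.relIndex_mul_index hle
    rw [hidx g hg, hidx k hk] at h1
    have h2 : (Subgroup.centralizer ({g} : Set P)).relIndex
        (Subgroup.centralizer ({k} : Set P)) = 1 :=
      Nat.eq_of_mul_eq_mul_right (by omega : 0 < p ^ a) (by rw [h1, one_mul])
    exact le_antisymm hle (Subgroup.relIndex_eq_one.mp h2)
  have hpowle : ∀ g : P, Subgroup.centralizer ({g} : Set P) ≤
      Subgroup.centralizer ({g ^ p} : Set P) := by
    intro g k hk
    rw [mem_cent] at hk ⊢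
    exact ((show Commute k g from hk).pow_right p).eq
  have hex : ∃ x₀ : P, x₀ ∉ Subgroup.center P := by
    have h1 : p ^ a ∈ {k : ℕ | ∃ x : P, (Subgroup.centralizer ({x} : Set P)).index = k} := by
      rw [hcs]; exact Set.mem_insert_of_mem _ rfl
    obtain ⟨x₀, hx₀⟩ := h1
    refine ⟨x₀, fun hz => ?_⟩
    have h2 : Subgroup.centralizer ({x₀} : Set P) = ⊤ :=
      Subgroup.centralizer_eq_top_iff_subset.mpr
        (by intro y hy; rw [Set.mem_singleton_iff.mp hy]; exact hz)
    rw [h2, Subgroup.index_top] at hx₀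
    omega
  have hz₀ : ∃ z₀ : P, z₀ ∉ Subgroup.center P ∧
      ∀ g : P, g * z₀ * g⁻¹ * z₀⁻¹ ∈ Subgroup.center P := by
    obtain ⟨x₀, hx₀⟩ := hex
    have hnt : Nontrivial (P ⧸ Subgroup.center P) := by
      refine ⟨⟨(x₀ : P ⧸ Subgroup.center P), 1, ?_⟩⟩
      intro h1
      exact hx₀ ((QuotientGroup.eq_one_iff x₀).mp h1)
    have hPQ : IsPGroup p (P ⧸ Subgroup.center P) := hP.to_quotient (Subgroup.center P)
    have hcn := hPQ.center_nontrivial
    obtain ⟨⟨zb, hzb⟩, hne⟩ := exists_ne (1 : Subgroup.center (P ⧸ Subgroup.center P))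
    obtain ⟨z₀, rfl⟩ := QuotientGroup.mk_surjective zb
    refine ⟨z₀, ?_, ?_⟩
    · intro hz
      apply hne
      apply Subtype.ext
      exact (QuotientGroup.eq_one_iff z₀).mpr hz
    · intro g
      rw [← QuotientGroup.eq_one_iff]
      simp only [QuotientGroup.mk_mul, QuotientGroup.mk_inv]
      rw [Subgroup.mem_center_iff.mp hzb (g : P ⧸ Subgroup.center P)]
      group
  obtain ⟨z₀, hz₀Z, hθ⟩ := hz₀
  have hθc : ∀ g h : P, h * (g * z₀ * g⁻¹ * z₀⁻¹) = (g * z₀ * g⁻¹ * z₀⁻¹) * h :=
    fun g h => Subgroup.mem_center_iff.mp (hθ g) h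
  have hθz : ∀ g : P, g * z₀ * g⁻¹ = (g * z₀ * g⁻¹ * z₀⁻¹) * z₀ := by intro g; group
  have hpow1 : ∀ (g : P) (n : ℕ),
      g ^ n * z₀ * (g ^ n)⁻¹ = (g * z₀ * g⁻¹ * z₀⁻¹) ^ n * z₀ :=
    fun g n => conj_pow_of_central (hθc g) (hθz g) n
  have hpow2 : ∀ (g : P) (n : ℕ),
      g * z₀ ^ n * g⁻¹ = (g * z₀ * g⁻¹ * z₀⁻¹) ^ n * z₀ ^ n :=
    fun g n => conj_pow_right_of_central (hθc g) (hθz g) n
  -- `z₀ ^ p` is central
  have hz₀p : z₀ ^ p ∈ Subgroup.center P := by
    by_contra hzp
    have heq := hL0 z₀ (z₀ ^ p) hz₀Z hzp (hpowle z₀)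
    have hstep : ∀ g : P, g ^ p ∈ Subgroup.centralizer ({z₀} : Set P) →
        g ∈ Subgroup.centralizer ({z₀} : Set P) := by
      intro g hg
      rw [mem_cent] at hg
      have h1 : (g * z₀ * g⁻¹ * z₀⁻¹) ^ p = 1 := by
        have h2 := hpow1 g p
        have h3 : g ^ p * z₀ * (g ^ p)⁻¹ = z₀ := by rw [hg]; group
        rw [h3] at h2
        exact mul_right_cancel (h2.symm.trans (one_mul z₀).symm)
      rw [heq, mem_cent]
      have h4 := hpow2 g p
      rw [h1, one_mul] at h4
      exact mul_inv_eq_iff_eq_mul.mp h4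
    have hall : ∀ (n : ℕ) (g : P), g ^ (p ^ n) ∈ Subgroup.centralizer ({z₀} : Set P) →
        g ∈ Subgroup.centralizer ({z₀} : Set P) := by
      intro n
      induction n with
      | zero => intro g hg; rw [pow_zero, pow_one] at hg; exact hg
      | succ n ih =>
        intro g hg
        rw [pow_succ, pow_mul] at hg
        exact ih g (hstep _ hg)
    apply hz₀Z
    rw [Subgroup.mem_center_iff]
    intro g
    obtain ⟨n, hn⟩ := hP g
    have h1 : g ∈ Subgroup.centralizer ({z₀} : Set P) :=
      hall n g (by rw [hn]; exact Subgroup.one_mem _)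
    exact mem_cent.mp h1
  have hθp : ∀ g : P, (g * z₀ * g⁻¹ * z₀⁻¹) ^ p = 1 := by
    intro g
    have h4 := hpow2 g p
    have h5 : g * z₀ ^ p * g⁻¹ = z₀ ^ p := by
      rw [Subgroup.mem_center_iff.mp hz₀p g]; group
    rw [h5] at h4
    exact mul_right_cancel (h4.symm.trans (one_mul _).symm)
  have hL3 : ∀ g : P, g ^ p * z₀ = z₀ * g ^ p := by
    intro g
    have h2 := hpow1 g p
    rw [hθp g, one_mul] at h2
    exact mul_inv_eq_iff_eq_mul.mp h2
  have hL4 : ∀ g : P, g ^ p ∉ Subgroup.center P →
      Subgroup.centralizer ({g} : Set P) = Subgroup.centralizer ({z₀} : Set P) := by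
    intro g hgp
    have hgZ : g ∉ Subgroup.center P := fun hg => hgp (Subgroup.pow_mem _ hg p)
    have heq1 := hL0 g (g ^ p) hgZ hgp (hpowle g)
    have hzg : z₀ * g = g * z₀ := by
      have h1 : z₀ ∈ Subgroup.centralizer ({g} : Set P) := by
        rw [heq1, mem_cent]; exact (hL3 g).symm
      exact mem_cent.mp h1
    have hcomm : Commute g z₀ := hzg.symm
    have hwp : (g * z₀) ^ p = g ^ p * z₀ ^ p := hcomm.mul_pow p
    have hwpZ : (g * z₀) ^ p ∉ Subgroup.center P := by
      intro hw
      apply hgp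
      have h1 : g ^ p = (g * z₀) ^ p * (z₀ ^ p)⁻¹ := by rw [hwp]; group
      rw [h1]
      exact Subgroup.mul_mem _ hw (Subgroup.inv_mem _ hz₀p)
    have hwZ : g * z₀ ∉ Subgroup.center P := fun hw => hwpZ (Subgroup.pow_mem _ hw p)
    have heq2 := hL0 (g * z₀) ((g * z₀) ^ p) hwZ hwpZ (hpowle (g * z₀))
    apply hL0 g z₀ hgZ hz₀Z
    intro k hk
    have hkg : k * g = g * k := mem_cent.mp hk
    have hk1 : k ∈ Subgroup.centralizer ({(g * z₀) ^ p} : Set P) := by
      rw [mem_cent, hwp]
      have h1 : Commute k (g ^ p) := (show Commute k g from hkg).pow_right p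
      have h2 : Commute k (z₀ ^ p) := Subgroup.mem_center_iff.mp hz₀p k
      exact (h1.mul_right h2).eq
    rw [← heq2, mem_cent] at hk1
    rw [mem_cent]
    have h3 : g * (k * z₀) = g * (z₀ * k) := by
      rw [← mul_assoc, ← hkg, mul_assoc, hk1, mul_assoc]
    exact mul_left_cancel h3
  -- main argument
  by_contra hx
  have hxZ : x ∉ Subgroup.center P := fun h => hx (Subgroup.pow_mem _ h p)
  have hCx := hL4 x hx
  have hCxp : Subgroup.centralizer ({x ^ p} : Set P) = Subgroup.centralizer ({z₀} : Set P) := by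
    rw [← hCx]
    exact (hL0 x (x ^ p) hxZ hx (hpowle x)).symm
  have hZC : Subgroup.center P ≤ Subgroup.centralizer ({z₀} : Set P) := by
    intro c hc
    rw [mem_cent]
    exact (Subgroup.mem_center_iff.mp hc z₀).symm
  have hxC : x ∈ Subgroup.centralizer ({z₀} : Set P) := by rw [← hCx, mem_cent]
  by_cases hcase : ∃ g : P, g ∈ Subgroup.centralizer ({z₀} : Set P) ∧ g ∉ Subgroup.center P ∧
      Subgroup.centralizer ({g} : Set P) ≠ Subgroup.centralizer ({z₀} : Set P)
  · obtain ⟨g, hgC, hgZ, hgne⟩ := hcase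
    have hgp : g ^ p ∈ Subgroup.center P := by
      by_contra hgp; exact hgne (hL4 g hgp)
    have hgx : g * x = x * g := by rw [← hCx] at hgC; exact mem_cent.mp hgC
    have hne2 : Subgroup.centralizer ({x * g} : Set P) ≠
        Subgroup.centralizer ({z₀} : Set P) := by
      intro heq
      apply hgne
      symm
      apply hL0 z₀ g hz₀Z hgZ
      intro k hk
      have hk1 : k * x = x * k := by rw [← hCx] at hk; exact mem_cent.mp hk
      have hk2 : k * (x * g) = x * g * k := by rw [← heq] at hk; exact mem_cent.mp hk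
      rw [mem_cent]
      have h3 : x * (k * g) = x * (g * k) := by
        rw [← mul_assoc, ← hk1, mul_assoc, hk2, mul_assoc]
      exact mul_left_cancel h3
    have hxgp : (x * g) ^ p ∈ Subgroup.center P := by
      by_contra h1; exact hne2 (hL4 _ h1)
    have hmul : (x * g) ^ p = x ^ p * g ^ p := (show Commute x g from hgx.symm).mul_pow p
    apply hx
    have h1 : x ^ p = (x * g) ^ p * (g ^ p)⁻¹ := by rw [hmul]; group
    rw [h1]
    exact Subgroup.mul_mem _ hxgp (Subgroup.inv_mem _ hgp)
  · push Not at hcase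
    have hb : ∀ t : P, t ∉ Subgroup.centralizer ({z₀} : Set P) → t ^ p ∈ Subgroup.center P := by
      intro t ht
      by_contra htp
      apply ht
      rw [← hL4 t htp, mem_cent]
    have hnormal : ∀ k : P, k ∈ Subgroup.centralizer ({z₀} : Set P) → ∀ g : P,
        g * k * g⁻¹ ∈ Subgroup.centralizer ({z₀} : Set P) := by
      intro k hk g
      rw [mem_cent] at hk ⊢
      have hc := hθ g⁻¹
      have h0 : g⁻¹ * z₀ * g = (g⁻¹ * z₀ * g⁻¹⁻¹ * z₀⁻¹) * z₀ := by group
      have h1 : k * (g⁻¹ * z₀ * g) = (g⁻¹ * z₀ * g) * k := by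
        rw [h0]
        have hkc : Commute k (g⁻¹ * z₀ * g⁻¹⁻¹ * z₀⁻¹) := Subgroup.mem_center_iff.mp hc k
        exact (hkc.mul_right (show Commute k z₀ from hk)).eq
      calc g * k * g⁻¹ * z₀ = g * (k * (g⁻¹ * z₀ * g)) * g⁻¹ := by group
        _ = g * ((g⁻¹ * z₀ * g) * k) * g⁻¹ := by rw [h1]
        _ = z₀ * (g * k * g⁻¹) := by group
    have hCtop : Subgroup.centralizer ({z₀} : Set P) ≠ ⊤ := cent_ne_top hz₀Z
    obtain ⟨t₀, ht₀⟩ : ∃ t₀ : P, t₀ ∉ Subgroup.centralizer ({z₀} : Set P) := by
      by_contra hall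
      push Not at hall
      exact hCtop (eq_top_iff.mpr (fun g _ => hall g))
    have ht₀Z : t₀ ∉ Subgroup.center P := fun h => ht₀ (hZC h)
    have hinf : Subgroup.centralizer ({z₀} : Set P) ⊓ Subgroup.centralizer ({t₀} : Set P) ≤
        Subgroup.center P := by
      intro y hy
      by_contra hyZ
      have h1 := hcase y hy.1 hyZ
      apply ht₀
      rw [← h1, mem_cent]
      exact (mem_cent.mp hy.2).symm
    have hcardC : Nat.card (Subgroup.centralizer ({z₀} : Set P)) ≤
        p ^ a * Nat.card (Subgroup.center P) := by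
      have h1 := Subgroup.card_mul_index (Subgroup.centralizer ({z₀} : Set P))
      have h2 := Subgroup.card_mul_index (Subgroup.centralizer ({t₀} : Set P))
      rw [hidx z₀ hz₀Z] at h1
      rw [hidx t₀ ht₀Z] at h2
      have h3 : Nat.card (Subgroup.centralizer ({z₀} : Set P)) =
          Nat.card (Subgroup.centralizer ({t₀} : Set P)) :=
        Nat.eq_of_mul_eq_mul_right (by omega : 0 < p ^ a) (h1.trans h2.symm)
      have h4 := Cfsg.Agent.S4342.relIndex_mul_card_inf (Subgroup.centralizer ({z₀} : Set P))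
        (Subgroup.centralizer ({t₀} : Set P))
      have h5 : (Subgroup.centralizer ({z₀} : Set P)).relIndex
          (Subgroup.centralizer ({t₀} : Set P)) ≤ p ^ a := by
        have h6 := Subgroup.relIndex_le_of_le_right
          (H := Subgroup.centralizer ({z₀} : Set P))
          (le_top : Subgroup.centralizer ({t₀} : Set P) ≤ ⊤)
          (by rw [Subgroup.relIndex_top_right, hidx z₀ hz₀Z]; omega)
        rw [Subgroup.relIndex_top_right, hidx z₀ hz₀Z] at h6
        exact h6
      have h7 : Nat.card ↥(Subgroup.centralizer ({z₀} : Set P) ⊓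
          Subgroup.centralizer ({t₀} : Set P)) ≤ Nat.card (Subgroup.center P) :=
        Subgroup.card_le_of_le hinf
      rw [h3, ← h4]
      exact Nat.mul_le_mul h5 h7
    have hpig : ∃ t c : P, c ∈ Subgroup.center P ∧ c ≠ 1 ∧ t * x * t⁻¹ = c * x := by
      by_contra hno
      push Not at hno
      have hZsub : (Subgroup.center P : Set P) ⊆
          (Subgroup.centralizer ({z₀} : Set P) : Set P) := hZC
      let ψ : (P ⧸ Subgroup.centralizer ({x} : Set P)) × Subgroup.center P →
          (((Subgroup.centralizer ({z₀} : Set P) : Set P) \ (Subgroup.center P : Set P) :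
            Set P)) :=
        fun qc => ⟨(qc.2 : P) * (qc.1.out * x * (qc.1.out)⁻¹), by
          constructor
          · exact Subgroup.mul_mem _ (hZC qc.2.2) (hnormal x hxC _)
          · intro hmem
            apply hxZ
            have h1 : qc.1.out * x * (qc.1.out)⁻¹ ∈ Subgroup.center P := by
              have h2 := Subgroup.mul_mem _ (Subgroup.inv_mem _ qc.2.2) hmem
              rw [inv_mul_cancel_left] at h2
              exact h2
            have h3 := (inferInstance : (Subgroup.center P).Normal).conj_mem _ h1 (qc.1.out)⁻¹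
            have h4 : (qc.1.out)⁻¹ * (qc.1.out * x * (qc.1.out)⁻¹) * (qc.1.out)⁻¹⁻¹ = x := by
              group
            rw [h4] at h3
            exact h3⟩
      have hinj : Function.Injective ψ := by
        rintro ⟨q, c⟩ ⟨q', c'⟩ heq
        have h1 : (c : P) * (q.out * x * q.out⁻¹) = (c' : P) * (q'.out * x * q'.out⁻¹) :=
          congrArg Subtype.val heq
        have hc'c : ((c' : P)⁻¹ * (c : P)) ∈ Subgroup.center P :=
          Subgroup.mul_mem _ (Subgroup.inv_mem _ c'.2) c.2
        have h3 : q'.out * x * q'.out⁻¹ = ((c' : P)⁻¹ * (c : P)) * (q.out * x * q.out⁻¹) := by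
          rw [mul_assoc (c' : P)⁻¹, h1, inv_mul_cancel_left]
        have h2 : (q.out⁻¹ * q'.out) * x * (q.out⁻¹ * q'.out)⁻¹ =
            ((c' : P)⁻¹ * (c : P)) * x := by
          calc (q.out⁻¹ * q'.out) * x * (q.out⁻¹ * q'.out)⁻¹
              = q.out⁻¹ * (q'.out * x * q'.out⁻¹) * q.out := by group
            _ = q.out⁻¹ * (((c' : P)⁻¹ * (c : P)) * (q.out * x * q.out⁻¹)) * q.out := by rw [h3]
            _ = q.out⁻¹ * ((c' : P)⁻¹ * (c : P)) * q.out * x := by group
            _ = ((c' : P)⁻¹ * (c : P)) * x := by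
              rw [Subgroup.mem_center_iff.mp hc'c (q.out⁻¹)]
              group
        have hcc : (c' : P)⁻¹ * (c : P) = 1 := by
          by_contra hne
          exact hno _ _ hc'c hne h2
        have hceq : c = c' := by
          apply Subtype.ext
          exact (inv_mul_eq_one.mp hcc).symm
        have h4 : (q.out⁻¹ * q'.out) * x * (q.out⁻¹ * q'.out)⁻¹ = x := by
          rw [h2, hcc, one_mul]
        have h5 : q.out⁻¹ * q'.out ∈ Subgroup.centralizer ({x} : Set P) := by
          rw [mem_cent]; exact mul_inv_eq_iff_eq_mul.mp h4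
        have hq : q = q' := by
          calc q = ((q.out : P) : P ⧸ Subgroup.centralizer ({x} : Set P)) :=
                (QuotientGroup.out_eq' q).symm
            _ = ((q'.out : P) : P ⧸ Subgroup.centralizer ({x} : Set P)) :=
                QuotientGroup.eq.mpr h5
            _ = q' := QuotientGroup.out_eq' q'
        rw [hq, hceq]
      have hle := Nat.card_le_card_of_injective ψ hinj
      have h0 : Nat.card (((Subgroup.centralizer ({z₀} : Set P) : Set P) \
          (Subgroup.center P : Set P) : Set P)) =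
          Nat.card (Subgroup.centralizer ({z₀} : Set P)) - Nat.card (Subgroup.center P) := by
        rw [Nat.card_coe_set_eq, Set.ncard_sdiff hZsub, ← Nat.card_coe_set_eq,
          ← Nat.card_coe_set_eq]
        rfl
      have h1 : Nat.card (P ⧸ Subgroup.centralizer ({x} : Set P)) = p ^ a := hidx x hxZ
      rw [Nat.card_prod, h0, h1] at hle
      have hZpos : 0 < Nat.card (Subgroup.center P) := Nat.card_pos
      have hCpos : 0 < Nat.card (Subgroup.centralizer ({z₀} : Set P)) := Nat.card_pos
      generalize p ^ a * Nat.card (Subgroup.center P) = N at hle hcardC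
      omega
    obtain ⟨t, c, hcZ, hc1, htx⟩ := hpig
    have hcc : ∀ k : P, k * c = c * k := Subgroup.mem_center_iff.mp hcZ
    have htC : t ∉ Subgroup.centralizer ({z₀} : Set P) := by
      intro ht
      rw [← hCx, mem_cent] at ht
      apply hc1
      have h1 : t * x * t⁻¹ = x := by rw [ht]; group
      rw [h1] at htx
      exact mul_right_cancel (htx.symm.trans (one_mul x).symm)
    have htp := hb t htC
    have h1 := conj_pow_right_of_central hcc htx p
    have h2 := conj_pow_of_central hcc htx p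
    have hcp : c ^ p = 1 := by
      have hc' : x * t ^ p = t ^ p * x := Subgroup.mem_center_iff.mp htp x
      have h3 : t ^ p * x * (t ^ p)⁻¹ = x := by rw [← hc']; group
      rw [h3] at h2
      exact mul_right_cancel (h2.symm.trans (one_mul x).symm)
    apply htC
    rw [← hCxp, mem_cent]
    rw [hcp, one_mul] at h1
    exact mul_inv_eq_iff_eq_mul.mp h1

end Cfsg.Agent.S4365
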