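import Cfsg.Statements.S4742
-- import your own Cfsg.Agent.* helpers here
import Cfsg.Agent.Helper13.ClassConst

set_option autoImplicit false
open Cfsg

namespace Cfsg.Agent.S4742

/-- Let p ≠ q be primes dividing the order of the finite group G, and suppose the centralizer of every non-identity p-element of G has order prime to q. Then either G has an irreducible character of p-defect zero, or for every non-identity q-element z of G there are conjugates g, h of z such that g h⁻¹ is a non-identity p-element. -/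
theorem result {G : Type*} [Group G] [Finite G] (p q : ℕ) [Fact p.Prime] [Fact q.Prime] (hppq : p ≠ q) (hpG : p ∣ Nat.card G) (hqG : q ∣ Nat.card G) (hC : ∀ g : G, g ≠ 1 → (∃ k : ℕ, orderOf g = p ^ k) → ¬ q ∣ Nat.card ↥(Subgroup.centralizer ({g} : Set G))) : (∃ χ : Cfsg.IrrCharacter G, (Cfsg.charDegree (χ : G → ℂ)).factorization p = (Nat.card G).factorization p) ∨ ∀ z : G, z ≠ 1 → (∃ k : ℕ, orderOf z = q ^ k) → ∃ g h : G, IsConj z g ∧ IsConj z h ∧ g * h⁻¹ ≠ 1 ∧ ∃ k : ℕ, orderOf (g * h⁻¹) = p ^ k := by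
  classical
  have hp : p.Prime := Fact.out
  have hq : q.Prime := Fact.out
  by_contra hcon
  have hA : ∀ χ : Cfsg.IrrCharacter G, (Cfsg.charDegree (χ : G → ℂ)).factorization p ≠
      (Nat.card G).factorization p := fun χ h => hcon (Or.inl ⟨χ, h⟩)
  have hB : ¬ ∀ z : G, z ≠ 1 → (∃ k : ℕ, orderOf z = q ^ k) → ∃ g h : G, IsConj z g ∧
      IsConj z h ∧ g * h⁻¹ ≠ 1 ∧ ∃ k : ℕ, orderOf (g * h⁻¹) = p ^ k := fun h => hcon (Or.inr h)
  obtain ⟨z, hz⟩ := not_forall.mp hB
  rw [Classical.not_imp, Classical.not_imp] at hz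
  obtain ⟨hz1, ⟨kz, hkz⟩, hno'⟩ := hz
  obtain ⟨P⟩ : Nonempty (Sylow p G) := inferInstance
  have hPcard : Nat.card (P : Subgroup G) = p ^ (Nat.card G).factorization p :=
    P.card_eq_multiplicity
  have hnoP : ∀ t : G, ∀ w ∈ (P : Subgroup G), w ≠ 1 → ¬ IsConj (z * (t * z⁻¹ * t⁻¹)) w := by
    intro t w hw hw1 hconj
    apply hno'
    have e : z * (t * z * t⁻¹)⁻¹ = z * (t * z⁻¹ * t⁻¹) := by group
    refine ⟨z, t * z * t⁻¹, IsConj.refl z, isConj_iff.mpr ⟨t, rfl⟩, ?_, ?_⟩
    · rw [e]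
      intro h1
      rw [h1, isConj_one_right] at hconj
      exact hw1 hconj
    · rw [e]
      obtain ⟨s, hs⟩ := isConj_iff.mp hconj
      have ho : orderOf (z * (t * z⁻¹ * t⁻¹)) = orderOf w := by
        rw [← hs]
        show orderOf _ = orderOf (MulAut.conj s (z * (t * z⁻¹ * t⁻¹)))
        exact ((MulAut.conj s).orderOf_eq _).symm
      rw [ho]
      obtain ⟨k, hk⟩ := (IsPGroup.iff_orderOf.mp P.isPGroup') ⟨w, hw⟩
      refine ⟨k, ?_⟩
      rw [← hk, Subgroup.orderOf_mk]
  obtain ⟨χ, hχ⟩ := Helper13.exists_pow_dvd_degree_of_class_const p z (P : Subgroup G) _ hPcard hnoP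
  have ha0 : (Nat.card (Subgroup.centralizer ({z} : Set G))).factorization p = 0 := by
    apply Nat.factorization_eq_zero_of_not_dvd
    intro hdvd
    obtain ⟨y, hy⟩ := exists_prime_orderOf_dvd_card'
      (G := Subgroup.centralizer ({z} : Set G)) p hdvd
    have hy1 : (y : G) ≠ 1 := by
      intro h
      have h' : y = 1 := Subtype.ext h
      rw [h', orderOf_one] at hy
      exact hp.one_lt.ne hy
    have hyo : orderOf (y : G) = p := by rw [Subgroup.orderOf_coe]; exact hy
    apply hC (y : G) hy1 ⟨1, by rw [hyo, pow_one]⟩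
    have hzmem : z ∈ Subgroup.centralizer ({(y : G)} : Set G) := by
      rw [Subgroup.mem_centralizer_iff]
      intro w hw
      rw [Set.mem_singleton_iff] at hw
      rw [hw]
      exact ((Subgroup.mem_centralizer_iff.mp y.2) z rfl).symm
    have h1 := Subgroup.orderOf_dvd_natCard _ hzmem
    rw [hkz] at h1
    have hkz0 : kz ≠ 0 := by
      rintro rfl
      rw [pow_zero, orderOf_eq_one_iff] at hkz
      exact hz1 hkz
    exact (dvd_pow_self q hkz0).trans h1
  rw [ha0, Nat.sub_zero] at hχ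
  apply hA χ
  have hd0 : Cfsg.charDegree (χ : G → ℂ) ≠ 0 := (Helper24.irr_degree_pos χ.2).ne'
  have hdvdG : Cfsg.charDegree (χ : G → ℂ) ∣ Nat.card G := by
    haveI := Fintype.ofFinite G
    exact Helper2.irr_degree_dvd_card χ.2
  apply le_antisymm
  · exact (Nat.factorization_le_iff_dvd hd0 Nat.card_pos.ne').mpr hdvdG p
  · exact (hp.pow_dvd_iff_le_factorization hd0).mp hχ

end Cfsg.Agent.S4742
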