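import Cfsg.Statements.S5094
import Cfsg.Agent.Helper8.FusCenter

set_option autoImplicit false
open Cfsg

namespace Cfsg.Agent.S5094

open Cfsg.Agent.Helper8 in
/-- Glauberman's Z*-Theorem in fusion language: for a finite group G with Sylow 2-subgroup S, the centre of the fusion system of G on S is the set of elements of S whose image in G/O(G) is central, O(G) being the largest normal subgroup of odd order. -/
theorem result {G : Type*} [Group G] [Finite G] (S : Sylow 2 G) : (Cfsg.groupFusionSystem (S : Subgroup G)).center = (S : Subgroup G) ⊓ (Subgroup.center (G ⧸ Cfsg.oddCore G)).comap (QuotientGroup.mk' (Cfsg.oddCore G)) := by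
  have hNodd : Odd (Nat.card (Cfsg.oddCore G)) :=
    Nat.coprime_two_right.1 (Cfsg.Agent.Helper9.pPrimeCore_coprime 2)
  have hker : ∀ a : G, QuotientGroup.mk' (Cfsg.oddCore G) a = 1 ↔ a ∈ Cfsg.oddCore G :=
    fun a => QuotientGroup.eq_one_iff a
  apply le_antisymm
  · apply sSup_le
    rintro Q ⟨hQS, hQc⟩
    intro q hq
    refine ⟨hQS hq, ?_⟩
    have hwc : ∀ (i : ℕ) (g : G), g * q ^ i * g⁻¹ ∈ (S : Subgroup G) →
        g * q ^ i * g⁻¹ = q ^ i := by
      intro i g hg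
      have hPQ : Subgroup.zpowers (q ^ i) ≤ Q := by
        rw [Subgroup.zpowers_le]; exact Q.pow_mem hq i
      have hφ : ((MulAut.conj g).toMonoidHom.comp (Subgroup.zpowers (q ^ i)).subtype) ∈
          (Cfsg.groupFusionSystem (S : Subgroup G)).Hom (Subgroup.zpowers (q ^ i)) := by
        refine ⟨hPQ.trans hQS, ?_, g, fun x => rfl⟩
        intro x
        obtain ⟨j, hj⟩ := x.2
        show g * (x : G) * g⁻¹ ∈ (S : Subgroup G)
        have h1 : g * (x : G) * g⁻¹ = (g * q ^ i * g⁻¹) ^ j := by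
          rw [conj_zpow]
          exact congrArg (fun t => g * t * g⁻¹) hj.symm
        rw [h1]; exact Subgroup.zpow_mem _ hg j
      obtain ⟨ψ, hψ, hψ1, hψ2⟩ := hQc _ _ hφ
      have e1 := hψ1 ⟨q ^ i, Subgroup.mem_zpowers _⟩
      have e2 := hψ2 ⟨q ^ i, Q.pow_mem hq i⟩
      have e3 : Subgroup.inclusion
          (le_sup_left : Subgroup.zpowers (q ^ i) ≤ Subgroup.zpowers (q ^ i) ⊔ Q)
            ⟨q ^ i, Subgroup.mem_zpowers _⟩
          = Subgroup.inclusion (le_sup_right : Q ≤ Subgroup.zpowers (q ^ i) ⊔ Q)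
            ⟨q ^ i, Q.pow_mem hq i⟩ := rfl
      rw [e3, e2] at e1
      exact e1.symm
    have hz := zstar_wc S q (hQS hq) hwc
    show q ∈ Subgroup.comap (QuotientGroup.mk' (Cfsg.oddCore G))
      (Subgroup.center (G ⧸ Cfsg.oddCore G))
    rw [Subgroup.mem_comap, Subgroup.mem_center_iff]
    intro g'
    obtain ⟨g, rfl⟩ := QuotientGroup.mk'_surjective _ g'
    rw [← map_mul, ← map_mul]
    apply QuotientGroup.eq.2
    have h1 : (g * q)⁻¹ * (q * g) = (q⁻¹ * (q * g⁻¹ * q⁻¹ * g⁻¹⁻¹) * q⁻¹⁻¹)⁻¹ := by group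
    rw [h1]
    exact Subgroup.inv_mem _ (Subgroup.Normal.conj_mem inferInstance _ (hz g⁻¹) q⁻¹)
  · apply le_sSup
    refine ⟨inf_le_left, ?_⟩
    intro P φ hφ
    obtain ⟨hPS, hφS, g, hg⟩ := hφ
    have hZN : ∀ z ∈ (S : Subgroup G) ⊓ (Subgroup.center (G ⧸ Cfsg.oddCore G)).comap
        (QuotientGroup.mk' (Cfsg.oddCore G)), ∀ h : G, h * z * h⁻¹ * z⁻¹ ∈ Cfsg.oddCore G := by
      intro z hz h
      have h1 := Subgroup.mem_center_iff.1 (Subgroup.mem_comap.1 hz.2)
        (QuotientGroup.mk' (Cfsg.oddCore G) h)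
      rw [← hker, map_mul, map_mul, map_mul, map_inv, map_inv, h1]
      group
    obtain ⟨g₁, hg₁P, hg₁Z⟩ := fs_adjust S (Cfsg.oddCore G) hNodd _ inf_le_left hZN P hPS g
      (fun x hx => by rw [← hg ⟨x, hx⟩]; exact hφS ⟨x, hx⟩)
    refine ⟨(MulAut.conj g₁).toMonoidHom.comp (Subgroup.subtype _),
      ⟨sup_le hPS inf_le_left, ?_, g₁, fun x => rfl⟩, ?_, ?_⟩
    · intro x
      have hle : P ⊔ ((S : Subgroup G) ⊓ (Subgroup.center (G ⧸ Cfsg.oddCore G)).comap
          (QuotientGroup.mk' (Cfsg.oddCore G))) ≤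
          (S : Subgroup G).comap (MulAut.conj g₁).toMonoidHom := by
        apply sup_le
        · intro y hy
          rw [Subgroup.mem_comap]
          show g₁ * y * g₁⁻¹ ∈ (S : Subgroup G)
          rw [hg₁P y hy, ← hg ⟨y, hy⟩]; exact hφS ⟨y, hy⟩
        · intro z hz
          rw [Subgroup.mem_comap]
          show g₁ * z * g₁⁻¹ ∈ (S : Subgroup G)
          rw [hg₁Z z hz]; exact hz.1
      exact hle x.2
    · intro x
      show g₁ * (x : G) * g₁⁻¹ = φ x
      rw [hg₁P x x.2, hg x]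
    · intro z
      show g₁ * (z : G) * g₁⁻¹ = z
      exact hg₁Z z z.2

end Cfsg.Agent.S5094
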