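import Cfsg.Statements.S5265
import Cfsg.Agent.Helper27.CIh
import Cfsg.Agent.Helper27.CIk

set_option autoImplicit false
open Cfsg

namespace Cfsg.Agent.S5265

/-- Let p be a prime, S a nontrivial finite p-group whose centre has index at most p², and F a saturated fusion system over S with no nontrivial normal subgroup and with hyperfocal subgroup equal to S. Then S is extraspecial of order p³; for odd p it has exponent p, and for p = 2 it is dihedral of order 8. -/
theorem result {Ω : Type*} [Group Ω] {S : Subgroup Ω} [Finite S] (p : ℕ) [Fact p.Prime] (hS : IsPGroup p ↥S) (F : Cfsg.FusionSystem S) (hF : F.IsSaturated p) (hS1 : S ≠ ⊥) (hcore : F.core = ⊥) (hhyp : F.hyperfocalSubgroup p = S) (hZ : (Subgroup.center ↥S).index ≤ p ^ 2) : Cfsg.IsExtraspecial p ↥S ∧ Nat.card S = p ^ 3 ∧ (p ≠ 2 → Monoid.exponent ↥S = p) ∧ (p = 2 → Nonempty (↥S ≃* DihedralGroup 4)) := by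
  by_cases hp : p = 2
  · subst hp
    obtain ⟨⟨e⟩, hZ2⟩ := Cfsg.Agent.Helper27.CI.two_case hS F hF hS1 hcore hhyp hZ
    have hcard : Nat.card S = 2 ^ 3 := by
      rw [Nat.card_congr e.toEquiv, DihedralGroup.nat_card]; norm_num
    have hZc : Nat.card (Subgroup.center ↥S) = 2 := by
      rw [← Cfsg.Agent.Helper27.CI.card_ZS]; exact hZ2
    refine ⟨Cfsg.Agent.Helper27.CI.extraspecial_of_card hS hcard hZc, hcard,
      fun h => absurd rfl h, fun _ => ⟨e⟩⟩
  · obtain ⟨hcard, hZp, hpow⟩ := Cfsg.Agent.Helper27.CI.odd_case p hp hS F hF hS1 hcore hZ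
    have hpp : p.Prime := Fact.out
    have hZc : Nat.card (Subgroup.center ↥S) = p := by
      rw [← Cfsg.Agent.Helper27.CI.card_ZS]; exact hZp
    refine ⟨Cfsg.Agent.Helper27.CI.extraspecial_of_card hS hcard hZc, hcard, fun _ => ?_,
      fun h => absurd h hp⟩
    have hdvd : Monoid.exponent ↥S ∣ p := by
      apply Monoid.exponent_dvd_of_forall_pow_eq_one
      intro g
      apply Subtype.ext
      simpa using hpow g.1 g.2
    rcases (Nat.dvd_prime hpp).mp hdvd with h1 | h1
    · exfalso
      have hsub : Subsingleton ↥S := Monoid.exp_eq_one_iff.mp h1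
      have hc1 : Nat.card ↥S = 1 := Nat.card_eq_one_iff_unique.mpr ⟨hsub, ⟨1⟩⟩
      rw [hc1] at hcard
      have : 1 < p ^ 3 := Nat.one_lt_pow (by norm_num) hpp.one_lt
      omega
    · exact h1

end Cfsg.Agent.S5265
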