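import Cfsg.Statements.S5299
import Cfsg.Agent.Helper27.Involves
import Cfsg.Agent.Helper27.SylowLemmas

set_option autoImplicit false
open Cfsg

namespace Cfsg.Agent.S5299

universe u

open Cfsg.Agent.Helper27 in
/-- Let F be a saturated fusion system over a finite p-group S, H a finite group and Q a p-subgroup of H. If Q is not involved in S (no section of S is isomorphic to Q), then F is H-free: H is involved in no model of the normalizer system of a fully normalized centric subgroup. -/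
theorem result {Ω : Type u} [Group Ω] {S : Subgroup Ω} [Finite S] (p : ℕ) [Fact p.Prime] (hS : IsPGroup p S)
    (F : Cfsg.FusionSystem S) (hF : F.IsSaturated p) (H : Type*) [Group H] [Finite H] (Q : Subgroup H) (hQ : IsPGroup p Q)
    (hfree : ¬ Cfsg.Involves (↥Q) (↥S)) : F.IsSectionFree p H := by
  intro Q' hQ'n hQ'c N hN L _ ι hmodel hinv
  obtain ⟨hfin, ⟨hιinj, -⟩, ⟨T, hT⟩, -⟩ := hmodel
  apply hfree
  obtain ⟨K, f, hf⟩ := involves_exists_surj hinv
  let K₁ : Subgroup K := Q.comap f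
  let f₁ : K₁ →* Q := (f.comp K₁.subtype).codRestrict Q (fun x => x.2)
  have hf₁ : Function.Surjective f₁ := by
    rintro ⟨q, hq⟩
    obtain ⟨k, rfl⟩ := hf q
    exact ⟨⟨k, hq⟩, rfl⟩
  let P₁ : Sylow p K₁ := default
  have htop : (P₁ : Subgroup K₁).map f₁ = ⊤ := by
    have h1 : ((P₁.mapSurjective hf₁ : Sylow p Q) : Subgroup Q) = (P₁ : Subgroup K₁).map f₁ :=
      Sylow.coe_mapSurjective hf₁ P₁
    rw [← h1]
    exact ((P₁.mapSurjective hf₁).is_maximal' (hQ.to_subgroup ⊤) le_top).symm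
  have hinv1 : Cfsg.Involves ↥Q ↥(P₁ : Subgroup K₁) := by
    refine involves_of_surj ⊤
      ((f₁.comp (P₁ : Subgroup K₁).subtype).comp (⊤ : Subgroup (P₁ : Subgroup K₁)).subtype) ?_
    intro q
    have hq : q ∈ (P₁ : Subgroup K₁).map f₁ := by rw [htop]; exact Subgroup.mem_top q
    obtain ⟨x, hx, hxq⟩ := hq
    exact ⟨⟨⟨x, hx⟩, Subgroup.mem_top _⟩, hxq⟩
  -- an injective homomorphism from P₁ into S
  let j : ↥(P₁ : Subgroup K₁) →* L := K.subtype.comp (K₁.subtype.comp (P₁ : Subgroup K₁).subtype)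
  have hj : Function.Injective j := by
    intro a b hab
    apply Subtype.ext
    apply Subtype.ext
    apply Subtype.ext
    exact hab
  have hjp : IsPGroup p j.range := P₁.isPGroup'.of_equiv (MonoidHom.ofInjective hj)
  obtain ⟨P'', hP''⟩ := hjp.exists_le_sylow
  obtain ⟨g, hg⟩ := MulAction.exists_smul_eq L T P''
  have hmem : ∀ x : ↥(P₁ : Subgroup K₁), ((MulAut.conj g⁻¹).toMonoidHom.comp j) x ∈ ι.range := by
    intro x
    have h1 : j x ∈ P'' := hP'' ⟨x, rfl⟩
    rw [← hg, mem_sylow_smul_iff] at h1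
    rw [← hT]
    show g⁻¹ * j x * g⁻¹⁻¹ ∈ T
    rw [inv_inv]
    exact h1
  let ψ : ↥(P₁ : Subgroup K₁) →* ι.range :=
    ((MulAut.conj g⁻¹).toMonoidHom.comp j).codRestrict ι.range hmem
  have hψ : Function.Injective ψ := by
    intro a b hab
    have h2 : (MulAut.conj g⁻¹) (j a) = (MulAut.conj g⁻¹) (j b) := congrArg Subtype.val hab
    exact hj ((MulAut.conj g⁻¹).injective h2)
  have hNS : Cfsg.FusionSystem.normalizerIn S Q' ≤ S := inf_le_left
  let θ : ↥(P₁ : Subgroup K₁) →* S :=
    (Subgroup.inclusion hNS).comp ((MonoidHom.ofInjective hιinj).symm.toMonoidHom.comp ψ)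
  have hθ : Function.Injective θ :=
    (Subgroup.inclusion_injective hNS).comp ((MonoidHom.ofInjective hιinj).symm.injective.comp hψ)
  exact involves_of_injective θ hθ hinv1

end Cfsg.Agent.S5299
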