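import Cfsg.Statements.S5315
import Cfsg.Agent.Helper27.Grun
import Cfsg.Agent.Helper26.FusionSolvable
import Cfsg.Agent.Helper26.FusionFactor2

set_option autoImplicit false
open Cfsg Cfsg.FusionSystem Cfsg.Agent.Helper26 Cfsg.Agent.Helper27

namespace Cfsg.Agent.S5315

/-- An analogue of Grün's lemma for fusion systems. Let F be a saturated fusion system over a finite p-group S that is perfect in the sense that its hyperfocal subgroup is all of S (F coincides with its p-residual subsystem). Then the second centre of F equals its centre: every fusion system over S/(Z(F) ∩ S) that is the factor system of F modulo its centre Z(F), read through the quotient map, has trivial centre. -/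
theorem result {Ω : Type*} [Group Ω] {S : Subgroup Ω} [Finite S] (p : ℕ) [Fact p.Prime] (hS : IsPGroup p S) (F : Cfsg.FusionSystem S) (hF : F.IsSaturated p)
    (hperf : F.hyperfocalSubgroup p = S)
    (E : Cfsg.FusionSystem (⊤ : Subgroup (↥S ⧸ (F.center).subgroupOf S)))
    (hE : F.IsFactorSystem F.center (QuotientGroup.mk' ((F.center).subgroupOf S)) E) : E.center = ⊥ := by
  have hZc : F.IsCentral F.center := center_isCentral F
  have hZsc : F.StronglyClosed F.center := central_stronglyClosed F hZc
  have hmor : F.IsMorphism E (QuotientGroup.mk' ((F.center).subgroupOf S)) :=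
    (factor_surjective_morphism p hS F hF F.center hZsc _ E hE).1
  obtain ⟨hZS, hker, hrange, hHom⟩ := hE
  show sSup {Q | E.IsCentral Q} = ⊥
  rw [sSup_eq_bot]
  intro C hC
  have hC' : E.IsCentral C := hC
  have hZ2sc := preimage_stronglyClosed F E _ hmor (central_stronglyClosed E hC')
  have hcen : F.center ≤ preimageAlong (QuotientGroup.mk' ((F.center).subgroupOf S)) C := by
    intro z hz
    rw [mem_preimageAlong]
    refine ⟨hZS hz, ?_⟩
    rw [(hker ⟨z, hZS hz⟩).2 hz]
    exact C.one_mem
  have hb : ∀ (P : Subgroup Ω) (φ : P →* Ω), φ ∈ F.Hom P → ∀ x : P,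
      (x : Ω) ∈ preimageAlong (QuotientGroup.mk' ((F.center).subgroupOf S)) C →
      (x : Ω)⁻¹ * φ x ∈ F.center := by
    intro P φ hφ x hx
    obtain ⟨φ', hφ', hind⟩ := hmor.2 P φ hφ
    obtain ⟨hxS, hφx, hx', e⟩ := induced_apply hind x
    have hmem := (mem_preimageAlong.1 hx).2
    have h1 := central_fix E hC' hφ' ⟨_, hx'⟩ hmem
    rw [e] at h1
    have h2 : (⟨x, hxS⟩ : S)⁻¹ * ⟨φ x, hφx⟩ ∈ (F.center).subgroupOf S := by
      rw [← QuotientGroup.eq]; exact h1.symm
    exact Subgroup.mem_subgroupOf.1 h2
  have hle := grun_aux p hS F hF hperf _ hZ2sc hcen hb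
  rw [eq_bot_iff]
  intro c hc
  obtain ⟨s, rfl⟩ := QuotientGroup.mk'_surjective ((F.center).subgroupOf S) c
  have hsZ2 : (s : Ω) ∈ preimageAlong (QuotientGroup.mk' ((F.center).subgroupOf S)) C :=
    mem_preimageAlong.2 ⟨s.2, hc⟩
  have h3 := hle hsZ2
  rw [Subgroup.mem_bot]
  exact (hker s).2 h3

end Cfsg.Agent.S5315
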