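import Cfsg.Statements.S5522
import Cfsg.Agent.Helper3.Cls.Ord3Sub
import Cfsg.Agent.Helper3.Golay.M22Aut
import Cfsg.Agent.Helper3.Golay.Hexads

set_option autoImplicit false
open Cfsg

namespace Cfsg.Agent.S5522

open Cfsg.Agent.Helper3
open scoped Pointwise

/-- The Mathieu group M₁₁, realised as the stabiliser of one point of the dodecad of squares inside the stabiliser M₁₂ of that dodecad in M₂₄, acts on the twelve coordinate positions outside the dodecad of squares (its 3-transitive action of degree 12); in this action every element of prime order fixes a point, i.e. the action is elusive. -/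
theorem result (g : Equiv.Perm Cfsg.GolayPt) (hg : g ∈ Cfsg.Spor.M11) (hord : (orderOf g).Prime) :
    ∃ x : Cfsg.GolayPt, x ∉ Cfsg.Spor.squareDodecad ∧ g x = x := by
  obtain ⟨hgM, hgd, hg0⟩ := (mem_M11_iff g).1 hg
  have hdd : Cfsg.Spor.squareDodecad ∈ Cfsg.dodecads := squareDodecad_mem
  have hinvd : ∀ a, g a ∈ Cfsg.Spor.squareDodecad ↔ a ∈ Cfsg.Spor.squareDodecad := by
    intro a
    have h1 : g • a ∈ g • Cfsg.Spor.squareDodecad ↔ a ∈ Cfsg.Spor.squareDodecad :=
      Finset.smul_mem_smul_finset_iff g
    rwa [hgd] at h1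
  have hpow : g ^ orderOf g = 1 := pow_orderOf_eq_one g
  by_cases h2 : orderOf g = 2
  · rcases inv_fix_cases g hgM h2 with ho | hf
    · have hi := octad_dodecad_inter ho hdd
      have hc := Finset.card_sdiff_add_card_inter (Finset.univ.filter fun p => g p = p)
        Cfsg.Spor.squareDodecad
      rw [octads_card ho] at hc
      have hpos : 0 < ((Finset.univ.filter fun p => g p = p) \ Cfsg.Spor.squareDodecad).card := by
        omega
      obtain ⟨x, hx⟩ := Finset.card_pos.1 hpos
      rw [Finset.mem_sdiff, Finset.mem_filter] at hx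
      exact ⟨x, hx.2, hx.1.2⟩
    · exact absurd hg0 (hf _)
  by_cases h3 : orderOf g = 3
  · rcases ord3_fix_cases g hgM h3 with h6 | hf
    · by_contra hcon
      push Not at hcon
      have hsub : (Finset.univ.filter fun p => g p = p) ⊆ Cfsg.Spor.squareDodecad := by
        intro a ha
        by_contra had
        exact hcon a had (Finset.mem_filter.1 ha).2
      obtain ⟨s, hs, hs5⟩ := Finset.exists_subset_card_eq
        (show 5 ≤ (Finset.univ.filter fun p => g p = p).card by rw [h6]; norm_num)
      obtain ⟨o, ⟨ho, hso⟩, -⟩ := octads_steiner.2 s hs5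
      have hgo : g • o = o := by
        apply octad_eq_of_inter (smul_mem_octads hgM ho) ho
        refine le_trans (le_of_eq hs5.symm) (Finset.card_le_card ?_)
        intro a ha
        rw [Finset.mem_inter]
        refine ⟨?_, hso ha⟩
        have hfa : g a = a := (Finset.mem_filter.1 (hs ha)).2
        have h1 : g • a ∈ g • o := Finset.smul_mem_smul_finset (hso ha)
        rw [Equiv.Perm.smul_def, hfa] at h1
        exact h1
      have hod : 5 ≤ (o ∩ Cfsg.Spor.squareDodecad).card := by
        refine le_trans (le_of_eq hs5.symm) (Finset.card_le_card ?_)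
        intro a ha
        exact Finset.mem_inter.2 ⟨hso ha, hsub (hs ha)⟩
      have hi := octad_dodecad_inter ho hdd
      have hc := Finset.card_sdiff_add_card_inter o Cfsg.Spor.squareDodecad
      rw [octads_card ho] at hc
      have h2' : (o \ Cfsg.Spor.squareDodecad).card = 2 := by omega
      have hF : ∀ a ∈ o \ Cfsg.Spor.squareDodecad, g a ∈ o \ Cfsg.Spor.squareDodecad := by
        intro a ha
        rw [Finset.mem_sdiff] at ha ⊢
        refine ⟨?_, fun h => ha.2 ((hinvd a).1 h)⟩
        have h1 : g • a ∈ g • o := Finset.smul_mem_smul_finset ha.1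
        rw [hgo] at h1
        exact h1
      have hm := card_fix_modEq g 3 (by rw [← h3]; exact hpow) (o \ Cfsg.Spor.squareDodecad) hF
      rw [h2'] at hm
      have hne : ((o \ Cfsg.Spor.squareDodecad).filter fun a => g a = a).card ≠ 0 := by
        intro h0
        rw [h0] at hm
        exact absurd hm (by decide)
      obtain ⟨x, hx⟩ := Finset.card_pos.1 (Nat.pos_of_ne_zero hne)
      rw [Finset.mem_filter, Finset.mem_sdiff] at hx
      exact hcon x hx.1.2 hx.2
    · exact absurd hg0 (hf _)
  have hF : ∀ a ∈ Cfsg.Spor.squareDodecadᶜ, g a ∈ Cfsg.Spor.squareDodecadᶜ := by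
    intro a ha
    rw [Finset.mem_compl] at ha ⊢
    exact fun h => ha ((hinvd a).1 h)
  have : Fact (orderOf g).Prime := ⟨hord⟩
  have hm := card_fix_modEq g (orderOf g) hpow Cfsg.Spor.squareDodecadᶜ hF
  have hcard : Cfsg.Spor.squareDodecadᶜ.card = 12 := by
    have h1 := Finset.card_compl Cfsg.Spor.squareDodecad
    rw [card_golayPt, dodecads_card hdd] at h1
    omega
  rw [hcard] at hm
  have hne : (Cfsg.Spor.squareDodecadᶜ.filter fun a => g a = a).card ≠ 0 := by
    intro h0
    rw [h0] at hm
    have hdvd : orderOf g ∣ 12 := (Nat.modEq_zero_iff_dvd).1 hm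
    have h12 : (12 : ℕ) = 2 * 2 * 3 := by norm_num
    rw [h12] at hdvd
    rcases (Nat.Prime.dvd_mul hord).1 hdvd with h | h
    · rcases (Nat.Prime.dvd_mul hord).1 h with h | h
      · exact h2 ((Nat.prime_dvd_prime_iff_eq hord Nat.prime_two).1 h)
      · exact h2 ((Nat.prime_dvd_prime_iff_eq hord Nat.prime_two).1 h)
    · exact h3 ((Nat.prime_dvd_prime_iff_eq hord Nat.prime_three).1 h)
  obtain ⟨x, hx⟩ := Finset.card_pos.1 (Nat.pos_of_ne_zero hne)
  rw [Finset.mem_filter, Finset.mem_compl] at hx
  exact ⟨x, hx.1, hx.2⟩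

end Cfsg.Agent.S5522
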