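import Cfsg.Statements.S5560
-- import your own Cfsg.Agent.* helpers here
import Cfsg.Agent.Helper24.InvSylow
import Cfsg.Agent.Helper8.ZStarClaim
import Cfsg.Agent.Helper4.CompSystem

set_option autoImplicit false
open Cfsg

namespace Cfsg.Agent.S5560

open Cfsg.Agent.Helper24

/-- A Z*-type result for an odd prime p. Let G be a finite group and d an involution of G such that the product of any two conjugates of d has order a power of p. Then the product of any two conjugates of d lies in the largest normal p-subgroup O_p(G); in other words the conjugacy class of d lies in the coset O_p(G)d, and d is central modulo O_p(G). -/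
theorem result {G : Type*} [Group G] [Finite G] {p : ℕ} (hp : p.Prime) (hp2 : p ≠ 2)
    (d : G) (hd : orderOf d = 2)
    (hprod : ∀ a ∈ conjugatesOf d, ∀ b ∈ conjugatesOf d, ∃ k : ℕ, orderOf (a * b) = p ^ k) :
    ∀ a ∈ conjugatesOf d, ∀ b ∈ conjugatesOf d, a * b ∈ Cfsg.pCore p G := by
  classical
  have hd2 : d * d = 1 := by rw [← pow_two, ← hd, pow_orderOf_eq_one]
  have hdinv : d⁻¹ = d := inv_eq_of_mul_eq_one_left hd2
  have hdD : d ∈ conjugatesOf d := mem_conjugatesOf_self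
  have hmem : ∀ a : G, a ∈ conjugatesOf d ↔ IsConj d a := fun a => Iff.rfl
  have hsq : ∀ a ∈ conjugatesOf d, a * a = 1 := by
    intro a ha
    obtain ⟨g, rfl⟩ := isConj_iff.1 ((hmem _).1 ha)
    calc g * d * g⁻¹ * (g * d * g⁻¹) = g * (d * d) * g⁻¹ := by group
      _ = 1 := by rw [hd2]; group
  have h3one : ∀ w : G, (∃ k : ℕ, orderOf w = p ^ k) → w * w = 1 → w = 1 := by
    intro w ⟨k, hk⟩ hw
    have h1 : orderOf w ∣ 2 := orderOf_dvd_of_pow_eq_one (by rw [pow_two, hw])
    have h2 : orderOf w ∣ p ^ k := by rw [hk]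
    have h3 : orderOf w ∣ 1 := by
      have := Nat.dvd_gcd h1 h2
      have hc : Nat.gcd 2 (p ^ k) = 1 :=
        Nat.Coprime.pow_right k ((Nat.coprime_primes Nat.prime_two hp).2 (Ne.symm hp2))
      rwa [hc] at this
    exact orderOf_eq_one_iff.1 (Nat.dvd_one.1 h3)
  have hiso : Cfsg.IsIsolatedInvolution d := by
    refine ⟨hd, fun g hc => ?_⟩
    have ha : g * d * g⁻¹ ∈ conjugatesOf d := (hmem _).2 (isConj_iff.2 ⟨g, rfl⟩)
    have h1 : d * (g * d * g⁻¹) = 1 := by
      apply h3one _ (hprod d hdD _ ha)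
      rw [hc.symm.mul_mul_mul_comm d (g * d * g⁻¹), hd2, hsq _ ha, one_mul]
    exact (inv_eq_of_mul_eq_one_right h1).symm.trans hdinv
  obtain ⟨N, hNn, hNodd, hN⟩ := Cfsg.Agent.Helper8.zstar_main G d hiso
  haveI := hNn
  have hA : ∀ a ∈ conjugatesOf d, ∃ y ∈ N, a = y⁻¹ * d * y := by
    intro a ha
    have haa := hsq a ha
    have hainv : a⁻¹ = a := inv_eq_of_mul_eq_one_left haa
    obtain ⟨g, hg⟩ := isConj_iff.1 ((hmem _).1 ha)
    have hx : d * a ∈ N := by
      have := hN g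
      rw [hdinv] at this
      rw [← hg]
      simpa [mul_assoc] using this
    obtain ⟨j, hj⟩ : ∃ j, orderOf (d * a) = 2 * j + 1 := by
      have h1 : orderOf (d * a) ∣ Nat.card N := by
        have := orderOf_dvd_natCard (⟨d * a, hx⟩ : N)
        rwa [← Subgroup.orderOf_coe] at this
      exact (hNodd.of_dvd_nat h1)
    refine ⟨(d * a) ^ (j + 1), N.pow_mem hx _, ?_⟩
    have hxo : (d * a) ^ (2 * j + 1) = 1 := by rw [← hj]; exact pow_orderOf_eq_one _
    have hxinv : (d * a)⁻¹ = a * d := by rw [mul_inv_rev, hdinv, hainv]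
    have hconj : d * (d * a) * d⁻¹ = (d * a)⁻¹ := by
      rw [hxinv, hdinv, ← mul_assoc, hd2, one_mul]
    have hconjpow : d * (d * a) ^ (j+1) * d⁻¹ = ((d * a) ^ (j+1))⁻¹ := by
      rw [← conj_pow, hconj, inv_pow]
    have hy2 : (d * a) ^ (j+1) * (d * a) ^ (j+1) = d * a := by
      rw [← pow_add]
      have : j + 1 + (j + 1) = (2 * j + 1) + 1 := by ring
      rw [this, pow_succ, hxo, one_mul]
    have hdy : d * (d * a) ^ (j+1) = ((d * a) ^ (j+1))⁻¹ * d := by
      rw [← hconjpow]; group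
    calc a = a * (d * d) := by rw [hd2, mul_one]
      _ = (d * a)⁻¹ * d := by rw [hxinv, mul_assoc]
      _ = ((d * a) ^ (j+1) * (d * a) ^ (j+1))⁻¹ * d := by rw [hy2]
      _ = ((d * a) ^ (j+1))⁻¹ * (((d * a) ^ (j+1))⁻¹ * d) := by rw [mul_inv_rev, mul_assoc]
      _ = ((d * a) ^ (j+1))⁻¹ * d * (d * a) ^ (j+1) := by rw [mul_assoc, hdy]
  set C : Subgroup ↥N := (Subgroup.centralizer {d}).subgroupOf N with hC
  have hsylC : ∀ q : ℕ, q.Prime → q ≠ p → ¬ q ∣ C.index := by
    intro q hq hq3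
    haveI : Fact q.Prime := ⟨hq⟩
    obtain ⟨Q, hQ⟩ := exists_inv_sylow N hNodd d hd2 q
    have hQC : (Q : Subgroup ↥N) ≤ C := by
      intro y hy
      have hw : y⁻¹ * MulAut.conjNormal d y ∈ (Q : Subgroup ↥N) := mul_mem (inv_mem hy) (hQ y hy)
      have hwG : ((y⁻¹ * MulAut.conjNormal d y : ↥N) : G) = ((y:G)⁻¹ * d * y) * d := by
        rw [Subgroup.coe_mul, MulAut.conjNormal_apply, Subgroup.coe_inv, hdinv]; group
      obtain ⟨k, hk⟩ : ∃ k : ℕ, orderOf (((y:G)⁻¹ * d * y) * d) = p ^ k :=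
        hprod _ ((hmem _).2 (isConj_iff.2 ⟨(y:G)⁻¹, by rw [inv_inv]⟩)) d hdD
      obtain ⟨j, hj⟩ := Q.isPGroup' ⟨_, hw⟩
      have hj' : (((y:G)⁻¹ * d * y) * d) ^ (q ^ j) = 1 := by
        have h0 := congrArg (fun z : (Q : Subgroup ↥N) => ((z : ↥N) : G)) hj
        simp only [Subgroup.coe_pow, Subgroup.coe_one] at h0
        rw [hwG] at h0
        exact h0
      have h1 : orderOf (((y:G)⁻¹ * d * y) * d) ∣ q ^ j := orderOf_dvd_of_pow_eq_one hj'
      have h2 : orderOf (((y:G)⁻¹ * d * y) * d) ∣ p ^ k := by rw [hk]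
      have hcop : Nat.gcd (q ^ j) (p ^ k) = 1 :=
        Nat.Coprime.pow j k ((Nat.coprime_primes hq hp).2 hq3)
      have h4 : ((y:G)⁻¹ * d * y) * d = 1 := orderOf_eq_one_iff.1 (Nat.dvd_one.1 (by
        have := Nat.dvd_gcd h1 h2
        rwa [hcop] at this))
      rw [hC, Subgroup.mem_subgroupOf, Subgroup.mem_centralizer_iff]
      intro z hz
      rw [Set.mem_singleton_iff] at hz
      rw [hz]
      have h5 : (y:G)⁻¹ * d * y = d := by
        have := eq_inv_of_mul_eq_one_left h4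
        rw [this, hdinv]
      calc d * (y:G) = (y:G) * ((y:G)⁻¹ * d * y) := by group
        _ = y * d := by rw [h5]
    intro hdvd
    exact (Sylow.not_dvd_index Q) (hdvd.trans (Subgroup.index_dvd_of_le hQC))
  obtain ⟨m, hm⟩ : ∃ m, C.index = p ^ m := by
    refine ⟨_, Nat.eq_prime_pow_of_unique_prime_dvd Subgroup.index_ne_zero_of_finite ?_⟩
    intro q hq hqd
    by_contra hne
    exact hsylC q hq hne hqd
  haveI : Fact (Nat.Prime p) := ⟨hp⟩
  obtain ⟨P, hP⟩ := exists_inv_sylow N hNodd d hd2 p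
  have hcop : (C.index).Coprime (P : Subgroup ↥N).index := by
    rw [hm]
    exact Nat.Coprime.pow_left m
      ((Nat.Prime.coprime_iff_not_dvd hp).2 (Sylow.not_dvd_index P))
  set P' : Subgroup G := (P : Subgroup ↥N).map N.subtype with hP'
  have hkey : ∀ a ∈ conjugatesOf d, d * a ∈ P' := by
    intro a ha
    obtain ⟨y, hyN, rfl⟩ := hA a ha
    obtain ⟨c, hc, u, hu, hcu⟩ :=
      Cfsg.Agent.Helper4.exists_mul_of_coprime_index C (P : Subgroup ↥N) hcop ⟨y, hyN⟩
    have hcG : d * (c : G) = c * d := by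
      have := hc
      rw [hC, Subgroup.mem_subgroupOf, Subgroup.mem_centralizer_iff] at this
      exact this d rfl
    have hyG : y = (c : G) * u := by
      have := congrArg (Subtype.val) hcu
      simpa using this
    have h1 : y⁻¹ * d * y = (u:G)⁻¹ * d * u := by
      rw [hyG, mul_inv_rev]
      calc (u:G)⁻¹ * (c:G)⁻¹ * d * (c * u) = (u:G)⁻¹ * ((c:G)⁻¹ * (d * c)) * u := by group
        _ = (u:G)⁻¹ * d * u := by rw [hcG]; group
    rw [h1]
    have h2 : d * ((u:G)⁻¹ * d * u) = ((MulAut.conjNormal d u⁻¹ * u : ↥N) : G) := by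
      rw [Subgroup.coe_mul, MulAut.conjNormal_apply, Subgroup.coe_inv, hdinv]; group
    rw [h2]
    exact Subgroup.mem_map_of_mem _ (mul_mem (hP _ (inv_mem hu)) hu)
  set T : Subgroup G :=
    Subgroup.closure {w | ∃ a ∈ conjugatesOf d, ∃ b ∈ conjugatesOf d, w = a * b} with hT
  have hTP : T ≤ P' := by
    rw [hT, Subgroup.closure_le]
    rintro w ⟨a, ha, b, hb, rfl⟩
    have : a * b = (d * a)⁻¹ * (d * b) := by
      rw [mul_inv_rev, hdinv, inv_eq_of_mul_eq_one_left (hsq a ha)]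
      rw [mul_assoc, ← mul_assoc d d b, hd2, one_mul]
    rw [this]
    exact mul_mem (inv_mem (hkey a ha)) (hkey b hb)
  have hTn : T.Normal := by
    refine ⟨fun w hw g => ?_⟩
    have hmap : T.map (MulAut.conj g).toMonoidHom ≤ T := by
      rw [hT, MonoidHom.map_closure, Subgroup.closure_le]
      rintro _ ⟨w, ⟨a, ha, b, hb, rfl⟩, rfl⟩
      apply Subgroup.subset_closure
      refine ⟨g * a * g⁻¹, ?_, g * b * g⁻¹, ?_, ?_⟩
      · exact (hmem _).2 (((hmem _).1 ha).trans (isConj_iff.2 ⟨g, rfl⟩))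
      · exact (hmem _).2 (((hmem _).1 hb).trans (isConj_iff.2 ⟨g, rfl⟩))
      · simp [MulAut.conj_apply]
    have := hmap (Subgroup.mem_map_of_mem _ hw)
    simpa [MulAut.conj_apply] using this
  have hT3 : IsPGroup p T := by
    have hP'3 : IsPGroup p P' := by
      rw [hP']; exact P.isPGroup'.map _
    exact hP'3.to_le hTP
  intro a ha b hb
  have hle : T ≤ Cfsg.pCore p G := le_sSup ⟨hTn, hT3⟩
  exact hle (Subgroup.subset_closure ⟨a, ha, b, hb, rfl⟩)

end Cfsg.Agent.S5560
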