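import Cfsg.Statements.S5726
import Cfsg.Agent.Helper28.Perm

set_option autoImplicit false
open Cfsg

namespace Cfsg.Agent.S5726

/-- If a finite group acts faithfully and transitively on a set with p^k elements, p a prime and k ≥ 1, then some element of order p fixes no point. -/
theorem result {G Ω : Type*} [Group G] [Finite G] [MulAction G Ω] [FaithfulSMul G Ω] [Fintype Ω] (htr : MulAction.IsPretransitive G Ω)
    (p k : ℕ) (hp : p.Prime) (hk : 1 ≤ k) (hΩ : Fintype.card Ω = p ^ k) :
    ∃ g : G, orderOf g = p ∧ ∀ ω : Ω, g • ω ≠ ω := by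
  haveI : Fact p.Prime := ⟨hp⟩
  haveI := htr
  exact Cfsg.Agent.Helper28.exists_fpf_of_card_pow hk (by rw [Nat.card_eq_fintype_card, hΩ])

end Cfsg.Agent.S5726
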