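import Cfsg.Statements.S5728
-- import your own Cfsg.Agent.* helpers here

set_option autoImplicit false
open Cfsg

namespace Cfsg.Agent.S5728

theorem prime_field_of_pow (p : ℕ) [Fact p.Prime] (K : Type*) [Field K] [Algebra (ZMod p) K]
    [CharP K p] (x : K) (hx : x ^ p = x) : ∃ a : ZMod p, algebraMap (ZMod p) K a = x := by
  have h1 : x ∈ (⊥ : Subfield K) := (Subfield.mem_bot_iff_pow_eq_self K p).2 hx
  rw [← ZMod.fieldRange_castHom_eq_bot p] at h1
  obtain ⟨a, ha⟩ := h1
  refine ⟨a, ?_⟩
  rw [← ha]
  exact congrArg (fun f : ZMod p →+* K => f a) (Subsingleton.elim _ _)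

theorem dvd_pred_of_mersenne (p s r : ℕ) (hp : p.Prime) (hs : p = 2 ^ s - 1) (hr : r.Prime)
    (hdvd : r ∣ p ^ 2 - 1) : r ∣ p - 1 := by
  have hp2 : 2 ≤ p := hp.two_le
  have h2s : 2 ^ s = p + 1 := by omega
  have hodd : Odd p := by
    rcases hp.eq_two_or_odd' with h | h
    · exfalso
      rw [h] at h2s
      have hs0 : s ≠ 0 := by
        intro h0
        rw [h0] at h2s
        norm_num at h2s
      have : 2 ∣ 2 ^ s := dvd_pow_self 2 hs0
      omega
    · exact h
  have hfac : p ^ 2 - 1 = (p - 1) * 2 ^ s := by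
    rw [h2s]
    obtain ⟨k, hk⟩ : ∃ k, p = k + 1 := ⟨p - 1, by omega⟩
    subst hk
    simp only [Nat.add_sub_cancel]
    have : (k + 1) ^ 2 = k * (k + 1 + 1) + 1 := by ring
    omega
  rw [hfac] at hdvd
  rcases (Nat.Prime.dvd_mul hr).1 hdvd with h | h
  · exact h
  · have h2 : r ∣ 2 := hr.dvd_of_dvd_pow h
    have hr2 : r = 2 := (Nat.prime_dvd_prime_iff_eq hr Nat.prime_two).1 h2
    rw [hr2]
    obtain ⟨m, hm⟩ := hodd
    exact ⟨m, by omega⟩

theorem main (p s : ℕ) [Fact p.Prime] (hs : p = 2 ^ s - 1)
    (g : Equiv.Perm (GaloisField p 2)) (hg : g ∈ Cfsg.affineGroup (GaloisField p 2)) (hord : (orderOf g).Prime) :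
    ∃ x ∈ Cfsg.affineGroup (GaloisField p 2), ∃ a b : ZMod p, a ≠ 0 ∧
      ∀ y : GaloisField p 2, (x * g * x⁻¹) y = algebraMap (ZMod p) (GaloisField p 2) a * y + algebraMap (ZMod p) (GaloisField p 2) b := by
  obtain ⟨a₀, b₀, hg'⟩ := hg
  by_cases ha : a₀ = 1
  · -- translation
    subst ha
    have hb : b₀ ≠ 0 := by
      intro hb
      have : g = 1 := by
        ext y
        rw [hg' y, hb]
        simp
      rw [this, orderOf_one] at hord
      exact Nat.not_prime_one hord
    refine ⟨Equiv.mulLeft₀ b₀⁻¹ (inv_ne_zero hb), ⟨Units.mk0 b₀⁻¹ (inv_ne_zero hb), 0, fun y => by simp⟩, 1, 1, one_ne_zero, ?_⟩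
    intro y
    have hxinv : ((Equiv.mulLeft₀ b₀⁻¹ (inv_ne_zero hb))⁻¹ : Equiv.Perm (GaloisField p 2)) y = b₀ * y := by
      rw [Equiv.Perm.inv_def, Equiv.symm_apply_eq]
      simp [hb]
    rw [Equiv.Perm.mul_apply, Equiv.Perm.mul_apply, hxinv, hg']
    simp only [Units.val_one, one_mul, Equiv.mulLeft₀_apply, map_one]
    field_simp
  · -- a ≠ 1
    have ha' : (a₀ : GaloisField p 2) ≠ 1 := fun h => ha (Units.ext h)
    have h1a : (1 - (a₀ : GaloisField p 2)) ≠ 0 := by
      intro h
      apply ha'
      rw [sub_eq_zero] at h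
      exact h.symm
    set z : GaloisField p 2 := b₀ / (1 - a₀) with hz
    set x : Equiv.Perm (GaloisField p 2) := Equiv.subRight z with hx
    have hxmem : x ∈ Cfsg.affineGroup (GaloisField p 2) :=
      ⟨1, -z, fun y => by simp [hx, sub_eq_add_neg]⟩
    have hxinv : ∀ y, (x⁻¹ : Equiv.Perm (GaloisField p 2)) y = y + z := by
      intro y
      rw [Equiv.Perm.inv_def, Equiv.symm_apply_eq, hx]
      simp
    have hconj : ∀ y, (x * g * x⁻¹) y = (a₀ : GaloisField p 2) * y := by
      intro y
      rw [Equiv.Perm.mul_apply, Equiv.Perm.mul_apply, hxinv, hg', hx]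
      simp only [Equiv.subRight_apply]
      rw [hz]
      field_simp
      ring
    have hpow : ∀ (k : ℕ) y, ((x * g * x⁻¹) ^ k) y = (a₀ : GaloisField p 2) ^ k * y := by
      intro k
      induction k with
      | zero => intro y; simp
      | succ k ih =>
        intro y
        rw [pow_succ, Equiv.Perm.mul_apply, hconj, ih, pow_succ, mul_assoc]
    have har : a₀ ^ orderOf g = 1 := by
      apply Units.ext
      have h1 := hpow (orderOf g) 1
      rw [conj_pow, pow_orderOf_eq_one] at h1
      simp only [mul_one, mul_inv_cancel, Equiv.Perm.coe_one, id_eq] at h1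
      rw [Units.val_pow_eq_pow_val, ← h1, Units.val_one]
    have hoa : orderOf a₀ = orderOf g := by
      have h1 : orderOf a₀ ∣ orderOf g := orderOf_dvd_of_pow_eq_one har
      rcases (Nat.dvd_prime hord).1 h1 with h | h
      · exfalso
        exact ha (orderOf_eq_one_iff.1 h)
      · exact h
    have hcard : Nat.card (GaloisField p 2)ˣ = p ^ 2 - 1 := by
      rw [Nat.card_units, GaloisField.card p 2 (by norm_num)]
    have hdvd : orderOf g ∣ p ^ 2 - 1 := by
      rw [← hoa, ← hcard]
      exact orderOf_dvd_natCard a₀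
    have hdvd' : orderOf a₀ ∣ p - 1 := by
      rw [hoa]
      exact dvd_pred_of_mersenne p s _ (Fact.out) hs hord hdvd
    have hap : a₀ ^ (p - 1) = 1 := orderOf_dvd_iff_pow_eq_one.1 hdvd'
    have hap' : (a₀ : GaloisField p 2) ^ p = a₀ := by
      have hp1 : (p - 1) + 1 = p := by
        have := (Fact.out : p.Prime).two_le
        omega
      have h2 : (a₀ : GaloisField p 2) ^ ((p - 1) + 1) = a₀ := by
        rw [pow_succ, ← Units.val_pow_eq_pow_val, hap, Units.val_one, one_mul]
      rw [← h2]
      congr 1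
      exact hp1.symm
    obtain ⟨a, haa⟩ := prime_field_of_pow p (GaloisField p 2) (a₀ : GaloisField p 2) hap'
    refine ⟨x, hxmem, a, 0, ?_, ?_⟩
    · intro h0
      rw [h0, map_zero] at haa
      exact a₀.ne_zero haa.symm
    · intro y
      rw [hconj, haa, map_zero, add_zero]


/-- An elusive transitive action. Let p = 2^s − 1 be a prime and let F be the field with p² elements. Inside the group of affine maps x ↦ a·x + b of F (a ≠ 0), consider the subgroup of maps with both coefficients in the prime field. Then every element of prime order of the affine group is conjugate, within the affine group, to an element of that subgroup; equivalently, in the transitive action of the affine group on the cosets of that subgroup (of degree p(p + 1)) every element of prime order fixes a point. -/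
theorem result (p s : ℕ) [Fact p.Prime] (hs : p = 2 ^ s - 1)
    (g : Equiv.Perm (GaloisField p 2)) (hg : g ∈ Cfsg.affineGroup (GaloisField p 2)) (hord : (orderOf g).Prime) :
    ∃ x ∈ Cfsg.affineGroup (GaloisField p 2), ∃ a b : ZMod p, a ≠ 0 ∧
      ∀ y : GaloisField p 2, (x * g * x⁻¹) y = algebraMap (ZMod p) (GaloisField p 2) a * y + algebraMap (ZMod p) (GaloisField p 2) b := by
  exact main p s hs g hg hord

end Cfsg.Agent.S5728
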